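import Cfsg.Agent.Lib.Chevalley.Comm
import Cfsg.Prelude.Def_ChevB2

set_option autoImplicit false
set_option maxRecDepth 1000000

namespace Cfsg.Agent.Lib.Chevalley.Tbl.B2
open Cfsg.Lie Cfsg.Agent.Lib.Chevalley.Reflect Cfsg.Agent.Lib.Chevalley.Comm


def col0 : Tr Cl := (.node 7 [⟨3,(Int.ofNat 1),1⟩] (.node 1 [⟨2,(Int.ofNat 0),1⟩] (.node 0 [⟨2,(Int.ofNat 2),1⟩] .nil .nil) .nil) (.node 9 [⟨0,(Int.negSucc 0),1⟩, ⟨1,(Int.negSucc 0),1⟩, ⟨2,(Int.negSucc 0),2⟩] (.node 8 [⟨4,(Int.negSucc 0),1⟩] .nil .nil) .nil))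
def col1 : Tr Cl := (.node 6 [⟨4,(Int.ofNat 1),1⟩, ⟨2,(Int.ofNat 1),2⟩] (.node 1 [⟨3,(Int.ofNat 1),1⟩] (.node 0 [⟨3,(Int.ofNat 0),1⟩] .nil .nil) (.node 4 [⟨2,(Int.ofNat 2),1⟩] .nil .nil)) (.node 8 [⟨0,(Int.negSucc 0),1⟩, ⟨1,(Int.negSucc 1),1⟩, ⟨3,(Int.negSucc 0),2⟩] (.node 7 [⟨5,(Int.negSucc 1),1⟩] .nil .nil) (.node 9 [⟨7,(Int.negSucc 0),1⟩, ⟨5,(Int.ofNat 1),2⟩] .nil .nil)))
def col2 : Tr Cl := (.node 5 [⟨3,(Int.ofNat 1),1⟩, ⟨2,(Int.negSucc 0),2⟩] (.node 1 [⟨4,(Int.negSucc 0),1⟩] (.node 0 [⟨4,(Int.ofNat 2),1⟩] .nil .nil) (.node 3 [⟨2,(Int.negSucc 1),1⟩] .nil .nil)) (.node 8 [⟨6,(Int.negSucc 1),1⟩] (.node 7 [⟨0,(Int.negSucc 0),1⟩, ⟨1,(Int.ofNat 0),1⟩, ⟨4,(Int.negSucc 0),2⟩] .nil .nil) (.node 9 [⟨8,(Int.ofNat 1),1⟩, ⟨6,(Int.negSucc 0),2⟩] .nil .nil)))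
def col3 : Tr Cl := (.node 4 [⟨3,(Int.negSucc 0),1⟩] (.node 1 [⟨5,(Int.ofNat 2),1⟩] (.node 0 [⟨5,(Int.negSucc 1),1⟩] .nil .nil) .nil) (.node 8 [⟨7,(Int.ofNat 1),1⟩] (.node 6 [⟨0,(Int.ofNat 0),1⟩, ⟨1,(Int.negSucc 0),1⟩, ⟨5,(Int.negSucc 0),2⟩] .nil .nil) .nil))
def col4 : Tr Cl := (.node 3 [⟨4,(Int.negSucc 0),1⟩] (.node 1 [⟨6,(Int.negSucc 1),1⟩] (.node 0 [⟨6,(Int.ofNat 2),1⟩] .nil .nil) .nil) (.node 7 [⟨8,(Int.ofNat 1),1⟩] (.node 5 [⟨0,(Int.ofNat 0),1⟩, ⟨1,(Int.ofNat 1),1⟩, ⟨6,(Int.negSucc 0),2⟩] .nil .nil) .nil))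
def col5 : Tr Cl := (.node 3 [⟨5,(Int.ofNat 2),1⟩] (.node 1 [⟨7,(Int.ofNat 1),1⟩] (.node 0 [⟨7,(Int.negSucc 1),1⟩] .nil .nil) (.node 2 [⟨3,(Int.negSucc 0),1⟩, ⟨5,(Int.negSucc 0),2⟩] .nil .nil)) (.node 6 [⟨8,(Int.negSucc 0),1⟩, ⟨9,(Int.negSucc 0),2⟩] (.node 4 [⟨0,(Int.ofNat 1),1⟩, ⟨1,(Int.ofNat 0),1⟩, ⟨7,(Int.negSucc 0),2⟩] .nil .nil) (.node 8 [⟨9,(Int.ofNat 2),1⟩] .nil .nil)))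
def col6 : Tr Cl := (.node 3 [⟨0,(Int.ofNat 1),1⟩, ⟨1,(Int.ofNat 2),1⟩, ⟨8,(Int.negSucc 0),2⟩] (.node 1 [⟨8,(Int.negSucc 0),1⟩] (.node 0 [⟨8,(Int.ofNat 0),1⟩] .nil .nil) (.node 2 [⟨4,(Int.ofNat 1),1⟩, ⟨6,(Int.ofNat 1),2⟩] .nil .nil)) (.node 5 [⟨7,(Int.negSucc 0),1⟩, ⟨9,(Int.ofNat 1),2⟩] (.node 4 [⟨6,(Int.ofNat 2),1⟩] .nil .nil) (.node 7 [⟨9,(Int.negSucc 1),1⟩] .nil .nil)))
def col7 : Tr Cl := (.node 2 [⟨0,(Int.ofNat 1),1⟩, ⟨1,(Int.ofNat 1),1⟩, ⟨9,(Int.negSucc 0),2⟩] (.node 1 [⟨9,(Int.ofNat 0),1⟩] (.node 0 [⟨9,(Int.negSucc 1),1⟩] .nil .nil) .nil) (.node 4 [⟨8,(Int.negSucc 0),1⟩] (.node 3 [⟨7,(Int.ofNat 1),1⟩] .nil .nil) .nil))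
def cols : Tr (Tr Cl) := (.node 4 col4 (.node 2 col2 (.node 1 col1 (.node 0 col0 .nil .nil) .nil) (.node 3 col3 .nil .nil)) (.node 6 col6 (.node 5 col5 .nil .nil) (.node 7 col7 .nil .nil)))
def ch0 : Tr (List (ℕ × ℤ)) := (.node 6 [(2,(Int.negSucc 0))] (.node 5 [(1,(Int.ofNat 1))] .nil .nil) .nil)
def ch1 : Tr (List (ℕ × ℤ)) := (.node 5 [(3,(Int.negSucc 1))] (.node 4 [(2,(Int.ofNat 1)), (0,(Int.ofNat 1))] (.node 2 [(0,(Int.ofNat 2))] .nil .nil) .nil) (.node 7 [(5,(Int.negSucc 0)), (3,(Int.ofNat 1))] .nil .nil))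
def ch2 : Tr (List (ℕ × ℤ)) := (.node 6 [(4,(Int.negSucc 1))] (.node 3 [(1,(Int.ofNat 1)), (0,(Int.negSucc 0))] (.node 1 [(0,(Int.negSucc 1))] .nil .nil) .nil) (.node 7 [(6,(Int.ofNat 1)), (4,(Int.negSucc 0))] .nil .nil))
def ch3 : Tr (List (ℕ × ℤ)) := (.node 6 [(5,(Int.ofNat 1))] (.node 2 [(1,(Int.negSucc 0))] .nil .nil) .nil)
def ch4 : Tr (List (ℕ × ℤ)) := (.node 5 [(6,(Int.ofNat 1))] (.node 1 [(2,(Int.negSucc 0))] .nil .nil) .nil)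
def ch5 : Tr (List (ℕ × ℤ)) := (.node 4 [(6,(Int.negSucc 0)), (7,(Int.negSucc 0))] (.node 1 [(3,(Int.ofNat 2))] (.node 0 [(1,(Int.negSucc 0)), (3,(Int.negSucc 0))] .nil .nil) .nil) (.node 6 [(7,(Int.ofNat 2))] .nil .nil))
def ch6 : Tr (List (ℕ × ℤ)) := (.node 3 [(5,(Int.negSucc 0)), (7,(Int.ofNat 1))] (.node 2 [(4,(Int.ofNat 2))] (.node 0 [(2,(Int.ofNat 1)), (4,(Int.ofNat 1))] .nil .nil) .nil) (.node 5 [(7,(Int.negSucc 1))] .nil .nil))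
def ch7 : Tr (List (ℕ × ℤ)) := (.node 2 [(6,(Int.negSucc 0))] (.node 1 [(5,(Int.ofNat 1))] .nil .nil) .nil)
def chainT : Tr (Tr (List (ℕ × ℤ))) := (.node 4 ch4 (.node 2 ch2 (.node 1 ch1 (.node 0 ch0 .nil .nil) .nil) (.node 3 ch3 .nil .nil)) (.node 6 ch6 (.node 5 ch5 .nil .nil) (.node 7 ch7 .nil .nil)))
def negT : Tr ℕ := (.node 4 3 (.node 2 5 (.node 1 6 (.node 0 7 .nil .nil) .nil) (.node 3 4 .nil .nil)) (.node 6 1 (.node 5 2 .nil .nil) (.node 7 0 .nil .nil)))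
def nc0 : Tr Vc := (.node 5 [⟨2,(Int.negSucc 0),0,0⟩] (.node 2 [⟨5,(Int.negSucc 0),0,0⟩] (.node 1 [⟨0,(Int.ofNat 1),0,0⟩, ⟨1,(Int.ofNat 1),0,0⟩] (.node 0 [⟨0,(Int.negSucc 0),0,0⟩] .nil .nil) .nil) (.node 4 [⟨7,(Int.negSucc 0),0,0⟩] (.node 3 [⟨3,(Int.negSucc 0),0,0⟩] .nil .nil) .nil)) (.node 8 [⟨8,(Int.negSucc 0),0,0⟩] (.node 7 [⟨4,(Int.negSucc 0),0,0⟩] (.node 6 [⟨9,(Int.negSucc 0),0,0⟩] .nil .nil) .nil) (.node 9 [⟨6,(Int.negSucc 0),0,0⟩] .nil .nil)))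
def nc1 : Tr Vc := (.node 5 [⟨6,(Int.negSucc 0),0,0⟩] (.node 2 [⟨2,(Int.ofNat 1),0,0⟩] (.node 1 [⟨1,(Int.negSucc 0),0,0⟩] (.node 0 [⟨0,(Int.ofNat 1),0,0⟩, ⟨1,(Int.ofNat 2),0,0⟩] .nil .nil) .nil) (.node 4 [⟨3,(Int.ofNat 1),0,0⟩] (.node 3 [⟨4,(Int.negSucc 0),0,0⟩] .nil .nil) .nil)) (.node 8 [⟨7,(Int.negSucc 0),0,0⟩] (.node 7 [⟨8,(Int.ofNat 1),0,0⟩] (.node 6 [⟨5,(Int.negSucc 0),0,0⟩] .nil .nil) .nil) (.node 9 [⟨9,(Int.ofNat 1),0,0⟩] .nil .nil)))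
def nT : Tr (Tr Vc) := (.node 1 nc1 (.node 0 nc0 .nil .nil) .nil)
def wc0 : Tr (ℕ × ℤ) := (.node 4 (7,(Int.negSucc 0)) (.node 2 (5,(Int.negSucc 0)) (.node 1 (1,(Int.negSucc 0)) (.node 0 (3,(Int.negSucc 0)) .nil .nil) .nil) (.node 3 (0,(Int.negSucc 0)) .nil .nil)) (.node 6 (6,(Int.negSucc 0)) (.node 5 (2,(Int.negSucc 0)) .nil .nil) (.node 7 (4,(Int.negSucc 0)) .nil .nil)))
def wc1 : Tr (ℕ × ℤ) := (.node 4 (3,(Int.negSucc 0)) (.node 2 (1,(Int.ofNat 1)) (.node 1 (2,(Int.negSucc 0)) (.node 0 (0,(Int.ofNat 1)) .nil .nil) .nil) (.node 3 (4,(Int.negSucc 0)) .nil .nil)) (.node 6 (5,(Int.negSucc 0)) (.node 5 (6,(Int.ofNat 1)) .nil .nil) (.node 7 (7,(Int.ofNat 1)) .nil .nil)))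
def wT : Tr (Tr (ℕ × ℤ)) := (.node 1 wc1 (.node 0 wc0 .nil .nil) .nil)
def dT : Tr (ℕ × ℕ) := (.node 4 (0,0) (.node 2 (1,0) (.node 1 (2,1) (.node 0 (2,0) .nil .nil) .nil) (.node 3 (1,1) .nil .nil)) (.node 6 (1,1) (.node 5 (0,0) .nil .nil) (.node 7 (1,0) .nil .nil)))

end Cfsg.Agent.Lib.Chevalley.Tbl.B2
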