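import Cfsg.Agent.Lib.Chevalley.Comm
import Cfsg.Prelude.Def_ChevD4

set_option autoImplicit false
set_option maxRecDepth 1000000

namespace Cfsg.Agent.Lib.Chevalley.Tbl.D4
open Cfsg.Lie Cfsg.Agent.Lib.Chevalley.Reflect Cfsg.Agent.Lib.Chevalley.Comm


def col0 : Tr Cl := (.node 20 [⟨7,(Int.negSucc 0),1⟩] (.node 3 [⟨4,(Int.ofNat 0),1⟩] (.node 1 [⟨4,(Int.ofNat 1),1⟩] (.node 0 [⟨4,(Int.ofNat 0),1⟩] .nil .nil) (.node 2 [⟨4,(Int.ofNat 0),1⟩] .nil .nil)) (.node 19 [⟨6,(Int.negSucc 0),1⟩] (.node 18 [⟨5,(Int.ofNat 1),1⟩] .nil .nil) .nil)) (.node 25 [⟨12,(Int.ofNat 1),1⟩] (.node 23 [⟨10,(Int.negSucc 0),1⟩] (.node 21 [⟨8,(Int.ofNat 1),1⟩] .nil .nil) (.node 24 [⟨11,(Int.ofNat 1),1⟩] .nil .nil)) (.node 27 [⟨0,(Int.negSucc 0),1⟩, ⟨1,(Int.negSucc 1),1⟩, ⟨2,(Int.negSucc 0),1⟩,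 ⟨3,(Int.negSucc 0),1⟩, ⟨4,(Int.negSucc 0),2⟩] (.node 26 [⟨13,(Int.negSucc 0),1⟩] .nil .nil) .nil)))
def col1 : Tr Cl := (.node 17 [⟨7,(Int.ofNat 1),1⟩] (.node 3 [⟨5,(Int.ofNat 1),1⟩] (.node 1 [⟨5,(Int.negSucc 0),1⟩] (.node 0 [⟨5,(Int.ofNat 1),1⟩] .nil .nil) (.node 2 [⟨5,(Int.ofNat 1),1⟩] .nil .nil)) (.node 16 [⟨6,(Int.ofNat 1),1⟩] (.node 13 [⟨4,(Int.ofNat 1),1⟩] .nil .nil) .nil)) (.node 25 [⟨15,(Int.negSucc 0),1⟩] (.node 22 [⟨10,(Int.negSucc 0),1⟩] (.node 21 [⟨9,(Int.ofNat 1),1⟩] .nil .nil) (.node 24 [⟨14,(Int.negSucc 0),1⟩] .nil .nil)) (.node 27 [⟨18,(Int.negSucc 0),1⟩] (.node 26 [⟨0,(Int.negSucc 0),1⟩, ⟨1,(Int.negSucc 0),1⟩, ⟨2,(Int.negSucc 0),1⟩, ⟨3,(Int.negSucc 0),1⟩, ⟨5,(Int.negSucc 0),2⟩] .nil .nil) .nil)))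
def col2 : Tr Cl := (.node 17 [⟨8,(Int.ofNat 1),1⟩] (.node 3 [⟨6,(Int.negSucc 0),1⟩] (.node 1 [⟨6,(Int.ofNat 0),1⟩] (.node 0 [⟨6,(Int.ofNat 1),1⟩] .nil .nil) (.node 2 [⟨6,(Int.ofNat 1),1⟩] .nil .nil)) (.node 15 [⟨5,(Int.ofNat 1),1⟩] (.node 12 [⟨4,(Int.negSucc 0),1⟩] .nil .nil) .nil)) (.node 25 [⟨0,(Int.negSucc 0),1⟩, ⟨1,(Int.negSucc 0),1⟩, ⟨2,(Int.negSucc 0),1⟩, ⟨3,(Int.ofNat 0),1⟩, ⟨6,(Int.negSucc 0),2⟩] (.node 22 [⟨11,(Int.negSucc 0),1⟩] (.node 20 [⟨9,(Int.ofNat 1),1⟩] .nil .nil) (.node 23 [⟨14,(Int.negSucc 0),1⟩] .nil .nil)) (.node 27 [⟨19,(Int.ofNat 1),1⟩] (.node 26 [⟨16,(Int.negSucc 0),1⟩] .nil .nil) .nil)))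
def col3 : Tr Cl := (.node 16 [⟨8,(Int.ofNat 1),1⟩] (.node 3 [⟨7,(Int.ofNat 1),1⟩] (.node 1 [⟨7,(Int.ofNat 0),1⟩] (.node 0 [⟨7,(Int.ofNat 1),1⟩] .nil .nil) (.node 2 [⟨7,(Int.negSucc 0),1⟩] .nil .nil)) (.node 14 [⟨5,(Int.ofNat 1),1⟩] (.node 11 [⟨4,(Int.negSucc 0),1⟩] .nil .nil) .nil)) (.node 24 [⟨0,(Int.negSucc 0),1⟩, ⟨1,(Int.negSucc 0),1⟩, ⟨2,(Int.ofNat 0),1⟩, ⟨3,(Int.negSucc 0),1⟩, ⟨7,(Int.negSucc 0),2⟩] (.node 22 [⟨12,(Int.negSucc 0),1⟩] (.node 19 [⟨9,(Int.ofNat 1),1⟩] .nil .nil) (.node 23 [⟨15,(Int.negSucc 0),1⟩] .nil .nil)) (.node 27 [⟨20,(Int.ofNat 1),1⟩] (.node 26 [⟨17,(Int.negSucc 0),1⟩] .nil .nil) .nil)))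
def col4 : Tr Cl := (.node 15 [⟨7,(Int.ofNat 1),1⟩] (.node 3 [⟨8,(Int.negSucc 0),1⟩] (.node 1 [⟨8,(Int.ofNat 1),1⟩] (.node 0 [⟨8,(Int.ofNat 1),1⟩] .nil .nil) (.node 2 [⟨8,(Int.negSucc 0),1⟩] .nil .nil)) (.node 14 [⟨6,(Int.ofNat 1),1⟩] (.node 10 [⟨4,(Int.ofNat 1),1⟩] .nil .nil) .nil)) (.node 24 [⟨16,(Int.negSucc 0),1⟩] (.node 22 [⟨13,(Int.negSucc 0),1⟩] (.node 18 [⟨9,(Int.ofNat 1),1⟩] .nil .nil) (.node 23 [⟨0,(Int.negSucc 0),1⟩, ⟨1,(Int.negSucc 0),1⟩, ⟨2,(Int.ofNat 0),1⟩, ⟨3,(Int.ofNat 0),1⟩, ⟨8,(Int.negSucc 0),2⟩] .nil .nil)) (.node 27 [⟨21,(Int.negSucc 0),1⟩] (.node 25 [⟨17,(Int.negSucc 0),1⟩] .nil .nil) .nil)))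
def col5 : Tr Cl := (.node 12 [⟨7,(Int.ofNat 1),1⟩] (.node 3 [⟨9,(Int.ofNat 0),1⟩] (.node 1 [⟨9,(Int.negSucc 0),1⟩] (.node 0 [⟨9,(Int.ofNat 2),1⟩] .nil .nil) (.node 2 [⟨9,(Int.ofNat 0),1⟩] .nil .nil)) (.node 11 [⟨6,(Int.ofNat 1),1⟩] (.node 10 [⟨5,(Int.ofNat 1),1⟩] .nil .nil) .nil)) (.node 24 [⟨19,(Int.negSucc 0),1⟩] (.node 22 [⟨0,(Int.negSucc 0),1⟩, ⟨1,(Int.ofNat 0),1⟩, ⟨2,(Int.ofNat 0),1⟩, ⟨3,(Int.ofNat 0),1⟩, ⟨9,(Int.negSucc 0),2⟩] (.node 13 [⟨8,(Int.ofNat 1),1⟩] .nil .nil) (.node 23 [⟨18,(Int.negSucc 0),1⟩] .nil .nil)) (.node 26 [⟨21,(Int.negSucc 0),1⟩] (.node 25 [⟨20,(Int.negSucc 0),1⟩] .nil .nil) .nil)))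
def col6 : Tr Cl := (.node 16 [⟨11,(Int.ofNat 1),1⟩] (.node 3 [⟨10,(Int.ofNat 1),1⟩] (.node 1 [⟨10,(Int.ofNat 0),1⟩] (.node 0 [⟨10,(Int.negSucc 0),1⟩] .nil .nil) (.node 2 [⟨10,(Int.ofNat 1),1⟩] .nil .nil)) (.node 9 [⟨5,(Int.negSucc 0),1⟩] (.node 8 [⟨4,(Int.negSucc 0),1⟩] .nil .nil) .nil)) (.node 21 [⟨0,(Int.ofNat 0),1⟩, ⟨1,(Int.negSucc 0),1⟩, ⟨2,(Int.negSucc 0),1⟩, ⟨3,(Int.negSucc 0),1⟩, ⟨10,(Int.negSucc 0),2⟩] (.node 19 [⟨14,(Int.negSucc 0),1⟩] (.node 17 [⟨12,(Int.ofNat 1),1⟩] .nil .nil) (.node 20 [⟨15,(Int.negSucc 0),1⟩] .nil .nil)) (.node 27 [⟨23,(Int.ofNat 1),1⟩] (.node 26 [⟨22,(Int.ofNat 1),1⟩] .nil .nil) .nil)))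
def col7 : Tr Cl := (.node 15 [⟨10,(Int.ofNat 1),1⟩] (.node 3 [⟨11,(Int.negSucc 0),1⟩] (.node 1 [⟨11,(Int.ofNat 1),1⟩] (.node 0 [⟨11,(Int.negSucc 0),1⟩] .nil .nil) (.node 2 [⟨11,(Int.ofNat 1),1⟩] .nil .nil)) (.node 9 [⟨6,(Int.negSucc 0),1⟩] (.node 7 [⟨4,(Int.ofNat 1),1⟩] .nil .nil) .nil)) (.node 21 [⟨16,(Int.negSucc 0),1⟩] (.node 18 [⟨14,(Int.negSucc 0),1⟩] (.node 17 [⟨13,(Int.ofNat 1),1⟩] .nil .nil) (.node 20 [⟨0,(Int.ofNat 0),1⟩, ⟨1,(Int.negSucc 0),1⟩, ⟨2,(Int.negSucc 0),1⟩, ⟨3,(Int.ofNat 0),1⟩, ⟨11,(Int.negSucc 0),2⟩] .nil .nil)) (.node 27 [⟨24,(Int.negSucc 0),1⟩] (.node 25 [⟨22,(Int.ofNat 1),1⟩] .nil .nil) .nil)))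
def col8 : Tr Cl := (.node 14 [⟨10,(Int.ofNat 1),1⟩] (.node 3 [⟨12,(Int.ofNat 1),1⟩] (.node 1 [⟨12,(Int.ofNat 1),1⟩] (.node 0 [⟨12,(Int.negSucc 0),1⟩] .nil .nil) (.node 2 [⟨12,(Int.negSucc 0),1⟩] .nil .nil)) (.node 9 [⟨7,(Int.negSucc 0),1⟩] (.node 6 [⟨4,(Int.ofNat 1),1⟩] .nil .nil) .nil)) (.node 21 [⟨17,(Int.negSucc 0),1⟩] (.node 18 [⟨15,(Int.negSucc 0),1⟩] (.node 16 [⟨13,(Int.ofNat 1),1⟩] .nil .nil) (.node 19 [⟨0,(Int.ofNat 0),1⟩, ⟨1,(Int.negSucc 0),1⟩, ⟨2,(Int.ofNat 0),1⟩, ⟨3,(Int.negSucc 0),1⟩, ⟨12,(Int.negSucc 0),2⟩] .nil .nil)) (.node 27 [⟨25,(Int.negSucc 0),1⟩] (.node 24 [⟨22,(Int.ofNat 1),1⟩] .nil .nil) .nil)))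
def col9 : Tr Cl := (.node 14 [⟨11,(Int.ofNat 1),1⟩] (.node 3 [⟨13,(Int.negSucc 0),1⟩] (.node 1 [⟨13,(Int.ofNat 2),1⟩] (.node 0 [⟨13,(Int.negSucc 0),1⟩] .nil .nil) (.node 2 [⟨13,(Int.negSucc 0),1⟩] .nil .nil)) (.node 9 [⟨8,(Int.negSucc 0),1⟩] (.node 5 [⟨4,(Int.negSucc 0),1⟩] .nil .nil) .nil)) (.node 20 [⟨17,(Int.negSucc 0),1⟩] (.node 18 [⟨0,(Int.ofNat 0),1⟩, ⟨1,(Int.negSucc 0),1⟩, ⟨2,(Int.ofNat 0),1⟩, ⟨3,(Int.ofNat 0),1⟩, ⟨13,(Int.negSucc 0),2⟩] (.node 15 [⟨12,(Int.ofNat 1),1⟩] .nil .nil) (.node 19 [⟨16,(Int.negSucc 0),1⟩] .nil .nil)) (.node 27 [⟨26,(Int.ofNat 1),1⟩] (.node 23 [⟨22,(Int.ofNat 1),1⟩] .nil .nil) .nil)))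
def col10 : Tr Cl := (.node 12 [⟨10,(Int.negSucc 0),1⟩] (.node 3 [⟨14,(Int.ofNat 0),1⟩] (.node 1 [⟨14,(Int.negSucc 0),1⟩] (.node 0 [⟨14,(Int.ofNat 0),1⟩] .nil .nil) (.node 2 [⟨14,(Int.ofNat 2),1⟩] .nil .nil)) (.node 8 [⟨6,(Int.negSucc 0),1⟩] (.node 7 [⟨5,(Int.negSucc 0),1⟩] .nil .nil) .nil)) (.node 21 [⟨19,(Int.ofNat 1),1⟩] (.node 17 [⟨0,(Int.ofNat 0),1⟩, ⟨1,(Int.ofNat 0),1⟩, ⟨2,(Int.negSucc 0),1⟩, ⟨3,(Int.ofNat 0),1⟩, ⟨14,(Int.negSucc 0),2⟩] (.node 13 [⟨11,(Int.negSucc 0),1⟩] .nil .nil) (.node 20 [⟨18,(Int.ofNat 1),1⟩] .nil .nil)) (.node 26 [⟨24,(Int.ofNat 1),1⟩] (.node 25 [⟨23,(Int.ofNat 1),1⟩] .nil .nil) .nil)))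
def col11 : Tr Cl := (.node 11 [⟨10,(Int.negSucc 0),1⟩] (.node 3 [⟨15,(Int.ofNat 2),1⟩] (.node 1 [⟨15,(Int.negSucc 0),1⟩] (.node 0 [⟨15,(Int.ofNat 0),1⟩] .nil .nil) (.node 2 [⟨15,(Int.ofNat 0),1⟩] .nil .nil)) (.node 8 [⟨7,(Int.negSucc 0),1⟩] (.node 6 [⟨5,(Int.negSucc 0),1⟩] .nil .nil) .nil)) (.node 21 [⟨20,(Int.ofNat 1),1⟩] (.node 16 [⟨0,(Int.ofNat 0),1⟩, ⟨1,(Int.ofNat 0),1⟩, ⟨2,(Int.ofNat 0),1⟩, ⟨3,(Int.negSucc 0),1⟩, ⟨15,(Int.negSucc 0),2⟩] (.node 13 [⟨12,(Int.negSucc 0),1⟩] .nil .nil) (.node 19 [⟨18,(Int.ofNat 1),1⟩] .nil .nil)) (.node 26 [⟨25,(Int.ofNat 1),1⟩] (.node 24 [⟨23,(Int.ofNat 1),1⟩] .nil .nil) .nil)))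
def col12 : Tr Cl := (.node 10 [⟨11,(Int.negSucc 0),1⟩] (.node 3 [⟨16,(Int.negSucc 1),1⟩] (.node 1 [⟨16,(Int.ofNat 1),1⟩] (.node 0 [⟨16,(Int.ofNat 0),1⟩] .nil .nil) (.node 2 [⟨16,(Int.ofNat 0),1⟩] .nil .nil)) (.node 7 [⟨8,(Int.negSucc 0),1⟩] (.node 5 [⟨6,(Int.negSucc 0),1⟩] .nil .nil) .nil)) (.node 20 [⟨21,(Int.ofNat 1),1⟩] (.node 15 [⟨0,(Int.ofNat 0),1⟩, ⟨1,(Int.ofNat 0),1⟩, ⟨2,(Int.ofNat 0),1⟩, ⟨3,(Int.ofNat 1),1⟩, ⟨16,(Int.negSucc 0),2⟩] (.node 12 [⟨13,(Int.negSucc 0),1⟩] .nil .nil) (.node 18 [⟨19,(Int.ofNat 1),1⟩] .nil .nil)) (.node 25 [⟨26,(Int.ofNat 1),1⟩] (.node 23 [⟨24,(Int.ofNat 1),1⟩] .nil .nil) .nil)))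
def col13 : Tr Cl := (.node 10 [⟨12,(Int.negSucc 0),1⟩] (.node 3 [⟨17,(Int.ofNat 0),1⟩] (.node 1 [⟨17,(Int.ofNat 1),1⟩] (.node 0 [⟨17,(Int.ofNat 0),1⟩] .nil .nil) (.node 2 [⟨17,(Int.negSucc 1),1⟩] .nil .nil)) (.node 6 [⟨8,(Int.negSucc 0),1⟩] (.node 5 [⟨7,(Int.negSucc 0),1⟩] .nil .nil) .nil)) (.node 19 [⟨21,(Int.ofNat 1),1⟩] (.node 14 [⟨0,(Int.ofNat 0),1⟩, ⟨1,(Int.ofNat 0),1⟩, ⟨2,(Int.ofNat 1),1⟩, ⟨3,(Int.ofNat 0),1⟩, ⟨17,(Int.negSucc 0),2⟩] (.node 11 [⟨13,(Int.negSucc 0),1⟩] .nil .nil) (.node 18 [⟨20,(Int.ofNat 1),1⟩] .nil .nil)) (.node 24 [⟨26,(Int.ofNat 1),1⟩] (.node 23 [⟨25,(Int.ofNat 1),1⟩] .nil .nil) .nil)))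
def col14 : Tr Cl := (.node 11 [⟨14,(Int.ofNat 1),1⟩] (.node 3 [⟨18,(Int.ofNat 1),1⟩] (.node 1 [⟨18,(Int.negSucc 1),1⟩] (.node 0 [⟨18,(Int.ofNat 1),1⟩] .nil .nil) (.node 2 [⟨18,(Int.ofNat 1),1⟩] .nil .nil)) (.node 8 [⟨9,(Int.negSucc 0),1⟩] (.node 4 [⟨5,(Int.negSucc 0),1⟩] .nil .nil) .nil)) (.node 17 [⟨20,(Int.negSucc 0),1⟩] (.node 13 [⟨0,(Int.ofNat 0),1⟩, ⟨1,(Int.ofNat 1),1⟩, ⟨2,(Int.ofNat 0),1⟩, ⟨3,(Int.ofNat 0),1⟩, ⟨18,(Int.negSucc 0),2⟩] (.node 12 [⟨15,(Int.ofNat 1),1⟩] .nil .nil) (.node 16 [⟨19,(Int.negSucc 0),1⟩] .nil .nil)) (.node 26 [⟨27,(Int.ofNat 1),1⟩] (.node 22 [⟨23,(Int.ofNat 1),1⟩] .nil .nil) .nil)))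
def col15 : Tr Cl := (.node 10 [⟨14,(Int.ofNat 1),1⟩] (.node 3 [⟨19,(Int.negSucc 0),1⟩] (.node 1 [⟨19,(Int.negSucc 0),1⟩] (.node 0 [⟨19,(Int.ofNat 1),1⟩] .nil .nil) (.node 2 [⟨19,(Int.ofNat 1),1⟩] .nil .nil)) (.node 7 [⟨9,(Int.negSucc 0),1⟩] (.node 4 [⟨6,(Int.ofNat 1),1⟩] .nil .nil) .nil)) (.node 17 [⟨21,(Int.negSucc 0),1⟩] (.node 13 [⟨16,(Int.ofNat 1),1⟩] (.node 12 [⟨0,(Int.ofNat 0),1⟩, ⟨1,(Int.ofNat 1),1⟩, ⟨2,(Int.ofNat 0),1⟩, ⟨3,(Int.ofNat 1),1⟩, ⟨19,(Int.negSucc 0),2⟩] .nil .nil) (.node 15 [⟨18,(Int.negSucc 0),1⟩] .nil .nil)) (.node 25 [⟨27,(Int.negSucc 0),1⟩] (.node 22 [⟨24,(Int.ofNat 1),1⟩] .nil .nil) .nil)))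
def col16 : Tr Cl := (.node 10 [⟨15,(Int.ofNat 1),1⟩] (.node 3 [⟨20,(Int.ofNat 1),1⟩] (.node 1 [⟨20,(Int.negSucc 0),1⟩] (.node 0 [⟨20,(Int.ofNat 1),1⟩] .nil .nil) (.node 2 [⟨20,(Int.negSucc 0),1⟩] .nil .nil)) (.node 6 [⟨9,(Int.negSucc 0),1⟩] (.node 4 [⟨7,(Int.ofNat 1),1⟩] .nil .nil) .nil)) (.node 16 [⟨21,(Int.negSucc 0),1⟩] (.node 13 [⟨17,(Int.ofNat 1),1⟩] (.node 11 [⟨0,(Int.ofNat 0),1⟩, ⟨1,(Int.ofNat 1),1⟩, ⟨2,(Int.ofNat 1),1⟩, ⟨3,(Int.ofNat 0),1⟩, ⟨20,(Int.negSucc 0),2⟩] .nil .nil) (.node 14 [⟨18,(Int.negSucc 0),1⟩] .nil .nil)) (.node 24 [⟨27,(Int.negSucc 0),1⟩] (.node 22 [⟨25,(Int.ofNat 1),1⟩] .nil .nil) .nil)))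
def col17 : Tr Cl := (.node 10 [⟨0,(Int.ofNat 0),1⟩, ⟨1,(Int.ofNat 1),1⟩, ⟨2,(Int.ofNat 1),1⟩, ⟨3,(Int.ofNat 1),1⟩, ⟨21,(Int.negSucc 0),2⟩] (.node 3 [⟨21,(Int.negSucc 0),1⟩] (.node 1 [⟨21,(Int.ofNat 0),1⟩] (.node 0 [⟨21,(Int.ofNat 1),1⟩] .nil .nil) (.node 2 [⟨21,(Int.negSucc 0),1⟩] .nil .nil)) (.node 5 [⟨9,(Int.negSucc 0),1⟩] (.node 4 [⟨8,(Int.negSucc 0),1⟩] .nil .nil) .nil)) (.node 15 [⟨20,(Int.negSucc 0),1⟩] (.node 12 [⟨17,(Int.ofNat 1),1⟩] (.node 11 [⟨16,(Int.ofNat 1),1⟩] .nil .nil) (.node 14 [⟨19,(Int.negSucc 0),1⟩] .nil .nil)) (.node 23 [⟨27,(Int.ofNat 1),1⟩] (.node 22 [⟨26,(Int.ofNat 1),1⟩] .nil .nil) .nil)))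
def col18 : Tr Cl := (.node 7 [⟨12,(Int.ofNat 1),1⟩] (.node 3 [⟨22,(Int.ofNat 0),1⟩] (.node 1 [⟨22,(Int.ofNat 1),1⟩] (.node 0 [⟨22,(Int.negSucc 1),1⟩] .nil .nil) (.node 2 [⟨22,(Int.ofNat 0),1⟩] .nil .nil)) (.node 6 [⟨11,(Int.ofNat 1),1⟩] (.node 5 [⟨10,(Int.ofNat 1),1⟩] .nil .nil) .nil)) (.node 19 [⟨24,(Int.negSucc 0),1⟩] (.node 9 [⟨0,(Int.ofNat 1),1⟩, ⟨1,(Int.ofNat 0),1⟩, ⟨2,(Int.ofNat 0),1⟩, ⟨3,(Int.ofNat 0),1⟩, ⟨22,(Int.negSucc 0),2⟩] (.node 8 [⟨13,(Int.ofNat 1),1⟩] .nil .nil) (.node 18 [⟨23,(Int.negSucc 0),1⟩] .nil .nil)) (.node 21 [⟨26,(Int.negSucc 0),1⟩] (.node 20 [⟨25,(Int.negSucc 0),1⟩] .nil .nil) .nil)))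
def col19 : Tr Cl := (.node 7 [⟨15,(Int.ofNat 1),1⟩] (.node 3 [⟨23,(Int.ofNat 1),1⟩] (.node 1 [⟨23,(Int.negSucc 0),1⟩] (.node 0 [⟨23,(Int.negSucc 0),1⟩] .nil .nil) (.node 2 [⟨23,(Int.ofNat 1),1⟩] .nil .nil)) (.node 6 [⟨14,(Int.ofNat 1),1⟩] (.node 4 [⟨10,(Int.ofNat 1),1⟩] .nil .nil) .nil)) (.node 16 [⟨24,(Int.negSucc 0),1⟩] (.node 9 [⟨18,(Int.ofNat 1),1⟩] (.node 8 [⟨0,(Int.ofNat 1),1⟩, ⟨1,(Int.ofNat 1),1⟩, ⟨2,(Int.ofNat 0),1⟩, ⟨3,(Int.ofNat 0),1⟩, ⟨23,(Int.negSucc 0),2⟩] .nil .nil) (.node 13 [⟨22,(Int.negSucc 0),1⟩] .nil .nil)) (.node 21 [⟨27,(Int.negSucc 0),1⟩] (.node 17 [⟨25,(Int.negSucc 0),1⟩] .nil .nil) .nil)))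
def col20 : Tr Cl := (.node 7 [⟨0,(Int.ofNat 1),1⟩, ⟨1,(Int.ofNat 1),1⟩, ⟨2,(Int.ofNat 0),1⟩, ⟨3,(Int.ofNat 1),1⟩, ⟨24,(Int.negSucc 0),2⟩] (.node 3 [⟨24,(Int.negSucc 0),1⟩] (.node 1 [⟨24,(Int.ofNat 0),1⟩] (.node 0 [⟨24,(Int.negSucc 0),1⟩] .nil .nil) (.node 2 [⟨24,(Int.ofNat 1),1⟩] .nil .nil)) (.node 5 [⟨14,(Int.ofNat 1),1⟩] (.node 4 [⟨11,(Int.negSucc 0),1⟩] .nil .nil) .nil)) (.node 15 [⟨23,(Int.negSucc 0),1⟩] (.node 9 [⟨19,(Int.ofNat 1),1⟩] (.node 8 [⟨16,(Int.ofNat 1),1⟩] .nil .nil) (.node 12 [⟨22,(Int.negSucc 0),1⟩] .nil .nil)) (.node 20 [⟨27,(Int.ofNat 1),1⟩] (.node 17 [⟨26,(Int.negSucc 0),1⟩] .nil .nil) .nil)))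
def col21 : Tr Cl := (.node 6 [⟨0,(Int.ofNat 1),1⟩, ⟨1,(Int.ofNat 1),1⟩, ⟨2,(Int.ofNat 1),1⟩, ⟨3,(Int.ofNat 0),1⟩, ⟨25,(Int.negSucc 0),2⟩] (.node 3 [⟨25,(Int.ofNat 1),1⟩] (.node 1 [⟨25,(Int.ofNat 0),1⟩] (.node 0 [⟨25,(Int.negSucc 0),1⟩] .nil .nil) (.node 2 [⟨25,(Int.negSucc 0),1⟩] .nil .nil)) (.node 5 [⟨15,(Int.ofNat 1),1⟩] (.node 4 [⟨12,(Int.negSucc 0),1⟩] .nil .nil) .nil)) (.node 14 [⟨23,(Int.negSucc 0),1⟩] (.node 9 [⟨20,(Int.ofNat 1),1⟩] (.node 8 [⟨17,(Int.ofNat 1),1⟩] .nil .nil) (.node 11 [⟨22,(Int.negSucc 0),1⟩] .nil .nil)) (.node 19 [⟨27,(Int.ofNat 1),1⟩] (.node 16 [⟨26,(Int.negSucc 0),1⟩] .nil .nil) .nil)))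
def col22 : Tr Cl := (.node 6 [⟨16,(Int.ofNat 1),1⟩] (.node 3 [⟨26,(Int.negSucc 0),1⟩] (.node 1 [⟨26,(Int.ofNat 1),1⟩] (.node 0 [⟨26,(Int.negSucc 0),1⟩] .nil .nil) (.node 2 [⟨26,(Int.negSucc 0),1⟩] .nil .nil)) (.node 5 [⟨0,(Int.ofNat 1),1⟩, ⟨1,(Int.ofNat 1),1⟩, ⟨2,(Int.ofNat 1),1⟩, ⟨3,(Int.ofNat 1),1⟩, ⟨26,(Int.negSucc 0),2⟩] (.node 4 [⟨13,(Int.ofNat 1),1⟩] .nil .nil) .nil)) (.node 14 [⟨24,(Int.negSucc 0),1⟩] (.node 9 [⟨21,(Int.ofNat 1),1⟩] (.node 7 [⟨17,(Int.ofNat 1),1⟩] .nil .nil) (.node 10 [⟨22,(Int.negSucc 0),1⟩] .nil .nil)) (.node 18 [⟨27,(Int.negSucc 0),1⟩] (.node 15 [⟨25,(Int.negSucc 0),1⟩] .nil .nil) .nil)))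
def col23 : Tr Cl := (.node 6 [⟨19,(Int.negSucc 0),1⟩] (.node 3 [⟨27,(Int.ofNat 0),1⟩] (.node 1 [⟨27,(Int.negSucc 0),1⟩] (.node 0 [⟨27,(Int.ofNat 0),1⟩] .nil .nil) (.node 2 [⟨27,(Int.ofNat 0),1⟩] .nil .nil)) (.node 5 [⟨18,(Int.ofNat 1),1⟩] (.node 4 [⟨0,(Int.ofNat 1),1⟩, ⟨1,(Int.ofNat 2),1⟩, ⟨2,(Int.ofNat 1),1⟩, ⟨3,(Int.ofNat 1),1⟩, ⟨27,(Int.negSucc 0),2⟩] .nil .nil) .nil)) (.node 11 [⟨24,(Int.ofNat 1),1⟩] (.node 8 [⟨21,(Int.ofNat 1),1⟩] (.node 7 [⟨20,(Int.negSucc 0),1⟩] .nil .nil) (.node 10 [⟨23,(Int.negSucc 0),1⟩] .nil .nil)) (.node 13 [⟨26,(Int.negSucc 0),1⟩] (.node 12 [⟨25,(Int.ofNat 1),1⟩] .nil .nil) .nil)))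
def cols : Tr (Tr Cl) := (.node 12 col12 (.node 6 col6 (.node 3 col3 (.node 1 col1 (.node 0 col0 .nil .nil) (.node 2 col2 .nil .nil)) (.node 5 col5 (.node 4 col4 .nil .nil) .nil)) (.node 9 col9 (.node 8 col8 (.node 7 col7 .nil .nil) .nil) (.node 11 col11 (.node 10 col10 .nil .nil) .nil))) (.node 18 col18 (.node 15 col15 (.node 14 col14 (.node 13 col13 .nil .nil) .nil) (.node 17 col17 (.node 16 col16 .nil .nil) .nil)) (.node 21 col21 (.node 20 col20 (.node 19 col19 .nil .nil) .nil) (.node 23 col23 (.node 22 col22 .nil .nil) .nil))))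
def ch0 : Tr (List (ℕ × ℤ)) := (.node 19 [(6,(Int.negSucc 0))] (.node 16 [(3,(Int.negSucc 0))] (.node 15 [(2,(Int.negSucc 0))] (.node 14 [(1,(Int.ofNat 1))] .nil .nil) .nil) (.node 17 [(4,(Int.ofNat 1))] .nil .nil)) (.node 21 [(8,(Int.ofNat 1))] (.node 20 [(7,(Int.ofNat 1))] .nil .nil) (.node 22 [(9,(Int.negSucc 0))] .nil .nil)))
def ch1 : Tr (List (ℕ × ℤ)) := (.node 18 [(6,(Int.negSucc 0))] (.node 13 [(3,(Int.ofNat 1))] (.node 12 [(2,(Int.ofNat 1))] (.node 9 [(0,(Int.ofNat 1))] .nil .nil) .nil) (.node 17 [(5,(Int.ofNat 1))] .nil .nil)) (.node 21 [(11,(Int.negSucc 0))] (.node 20 [(10,(Int.negSucc 0))] .nil .nil) (.node 23 [(14,(Int.negSucc 0))] .nil .nil)))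
def ch2 : Tr (List (ℕ × ℤ)) := (.node 18 [(7,(Int.negSucc 0))] (.node 13 [(4,(Int.ofNat 1))] (.node 11 [(1,(Int.ofNat 1))] (.node 8 [(0,(Int.negSucc 0))] .nil .nil) .nil) (.node 16 [(5,(Int.ofNat 1))] .nil .nil)) (.node 22 [(12,(Int.negSucc 0))] (.node 19 [(10,(Int.negSucc 0))] .nil .nil) (.node 23 [(15,(Int.ofNat 1))] .nil .nil)))
def ch3 : Tr (List (ℕ × ℤ)) := (.node 18 [(8,(Int.negSucc 0))] (.node 12 [(4,(Int.ofNat 1))] (.node 10 [(1,(Int.ofNat 1))] (.node 7 [(0,(Int.negSucc 0))] .nil .nil) .nil) (.node 15 [(5,(Int.ofNat 1))] .nil .nil)) (.node 22 [(13,(Int.negSucc 0))] (.node 19 [(11,(Int.negSucc 0))] .nil .nil) (.node 23 [(16,(Int.ofNat 1))] .nil .nil)))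
def ch4 : Tr (List (ℕ × ℤ)) := (.node 18 [(9,(Int.negSucc 0))] (.node 11 [(3,(Int.ofNat 1))] (.node 10 [(2,(Int.ofNat 1))] (.node 6 [(0,(Int.ofNat 1))] .nil .nil) .nil) (.node 14 [(5,(Int.ofNat 1))] .nil .nil)) (.node 21 [(13,(Int.negSucc 0))] (.node 20 [(12,(Int.negSucc 0))] .nil .nil) (.node 23 [(17,(Int.negSucc 0))] .nil .nil)))
def ch5 : Tr (List (ℕ × ℤ)) := (.node 19 [(14,(Int.negSucc 0))] (.node 8 [(3,(Int.ofNat 1))] (.node 7 [(2,(Int.ofNat 1))] (.node 6 [(1,(Int.ofNat 1))] .nil .nil) .nil) (.node 9 [(4,(Int.ofNat 1))] .nil .nil)) (.node 21 [(16,(Int.negSucc 0))] (.node 20 [(15,(Int.negSucc 0))] .nil .nil) (.node 22 [(17,(Int.negSucc 0))] .nil .nil)))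
def ch6 : Tr (List (ℕ × ℤ)) := (.node 15 [(10,(Int.negSucc 0))] (.node 12 [(7,(Int.ofNat 1))] (.node 5 [(1,(Int.negSucc 0))] (.node 4 [(0,(Int.negSucc 0))] .nil .nil) .nil) (.node 13 [(8,(Int.ofNat 1))] .nil .nil)) (.node 22 [(18,(Int.ofNat 1))] (.node 16 [(11,(Int.negSucc 0))] .nil .nil) (.node 23 [(19,(Int.ofNat 1))] .nil .nil)))
def ch7 : Tr (List (ℕ × ℤ)) := (.node 14 [(10,(Int.negSucc 0))] (.node 11 [(6,(Int.ofNat 1))] (.node 5 [(2,(Int.negSucc 0))] (.node 3 [(0,(Int.ofNat 1))] .nil .nil) .nil) (.node 13 [(9,(Int.ofNat 1))] .nil .nil)) (.node 21 [(18,(Int.ofNat 1))] (.node 17 [(12,(Int.negSucc 0))] .nil .nil) (.node 23 [(20,(Int.negSucc 0))] .nil .nil)))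
def ch8 : Tr (List (ℕ × ℤ)) := (.node 14 [(11,(Int.negSucc 0))] (.node 10 [(6,(Int.ofNat 1))] (.node 5 [(3,(Int.negSucc 0))] (.node 2 [(0,(Int.ofNat 1))] .nil .nil) .nil) (.node 12 [(9,(Int.ofNat 1))] .nil .nil)) (.node 20 [(18,(Int.ofNat 1))] (.node 17 [(13,(Int.negSucc 0))] .nil .nil) (.node 23 [(21,(Int.negSucc 0))] .nil .nil)))
def ch9 : Tr (List (ℕ × ℤ)) := (.node 15 [(12,(Int.negSucc 0))] (.node 10 [(7,(Int.ofNat 1))] (.node 5 [(4,(Int.negSucc 0))] (.node 1 [(0,(Int.negSucc 0))] .nil .nil) .nil) (.node 11 [(8,(Int.ofNat 1))] .nil .nil)) (.node 19 [(18,(Int.ofNat 1))] (.node 16 [(13,(Int.negSucc 0))] .nil .nil) (.node 23 [(22,(Int.ofNat 1))] .nil .nil)))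
def ch10 : Tr (List (ℕ × ℤ)) := (.node 16 [(14,(Int.ofNat 1))] (.node 8 [(6,(Int.negSucc 0))] (.node 4 [(2,(Int.negSucc 0))] (.node 3 [(1,(Int.negSucc 0))] .nil .nil) .nil) (.node 9 [(7,(Int.negSucc 0))] .nil .nil)) (.node 21 [(19,(Int.ofNat 1))] (.node 17 [(15,(Int.ofNat 1))] .nil .nil) (.node 22 [(20,(Int.ofNat 1))] .nil .nil)))
def ch11 : Tr (List (ℕ × ℤ)) := (.node 15 [(14,(Int.ofNat 1))] (.node 7 [(6,(Int.negSucc 0))] (.node 4 [(3,(Int.negSucc 0))] (.node 2 [(1,(Int.negSucc 0))] .nil .nil) .nil) (.node 9 [(8,(Int.negSucc 0))] .nil .nil)) (.node 20 [(19,(Int.ofNat 1))] (.node 17 [(16,(Int.ofNat 1))] .nil .nil) (.node 22 [(21,(Int.ofNat 1))] .nil .nil)))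
def ch12 : Tr (List (ℕ × ℤ)) := (.node 14 [(15,(Int.ofNat 1))] (.node 6 [(7,(Int.negSucc 0))] (.node 3 [(4,(Int.negSucc 0))] (.node 1 [(2,(Int.negSucc 0))] .nil .nil) .nil) (.node 8 [(9,(Int.negSucc 0))] .nil .nil)) (.node 19 [(20,(Int.ofNat 1))] (.node 16 [(17,(Int.ofNat 1))] .nil .nil) (.node 21 [(22,(Int.ofNat 1))] .nil .nil)))
def ch13 : Tr (List (ℕ × ℤ)) := (.node 14 [(16,(Int.ofNat 1))] (.node 6 [(8,(Int.negSucc 0))] (.node 2 [(4,(Int.negSucc 0))] (.node 1 [(3,(Int.negSucc 0))] .nil .nil) .nil) (.node 7 [(9,(Int.negSucc 0))] .nil .nil)) (.node 19 [(21,(Int.ofNat 1))] (.node 15 [(17,(Int.ofNat 1))] .nil .nil) (.node 20 [(22,(Int.ofNat 1))] .nil .nil)))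
def ch14 : Tr (List (ℕ × ℤ)) := (.node 12 [(15,(Int.negSucc 0))] (.node 7 [(10,(Int.ofNat 1))] (.node 4 [(5,(Int.negSucc 0))] (.node 0 [(1,(Int.negSucc 0))] .nil .nil) .nil) (.node 8 [(11,(Int.ofNat 1))] .nil .nil)) (.node 18 [(19,(Int.ofNat 1))] (.node 13 [(16,(Int.negSucc 0))] .nil .nil) (.node 22 [(23,(Int.ofNat 1))] .nil .nil)))
def ch15 : Tr (List (ℕ × ℤ)) := (.node 11 [(14,(Int.negSucc 0))] (.node 6 [(10,(Int.ofNat 1))] (.node 3 [(5,(Int.negSucc 0))] (.node 0 [(2,(Int.ofNat 1))] .nil .nil) .nil) (.node 9 [(12,(Int.ofNat 1))] .nil .nil)) (.node 18 [(20,(Int.ofNat 1))] (.node 13 [(17,(Int.negSucc 0))] .nil .nil) (.node 21 [(23,(Int.negSucc 0))] .nil .nil)))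
def ch16 : Tr (List (ℕ × ℤ)) := (.node 10 [(14,(Int.negSucc 0))] (.node 6 [(11,(Int.ofNat 1))] (.node 2 [(5,(Int.negSucc 0))] (.node 0 [(3,(Int.ofNat 1))] .nil .nil) .nil) (.node 9 [(13,(Int.ofNat 1))] .nil .nil)) (.node 18 [(21,(Int.ofNat 1))] (.node 12 [(17,(Int.negSucc 0))] .nil .nil) (.node 20 [(23,(Int.negSucc 0))] .nil .nil)))
def ch17 : Tr (List (ℕ × ℤ)) := (.node 10 [(15,(Int.negSucc 0))] (.node 7 [(12,(Int.ofNat 1))] (.node 1 [(5,(Int.negSucc 0))] (.node 0 [(4,(Int.negSucc 0))] .nil .nil) .nil) (.node 8 [(13,(Int.ofNat 1))] .nil .nil)) (.node 18 [(22,(Int.ofNat 1))] (.node 11 [(16,(Int.negSucc 0))] .nil .nil) (.node 19 [(23,(Int.ofNat 1))] .nil .nil)))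
def ch18 : Tr (List (ℕ × ℤ)) := (.node 14 [(19,(Int.negSucc 0))] (.node 3 [(8,(Int.ofNat 1))] (.node 2 [(7,(Int.ofNat 1))] (.node 1 [(6,(Int.ofNat 1))] .nil .nil) .nil) (.node 4 [(9,(Int.ofNat 1))] .nil .nil)) (.node 16 [(21,(Int.negSucc 0))] (.node 15 [(20,(Int.negSucc 0))] .nil .nil) (.node 17 [(22,(Int.negSucc 0))] .nil .nil)))
def ch19 : Tr (List (ℕ × ℤ)) := (.node 9 [(18,(Int.negSucc 0))] (.node 3 [(11,(Int.ofNat 1))] (.node 2 [(10,(Int.ofNat 1))] (.node 0 [(6,(Int.ofNat 1))] .nil .nil) .nil) (.node 5 [(14,(Int.ofNat 1))] .nil .nil)) (.node 13 [(21,(Int.negSucc 0))] (.node 12 [(20,(Int.negSucc 0))] .nil .nil) (.node 17 [(23,(Int.negSucc 0))] .nil .nil)))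
def ch20 : Tr (List (ℕ × ℤ)) := (.node 8 [(18,(Int.negSucc 0))] (.node 4 [(12,(Int.ofNat 1))] (.node 1 [(10,(Int.ofNat 1))] (.node 0 [(7,(Int.negSucc 0))] .nil .nil) .nil) (.node 5 [(15,(Int.ofNat 1))] .nil .nil)) (.node 13 [(22,(Int.negSucc 0))] (.node 11 [(19,(Int.negSucc 0))] .nil .nil) (.node 16 [(23,(Int.ofNat 1))] .nil .nil)))
def ch21 : Tr (List (ℕ × ℤ)) := (.node 7 [(18,(Int.negSucc 0))] (.node 4 [(13,(Int.ofNat 1))] (.node 1 [(11,(Int.ofNat 1))] (.node 0 [(8,(Int.negSucc 0))] .nil .nil) .nil) (.node 5 [(16,(Int.ofNat 1))] .nil .nil)) (.node 12 [(22,(Int.negSucc 0))] (.node 10 [(19,(Int.negSucc 0))] .nil .nil) (.node 15 [(23,(Int.ofNat 1))] .nil .nil)))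
def ch22 : Tr (List (ℕ × ℤ)) := (.node 6 [(18,(Int.negSucc 0))] (.node 3 [(13,(Int.ofNat 1))] (.node 2 [(12,(Int.ofNat 1))] (.node 0 [(9,(Int.ofNat 1))] .nil .nil) .nil) (.node 5 [(17,(Int.ofNat 1))] .nil .nil)) (.node 11 [(21,(Int.negSucc 0))] (.node 10 [(20,(Int.negSucc 0))] .nil .nil) (.node 14 [(23,(Int.negSucc 0))] .nil .nil)))
def ch23 : Tr (List (ℕ × ℤ)) := (.node 6 [(19,(Int.negSucc 0))] (.node 3 [(16,(Int.negSucc 0))] (.node 2 [(15,(Int.negSucc 0))] (.node 1 [(14,(Int.ofNat 1))] .nil .nil) .nil) (.node 4 [(17,(Int.ofNat 1))] .nil .nil)) (.node 8 [(21,(Int.ofNat 1))] (.node 7 [(20,(Int.ofNat 1))] .nil .nil) (.node 9 [(22,(Int.negSucc 0))] .nil .nil)))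
def chainT : Tr (Tr (List (ℕ × ℤ))) := (.node 12 ch12 (.node 6 ch6 (.node 3 ch3 (.node 1 ch1 (.node 0 ch0 .nil .nil) (.node 2 ch2 .nil .nil)) (.node 5 ch5 (.node 4 ch4 .nil .nil) .nil)) (.node 9 ch9 (.node 8 ch8 (.node 7 ch7 .nil .nil) .nil) (.node 11 ch11 (.node 10 ch10 .nil .nil) .nil))) (.node 18 ch18 (.node 15 ch15 (.node 14 ch14 (.node 13 ch13 .nil .nil) .nil) (.node 17 ch17 (.node 16 ch16 .nil .nil) .nil)) (.node 21 ch21 (.node 20 ch20 (.node 19 ch19 .nil .nil) .nil) (.node 23 ch23 (.node 22 ch22 .nil .nil) .nil))))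
def negT : Tr ℕ := (.node 12 11 (.node 6 17 (.node 3 20 (.node 1 22 (.node 0 23 .nil .nil) (.node 2 21 .nil .nil)) (.node 5 18 (.node 4 19 .nil .nil) .nil)) (.node 9 14 (.node 8 15 (.node 7 16 .nil .nil) .nil) (.node 11 12 (.node 10 13 .nil .nil) .nil))) (.node 18 5 (.node 15 8 (.node 14 9 (.node 13 10 .nil .nil) .nil) (.node 17 6 (.node 16 7 .nil .nil) .nil)) (.node 21 2 (.node 20 3 (.node 19 4 .nil .nil) .nil) (.node 23 0 (.node 22 1 .nil .nil) .nil))))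
def nc0 : Tr Vc := (.node 14 [⟨14,(Int.ofNat 1),0,0⟩] (.node 7 [⟨12,(Int.ofNat 1),0,0⟩] (.node 3 [⟨3,(Int.ofNat 1),0,0⟩] (.node 1 [⟨0,(Int.ofNat 1),0,0⟩, ⟨1,(Int.ofNat 1),0,0⟩] (.node 0 [⟨0,(Int.negSucc 0),0,0⟩] .nil .nil) (.node 2 [⟨2,(Int.ofNat 1),0,0⟩] .nil .nil)) (.node 5 [⟨10,(Int.ofNat 1),0,0⟩] (.node 4 [⟨4,(Int.ofNat 1),0,0⟩] .nil .nil) (.node 6 [⟨11,(Int.ofNat 1),0,0⟩] .nil .nil))) (.node 11 [⟨6,(Int.negSucc 0),0,0⟩] (.node 9 [⟨22,(Int.negSucc 0),0,0⟩] (.node 8 [⟨13,(Int.ofNat 1),0,0⟩] .nil .nil) (.node 10 [⟨5,(Int.negSucc 0),0,0⟩] .nil .nil)) (.node 13 [⟨8,(Int.negSucc 0),0,0⟩] (.node 12 [⟨7,(Int.negSucc 0),0,0⟩] .nil .nil) .nil))) (.node 21 [⟨26,(Int.negSucc 0),0,0⟩] (.node 18 [⟨23,(Int.negSucc 0),0,0⟩] (.node 16 [⟨16,(Int.ofNat 1),0,0⟩] (.node 15 [⟨15,(Int.ofNat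 1),0,0⟩] .nil .nil) (.node 17 [⟨17,(Int.ofNat 1),0,0⟩] .nil .nil)) (.node 20 [⟨25,(Int.negSucc 0),0,0⟩] (.node 19 [⟨24,(Int.negSucc 0),0,0⟩] .nil .nil) .nil)) (.node 25 [⟨20,(Int.ofNat 1),0,0⟩] (.node 23 [⟨18,(Int.ofNat 1),0,0⟩] (.node 22 [⟨9,(Int.negSucc 0),0,0⟩] .nil .nil) (.node 24 [⟨19,(Int.ofNat 1),0,0⟩] .nil .nil)) (.node 27 [⟨27,(Int.ofNat 1),0,0⟩] (.node 26 [⟨21,(Int.ofNat 1),0,0⟩] .nil .nil) .nil))))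
def nc1 : Tr Vc := (.node 14 [⟨11,(Int.negSucc 0),0,0⟩] (.node 7 [⟨7,(Int.ofNat 1),0,0⟩] (.node 3 [⟨1,(Int.ofNat 1),0,0⟩, ⟨3,(Int.ofNat 1),0,0⟩] (.node 1 [⟨1,(Int.negSucc 0),0,0⟩] (.node 0 [⟨0,(Int.ofNat 1),0,0⟩, ⟨1,(Int.ofNat 1),0,0⟩] .nil .nil) (.node 2 [⟨1,(Int.ofNat 1),0,0⟩, ⟨2,(Int.ofNat 1),0,0⟩] .nil .nil)) (.node 5 [⟨4,(Int.ofNat 1),0,0⟩] (.node 4 [⟨5,(Int.negSucc 0),0,0⟩] .nil .nil) (.node 6 [⟨6,(Int.ofNat 1),0,0⟩] .nil .nil))) (.node 11 [⟨14,(Int.ofNat 1),0,0⟩] (.node 9 [⟨8,(Int.ofNat 1),0,0⟩] (.node 8 [⟨9,(Int.negSucc 0),0,0⟩] .nil .nil) (.node 10 [⟨10,(Int.ofNat 1),0,0⟩] .nil .nil)) (.node 13 [⟨18,(Int.negSucc 0),0,0⟩] (.node 12 [⟨15,(Int.ofNat 1),0,0⟩] .nil .nil) .nil))) (.node 21 [⟨21,(Int.ofNat 1),0,0⟩] (.node 18 [⟨13,(Int.negSucc 0),0,0⟩] (.node 16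 [⟨19,(Int.negSucc 0),0,0⟩] (.node 15 [⟨12,(Int.negSucc 0),0,0⟩] .nil .nil) (.node 17 [⟨20,(Int.negSucc 0),0,0⟩] .nil .nil)) (.node 20 [⟨17,(Int.ofNat 1),0,0⟩] (.node 19 [⟨16,(Int.ofNat 1),0,0⟩] .nil .nil) .nil)) (.node 25 [⟨25,(Int.ofNat 1),0,0⟩] (.node 23 [⟨22,(Int.negSucc 0),0,0⟩] (.node 22 [⟨23,(Int.ofNat 1),0,0⟩] .nil .nil) (.node 24 [⟨24,(Int.ofNat 1),0,0⟩] .nil .nil)) (.node 27 [⟨26,(Int.negSucc 0),0,0⟩] (.node 26 [⟨27,(Int.ofNat 1),0,0⟩] .nil .nil) .nil))))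
def nc2 : Tr Vc := (.node 14 [⟨17,(Int.negSucc 0),0,0⟩] (.node 7 [⟨5,(Int.ofNat 1),0,0⟩] (.node 3 [⟨3,(Int.ofNat 1),0,0⟩] (.node 1 [⟨1,(Int.ofNat 1),0,0⟩, ⟨2,(Int.ofNat 1),0,0⟩] (.node 0 [⟨0,(Int.ofNat 1),0,0⟩] .nil .nil) (.node 2 [⟨2,(Int.negSucc 0),0,0⟩] .nil .nil)) (.node 5 [⟨7,(Int.negSucc 0),0,0⟩] (.node 4 [⟨4,(Int.ofNat 1),0,0⟩] .nil .nil) (.node 6 [⟨8,(Int.negSucc 0),0,0⟩] .nil .nil))) (.node 11 [⟨13,(Int.negSucc 0),0,0⟩] (.node 9 [⟨9,(Int.ofNat 1),0,0⟩] (.node 8 [⟨6,(Int.ofNat 1),0,0⟩] .nil .nil) (.node 10 [⟨12,(Int.negSucc 0),0,0⟩] .nil .nil)) (.node 13 [⟨11,(Int.ofNat 1),0,0⟩] (.node 12 [⟨10,(Int.ofNat 1),0,0⟩] .nil .nil) .nil))) (.node 21 [⟨19,(Int.negSucc 0),0,0⟩] (.node 18 [⟨20,(Int.ofNat 1),0,0⟩] (.node 16 [⟨16,(Int.ofNat 1),0,0⟩] (.node 15 [⟨15,(Int.ofNat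 1),0,0⟩] .nil .nil) (.node 17 [⟨14,(Int.negSucc 0),0,0⟩] .nil .nil)) (.node 20 [⟨18,(Int.negSucc 0),0,0⟩] (.node 19 [⟨21,(Int.ofNat 1),0,0⟩] .nil .nil) .nil)) (.node 25 [⟨23,(Int.negSucc 0),0,0⟩] (.node 23 [⟨25,(Int.ofNat 1),0,0⟩] (.node 22 [⟨22,(Int.ofNat 1),0,0⟩] .nil .nil) (.node 24 [⟨26,(Int.ofNat 1),0,0⟩] .nil .nil)) (.node 27 [⟨27,(Int.ofNat 1),0,0⟩] (.node 26 [⟨24,(Int.negSucc 0),0,0⟩] .nil .nil) .nil))))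
def nc3 : Tr Vc := (.node 14 [⟨14,(Int.ofNat 1),0,0⟩] (.node 7 [⟨8,(Int.negSucc 0),0,0⟩] (.node 3 [⟨3,(Int.negSucc 0),0,0⟩] (.node 1 [⟨1,(Int.ofNat 1),0,0⟩, ⟨3,(Int.ofNat 1),0,0⟩] (.node 0 [⟨0,(Int.ofNat 1),0,0⟩] .nil .nil) (.node 2 [⟨2,(Int.ofNat 1),0,0⟩] .nil .nil)) (.node 5 [⟨6,(Int.negSucc 0),0,0⟩] (.node 4 [⟨4,(Int.ofNat 1),0,0⟩] .nil .nil) (.node 6 [⟨5,(Int.ofNat 1),0,0⟩] .nil .nil))) (.node 11 [⟨10,(Int.ofNat 1),0,0⟩] (.node 9 [⟨9,(Int.ofNat 1),0,0⟩] (.node 8 [⟨7,(Int.ofNat 1),0,0⟩] .nil .nil) (.node 10 [⟨11,(Int.negSucc 0),0,0⟩] .nil .nil)) (.node 13 [⟨12,(Int.ofNat 1),0,0⟩] (.node 12 [⟨13,(Int.negSucc 0),0,0⟩] .nil .nil) .nil))) (.node 21 [⟨20,(Int.negSucc 0),0,0⟩] (.node 18 [⟨19,(Int.ofNat 1),0,0⟩] (.node 16 [⟨15,(Int.negSucc 0),0,0⟩] (.node 15 [⟨16,(Int.negSucc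 0),0,0⟩] .nil .nil) (.node 17 [⟨17,(Int.ofNat 1),0,0⟩] .nil .nil)) (.node 20 [⟨21,(Int.ofNat 1),0,0⟩] (.node 19 [⟨18,(Int.negSucc 0),0,0⟩] .nil .nil) .nil)) (.node 25 [⟨26,(Int.ofNat 1),0,0⟩] (.node 23 [⟨24,(Int.ofNat 1),0,0⟩] (.node 22 [⟨22,(Int.ofNat 1),0,0⟩] .nil .nil) (.node 24 [⟨23,(Int.negSucc 0),0,0⟩] .nil .nil)) (.node 27 [⟨27,(Int.ofNat 1),0,0⟩] (.node 26 [⟨25,(Int.negSucc 0),0,0⟩] .nil .nil) .nil))))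
def nT : Tr (Tr Vc) := (.node 2 nc2 (.node 1 nc1 (.node 0 nc0 .nil .nil) .nil) (.node 3 nc3 .nil .nil))
def wc0 : Tr (ℕ × ℤ) := (.node 12 (12,(Int.ofNat 1)) (.node 6 (1,(Int.negSucc 0)) (.node 3 (8,(Int.ofNat 1)) (.node 1 (6,(Int.ofNat 1)) (.node 0 (0,(Int.ofNat 1)) .nil .nil) (.node 2 (7,(Int.ofNat 1)) .nil .nil)) (.node 5 (18,(Int.negSucc 0)) (.node 4 (9,(Int.ofNat 1)) .nil .nil) .nil)) (.node 9 (4,(Int.negSucc 0)) (.node 8 (3,(Int.negSucc 0)) (.node 7 (2,(Int.negSucc 0)) .nil .nil) .nil) (.node 11 (11,(Int.ofNat 1)) (.node 10 (10,(Int.ofNat 1)) .nil .nil) .nil))) (.node 18 (5,(Int.negSucc 0)) (.node 15 (20,(Int.negSucc 0)) (.node 14 (19,(Int.negSucc 0)) (.node 13 (13,(Int.ofNat 1)) .nil .nil) .nil) (.node 17 (22,(Int.negSucc 0)) (.node 16 (21,(Int.negSucc 0))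 .nil .nil) .nil)) (.node 21 (16,(Int.ofNat 1)) (.node 20 (15,(Int.ofNat 1)) (.node 19 (14,(Int.ofNat 1)) .nil .nil) .nil) (.node 23 (23,(Int.ofNat 1)) (.node 22 (17,(Int.ofNat 1)) .nil .nil) .nil))))
def wc1 : Tr (ℕ × ℤ) := (.node 12 (15,(Int.negSucc 0)) (.node 6 (6,(Int.ofNat 1)) (.node 3 (3,(Int.ofNat 1)) (.node 1 (0,(Int.ofNat 1)) (.node 0 (1,(Int.negSucc 0)) .nil .nil) (.node 2 (2,(Int.ofNat 1)) .nil .nil)) (.node 5 (4,(Int.ofNat 1)) (.node 4 (5,(Int.negSucc 0)) .nil .nil) .nil)) (.node 9 (14,(Int.negSucc 0)) (.node 8 (11,(Int.ofNat 1)) (.node 7 (10,(Int.ofNat 1)) .nil .nil) .nil) (.node 11 (8,(Int.negSucc 0)) (.node 10 (7,(Int.negSucc 0)) .nil .nil) .nil))) (.node 18 (19,(Int.ofNat 1)) (.node 15 (12,(Int.ofNat 1)) (.node 14 (9,(Int.negSucc 0)) (.node 13 (16,(Int.negSucc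 0)) .nil .nil) .nil) (.node 17 (17,(Int.ofNat 1)) (.node 16 (13,(Int.ofNat 1)) .nil .nil) .nil)) (.node 21 (21,(Int.ofNat 1)) (.node 20 (20,(Int.ofNat 1)) (.node 19 (18,(Int.negSucc 0)) .nil .nil) .nil) (.node 23 (22,(Int.negSucc 0)) (.node 22 (23,(Int.ofNat 1)) .nil .nil) .nil))))
def wc2 : Tr (ℕ × ℤ) := (.node 12 (12,(Int.ofNat 1)) (.node 6 (8,(Int.negSucc 0)) (.node 3 (1,(Int.ofNat 1)) (.node 1 (3,(Int.negSucc 0)) (.node 0 (0,(Int.ofNat 1)) .nil .nil) (.node 2 (4,(Int.negSucc 0)) .nil .nil)) (.node 5 (5,(Int.ofNat 1)) (.node 4 (2,(Int.ofNat 1)) .nil .nil) .nil)) (.node 9 (7,(Int.ofNat 1)) (.node 8 (6,(Int.ofNat 1)) (.node 7 (9,(Int.negSucc 0)) .nil .nil) .nil) (.node 11 (11,(Int.ofNat 1)) (.node 10 (13,(Int.negSucc 0)) .nil .nil) .nil))) (.node 18 (18,(Int.ofNat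 1)) (.node 15 (17,(Int.ofNat 1)) (.node 14 (16,(Int.ofNat 1)) (.node 13 (10,(Int.negSucc 0)) .nil .nil) .nil) (.node 17 (15,(Int.negSucc 0)) (.node 16 (14,(Int.negSucc 0)) .nil .nil) .nil)) (.node 21 (19,(Int.negSucc 0)) (.node 20 (22,(Int.ofNat 1)) (.node 19 (21,(Int.ofNat 1)) .nil .nil) .nil) (.node 23 (23,(Int.ofNat 1)) (.node 22 (20,(Int.negSucc 0)) .nil .nil) .nil))))
def wc3 : Tr (ℕ × ℤ) := (.node 12 (11,(Int.negSucc 0)) (.node 6 (7,(Int.negSucc 0)) (.node 3 (4,(Int.negSucc 0)) (.node 1 (2,(Int.negSucc 0)) (.node 0 (0,(Int.ofNat 1)) .nil .nil) (.node 2 (1,(Int.ofNat 1)) .nil .nil)) (.node 5 (5,(Int.ofNat 1)) (.node 4 (3,(Int.ofNat 1)) .nil .nil) .nil)) (.node 9 (8,(Int.ofNat 1)) (.node 8 (9,(Int.negSucc 0)) (.node 7 (6,(Int.ofNat 1)) .nil .nil) .nil) (.node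 11 (12,(Int.negSucc 0)) (.node 10 (10,(Int.ofNat 1)) .nil .nil) .nil))) (.node 18 (18,(Int.ofNat 1)) (.node 15 (14,(Int.negSucc 0)) (.node 14 (15,(Int.ofNat 1)) (.node 13 (13,(Int.ofNat 1)) .nil .nil) .nil) (.node 17 (16,(Int.negSucc 0)) (.node 16 (17,(Int.ofNat 1)) .nil .nil) .nil)) (.node 21 (22,(Int.ofNat 1)) (.node 20 (19,(Int.negSucc 0)) (.node 19 (20,(Int.ofNat 1)) .nil .nil) .nil) (.node 23 (23,(Int.ofNat 1)) (.node 22 (21,(Int.negSucc 0)) .nil .nil) .nil))))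
def wT : Tr (Tr (ℕ × ℤ)) := (.node 2 wc2 (.node 1 wc1 (.node 0 wc0 .nil .nil) .nil) (.node 3 wc3 .nil .nil))
def dT : Tr (ℕ × ℕ) := (.node 12 (4,1) (.node 6 (5,3) (.node 3 (3,3) (.node 1 (4,3) (.node 0 (5,1) .nil .nil) (.node 2 (3,2) .nil .nil)) (.node 5 (1,0) (.node 4 (2,1) .nil .nil) .nil)) (.node 9 (3,0) (.node 8 (4,3) (.node 7 (4,2) .nil .nil) .nil) (.node 11 (5,1) (.node 10 (5,1) .nil .nil) .nil))) (.node 18 (0,0) (.node 15 (3,3) (.node 14 (2,0) (.node 13 (4,1) .nil .nil) .nil) (.node 17 (4,3) (.node 16 (3,2) .nil .nil) .nil)) (.node 21 (2,2) (.node 20 (2,3) (.node 19 (1,1) .nil .nil) .nil) (.node 23 (4,1) (.node 22 (3,3) .nil .nil) .nil))))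

end Cfsg.Agent.Lib.Chevalley.Tbl.D4
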