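import Cfsg.Agent.Lib.Chevalley.Comm
import Cfsg.Prelude.Def_ChevE6

set_option autoImplicit false
set_option maxRecDepth 1000000

namespace Cfsg.Agent.Lib.Chevalley.Tbl.E6
open Cfsg.Lie Cfsg.Agent.Lib.Chevalley.Reflect Cfsg.Agent.Lib.Chevalley.Comm


def col0 : Tr Cl := (.node 59 [⟨14,(Int.ofNat 1),1⟩] (.node 52 [⟨7,(Int.ofNat 1),1⟩] (.node 3 [⟨6,(Int.ofNat 0),1⟩] (.node 1 [⟨6,(Int.ofNat 1),1⟩] (.node 0 [⟨6,(Int.ofNat 0),1⟩] .nil .nil) (.node 2 [⟨6,(Int.ofNat 0),1⟩] .nil .nil)) (.node 5 [⟨6,(Int.ofNat 0),1⟩] (.node 4 [⟨6,(Int.ofNat 0),1⟩] .nil .nil) .nil)) (.node 56 [⟨11,(Int.ofNat 1),1⟩] (.node 54 [⟨9,(Int.ofNat 1),1⟩] (.node 53 [⟨8,(Int.negSucc 0),1⟩] .nil .nil) (.node 55 [⟨10,(Int.negSucc 0),1⟩] .nil .nil)) (.node 58 [⟨13,(Int.ofNat 1),1⟩] (.node 57 [⟨12,(Int.negSucc 0),1⟩]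 .nil .nil) .nil))) (.node 71 [⟨26,(Int.ofNat 1),1⟩] (.node 68 [⟨23,(Int.ofNat 1),1⟩] (.node 61 [⟨16,(Int.ofNat 1),1⟩] (.node 60 [⟨15,(Int.negSucc 0),1⟩] .nil .nil) (.node 67 [⟨22,(Int.negSucc 0),1⟩] .nil .nil)) (.node 70 [⟨25,(Int.negSucc 0),1⟩] (.node 69 [⟨24,(Int.negSucc 0),1⟩] .nil .nil) .nil)) (.node 75 [⟨30,(Int.ofNat 1),1⟩] (.node 73 [⟨28,(Int.ofNat 1),1⟩] (.node 72 [⟨27,(Int.negSucc 0),1⟩] .nil .nil) (.node 74 [⟨29,(Int.negSucc 0),1⟩] .nil .nil)) (.node 77 [⟨0,(Int.negSucc 0),1⟩, ⟨1,(Int.negSucc 1),1⟩, ⟨2,(Int.negSucc 1),1⟩, ⟨3,(Int.negSucc 2),1⟩, ⟨4,(Int.negSucc 1),1⟩, ⟨5,(Int.negSucc 0),1⟩, ⟨6,(Int.negSucc 0),2⟩] (.node 76 [⟨31,(Int.negSucc 0),1⟩] .nil .nil) .nil))))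
def col1 : Tr Cl := (.node 59 [⟨17,(Int.ofNat 1),1⟩] (.node 31 [⟨6,(Int.ofNat 1),1⟩] (.node 3 [⟨7,(Int.ofNat 1),1⟩] (.node 1 [⟨7,(Int.negSucc 0),1⟩] (.node 0 [⟨7,(Int.ofNat 0),1⟩] .nil .nil) (.node 2 [⟨7,(Int.ofNat 0),1⟩] .nil .nil)) (.node 5 [⟨7,(Int.ofNat 0),1⟩] (.node 4 [⟨7,(Int.ofNat 0),1⟩] .nil .nil) .nil)) (.node 49 [⟨11,(Int.ofNat 1),1⟩] (.node 46 [⟨9,(Int.negSucc 0),1⟩] (.node 45 [⟨8,(Int.ofNat 1),1⟩] .nil .nil) (.node 47 [⟨10,(Int.ofNat 1),1⟩] .nil .nil)) (.node 51 [⟨13,(Int.ofNat 1),1⟩] (.node 50 [⟨12,(Int.negSucc 0),1⟩] .nil .nil) .nil))) (.node 71 [⟨33,(Int.ofNat 1),1⟩] (.node 65 [⟨23,(Int.ofNat 1),1⟩] (.node 61 [⟨19,(Int.ofNat 1),1⟩] (.node 60 [⟨18,(Int.negSucc 0),1⟩] .nil .nil) (.node 64 [⟨22,(Int.negSucc 0),1⟩] .nil .nil)) (.node 70 [⟨32,(Int.negSucc 0),1⟩] (.node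 66 [⟨24,(Int.negSucc 0),1⟩] .nil .nil) .nil)) (.node 75 [⟨38,(Int.negSucc 0),1⟩] (.node 73 [⟨36,(Int.negSucc 0),1⟩] (.node 72 [⟨34,(Int.negSucc 0),1⟩] .nil .nil) (.node 74 [⟨37,(Int.ofNat 1),1⟩] .nil .nil)) (.node 77 [⟨52,(Int.negSucc 0),1⟩] (.node 76 [⟨0,(Int.negSucc 0),1⟩, ⟨1,(Int.negSucc 0),1⟩, ⟨2,(Int.negSucc 1),1⟩, ⟨3,(Int.negSucc 2),1⟩, ⟨4,(Int.negSucc 1),1⟩, ⟨5,(Int.negSucc 0),1⟩, ⟨7,(Int.negSucc 0),2⟩] .nil .nil) .nil))))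
def col2 : Tr Cl := (.node 57 [⟨17,(Int.ofNat 1),1⟩] (.node 30 [⟨6,(Int.negSucc 0),1⟩] (.node 3 [⟨8,(Int.negSucc 0),1⟩] (.node 1 [⟨8,(Int.ofNat 0),1⟩] (.node 0 [⟨8,(Int.ofNat 0),1⟩] .nil .nil) (.node 2 [⟨8,(Int.ofNat 1),1⟩] .nil .nil)) (.node 5 [⟨8,(Int.ofNat 0),1⟩] (.node 4 [⟨8,(Int.ofNat 1),1⟩] .nil .nil) .nil)) (.node 48 [⟨11,(Int.ofNat 1),1⟩] (.node 43 [⟨9,(Int.ofNat 1),1⟩] (.node 38 [⟨7,(Int.ofNat 1),1⟩] .nil .nil) (.node 44 [⟨10,(Int.negSucc 0),1⟩] .nil .nil)) (.node 51 [⟨15,(Int.ofNat 1),1⟩] (.node 50 [⟨14,(Int.negSucc 0),1⟩] .nil .nil) .nil))) (.node 69 [⟨33,(Int.ofNat 1),1⟩] (.node 65 [⟨25,(Int.ofNat 1),1⟩] (.node 61 [⟨20,(Int.ofNat 1),1⟩] (.node 58 [⟨18,(Int.negSucc 0),1⟩] .nil .nil) (.node 63 [⟨22,(Int.negSucc 0),1⟩] .nil .nil)) (.node 68 [⟨32,(Int.negSucc 0),1⟩]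 (.node 66 [⟨26,(Int.negSucc 0),1⟩] .nil .nil) .nil)) (.node 75 [⟨0,(Int.negSucc 0),1⟩, ⟨1,(Int.negSucc 0),1⟩, ⟨2,(Int.negSucc 1),1⟩, ⟨3,(Int.negSucc 1),1⟩, ⟨4,(Int.negSucc 1),1⟩, ⟨5,(Int.negSucc 0),1⟩, ⟨8,(Int.negSucc 0),2⟩] (.node 73 [⟨39,(Int.ofNat 1),1⟩] (.node 72 [⟨35,(Int.negSucc 0),1⟩] .nil .nil) (.node 74 [⟨40,(Int.negSucc 0),1⟩] .nil .nil)) (.node 77 [⟨53,(Int.ofNat 1),1⟩] (.node 76 [⟨45,(Int.negSucc 0),1⟩] .nil .nil) .nil))))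
def col3 : Tr Cl := (.node 56 [⟨17,(Int.ofNat 1),1⟩] (.node 29 [⟨6,(Int.ofNat 1),1⟩] (.node 3 [⟨9,(Int.ofNat 0),1⟩] (.node 1 [⟨9,(Int.ofNat 0),1⟩] (.node 0 [⟨9,(Int.ofNat 0),1⟩] .nil .nil) (.node 2 [⟨9,(Int.ofNat 1),1⟩] .nil .nil)) (.node 5 [⟨9,(Int.ofNat 1),1⟩] (.node 4 [⟨9,(Int.negSucc 0),1⟩] .nil .nil) .nil)) (.node 48 [⟨12,(Int.ofNat 1),1⟩] (.node 40 [⟨8,(Int.ofNat 1),1⟩] (.node 37 [⟨7,(Int.negSucc 0),1⟩] .nil .nil) (.node 42 [⟨10,(Int.ofNat 1),1⟩] .nil .nil)) (.node 51 [⟨16,(Int.ofNat 1),1⟩] (.node 49 [⟨14,(Int.negSucc 0),1⟩] .nil .nil) .nil))) (.node 69 [⟨34,(Int.ofNat 1),1⟩] (.node 64 [⟨25,(Int.ofNat 1),1⟩] (.node 60 [⟨20,(Int.ofNat 1),1⟩] (.node 58 [⟨19,(Int.negSucc 0),1⟩] .nil .nil) (.node 63 [⟨23,(Int.negSucc 0),1⟩] .nil .nil)) (.node 67 [⟨32,(Int.negSucc 0),1⟩] (.node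 66 [⟨27,(Int.negSucc 0),1⟩] .nil .nil) .nil)) (.node 75 [⟨43,(Int.negSucc 0),1⟩] (.node 73 [⟨41,(Int.negSucc 0),1⟩] (.node 71 [⟨35,(Int.negSucc 0),1⟩] .nil .nil) (.node 74 [⟨0,(Int.negSucc 0),1⟩, ⟨1,(Int.negSucc 0),1⟩, ⟨2,(Int.negSucc 1),1⟩, ⟨3,(Int.negSucc 1),1⟩, ⟨4,(Int.negSucc 0),1⟩, ⟨5,(Int.negSucc 0),1⟩, ⟨9,(Int.negSucc 0),2⟩] .nil .nil)) (.node 77 [⟨54,(Int.negSucc 0),1⟩] (.node 76 [⟨46,(Int.ofNat 1),1⟩] .nil .nil) .nil))))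
def col4 : Tr Cl := (.node 56 [⟨18,(Int.ofNat 1),1⟩] (.node 28 [⟨6,(Int.negSucc 0),1⟩] (.node 3 [⟨10,(Int.ofNat 0),1⟩] (.node 1 [⟨10,(Int.ofNat 0),1⟩] (.node 0 [⟨10,(Int.ofNat 0),1⟩] .nil .nil) (.node 2 [⟨10,(Int.ofNat 1),1⟩] .nil .nil)) (.node 5 [⟨10,(Int.negSucc 0),1⟩] (.node 4 [⟨10,(Int.ofNat 0),1⟩] .nil .nil) .nil)) (.node 48 [⟨13,(Int.ofNat 1),1⟩] (.node 39 [⟨8,(Int.negSucc 0),1⟩] (.node 36 [⟨7,(Int.ofNat 1),1⟩] .nil .nil) (.node 41 [⟨9,(Int.ofNat 1),1⟩] .nil .nil)) (.node 50 [⟨16,(Int.ofNat 1),1⟩] (.node 49 [⟨15,(Int.negSucc 0),1⟩] .nil .nil) .nil))) (.node 68 [⟨34,(Int.ofNat 1),1⟩] (.node 64 [⟨26,(Int.ofNat 1),1⟩] (.node 59 [⟨20,(Int.ofNat 1),1⟩] (.node 57 [⟨19,(Int.negSucc 0),1⟩] .nil .nil) (.node 63 [⟨24,(Int.negSucc 0),1⟩] .nil .nil)) (.node 67 [⟨33,(Int.negSucc 0),1⟩]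 (.node 65 [⟨27,(Int.negSucc 0),1⟩] .nil .nil) .nil)) (.node 75 [⟨44,(Int.ofNat 1),1⟩] (.node 73 [⟨0,(Int.negSucc 0),1⟩, ⟨1,(Int.negSucc 0),1⟩, ⟨2,(Int.negSucc 1),1⟩, ⟨3,(Int.negSucc 1),1⟩, ⟨4,(Int.negSucc 0),1⟩, ⟨5,(Int.ofNat 0),1⟩, ⟨10,(Int.negSucc 0),2⟩] (.node 70 [⟨35,(Int.negSucc 0),1⟩] .nil .nil) (.node 74 [⟨42,(Int.negSucc 0),1⟩] .nil .nil)) (.node 77 [⟨55,(Int.ofNat 1),1⟩] (.node 76 [⟨47,(Int.negSucc 0),1⟩] .nil .nil) .nil))))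
def col5 : Tr Cl := (.node 54 [⟨17,(Int.ofNat 1),1⟩] (.node 27 [⟨6,(Int.ofNat 1),1⟩] (.node 3 [⟨11,(Int.ofNat 0),1⟩] (.node 1 [⟨11,(Int.ofNat 0),1⟩] (.node 0 [⟨11,(Int.ofNat 1),1⟩] .nil .nil) (.node 2 [⟨11,(Int.negSucc 0),1⟩] .nil .nil)) (.node 5 [⟨11,(Int.ofNat 0),1⟩] (.node 4 [⟨11,(Int.ofNat 1),1⟩] .nil .nil) .nil)) (.node 44 [⟨13,(Int.negSucc 0),1⟩] (.node 35 [⟨8,(Int.ofNat 1),1⟩] (.node 34 [⟨7,(Int.ofNat 1),1⟩] .nil .nil) (.node 43 [⟨12,(Int.ofNat 1),1⟩] .nil .nil)) (.node 47 [⟨15,(Int.negSucc 0),1⟩] (.node 46 [⟨14,(Int.ofNat 1),1⟩] .nil .nil) .nil))) (.node 69 [⟨37,(Int.negSucc 0),1⟩] (.node 65 [⟨28,(Int.ofNat 1),1⟩] (.node 61 [⟨21,(Int.ofNat 1),1⟩] (.node 55 [⟨18,(Int.negSucc 0),1⟩] .nil .nil) (.node 62 [⟨22,(Int.negSucc 0),1⟩] .nil .nil)) (.node 68 [⟨36,(Int.ofNat 1),1⟩]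 (.node 66 [⟨29,(Int.negSucc 0),1⟩] .nil .nil) .nil)) (.node 75 [⟨48,(Int.negSucc 0),1⟩] (.node 71 [⟨40,(Int.negSucc 0),1⟩] (.node 70 [⟨39,(Int.ofNat 1),1⟩] .nil .nil) (.node 72 [⟨0,(Int.negSucc 0),1⟩, ⟨1,(Int.negSucc 0),1⟩, ⟨2,(Int.negSucc 0),1⟩, ⟨3,(Int.negSucc 1),1⟩, ⟨4,(Int.negSucc 1),1⟩, ⟨5,(Int.negSucc 0),1⟩, ⟨11,(Int.negSucc 0),2⟩] .nil .nil)) (.node 77 [⟨56,(Int.negSucc 0),1⟩] (.node 76 [⟨49,(Int.negSucc 0),1⟩] .nil .nil) .nil))))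
def col6 : Tr Cl := (.node 53 [⟨17,(Int.ofNat 1),1⟩] (.node 26 [⟨6,(Int.negSucc 0),1⟩] (.node 3 [⟨12,(Int.ofNat 1),1⟩] (.node 1 [⟨12,(Int.ofNat 0),1⟩] (.node 0 [⟨12,(Int.ofNat 1),1⟩] .nil .nil) (.node 2 [⟨12,(Int.negSucc 0),1⟩] .nil .nil)) (.node 5 [⟨12,(Int.ofNat 1),1⟩] (.node 4 [⟨12,(Int.negSucc 0),1⟩] .nil .nil) .nil)) (.node 42 [⟨13,(Int.ofNat 1),1⟩] (.node 35 [⟨9,(Int.ofNat 1),1⟩] (.node 33 [⟨7,(Int.negSucc 0),1⟩] .nil .nil) (.node 40 [⟨11,(Int.ofNat 1),1⟩] .nil .nil)) (.node 47 [⟨16,(Int.negSucc 0),1⟩] (.node 45 [⟨14,(Int.ofNat 1),1⟩] .nil .nil) .nil))) (.node 69 [⟨38,(Int.negSucc 0),1⟩] (.node 64 [⟨28,(Int.ofNat 1),1⟩] (.node 60 [⟨21,(Int.ofNat 1),1⟩] (.node 55 [⟨19,(Int.negSucc 0),1⟩] .nil .nil) (.node 62 [⟨23,(Int.negSucc 0),1⟩] .nil .nil)) (.node 67 [⟨36,(Int.ofNat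 1),1⟩] (.node 66 [⟨30,(Int.negSucc 0),1⟩] .nil .nil) .nil)) (.node 74 [⟨48,(Int.negSucc 0),1⟩] (.node 71 [⟨0,(Int.negSucc 0),1⟩, ⟨1,(Int.negSucc 0),1⟩, ⟨2,(Int.negSucc 0),1⟩, ⟨3,(Int.negSucc 1),1⟩, ⟨4,(Int.negSucc 0),1⟩, ⟨5,(Int.negSucc 0),1⟩, ⟨12,(Int.negSucc 0),2⟩] (.node 70 [⟨41,(Int.negSucc 0),1⟩] .nil .nil) (.node 72 [⟨43,(Int.negSucc 0),1⟩] .nil .nil)) (.node 77 [⟨57,(Int.ofNat 1),1⟩] (.node 76 [⟨50,(Int.ofNat 1),1⟩] .nil .nil) .nil))))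
def col7 : Tr Cl := (.node 53 [⟨18,(Int.ofNat 1),1⟩] (.node 25 [⟨6,(Int.ofNat 1),1⟩] (.node 3 [⟨13,(Int.ofNat 1),1⟩] (.node 1 [⟨13,(Int.ofNat 0),1⟩] (.node 0 [⟨13,(Int.ofNat 1),1⟩] .nil .nil) (.node 2 [⟨13,(Int.negSucc 0),1⟩] .nil .nil)) (.node 5 [⟨13,(Int.negSucc 0),1⟩] (.node 4 [⟨13,(Int.ofNat 0),1⟩] .nil .nil) .nil)) (.node 41 [⟨12,(Int.ofNat 1),1⟩] (.node 35 [⟨10,(Int.ofNat 1),1⟩] (.node 32 [⟨7,(Int.ofNat 1),1⟩] .nil .nil) (.node 39 [⟨11,(Int.negSucc 0),1⟩] .nil .nil)) (.node 46 [⟨16,(Int.negSucc 0),1⟩] (.node 45 [⟨15,(Int.ofNat 1),1⟩] .nil .nil) .nil))) (.node 68 [⟨38,(Int.negSucc 0),1⟩] (.node 64 [⟨29,(Int.ofNat 1),1⟩] (.node 59 [⟨21,(Int.ofNat 1),1⟩] (.node 54 [⟨19,(Int.negSucc 0),1⟩] .nil .nil) (.node 62 [⟨24,(Int.negSucc 0),1⟩] .nil .nil)) (.node 67 [⟨37,(Int.ofNat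 1),1⟩] (.node 65 [⟨30,(Int.negSucc 0),1⟩] .nil .nil) .nil)) (.node 73 [⟨48,(Int.negSucc 0),1⟩] (.node 71 [⟨42,(Int.negSucc 0),1⟩] (.node 70 [⟨0,(Int.negSucc 0),1⟩, ⟨1,(Int.negSucc 0),1⟩, ⟨2,(Int.negSucc 0),1⟩, ⟨3,(Int.negSucc 1),1⟩, ⟨4,(Int.negSucc 0),1⟩, ⟨5,(Int.ofNat 0),1⟩, ⟨13,(Int.negSucc 0),2⟩] .nil .nil) (.node 72 [⟨44,(Int.ofNat 1),1⟩] .nil .nil)) (.node 77 [⟨58,(Int.negSucc 0),1⟩] (.node 76 [⟨51,(Int.negSucc 0),1⟩] .nil .nil) .nil))))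
def col8 : Tr Cl := (.node 52 [⟨17,(Int.ofNat 1),1⟩] (.node 24 [⟨6,(Int.ofNat 1),1⟩] (.node 3 [⟨14,(Int.negSucc 0),1⟩] (.node 1 [⟨14,(Int.ofNat 1),1⟩] (.node 0 [⟨14,(Int.ofNat 1),1⟩] .nil .nil) (.node 2 [⟨14,(Int.ofNat 0),1⟩] .nil .nil)) (.node 5 [⟨14,(Int.ofNat 1),1⟩] (.node 4 [⟨14,(Int.ofNat 0),1⟩] .nil .nil) .nil)) (.node 38 [⟨12,(Int.ofNat 1),1⟩] (.node 34 [⟨9,(Int.negSucc 0),1⟩] (.node 33 [⟨8,(Int.negSucc 0),1⟩] .nil .nil) (.node 37 [⟨11,(Int.ofNat 1),1⟩] .nil .nil)) (.node 44 [⟨16,(Int.ofNat 1),1⟩] (.node 42 [⟨15,(Int.ofNat 1),1⟩] .nil .nil) .nil))) (.node 68 [⟨41,(Int.negSucc 0),1⟩] (.node 63 [⟨28,(Int.ofNat 1),1⟩] (.node 58 [⟨21,(Int.ofNat 1),1⟩] (.node 55 [⟨20,(Int.negSucc 0),1⟩] .nil .nil) (.node 62 [⟨25,(Int.negSucc 0),1⟩] .nil .nil)) (.node 67 [⟨39,(Int.negSucc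 0),1⟩] (.node 66 [⟨31,(Int.negSucc 0),1⟩] .nil .nil) .nil)) (.node 74 [⟨49,(Int.ofNat 1),1⟩] (.node 71 [⟨45,(Int.negSucc 0),1⟩] (.node 69 [⟨0,(Int.negSucc 0),1⟩, ⟨1,(Int.negSucc 0),1⟩, ⟨2,(Int.negSucc 0),1⟩, ⟨3,(Int.negSucc 0),1⟩, ⟨4,(Int.negSucc 0),1⟩, ⟨5,(Int.negSucc 0),1⟩, ⟨14,(Int.negSucc 0),2⟩] .nil .nil) (.node 72 [⟨46,(Int.negSucc 0),1⟩] .nil .nil)) (.node 77 [⟨59,(Int.negSucc 0),1⟩] (.node 75 [⟨50,(Int.ofNat 1),1⟩] .nil .nil) .nil))))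
def col9 : Tr Cl := (.node 52 [⟨18,(Int.ofNat 1),1⟩] (.node 23 [⟨6,(Int.negSucc 0),1⟩] (.node 3 [⟨15,(Int.negSucc 0),1⟩] (.node 1 [⟨15,(Int.ofNat 1),1⟩] (.node 0 [⟨15,(Int.ofNat 1),1⟩] .nil .nil) (.node 2 [⟨15,(Int.ofNat 0),1⟩] .nil .nil)) (.node 5 [⟨15,(Int.negSucc 0),1⟩] (.node 4 [⟨15,(Int.ofNat 1),1⟩] .nil .nil) .nil)) (.node 38 [⟨13,(Int.ofNat 1),1⟩] (.node 34 [⟨10,(Int.negSucc 0),1⟩] (.node 32 [⟨8,(Int.ofNat 1),1⟩] .nil .nil) (.node 36 [⟨11,(Int.negSucc 0),1⟩] .nil .nil)) (.node 43 [⟨16,(Int.ofNat 1),1⟩] (.node 41 [⟨14,(Int.ofNat 1),1⟩] .nil .nil) .nil))) (.node 68 [⟨0,(Int.negSucc 0),1⟩, ⟨1,(Int.negSucc 0),1⟩, ⟨2,(Int.negSucc 0),1⟩, ⟨3,(Int.negSucc 0),1⟩, ⟨4,(Int.negSucc 0),1⟩, ⟨5,(Int.ofNat 0),1⟩, ⟨15,(Int.negSucc 0),2⟩] (.node 63 [⟨29,(Int.ofNat 1),1⟩] (.node 57 [⟨21,(Int.ofNat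 1),1⟩] (.node 54 [⟨20,(Int.negSucc 0),1⟩] .nil .nil) (.node 62 [⟨26,(Int.negSucc 0),1⟩] .nil .nil)) (.node 67 [⟨40,(Int.negSucc 0),1⟩] (.node 65 [⟨31,(Int.negSucc 0),1⟩] .nil .nil) .nil)) (.node 73 [⟨49,(Int.ofNat 1),1⟩] (.node 70 [⟨45,(Int.negSucc 0),1⟩] (.node 69 [⟨42,(Int.negSucc 0),1⟩] .nil .nil) (.node 72 [⟨47,(Int.ofNat 1),1⟩] .nil .nil)) (.node 77 [⟨60,(Int.ofNat 1),1⟩] (.node 75 [⟨51,(Int.negSucc 0),1⟩] .nil .nil) .nil))))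
def col10 : Tr Cl := (.node 52 [⟨19,(Int.ofNat 1),1⟩] (.node 22 [⟨6,(Int.ofNat 1),1⟩] (.node 3 [⟨16,(Int.ofNat 0),1⟩] (.node 1 [⟨16,(Int.ofNat 1),1⟩] (.node 0 [⟨16,(Int.ofNat 1),1⟩] .nil .nil) (.node 2 [⟨16,(Int.ofNat 0),1⟩] .nil .nil)) (.node 5 [⟨16,(Int.ofNat 0),1⟩] (.node 4 [⟨16,(Int.negSucc 0),1⟩] .nil .nil) .nil)) (.node 37 [⟨13,(Int.negSucc 0),1⟩] (.node 33 [⟨10,(Int.ofNat 1),1⟩] (.node 32 [⟨9,(Int.ofNat 1),1⟩] .nil .nil) (.node 36 [⟨12,(Int.negSucc 0),1⟩] .nil .nil)) (.node 40 [⟨15,(Int.ofNat 1),1⟩] (.node 39 [⟨14,(Int.ofNat 1),1⟩] .nil .nil) .nil))) (.node 68 [⟨43,(Int.negSucc 0),1⟩] (.node 63 [⟨30,(Int.ofNat 1),1⟩] (.node 56 [⟨21,(Int.ofNat 1),1⟩] (.node 53 [⟨20,(Int.negSucc 0),1⟩] .nil .nil) (.node 62 [⟨27,(Int.negSucc 0),1⟩] .nil .nil)) (.node 67 [⟨0,(Int.negSucc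 0),1⟩, ⟨1,(Int.negSucc 0),1⟩, ⟨2,(Int.negSucc 0),1⟩, ⟨3,(Int.negSucc 0),1⟩, ⟨4,(Int.ofNat 0),1⟩, ⟨5,(Int.ofNat 0),1⟩, ⟨16,(Int.negSucc 0),2⟩] (.node 64 [⟨31,(Int.negSucc 0),1⟩] .nil .nil) .nil)) (.node 73 [⟨50,(Int.negSucc 0),1⟩] (.node 70 [⟨46,(Int.ofNat 1),1⟩] (.node 69 [⟨44,(Int.negSucc 0),1⟩] .nil .nil) (.node 71 [⟨47,(Int.ofNat 1),1⟩] .nil .nil)) (.node 77 [⟨61,(Int.negSucc 0),1⟩] (.node 74 [⟨51,(Int.negSucc 0),1⟩] .nil .nil) .nil))))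
def col11 : Tr Cl := (.node 44 [⟨19,(Int.ofNat 1),1⟩] (.node 24 [⟨7,(Int.ofNat 1),1⟩] (.node 3 [⟨17,(Int.ofNat 0),1⟩] (.node 1 [⟨17,(Int.negSucc 0),1⟩] (.node 0 [⟨17,(Int.ofNat 1),1⟩] .nil .nil) (.node 2 [⟨17,(Int.ofNat 0),1⟩] .nil .nil)) (.node 5 [⟨17,(Int.ofNat 1),1⟩] (.node 4 [⟨17,(Int.ofNat 0),1⟩] .nil .nil) .nil)) (.node 30 [⟨12,(Int.ofNat 1),1⟩] (.node 27 [⟨9,(Int.ofNat 1),1⟩] (.node 26 [⟨8,(Int.ofNat 1),1⟩] .nil .nil) (.node 29 [⟨11,(Int.ofNat 1),1⟩] .nil .nil)) (.node 42 [⟨18,(Int.ofNat 1),1⟩] (.node 31 [⟨14,(Int.ofNat 1),1⟩] .nil .nil) .nil))) (.node 66 [⟨0,(Int.negSucc 0),1⟩, ⟨1,(Int.ofNat 0),1⟩, ⟨2,(Int.negSucc 0),1⟩, ⟨3,(Int.negSucc 0),1⟩, ⟨4,(Int.negSucc 0),1⟩, ⟨5,(Int.negSucc 0),1⟩, ⟨17,(Int.negSucc 0),2⟩] (.node 63 [⟨36,(Int.negSucc 0),1⟩] (.node 51 [⟨21,(Int.ofNat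 1),1⟩] (.node 47 [⟨20,(Int.ofNat 1),1⟩] .nil .nil) (.node 62 [⟨32,(Int.negSucc 0),1⟩] .nil .nil)) (.node 65 [⟨41,(Int.negSucc 0),1⟩] (.node 64 [⟨39,(Int.negSucc 0),1⟩] .nil .nil) .nil)) (.node 74 [⟨56,(Int.negSucc 0),1⟩] (.node 71 [⟨53,(Int.negSucc 0),1⟩] (.node 69 [⟨52,(Int.negSucc 0),1⟩] .nil .nil) (.node 72 [⟨54,(Int.negSucc 0),1⟩] .nil .nil)) (.node 76 [⟨59,(Int.negSucc 0),1⟩] (.node 75 [⟨57,(Int.negSucc 0),1⟩] .nil .nil) .nil))))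
def col12 : Tr Cl := (.node 43 [⟨19,(Int.ofNat 1),1⟩] (.node 23 [⟨7,(Int.negSucc 0),1⟩] (.node 3 [⟨18,(Int.ofNat 0),1⟩] (.node 1 [⟨18,(Int.negSucc 0),1⟩] (.node 0 [⟨18,(Int.ofNat 1),1⟩] .nil .nil) (.node 2 [⟨18,(Int.ofNat 0),1⟩] .nil .nil)) (.node 5 [⟨18,(Int.negSucc 0),1⟩] (.node 4 [⟨18,(Int.ofNat 1),1⟩] .nil .nil) .nil)) (.node 30 [⟨13,(Int.ofNat 1),1⟩] (.node 27 [⟨10,(Int.ofNat 1),1⟩] (.node 25 [⟨8,(Int.negSucc 0),1⟩] .nil .nil) (.node 28 [⟨11,(Int.negSucc 0),1⟩] .nil .nil)) (.node 41 [⟨17,(Int.ofNat 1),1⟩] (.node 31 [⟨15,(Int.ofNat 1),1⟩] .nil .nil) .nil))) (.node 66 [⟨42,(Int.negSucc 0),1⟩] (.node 63 [⟨37,(Int.negSucc 0),1⟩] (.node 50 [⟨21,(Int.ofNat 1),1⟩] (.node 46 [⟨20,(Int.ofNat 1),1⟩] .nil .nil) (.node 62 [⟨33,(Int.negSucc 0),1⟩] .nil .nil)) (.node 65 [⟨0,(Int.negSucc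 0),1⟩, ⟨1,(Int.ofNat 0),1⟩, ⟨2,(Int.negSucc 0),1⟩, ⟨3,(Int.negSucc 0),1⟩, ⟨4,(Int.negSucc 0),1⟩, ⟨5,(Int.ofNat 0),1⟩, ⟨18,(Int.negSucc 0),2⟩] (.node 64 [⟨40,(Int.negSucc 0),1⟩] .nil .nil) .nil)) (.node 73 [⟨56,(Int.negSucc 0),1⟩] (.node 70 [⟨53,(Int.negSucc 0),1⟩] (.node 68 [⟨52,(Int.negSucc 0),1⟩] .nil .nil) (.node 72 [⟨55,(Int.ofNat 1),1⟩] .nil .nil)) (.node 76 [⟨60,(Int.ofNat 1),1⟩] (.node 75 [⟨58,(Int.ofNat 1),1⟩] .nil .nil) .nil))))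
def col13 : Tr Cl := (.node 40 [⟨18,(Int.ofNat 1),1⟩] (.node 22 [⟨7,(Int.ofNat 1),1⟩] (.node 3 [⟨19,(Int.ofNat 1),1⟩] (.node 1 [⟨19,(Int.negSucc 0),1⟩] (.node 0 [⟨19,(Int.ofNat 1),1⟩] .nil .nil) (.node 2 [⟨19,(Int.ofNat 0),1⟩] .nil .nil)) (.node 5 [⟨19,(Int.ofNat 0),1⟩] (.node 4 [⟨19,(Int.negSucc 0),1⟩] .nil .nil) .nil)) (.node 29 [⟨13,(Int.negSucc 0),1⟩] (.node 26 [⟨10,(Int.negSucc 0),1⟩] (.node 25 [⟨9,(Int.negSucc 0),1⟩] .nil .nil) (.node 28 [⟨12,(Int.negSucc 0),1⟩] .nil .nil)) (.node 39 [⟨17,(Int.ofNat 1),1⟩] (.node 31 [⟨16,(Int.ofNat 1),1⟩] .nil .nil) .nil))) (.node 66 [⟨44,(Int.negSucc 0),1⟩] (.node 63 [⟨38,(Int.negSucc 0),1⟩] (.node 49 [⟨21,(Int.ofNat 1),1⟩] (.node 45 [⟨20,(Int.ofNat 1),1⟩] .nil .nil) (.node 62 [⟨34,(Int.negSucc 0),1⟩] .nil .nil)) (.node 65 [⟨43,(Int.negSucc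 0),1⟩] (.node 64 [⟨0,(Int.negSucc 0),1⟩, ⟨1,(Int.ofNat 0),1⟩, ⟨2,(Int.negSucc 0),1⟩, ⟨3,(Int.negSucc 0),1⟩, ⟨4,(Int.ofNat 0),1⟩, ⟨5,(Int.ofNat 0),1⟩, ⟨19,(Int.negSucc 0),2⟩] .nil .nil) .nil)) (.node 73 [⟨57,(Int.ofNat 1),1⟩] (.node 70 [⟨54,(Int.ofNat 1),1⟩] (.node 67 [⟨52,(Int.negSucc 0),1⟩] .nil .nil) (.node 71 [⟨55,(Int.ofNat 1),1⟩] .nil .nil)) (.node 76 [⟨61,(Int.negSucc 0),1⟩] (.node 74 [⟨58,(Int.ofNat 1),1⟩] .nil .nil) .nil))))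
def col14 : Tr Cl := (.node 37 [⟨18,(Int.ofNat 1),1⟩] (.node 22 [⟨8,(Int.ofNat 1),1⟩] (.node 3 [⟨20,(Int.negSucc 0),1⟩] (.node 1 [⟨20,(Int.ofNat 0),1⟩] (.node 0 [⟨20,(Int.ofNat 1),1⟩] .nil .nil) (.node 2 [⟨20,(Int.ofNat 1),1⟩] .nil .nil)) (.node 5 [⟨20,(Int.ofNat 0),1⟩] (.node 4 [⟨20,(Int.ofNat 0),1⟩] .nil .nil) .nil)) (.node 29 [⟨15,(Int.negSucc 0),1⟩] (.node 24 [⟨10,(Int.ofNat 1),1⟩] (.node 23 [⟨9,(Int.ofNat 1),1⟩] .nil .nil) (.node 28 [⟨14,(Int.negSucc 0),1⟩] .nil .nil)) (.node 36 [⟨17,(Int.ofNat 1),1⟩] (.node 30 [⟨16,(Int.negSucc 0),1⟩] .nil .nil) .nil))) (.node 66 [⟨47,(Int.negSucc 0),1⟩] (.node 63 [⟨0,(Int.negSucc 0),1⟩, ⟨1,(Int.ofNat 0),1⟩, ⟨2,(Int.negSucc 0),1⟩, ⟨3,(Int.ofNat 0),1⟩, ⟨4,(Int.ofNat 0),1⟩, ⟨5,(Int.ofNat 0),1⟩, ⟨20,(Int.negSucc 0),2⟩] (.node 48 [⟨21,(Int.ofNat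 1),1⟩] (.node 38 [⟨19,(Int.ofNat 1),1⟩] .nil .nil) (.node 62 [⟨35,(Int.negSucc 0),1⟩] .nil .nil)) (.node 65 [⟨46,(Int.negSucc 0),1⟩] (.node 64 [⟨45,(Int.negSucc 0),1⟩] .nil .nil) .nil)) (.node 73 [⟨59,(Int.negSucc 0),1⟩] (.node 68 [⟨54,(Int.ofNat 1),1⟩] (.node 67 [⟨53,(Int.ofNat 1),1⟩] .nil .nil) (.node 69 [⟨55,(Int.ofNat 1),1⟩] .nil .nil)) (.node 75 [⟨61,(Int.negSucc 0),1⟩] (.node 74 [⟨60,(Int.negSucc 0),1⟩] .nil .nil) .nil))))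
def col15 : Tr Cl := (.node 33 [⟨18,(Int.ofNat 1),1⟩] (.node 22 [⟨11,(Int.ofNat 1),1⟩] (.node 3 [⟨21,(Int.ofNat 0),1⟩] (.node 1 [⟨21,(Int.ofNat 0),1⟩] (.node 0 [⟨21,(Int.ofNat 2),1⟩] .nil .nil) (.node 2 [⟨21,(Int.negSucc 0),1⟩] .nil .nil)) (.node 5 [⟨21,(Int.ofNat 0),1⟩] (.node 4 [⟨21,(Int.ofNat 0),1⟩] .nil .nil) .nil)) (.node 26 [⟨15,(Int.ofNat 1),1⟩] (.node 24 [⟨13,(Int.ofNat 1),1⟩] (.node 23 [⟨12,(Int.ofNat 1),1⟩] .nil .nil) (.node 25 [⟨14,(Int.ofNat 1),1⟩] .nil .nil)) (.node 32 [⟨17,(Int.ofNat 1),1⟩] (.node 27 [⟨16,(Int.ofNat 1),1⟩] .nil .nil) .nil))) (.node 66 [⟨51,(Int.negSucc 0),1⟩] (.node 63 [⟨48,(Int.negSucc 0),1⟩] (.node 35 [⟨20,(Int.ofNat 1),1⟩] (.node 34 [⟨19,(Int.ofNat 1),1⟩] .nil .nil) (.node 62 [⟨0,(Int.negSucc 0),1⟩, ⟨1,(Int.ofNat 0),1⟩, ⟨2,(Int.ofNat 0),1⟩,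 ⟨3,(Int.ofNat 0),1⟩, ⟨4,(Int.ofNat 0),1⟩, ⟨5,(Int.ofNat 0),1⟩, ⟨21,(Int.negSucc 0),2⟩] .nil .nil)) (.node 65 [⟨50,(Int.negSucc 0),1⟩] (.node 64 [⟨49,(Int.negSucc 0),1⟩] .nil .nil) .nil)) (.node 70 [⟨59,(Int.negSucc 0),1⟩] (.node 68 [⟨57,(Int.negSucc 0),1⟩] (.node 67 [⟨56,(Int.negSucc 0),1⟩] .nil .nil) (.node 69 [⟨58,(Int.negSucc 0),1⟩] .nil .nil)) (.node 72 [⟨61,(Int.negSucc 0),1⟩] (.node 71 [⟨60,(Int.negSucc 0),1⟩] .nil .nil) .nil))))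
def col16 : Tr Cl := (.node 47 [⟨26,(Int.negSucc 0),1⟩] (.node 16 [⟨6,(Int.negSucc 0),1⟩] (.node 3 [⟨22,(Int.ofNat 0),1⟩] (.node 1 [⟨22,(Int.ofNat 0),1⟩] (.node 0 [⟨22,(Int.negSucc 0),1⟩] .nil .nil) (.node 2 [⟨22,(Int.ofNat 0),1⟩] .nil .nil)) (.node 5 [⟨22,(Int.ofNat 0),1⟩] (.node 4 [⟨22,(Int.ofNat 1),1⟩] .nil .nil) .nil)) (.node 43 [⟨23,(Int.ofNat 1),1⟩] (.node 20 [⟨8,(Int.negSucc 0),1⟩] (.node 19 [⟨7,(Int.negSucc 0),1⟩] .nil .nil) (.node 21 [⟨11,(Int.negSucc 0),1⟩] .nil .nil)) (.node 46 [⟨25,(Int.ofNat 1),1⟩] (.node 44 [⟨24,(Int.negSucc 0),1⟩] .nil .nil) .nil))) (.node 59 [⟨39,(Int.ofNat 1),1⟩] (.node 55 [⟨33,(Int.negSucc 0),1⟩] (.node 51 [⟨29,(Int.negSucc 0),1⟩] (.node 50 [⟨28,(Int.ofNat 1),1⟩] .nil .nil) (.node 54 [⟨32,(Int.ofNat 1),1⟩] .nil .nil)) (.node 58 [⟨37,(Int.negSucc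 0),1⟩] (.node 57 [⟨36,(Int.ofNat 1),1⟩] .nil .nil) .nil)) (.node 75 [⟨63,(Int.ofNat 1),1⟩] (.node 61 [⟨0,(Int.ofNat 0),1⟩, ⟨1,(Int.negSucc 0),1⟩, ⟨2,(Int.negSucc 0),1⟩, ⟨3,(Int.negSucc 1),1⟩, ⟨4,(Int.negSucc 1),1⟩, ⟨5,(Int.negSucc 0),1⟩, ⟨22,(Int.negSucc 0),2⟩] (.node 60 [⟨40,(Int.negSucc 0),1⟩] .nil .nil) (.node 72 [⟨62,(Int.ofNat 1),1⟩] .nil .nil)) (.node 77 [⟨67,(Int.ofNat 1),1⟩] (.node 76 [⟨64,(Int.ofNat 1),1⟩] .nil .nil) .nil))))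
def col17 : Tr Cl := (.node 47 [⟨27,(Int.negSucc 0),1⟩] (.node 15 [⟨6,(Int.ofNat 1),1⟩] (.node 3 [⟨23,(Int.ofNat 1),1⟩] (.node 1 [⟨23,(Int.ofNat 0),1⟩] (.node 0 [⟨23,(Int.negSucc 0),1⟩] .nil .nil) (.node 2 [⟨23,(Int.ofNat 0),1⟩] .nil .nil)) (.node 5 [⟨23,(Int.ofNat 1),1⟩] (.node 4 [⟨23,(Int.negSucc 0),1⟩] .nil .nil) .nil)) (.node 40 [⟨22,(Int.ofNat 1),1⟩] (.node 20 [⟨9,(Int.negSucc 0),1⟩] (.node 18 [⟨7,(Int.ofNat 1),1⟩] .nil .nil) (.node 21 [⟨12,(Int.negSucc 0),1⟩] .nil .nil)) (.node 45 [⟨25,(Int.ofNat 1),1⟩] (.node 42 [⟨24,(Int.ofNat 1),1⟩] .nil .nil) .nil))) (.node 59 [⟨41,(Int.negSucc 0),1⟩] (.node 55 [⟨34,(Int.negSucc 0),1⟩] (.node 51 [⟨30,(Int.negSucc 0),1⟩] (.node 49 [⟨28,(Int.ofNat 1),1⟩] .nil .nil) (.node 53 [⟨32,(Int.ofNat 1),1⟩] .nil .nil)) (.node 58 [⟨38,(Int.negSucc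 0),1⟩] (.node 56 [⟨36,(Int.ofNat 1),1⟩] .nil .nil) .nil)) (.node 74 [⟨63,(Int.ofNat 1),1⟩] (.node 61 [⟨43,(Int.negSucc 0),1⟩] (.node 60 [⟨0,(Int.ofNat 0),1⟩, ⟨1,(Int.negSucc 0),1⟩, ⟨2,(Int.negSucc 0),1⟩, ⟨3,(Int.negSucc 1),1⟩, ⟨4,(Int.negSucc 0),1⟩, ⟨5,(Int.negSucc 0),1⟩, ⟨23,(Int.negSucc 0),2⟩] .nil .nil) (.node 71 [⟨62,(Int.ofNat 1),1⟩] .nil .nil)) (.node 77 [⟨68,(Int.negSucc 0),1⟩] (.node 76 [⟨65,(Int.negSucc 0),1⟩] .nil .nil) .nil))))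
def col18 : Tr Cl := (.node 46 [⟨27,(Int.negSucc 0),1⟩] (.node 14 [⟨6,(Int.negSucc 0),1⟩] (.node 3 [⟨24,(Int.ofNat 1),1⟩] (.node 1 [⟨24,(Int.ofNat 0),1⟩] (.node 0 [⟨24,(Int.negSucc 0),1⟩] .nil .nil) (.node 2 [⟨24,(Int.ofNat 0),1⟩] .nil .nil)) (.node 5 [⟨24,(Int.negSucc 0),1⟩] (.node 4 [⟨24,(Int.ofNat 0),1⟩] .nil .nil) .nil)) (.node 39 [⟨22,(Int.negSucc 0),1⟩] (.node 20 [⟨10,(Int.negSucc 0),1⟩] (.node 17 [⟨7,(Int.negSucc 0),1⟩] .nil .nil) (.node 21 [⟨13,(Int.negSucc 0),1⟩] .nil .nil)) (.node 45 [⟨26,(Int.ofNat 1),1⟩] (.node 41 [⟨23,(Int.ofNat 1),1⟩] .nil .nil) .nil))) (.node 59 [⟨0,(Int.ofNat 0),1⟩, ⟨1,(Int.negSucc 0),1⟩, ⟨2,(Int.negSucc 0),1⟩, ⟨3,(Int.negSucc 1),1⟩, ⟨4,(Int.negSucc 0),1⟩, ⟨5,(Int.ofNat 0),1⟩, ⟨24,(Int.negSucc 0),2⟩] (.node 54 [⟨34,(Int.negSucc 0),1⟩] (.node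 50 [⟨30,(Int.negSucc 0),1⟩] (.node 49 [⟨29,(Int.ofNat 1),1⟩] .nil .nil) (.node 53 [⟨33,(Int.ofNat 1),1⟩] .nil .nil)) (.node 57 [⟨38,(Int.negSucc 0),1⟩] (.node 56 [⟨37,(Int.ofNat 1),1⟩] .nil .nil) .nil)) (.node 73 [⟨63,(Int.ofNat 1),1⟩] (.node 61 [⟨44,(Int.ofNat 1),1⟩] (.node 60 [⟨42,(Int.negSucc 0),1⟩] .nil .nil) (.node 70 [⟨62,(Int.ofNat 1),1⟩] .nil .nil)) (.node 77 [⟨69,(Int.ofNat 1),1⟩] (.node 76 [⟨66,(Int.ofNat 1),1⟩] .nil .nil) .nil))))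
def col19 : Tr Cl := (.node 44 [⟨27,(Int.ofNat 1),1⟩] (.node 13 [⟨6,(Int.negSucc 0),1⟩] (.node 3 [⟨25,(Int.negSucc 0),1⟩] (.node 1 [⟨25,(Int.ofNat 1),1⟩] (.node 0 [⟨25,(Int.negSucc 0),1⟩] .nil .nil) (.node 2 [⟨25,(Int.ofNat 1),1⟩] .nil .nil)) (.node 5 [⟨25,(Int.ofNat 1),1⟩] (.node 4 [⟨25,(Int.ofNat 0),1⟩] .nil .nil) .nil)) (.node 37 [⟨22,(Int.ofNat 1),1⟩] (.node 19 [⟨9,(Int.ofNat 1),1⟩] (.node 18 [⟨8,(Int.ofNat 1),1⟩] .nil .nil) (.node 21 [⟨14,(Int.negSucc 0),1⟩] .nil .nil)) (.node 42 [⟨26,(Int.ofNat 1),1⟩] (.node 38 [⟨23,(Int.ofNat 1),1⟩] .nil .nil) .nil))) (.node 58 [⟨0,(Int.ofNat 0),1⟩, ⟨1,(Int.negSucc 0),1⟩, ⟨2,(Int.negSucc 0),1⟩, ⟨3,(Int.negSucc 0),1⟩, ⟨4,(Int.negSucc 0),1⟩, ⟨5,(Int.negSucc 0),1⟩, ⟨25,(Int.negSucc 0),2⟩] (.node 55 [⟨35,(Int.negSucc 0),1⟩] (.node 51 [⟨31,(Int.negSucc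 0),1⟩] (.node 48 [⟨28,(Int.ofNat 1),1⟩] .nil .nil) (.node 52 [⟨32,(Int.ofNat 1),1⟩] .nil .nil)) (.node 57 [⟨41,(Int.negSucc 0),1⟩] (.node 56 [⟨39,(Int.negSucc 0),1⟩] .nil .nil) .nil)) (.node 74 [⟨64,(Int.negSucc 0),1⟩] (.node 61 [⟨46,(Int.negSucc 0),1⟩] (.node 60 [⟨45,(Int.negSucc 0),1⟩] .nil .nil) (.node 69 [⟨62,(Int.ofNat 1),1⟩] .nil .nil)) (.node 77 [⟨70,(Int.ofNat 1),1⟩] (.node 75 [⟨65,(Int.negSucc 0),1⟩] .nil .nil) .nil))))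
def col20 : Tr Cl := (.node 43 [⟨27,(Int.ofNat 1),1⟩] (.node 12 [⟨6,(Int.ofNat 1),1⟩] (.node 3 [⟨26,(Int.negSucc 0),1⟩] (.node 1 [⟨26,(Int.ofNat 1),1⟩] (.node 0 [⟨26,(Int.negSucc 0),1⟩] .nil .nil) (.node 2 [⟨26,(Int.ofNat 1),1⟩] .nil .nil)) (.node 5 [⟨26,(Int.negSucc 0),1⟩] (.node 4 [⟨26,(Int.ofNat 1),1⟩] .nil .nil) .nil)) (.node 36 [⟨22,(Int.negSucc 0),1⟩] (.node 19 [⟨10,(Int.ofNat 1),1⟩] (.node 17 [⟨8,(Int.negSucc 0),1⟩] .nil .nil) (.node 21 [⟨15,(Int.negSucc 0),1⟩] .nil .nil)) (.node 41 [⟨25,(Int.ofNat 1),1⟩] (.node 38 [⟨24,(Int.ofNat 1),1⟩] .nil .nil) .nil))) (.node 58 [⟨42,(Int.negSucc 0),1⟩] (.node 54 [⟨35,(Int.negSucc 0),1⟩] (.node 50 [⟨31,(Int.negSucc 0),1⟩] (.node 48 [⟨29,(Int.ofNat 1),1⟩] .nil .nil) (.node 52 [⟨33,(Int.ofNat 1),1⟩] .nil .nil)) (.node 57 [⟨0,(Int.ofNat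 0),1⟩, ⟨1,(Int.negSucc 0),1⟩, ⟨2,(Int.negSucc 0),1⟩, ⟨3,(Int.negSucc 0),1⟩, ⟨4,(Int.negSucc 0),1⟩, ⟨5,(Int.ofNat 0),1⟩, ⟨26,(Int.negSucc 0),2⟩] (.node 56 [⟨40,(Int.negSucc 0),1⟩] .nil .nil) .nil)) (.node 73 [⟨64,(Int.negSucc 0),1⟩] (.node 61 [⟨47,(Int.ofNat 1),1⟩] (.node 59 [⟨45,(Int.negSucc 0),1⟩] .nil .nil) (.node 68 [⟨62,(Int.ofNat 1),1⟩] .nil .nil)) (.node 77 [⟨71,(Int.negSucc 0),1⟩] (.node 75 [⟨66,(Int.ofNat 1),1⟩] .nil .nil) .nil))))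
def col21 : Tr Cl := (.node 40 [⟨26,(Int.ofNat 1),1⟩] (.node 11 [⟨6,(Int.negSucc 0),1⟩] (.node 3 [⟨27,(Int.ofNat 0),1⟩] (.node 1 [⟨27,(Int.ofNat 1),1⟩] (.node 0 [⟨27,(Int.negSucc 0),1⟩] .nil .nil) (.node 2 [⟨27,(Int.ofNat 1),1⟩] .nil .nil)) (.node 5 [⟨27,(Int.ofNat 0),1⟩] (.node 4 [⟨27,(Int.negSucc 0),1⟩] .nil .nil) .nil)) (.node 36 [⟨23,(Int.negSucc 0),1⟩] (.node 18 [⟨10,(Int.negSucc 0),1⟩] (.node 17 [⟨9,(Int.negSucc 0),1⟩] .nil .nil) (.node 21 [⟨16,(Int.negSucc 0),1⟩] .nil .nil)) (.node 39 [⟨25,(Int.ofNat 1),1⟩] (.node 37 [⟨24,(Int.negSucc 0),1⟩] .nil .nil) .nil))) (.node 58 [⟨44,(Int.negSucc 0),1⟩] (.node 53 [⟨35,(Int.negSucc 0),1⟩] (.node 49 [⟨31,(Int.negSucc 0),1⟩] (.node 48 [⟨30,(Int.ofNat 1),1⟩] .nil .nil) (.node 52 [⟨34,(Int.ofNat 1),1⟩] .nil .nil)) (.node 57 [⟨43,(Int.negSucc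 0),1⟩] (.node 56 [⟨0,(Int.ofNat 0),1⟩, ⟨1,(Int.negSucc 0),1⟩, ⟨2,(Int.negSucc 0),1⟩, ⟨3,(Int.negSucc 0),1⟩, ⟨4,(Int.ofNat 0),1⟩, ⟨5,(Int.ofNat 0),1⟩, ⟨27,(Int.negSucc 0),2⟩] .nil .nil) .nil)) (.node 73 [⟨65,(Int.ofNat 1),1⟩] (.node 60 [⟨47,(Int.ofNat 1),1⟩] (.node 59 [⟨46,(Int.ofNat 1),1⟩] .nil .nil) (.node 67 [⟨62,(Int.ofNat 1),1⟩] .nil .nil)) (.node 77 [⟨72,(Int.ofNat 1),1⟩] (.node 74 [⟨66,(Int.ofNat 1),1⟩] .nil .nil) .nil))))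
def col22 : Tr Cl := (.node 42 [⟨29,(Int.ofNat 1),1⟩] (.node 10 [⟨6,(Int.ofNat 1),1⟩] (.node 3 [⟨28,(Int.ofNat 0),1⟩] (.node 1 [⟨28,(Int.ofNat 1),1⟩] (.node 0 [⟨28,(Int.ofNat 0),1⟩] .nil .nil) (.node 2 [⟨28,(Int.negSucc 0),1⟩] .nil .nil)) (.node 5 [⟨28,(Int.ofNat 1),1⟩] (.node 4 [⟨28,(Int.ofNat 0),1⟩] .nil .nil) .nil)) (.node 33 [⟨22,(Int.ofNat 1),1⟩] (.node 19 [⟨12,(Int.ofNat 1),1⟩] (.node 18 [⟨11,(Int.ofNat 1),1⟩] .nil .nil) (.node 20 [⟨14,(Int.ofNat 1),1⟩] .nil .nil)) (.node 35 [⟨25,(Int.ofNat 1),1⟩] (.node 34 [⟨23,(Int.ofNat 1),1⟩] .nil .nil) .nil))) (.node 58 [⟨48,(Int.negSucc 0),1⟩] (.node 53 [⟨39,(Int.negSucc 0),1⟩] (.node 47 [⟨31,(Int.ofNat 1),1⟩] (.node 44 [⟨30,(Int.ofNat 1),1⟩] .nil .nil) (.node 52 [⟨36,(Int.negSucc 0),1⟩] .nil .nil)) (.node 55 [⟨0,(Int.ofNat 0),1⟩,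 ⟨1,(Int.negSucc 0),1⟩, ⟨2,(Int.ofNat 0),1⟩, ⟨3,(Int.negSucc 0),1⟩, ⟨4,(Int.negSucc 0),1⟩, ⟨5,(Int.negSucc 0),1⟩, ⟨28,(Int.negSucc 0),2⟩] (.node 54 [⟨41,(Int.negSucc 0),1⟩] .nil .nil) .nil)) (.node 71 [⟨64,(Int.negSucc 0),1⟩] (.node 61 [⟨50,(Int.negSucc 0),1⟩] (.node 60 [⟨49,(Int.negSucc 0),1⟩] .nil .nil) (.node 69 [⟨63,(Int.negSucc 0),1⟩] .nil .nil)) (.node 77 [⟨73,(Int.negSucc 0),1⟩] (.node 72 [⟨65,(Int.negSucc 0),1⟩] .nil .nil) .nil))))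
def col23 : Tr Cl := (.node 41 [⟨28,(Int.ofNat 1),1⟩] (.node 9 [⟨6,(Int.negSucc 0),1⟩] (.node 3 [⟨29,(Int.ofNat 0),1⟩] (.node 1 [⟨29,(Int.ofNat 1),1⟩] (.node 0 [⟨29,(Int.ofNat 0),1⟩] .nil .nil) (.node 2 [⟨29,(Int.negSucc 0),1⟩] .nil .nil)) (.node 5 [⟨29,(Int.negSucc 0),1⟩] (.node 4 [⟨29,(Int.ofNat 1),1⟩] .nil .nil) .nil)) (.node 32 [⟨22,(Int.negSucc 0),1⟩] (.node 19 [⟨13,(Int.ofNat 1),1⟩] (.node 17 [⟨11,(Int.negSucc 0),1⟩] .nil .nil) (.node 20 [⟨15,(Int.ofNat 1),1⟩] .nil .nil)) (.node 35 [⟨26,(Int.ofNat 1),1⟩] (.node 34 [⟨24,(Int.ofNat 1),1⟩] .nil .nil) .nil))) (.node 57 [⟨48,(Int.negSucc 0),1⟩] (.node 53 [⟨40,(Int.negSucc 0),1⟩] (.node 46 [⟨31,(Int.ofNat 1),1⟩] (.node 43 [⟨30,(Int.ofNat 1),1⟩] .nil .nil) (.node 52 [⟨37,(Int.negSucc 0),1⟩] .nil .nil)) (.node 55 [⟨42,(Int.negSucc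 0),1⟩] (.node 54 [⟨0,(Int.ofNat 0),1⟩, ⟨1,(Int.negSucc 0),1⟩, ⟨2,(Int.ofNat 0),1⟩, ⟨3,(Int.negSucc 0),1⟩, ⟨4,(Int.negSucc 0),1⟩, ⟨5,(Int.ofNat 0),1⟩, ⟨29,(Int.negSucc 0),2⟩] .nil .nil) .nil)) (.node 70 [⟨64,(Int.negSucc 0),1⟩] (.node 61 [⟨51,(Int.ofNat 1),1⟩] (.node 59 [⟨49,(Int.negSucc 0),1⟩] .nil .nil) (.node 68 [⟨63,(Int.negSucc 0),1⟩] .nil .nil)) (.node 77 [⟨74,(Int.ofNat 1),1⟩] (.node 72 [⟨66,(Int.ofNat 1),1⟩] .nil .nil) .nil))))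
def col24 : Tr Cl := (.node 39 [⟨28,(Int.ofNat 1),1⟩] (.node 8 [⟨6,(Int.ofNat 1),1⟩] (.node 3 [⟨30,(Int.ofNat 1),1⟩] (.node 1 [⟨30,(Int.ofNat 1),1⟩] (.node 0 [⟨30,(Int.ofNat 0),1⟩] .nil .nil) (.node 2 [⟨30,(Int.negSucc 0),1⟩] .nil .nil)) (.node 5 [⟨30,(Int.ofNat 0),1⟩] (.node 4 [⟨30,(Int.negSucc 0),1⟩] .nil .nil) .nil)) (.node 32 [⟨23,(Int.negSucc 0),1⟩] (.node 18 [⟨13,(Int.negSucc 0),1⟩] (.node 17 [⟨12,(Int.negSucc 0),1⟩] .nil .nil) (.node 20 [⟨16,(Int.ofNat 1),1⟩] .nil .nil)) (.node 35 [⟨27,(Int.ofNat 1),1⟩] (.node 33 [⟨24,(Int.negSucc 0),1⟩] .nil .nil) .nil))) (.node 56 [⟨48,(Int.negSucc 0),1⟩] (.node 53 [⟨0,(Int.ofNat 0),1⟩, ⟨1,(Int.negSucc 0),1⟩, ⟨2,(Int.ofNat 0),1⟩, ⟨3,(Int.negSucc 0),1⟩, ⟨4,(Int.ofNat 0),1⟩, ⟨5,(Int.ofNat 0),1⟩, ⟨30,(Int.negSucc 0),2⟩] (.node 45 [⟨31,(Int.ofNat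 1),1⟩] (.node 40 [⟨29,(Int.ofNat 1),1⟩] .nil .nil) (.node 52 [⟨38,(Int.negSucc 0),1⟩] .nil .nil)) (.node 55 [⟨44,(Int.negSucc 0),1⟩] (.node 54 [⟨43,(Int.negSucc 0),1⟩] .nil .nil) .nil)) (.node 70 [⟨65,(Int.ofNat 1),1⟩] (.node 60 [⟨51,(Int.ofNat 1),1⟩] (.node 59 [⟨50,(Int.ofNat 1),1⟩] .nil .nil) (.node 67 [⟨63,(Int.negSucc 0),1⟩] .nil .nil)) (.node 77 [⟨75,(Int.negSucc 0),1⟩] (.node 71 [⟨66,(Int.ofNat 1),1⟩] .nil .nil) .nil))))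
def col25 : Tr Cl := (.node 36 [⟨28,(Int.ofNat 1),1⟩] (.node 7 [⟨6,(Int.negSucc 0),1⟩] (.node 3 [⟨31,(Int.negSucc 0),1⟩] (.node 1 [⟨31,(Int.ofNat 2),1⟩] (.node 0 [⟨31,(Int.ofNat 0),1⟩] .nil .nil) (.node 2 [⟨31,(Int.ofNat 0),1⟩] .nil .nil)) (.node 5 [⟨31,(Int.ofNat 0),1⟩] (.node 4 [⟨31,(Int.ofNat 0),1⟩] .nil .nil) .nil)) (.node 32 [⟨25,(Int.negSucc 0),1⟩] (.node 18 [⟨15,(Int.negSucc 0),1⟩] (.node 17 [⟨14,(Int.negSucc 0),1⟩] .nil .nil) (.node 19 [⟨16,(Int.negSucc 0),1⟩] .nil .nil)) (.node 34 [⟨27,(Int.negSucc 0),1⟩] (.node 33 [⟨26,(Int.negSucc 0),1⟩] .nil .nil) .nil))) (.node 56 [⟨49,(Int.ofNat 1),1⟩] (.node 53 [⟨45,(Int.negSucc 0),1⟩] (.node 38 [⟨30,(Int.ofNat 1),1⟩] (.node 37 [⟨29,(Int.ofNat 1),1⟩] .nil .nil) (.node 52 [⟨0,(Int.ofNat 0),1⟩, ⟨1,(Int.negSucc 0),1⟩, ⟨2,(Int.ofNat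 0),1⟩, ⟨3,(Int.ofNat 0),1⟩, ⟨4,(Int.ofNat 0),1⟩, ⟨5,(Int.ofNat 0),1⟩, ⟨31,(Int.negSucc 0),2⟩] .nil .nil)) (.node 55 [⟨47,(Int.negSucc 0),1⟩] (.node 54 [⟨46,(Int.negSucc 0),1⟩] .nil .nil) .nil)) (.node 68 [⟨65,(Int.ofNat 1),1⟩] (.node 58 [⟨51,(Int.ofNat 1),1⟩] (.node 57 [⟨50,(Int.ofNat 1),1⟩] .nil .nil) (.node 67 [⟨64,(Int.ofNat 1),1⟩] .nil .nil)) (.node 77 [⟨76,(Int.ofNat 1),1⟩] (.node 69 [⟨66,(Int.ofNat 1),1⟩] .nil .nil) .nil))))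
def col26 : Tr Cl := (.node 42 [⟨33,(Int.ofNat 1),1⟩] (.node 13 [⟨7,(Int.negSucc 0),1⟩] (.node 3 [⟨32,(Int.ofNat 0),1⟩] (.node 1 [⟨32,(Int.negSucc 0),1⟩] (.node 0 [⟨32,(Int.negSucc 0),1⟩] .nil .nil) (.node 2 [⟨32,(Int.ofNat 1),1⟩] .nil .nil)) (.node 5 [⟨32,(Int.ofNat 1),1⟩] (.node 4 [⟨32,(Int.ofNat 0),1⟩] .nil .nil) .nil)) (.node 29 [⟨22,(Int.ofNat 1),1⟩] (.node 16 [⟨9,(Int.negSucc 0),1⟩] (.node 15 [⟨8,(Int.negSucc 0),1⟩] .nil .nil) (.node 21 [⟨17,(Int.negSucc 0),1⟩] .nil .nil)) (.node 31 [⟨25,(Int.ofNat 1),1⟩] (.node 30 [⟨23,(Int.ofNat 1),1⟩] .nil .nil) .nil))) (.node 58 [⟨52,(Int.negSucc 0),1⟩] (.node 49 [⟨39,(Int.negSucc 0),1⟩] (.node 47 [⟨35,(Int.ofNat 1),1⟩] (.node 44 [⟨34,(Int.ofNat 1),1⟩] .nil .nil) (.node 48 [⟨36,(Int.negSucc 0),1⟩] .nil .nil)) (.node 51 [⟨0,(Int.ofNat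 0),1⟩, ⟨1,(Int.ofNat 0),1⟩, ⟨2,(Int.negSucc 0),1⟩, ⟨3,(Int.negSucc 0),1⟩, ⟨4,(Int.negSucc 0),1⟩, ⟨5,(Int.negSucc 0),1⟩, ⟨32,(Int.negSucc 0),2⟩] (.node 50 [⟨41,(Int.negSucc 0),1⟩] .nil .nil) .nil)) (.node 74 [⟨67,(Int.ofNat 1),1⟩] (.node 61 [⟨54,(Int.negSucc 0),1⟩] (.node 60 [⟨53,(Int.negSucc 0),1⟩] .nil .nil) (.node 66 [⟨62,(Int.ofNat 1),1⟩] .nil .nil)) (.node 76 [⟨70,(Int.ofNat 1),1⟩] (.node 75 [⟨68,(Int.ofNat 1),1⟩] .nil .nil) .nil))))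
def col27 : Tr Cl := (.node 41 [⟨32,(Int.ofNat 1),1⟩] (.node 12 [⟨7,(Int.ofNat 1),1⟩] (.node 3 [⟨33,(Int.ofNat 0),1⟩] (.node 1 [⟨33,(Int.negSucc 0),1⟩] (.node 0 [⟨33,(Int.negSucc 0),1⟩] .nil .nil) (.node 2 [⟨33,(Int.ofNat 1),1⟩] .nil .nil)) (.node 5 [⟨33,(Int.negSucc 0),1⟩] (.node 4 [⟨33,(Int.ofNat 1),1⟩] .nil .nil) .nil)) (.node 28 [⟨22,(Int.negSucc 0),1⟩] (.node 16 [⟨10,(Int.negSucc 0),1⟩] (.node 14 [⟨8,(Int.ofNat 1),1⟩] .nil .nil) (.node 21 [⟨18,(Int.negSucc 0),1⟩] .nil .nil)) (.node 31 [⟨26,(Int.ofNat 1),1⟩] (.node 30 [⟨24,(Int.ofNat 1),1⟩] .nil .nil) .nil))) (.node 57 [⟨52,(Int.negSucc 0),1⟩] (.node 49 [⟨40,(Int.negSucc 0),1⟩] (.node 46 [⟨35,(Int.ofNat 1),1⟩] (.node 43 [⟨34,(Int.ofNat 1),1⟩] .nil .nil) (.node 48 [⟨37,(Int.negSucc 0),1⟩] .nil .nil)) (.node 51 [⟨42,(Int.negSucc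 0),1⟩] (.node 50 [⟨0,(Int.ofNat 0),1⟩, ⟨1,(Int.ofNat 0),1⟩, ⟨2,(Int.negSucc 0),1⟩, ⟨3,(Int.negSucc 0),1⟩, ⟨4,(Int.negSucc 0),1⟩, ⟨5,(Int.ofNat 0),1⟩, ⟨33,(Int.negSucc 0),2⟩] .nil .nil) .nil)) (.node 73 [⟨67,(Int.ofNat 1),1⟩] (.node 61 [⟨55,(Int.ofNat 1),1⟩] (.node 59 [⟨53,(Int.negSucc 0),1⟩] .nil .nil) (.node 65 [⟨62,(Int.ofNat 1),1⟩] .nil .nil)) (.node 76 [⟨71,(Int.negSucc 0),1⟩] (.node 75 [⟨69,(Int.negSucc 0),1⟩] .nil .nil) .nil))))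
def col28 : Tr Cl := (.node 39 [⟨32,(Int.ofNat 1),1⟩] (.node 11 [⟨7,(Int.negSucc 0),1⟩] (.node 3 [⟨34,(Int.ofNat 1),1⟩] (.node 1 [⟨34,(Int.negSucc 0),1⟩] (.node 0 [⟨34,(Int.negSucc 0),1⟩] .nil .nil) (.node 2 [⟨34,(Int.ofNat 1),1⟩] .nil .nil)) (.node 5 [⟨34,(Int.ofNat 0),1⟩] (.node 4 [⟨34,(Int.negSucc 0),1⟩] .nil .nil) .nil)) (.node 28 [⟨23,(Int.negSucc 0),1⟩] (.node 15 [⟨10,(Int.ofNat 1),1⟩] (.node 14 [⟨9,(Int.ofNat 1),1⟩] .nil .nil) (.node 21 [⟨19,(Int.negSucc 0),1⟩] .nil .nil)) (.node 31 [⟨27,(Int.ofNat 1),1⟩] (.node 29 [⟨24,(Int.negSucc 0),1⟩] .nil .nil) .nil))) (.node 56 [⟨52,(Int.negSucc 0),1⟩] (.node 49 [⟨0,(Int.ofNat 0),1⟩, ⟨1,(Int.ofNat 0),1⟩, ⟨2,(Int.negSucc 0),1⟩, ⟨3,(Int.negSucc 0),1⟩, ⟨4,(Int.ofNat 0),1⟩, ⟨5,(Int.ofNat 0),1⟩, ⟨34,(Int.negSucc 0),2⟩] (.node 45 [⟨35,(Int.ofNat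 1),1⟩] (.node 40 [⟨33,(Int.ofNat 1),1⟩] .nil .nil) (.node 48 [⟨38,(Int.negSucc 0),1⟩] .nil .nil)) (.node 51 [⟨44,(Int.negSucc 0),1⟩] (.node 50 [⟨43,(Int.negSucc 0),1⟩] .nil .nil) .nil)) (.node 73 [⟨68,(Int.negSucc 0),1⟩] (.node 60 [⟨55,(Int.ofNat 1),1⟩] (.node 59 [⟨54,(Int.ofNat 1),1⟩] .nil .nil) (.node 64 [⟨62,(Int.ofNat 1),1⟩] .nil .nil)) (.node 76 [⟨72,(Int.ofNat 1),1⟩] (.node 74 [⟨69,(Int.negSucc 0),1⟩] .nil .nil) .nil))))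
def col29 : Tr Cl := (.node 36 [⟨32,(Int.ofNat 1),1⟩] (.node 11 [⟨8,(Int.negSucc 0),1⟩] (.node 3 [⟨35,(Int.negSucc 0),1⟩] (.node 1 [⟨35,(Int.ofNat 0),1⟩] (.node 0 [⟨35,(Int.negSucc 0),1⟩] .nil .nil) (.node 2 [⟨35,(Int.ofNat 2),1⟩] .nil .nil)) (.node 5 [⟨35,(Int.ofNat 0),1⟩] (.node 4 [⟨35,(Int.ofNat 0),1⟩] .nil .nil) .nil)) (.node 28 [⟨25,(Int.negSucc 0),1⟩] (.node 13 [⟨10,(Int.negSucc 0),1⟩] (.node 12 [⟨9,(Int.negSucc 0),1⟩] .nil .nil) (.node 21 [⟨20,(Int.negSucc 0),1⟩] .nil .nil)) (.node 30 [⟨27,(Int.negSucc 0),1⟩] (.node 29 [⟨26,(Int.negSucc 0),1⟩] .nil .nil) .nil))) (.node 56 [⟨53,(Int.ofNat 1),1⟩] (.node 49 [⟨45,(Int.negSucc 0),1⟩] (.node 38 [⟨34,(Int.ofNat 1),1⟩] (.node 37 [⟨33,(Int.ofNat 1),1⟩] .nil .nil) (.node 48 [⟨0,(Int.ofNat 0),1⟩, ⟨1,(Int.ofNat 0),1⟩, ⟨2,(Int.negSucc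 0),1⟩, ⟨3,(Int.ofNat 0),1⟩, ⟨4,(Int.ofNat 0),1⟩, ⟨5,(Int.ofNat 0),1⟩, ⟨35,(Int.negSucc 0),2⟩] .nil .nil)) (.node 51 [⟨47,(Int.negSucc 0),1⟩] (.node 50 [⟨46,(Int.negSucc 0),1⟩] .nil .nil) .nil)) (.node 73 [⟨70,(Int.ofNat 1),1⟩] (.node 58 [⟨55,(Int.ofNat 1),1⟩] (.node 57 [⟨54,(Int.ofNat 1),1⟩] .nil .nil) (.node 63 [⟨62,(Int.ofNat 1),1⟩] .nil .nil)) (.node 75 [⟨72,(Int.ofNat 1),1⟩] (.node 74 [⟨71,(Int.ofNat 1),1⟩] .nil .nil) .nil))))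
def col30 : Tr Cl := (.node 35 [⟨32,(Int.negSucc 0),1⟩] (.node 10 [⟨7,(Int.negSucc 0),1⟩] (.node 3 [⟨36,(Int.ofNat 1),1⟩] (.node 1 [⟨36,(Int.negSucc 0),1⟩] (.node 0 [⟨36,(Int.ofNat 0),1⟩] .nil .nil) (.node 2 [⟨36,(Int.negSucc 0),1⟩] .nil .nil)) (.node 5 [⟨36,(Int.ofNat 1),1⟩] (.node 4 [⟨36,(Int.ofNat 0),1⟩] .nil .nil) .nil)) (.node 26 [⟨22,(Int.ofNat 1),1⟩] (.node 16 [⟨12,(Int.ofNat 1),1⟩] (.node 15 [⟨11,(Int.ofNat 1),1⟩] .nil .nil) (.node 20 [⟨17,(Int.negSucc 0),1⟩] .nil .nil)) (.node 31 [⟨28,(Int.negSucc 0),1⟩] (.node 27 [⟨23,(Int.ofNat 1),1⟩] .nil .nil) .nil))) (.node 55 [⟨52,(Int.ofNat 1),1⟩] (.node 46 [⟨41,(Int.negSucc 0),1⟩] (.node 44 [⟨38,(Int.ofNat 1),1⟩] (.node 42 [⟨37,(Int.ofNat 1),1⟩] .nil .nil) (.node 45 [⟨39,(Int.negSucc 0),1⟩] .nil .nil)) (.node 51 [⟨48,(Int.ofNat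 1),1⟩] (.node 47 [⟨0,(Int.ofNat 0),1⟩, ⟨1,(Int.ofNat 0),1⟩, ⟨2,(Int.ofNat 0),1⟩, ⟨3,(Int.negSucc 0),1⟩, ⟨4,(Int.negSucc 0),1⟩, ⟨5,(Int.negSucc 0),1⟩, ⟨36,(Int.negSucc 0),2⟩] .nil .nil) .nil)) (.node 71 [⟨67,(Int.negSucc 0),1⟩] (.node 61 [⟨57,(Int.negSucc 0),1⟩] (.node 60 [⟨56,(Int.negSucc 0),1⟩] .nil .nil) (.node 66 [⟨63,(Int.ofNat 1),1⟩] .nil .nil)) (.node 76 [⟨73,(Int.ofNat 1),1⟩] (.node 72 [⟨68,(Int.negSucc 0),1⟩] .nil .nil) .nil))))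
def col31 : Tr Cl := (.node 35 [⟨33,(Int.negSucc 0),1⟩] (.node 9 [⟨7,(Int.ofNat 1),1⟩] (.node 3 [⟨37,(Int.ofNat 1),1⟩] (.node 1 [⟨37,(Int.negSucc 0),1⟩] (.node 0 [⟨37,(Int.ofNat 0),1⟩] .nil .nil) (.node 2 [⟨37,(Int.negSucc 0),1⟩] .nil .nil)) (.node 5 [⟨37,(Int.negSucc 0),1⟩] (.node 4 [⟨37,(Int.ofNat 1),1⟩] .nil .nil) .nil)) (.node 25 [⟨22,(Int.negSucc 0),1⟩] (.node 16 [⟨13,(Int.ofNat 1),1⟩] (.node 14 [⟨11,(Int.negSucc 0),1⟩] .nil .nil) (.node 20 [⟨18,(Int.negSucc 0),1⟩] .nil .nil)) (.node 31 [⟨29,(Int.negSucc 0),1⟩] (.node 27 [⟨24,(Int.ofNat 1),1⟩] .nil .nil) .nil))) (.node 54 [⟨52,(Int.ofNat 1),1⟩] (.node 46 [⟨0,(Int.ofNat 0),1⟩, ⟨1,(Int.ofNat 0),1⟩, ⟨2,(Int.ofNat 0),1⟩, ⟨3,(Int.negSucc 0),1⟩, ⟨4,(Int.negSucc 0),1⟩, ⟨5,(Int.ofNat 0),1⟩, ⟨37,(Int.negSucc 0),2⟩] (.node 43 [⟨38,(Int.ofNat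 1),1⟩] (.node 41 [⟨36,(Int.ofNat 1),1⟩] .nil .nil) (.node 45 [⟨40,(Int.negSucc 0),1⟩] .nil .nil)) (.node 50 [⟨48,(Int.ofNat 1),1⟩] (.node 47 [⟨42,(Int.negSucc 0),1⟩] .nil .nil) .nil)) (.node 70 [⟨67,(Int.negSucc 0),1⟩] (.node 61 [⟨58,(Int.ofNat 1),1⟩] (.node 59 [⟨56,(Int.negSucc 0),1⟩] .nil .nil) (.node 65 [⟨63,(Int.ofNat 1),1⟩] .nil .nil)) (.node 76 [⟨74,(Int.negSucc 0),1⟩] (.node 72 [⟨69,(Int.ofNat 1),1⟩] .nil .nil) .nil))))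
def col32 : Tr Cl := (.node 35 [⟨34,(Int.negSucc 0),1⟩] (.node 8 [⟨7,(Int.negSucc 0),1⟩] (.node 3 [⟨38,(Int.ofNat 2),1⟩] (.node 1 [⟨38,(Int.negSucc 0),1⟩] (.node 0 [⟨38,(Int.ofNat 0),1⟩] .nil .nil) (.node 2 [⟨38,(Int.negSucc 0),1⟩] .nil .nil)) (.node 5 [⟨38,(Int.ofNat 0),1⟩] (.node 4 [⟨38,(Int.negSucc 0),1⟩] .nil .nil) .nil)) (.node 25 [⟨23,(Int.negSucc 0),1⟩] (.node 15 [⟨13,(Int.negSucc 0),1⟩] (.node 14 [⟨12,(Int.negSucc 0),1⟩] .nil .nil) (.node 20 [⟨19,(Int.negSucc 0),1⟩] .nil .nil)) (.node 31 [⟨30,(Int.negSucc 0),1⟩] (.node 26 [⟨24,(Int.negSucc 0),1⟩] .nil .nil) .nil))) (.node 53 [⟨52,(Int.ofNat 1),1⟩] (.node 46 [⟨43,(Int.negSucc 0),1⟩] (.node 40 [⟨37,(Int.ofNat 1),1⟩] (.node 39 [⟨36,(Int.ofNat 1),1⟩] .nil .nil) (.node 45 [⟨0,(Int.ofNat 0),1⟩, ⟨1,(Int.ofNat 0),1⟩, ⟨2,(Int.ofNat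 0),1⟩, ⟨3,(Int.negSucc 0),1⟩, ⟨4,(Int.ofNat 0),1⟩, ⟨5,(Int.ofNat 0),1⟩, ⟨38,(Int.negSucc 0),2⟩] .nil .nil)) (.node 49 [⟨48,(Int.ofNat 1),1⟩] (.node 47 [⟨44,(Int.negSucc 0),1⟩] .nil .nil) .nil)) (.node 70 [⟨68,(Int.ofNat 1),1⟩] (.node 60 [⟨58,(Int.ofNat 1),1⟩] (.node 59 [⟨57,(Int.ofNat 1),1⟩] .nil .nil) (.node 64 [⟨63,(Int.ofNat 1),1⟩] .nil .nil)) (.node 76 [⟨75,(Int.ofNat 1),1⟩] (.node 71 [⟨69,(Int.ofNat 1),1⟩] .nil .nil) .nil))))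
def col33 : Tr Cl := (.node 34 [⟨32,(Int.negSucc 0),1⟩] (.node 10 [⟨8,(Int.ofNat 1),1⟩] (.node 3 [⟨39,(Int.negSucc 0),1⟩] (.node 1 [⟨39,(Int.ofNat 0),1⟩] (.node 0 [⟨39,(Int.ofNat 0),1⟩] .nil .nil) (.node 2 [⟨39,(Int.ofNat 0),1⟩] .nil .nil)) (.node 5 [⟨39,(Int.ofNat 1),1⟩] (.node 4 [⟨39,(Int.ofNat 1),1⟩] .nil .nil) .nil)) (.node 24 [⟨22,(Int.ofNat 1),1⟩] (.node 16 [⟨14,(Int.negSucc 0),1⟩] (.node 13 [⟨11,(Int.ofNat 1),1⟩] .nil .nil) (.node 19 [⟨17,(Int.negSucc 0),1⟩] .nil .nil)) (.node 30 [⟨28,(Int.negSucc 0),1⟩] (.node 27 [⟨25,(Int.negSucc 0),1⟩] .nil .nil) .nil))) (.node 55 [⟨53,(Int.ofNat 1),1⟩] (.node 44 [⟨0,(Int.ofNat 0),1⟩, ⟨1,(Int.ofNat 0),1⟩, ⟨2,(Int.ofNat 0),1⟩, ⟨3,(Int.ofNat 0),1⟩, ⟨4,(Int.negSucc 0),1⟩, ⟨5,(Int.negSucc 0),1⟩, ⟨39,(Int.negSucc 0),2⟩] (.node 42 [⟨40,(Int.ofNat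 1),1⟩] (.node 38 [⟨36,(Int.negSucc 0),1⟩] .nil .nil) (.node 43 [⟨41,(Int.negSucc 0),1⟩] .nil .nil)) (.node 51 [⟨49,(Int.ofNat 1),1⟩] (.node 47 [⟨45,(Int.ofNat 1),1⟩] .nil .nil) .nil)) (.node 69 [⟨67,(Int.ofNat 1),1⟩] (.node 61 [⟨59,(Int.negSucc 0),1⟩] (.node 58 [⟨56,(Int.ofNat 1),1⟩] .nil .nil) (.node 66 [⟨64,(Int.ofNat 1),1⟩] .nil .nil)) (.node 75 [⟨73,(Int.negSucc 0),1⟩] (.node 72 [⟨70,(Int.negSucc 0),1⟩] .nil .nil) .nil))))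
def col34 : Tr Cl := (.node 34 [⟨33,(Int.negSucc 0),1⟩] (.node 9 [⟨8,(Int.negSucc 0),1⟩] (.node 3 [⟨40,(Int.negSucc 0),1⟩] (.node 1 [⟨40,(Int.ofNat 0),1⟩] (.node 0 [⟨40,(Int.ofNat 0),1⟩] .nil .nil) (.node 2 [⟨40,(Int.ofNat 0),1⟩] .nil .nil)) (.node 5 [⟨40,(Int.negSucc 0),1⟩] (.node 4 [⟨40,(Int.ofNat 2),1⟩] .nil .nil) .nil)) (.node 23 [⟨22,(Int.negSucc 0),1⟩] (.node 16 [⟨15,(Int.negSucc 0),1⟩] (.node 12 [⟨11,(Int.negSucc 0),1⟩] .nil .nil) (.node 19 [⟨18,(Int.negSucc 0),1⟩] .nil .nil)) (.node 30 [⟨29,(Int.negSucc 0),1⟩] (.node 27 [⟨26,(Int.negSucc 0),1⟩] .nil .nil) .nil))) (.node 54 [⟨53,(Int.ofNat 1),1⟩] (.node 44 [⟨42,(Int.negSucc 0),1⟩] (.node 41 [⟨39,(Int.ofNat 1),1⟩] (.node 38 [⟨37,(Int.negSucc 0),1⟩] .nil .nil) (.node 43 [⟨0,(Int.ofNat 0),1⟩, ⟨1,(Int.ofNat 0),1⟩, ⟨2,(Int.ofNat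 0),1⟩, ⟨3,(Int.ofNat 0),1⟩, ⟨4,(Int.negSucc 0),1⟩, ⟨5,(Int.ofNat 0),1⟩, ⟨40,(Int.negSucc 0),2⟩] .nil .nil)) (.node 50 [⟨49,(Int.ofNat 1),1⟩] (.node 46 [⟨45,(Int.ofNat 1),1⟩] .nil .nil) .nil)) (.node 68 [⟨67,(Int.ofNat 1),1⟩] (.node 61 [⟨60,(Int.ofNat 1),1⟩] (.node 57 [⟨56,(Int.ofNat 1),1⟩] .nil .nil) (.node 65 [⟨64,(Int.ofNat 1),1⟩] .nil .nil)) (.node 75 [⟨74,(Int.ofNat 1),1⟩] (.node 72 [⟨71,(Int.ofNat 1),1⟩] .nil .nil) .nil))))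
def col35 : Tr Cl := (.node 33 [⟨32,(Int.negSucc 0),1⟩] (.node 10 [⟨9,(Int.negSucc 0),1⟩] (.node 3 [⟨41,(Int.ofNat 0),1⟩] (.node 1 [⟨41,(Int.ofNat 0),1⟩] (.node 0 [⟨41,(Int.ofNat 0),1⟩] .nil .nil) (.node 2 [⟨41,(Int.ofNat 0),1⟩] .nil .nil)) (.node 5 [⟨41,(Int.ofNat 2),1⟩] (.node 4 [⟨41,(Int.negSucc 0),1⟩] .nil .nil) .nil)) (.node 24 [⟨23,(Int.negSucc 0),1⟩] (.node 15 [⟨14,(Int.negSucc 0),1⟩] (.node 13 [⟨12,(Int.negSucc 0),1⟩] .nil .nil) (.node 18 [⟨17,(Int.negSucc 0),1⟩] .nil .nil)) (.node 29 [⟨28,(Int.negSucc 0),1⟩] (.node 26 [⟨25,(Int.negSucc 0),1⟩] .nil .nil) .nil))) (.node 55 [⟨54,(Int.ofNat 1),1⟩] (.node 44 [⟨43,(Int.ofNat 1),1⟩] (.node 40 [⟨39,(Int.negSucc 0),1⟩] (.node 37 [⟨36,(Int.negSucc 0),1⟩] .nil .nil) (.node 42 [⟨0,(Int.ofNat 0),1⟩, ⟨1,(Int.ofNat 0),1⟩, ⟨2,(Int.ofNat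 0),1⟩, ⟨3,(Int.ofNat 0),1⟩, ⟨4,(Int.ofNat 0),1⟩, ⟨5,(Int.negSucc 0),1⟩, ⟨41,(Int.negSucc 0),2⟩] .nil .nil)) (.node 51 [⟨50,(Int.ofNat 1),1⟩] (.node 47 [⟨46,(Int.ofNat 1),1⟩] .nil .nil) .nil)) (.node 69 [⟨68,(Int.ofNat 1),1⟩] (.node 60 [⟨59,(Int.ofNat 1),1⟩] (.node 58 [⟨57,(Int.ofNat 1),1⟩] .nil .nil) (.node 66 [⟨65,(Int.ofNat 1),1⟩] .nil .nil)) (.node 74 [⟨73,(Int.ofNat 1),1⟩] (.node 71 [⟨70,(Int.ofNat 1),1⟩] .nil .nil) .nil))))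
def col36 : Tr Cl := (.node 32 [⟨33,(Int.negSucc 0),1⟩] (.node 9 [⟨10,(Int.negSucc 0),1⟩] (.node 3 [⟨42,(Int.ofNat 0),1⟩] (.node 1 [⟨42,(Int.ofNat 0),1⟩] (.node 0 [⟨42,(Int.ofNat 0),1⟩] .nil .nil) (.node 2 [⟨42,(Int.ofNat 0),1⟩] .nil .nil)) (.node 5 [⟨42,(Int.negSucc 1),1⟩] (.node 4 [⟨42,(Int.ofNat 1),1⟩] .nil .nil) .nil)) (.node 23 [⟨24,(Int.negSucc 0),1⟩] (.node 14 [⟨15,(Int.negSucc 0),1⟩] (.node 12 [⟨13,(Int.negSucc 0),1⟩] .nil .nil) (.node 17 [⟨18,(Int.negSucc 0),1⟩] .nil .nil)) (.node 28 [⟨29,(Int.negSucc 0),1⟩] (.node 25 [⟨26,(Int.negSucc 0),1⟩] .nil .nil) .nil))) (.node 54 [⟨55,(Int.ofNat 1),1⟩] (.node 43 [⟨44,(Int.ofNat 1),1⟩] (.node 39 [⟨40,(Int.negSucc 0),1⟩] (.node 36 [⟨37,(Int.negSucc 0),1⟩] .nil .nil) (.node 41 [⟨0,(Int.ofNat 0),1⟩, ⟨1,(Int.ofNat 0),1⟩, ⟨2,(Int.ofNat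 0),1⟩, ⟨3,(Int.ofNat 0),1⟩, ⟨4,(Int.ofNat 0),1⟩, ⟨5,(Int.ofNat 1),1⟩, ⟨42,(Int.negSucc 0),2⟩] .nil .nil)) (.node 50 [⟨51,(Int.ofNat 1),1⟩] (.node 46 [⟨47,(Int.ofNat 1),1⟩] .nil .nil) .nil)) (.node 68 [⟨69,(Int.ofNat 1),1⟩] (.node 59 [⟨60,(Int.ofNat 1),1⟩] (.node 57 [⟨58,(Int.ofNat 1),1⟩] .nil .nil) (.node 65 [⟨66,(Int.ofNat 1),1⟩] .nil .nil)) (.node 73 [⟨74,(Int.ofNat 1),1⟩] (.node 70 [⟨71,(Int.ofNat 1),1⟩] .nil .nil) .nil))))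
def col37 : Tr Cl := (.node 33 [⟨34,(Int.negSucc 0),1⟩] (.node 8 [⟨9,(Int.negSucc 0),1⟩] (.node 3 [⟨43,(Int.ofNat 1),1⟩] (.node 1 [⟨43,(Int.ofNat 0),1⟩] (.node 0 [⟨43,(Int.ofNat 0),1⟩] .nil .nil) (.node 2 [⟨43,(Int.ofNat 0),1⟩] .nil .nil)) (.node 5 [⟨43,(Int.ofNat 1),1⟩] (.node 4 [⟨43,(Int.negSucc 1),1⟩] .nil .nil) .nil)) (.node 22 [⟨23,(Int.negSucc 0),1⟩] (.node 15 [⟨16,(Int.negSucc 0),1⟩] (.node 11 [⟨12,(Int.negSucc 0),1⟩] .nil .nil) (.node 18 [⟨19,(Int.negSucc 0),1⟩] .nil .nil)) (.node 29 [⟨30,(Int.negSucc 0),1⟩] (.node 26 [⟨27,(Int.negSucc 0),1⟩] .nil .nil) .nil))) (.node 53 [⟨54,(Int.ofNat 1),1⟩] (.node 42 [⟨44,(Int.negSucc 0),1⟩] (.node 39 [⟨41,(Int.ofNat 1),1⟩] (.node 37 [⟨38,(Int.negSucc 0),1⟩] .nil .nil) (.node 40 [⟨0,(Int.ofNat 0),1⟩, ⟨1,(Int.ofNat 0),1⟩, ⟨2,(Int.ofNat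 0),1⟩, ⟨3,(Int.ofNat 0),1⟩, ⟨4,(Int.ofNat 1),1⟩, ⟨5,(Int.ofNat 0),1⟩, ⟨43,(Int.negSucc 0),2⟩] .nil .nil)) (.node 49 [⟨50,(Int.ofNat 1),1⟩] (.node 45 [⟨46,(Int.ofNat 1),1⟩] .nil .nil) .nil)) (.node 67 [⟨68,(Int.ofNat 1),1⟩] (.node 60 [⟨61,(Int.ofNat 1),1⟩] (.node 56 [⟨57,(Int.ofNat 1),1⟩] .nil .nil) (.node 64 [⟨65,(Int.ofNat 1),1⟩] .nil .nil)) (.node 74 [⟨75,(Int.ofNat 1),1⟩] (.node 71 [⟨72,(Int.ofNat 1),1⟩] .nil .nil) .nil))))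
def col38 : Tr Cl := (.node 32 [⟨34,(Int.negSucc 0),1⟩] (.node 8 [⟨10,(Int.ofNat 1),1⟩] (.node 3 [⟨44,(Int.ofNat 1),1⟩] (.node 1 [⟨44,(Int.ofNat 0),1⟩] (.node 0 [⟨44,(Int.ofNat 0),1⟩] .nil .nil) (.node 2 [⟨44,(Int.ofNat 0),1⟩] .nil .nil)) (.node 5 [⟨44,(Int.negSucc 0),1⟩] (.node 4 [⟨44,(Int.negSucc 0),1⟩] .nil .nil) .nil)) (.node 22 [⟨24,(Int.ofNat 1),1⟩] (.node 14 [⟨16,(Int.negSucc 0),1⟩] (.node 11 [⟨13,(Int.ofNat 1),1⟩] .nil .nil) (.node 17 [⟨19,(Int.negSucc 0),1⟩] .nil .nil)) (.node 28 [⟨30,(Int.negSucc 0),1⟩] (.node 25 [⟨27,(Int.negSucc 0),1⟩] .nil .nil) .nil))) (.node 53 [⟨55,(Int.ofNat 1),1⟩] (.node 41 [⟨43,(Int.negSucc 0),1⟩] (.node 39 [⟨0,(Int.ofNat 0),1⟩, ⟨1,(Int.ofNat 0),1⟩, ⟨2,(Int.ofNat 0),1⟩, ⟨3,(Int.ofNat 0),1⟩, ⟨4,(Int.ofNat 1),1⟩, ⟨5,(Int.ofNat 1),1⟩, ⟨44,(Int.negSucc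 0),2⟩] (.node 36 [⟨38,(Int.negSucc 0),1⟩] .nil .nil) (.node 40 [⟨42,(Int.ofNat 1),1⟩] .nil .nil)) (.node 49 [⟨51,(Int.ofNat 1),1⟩] (.node 45 [⟨47,(Int.ofNat 1),1⟩] .nil .nil) .nil)) (.node 67 [⟨69,(Int.ofNat 1),1⟩] (.node 59 [⟨61,(Int.negSucc 0),1⟩] (.node 56 [⟨58,(Int.ofNat 1),1⟩] .nil .nil) (.node 64 [⟨66,(Int.ofNat 1),1⟩] .nil .nil)) (.node 73 [⟨75,(Int.negSucc 0),1⟩] (.node 70 [⟨72,(Int.negSucc 0),1⟩] .nil .nil) .nil))))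
def col39 : Tr Cl := (.node 34 [⟨35,(Int.negSucc 0),1⟩] (.node 7 [⟨8,(Int.negSucc 0),1⟩] (.node 3 [⟨45,(Int.negSucc 1),1⟩] (.node 1 [⟨45,(Int.ofNat 1),1⟩] (.node 0 [⟨45,(Int.ofNat 0),1⟩] .nil .nil) (.node 2 [⟨45,(Int.ofNat 1),1⟩] .nil .nil)) (.node 5 [⟨45,(Int.ofNat 0),1⟩] (.node 4 [⟨45,(Int.ofNat 1),1⟩] .nil .nil) .nil)) (.node 23 [⟨25,(Int.negSucc 0),1⟩] (.node 13 [⟨15,(Int.negSucc 0),1⟩] (.node 12 [⟨14,(Int.negSucc 0),1⟩] .nil .nil) (.node 19 [⟨20,(Int.negSucc 0),1⟩] .nil .nil)) (.node 30 [⟨31,(Int.negSucc 0),1⟩] (.node 24 [⟨26,(Int.negSucc 0),1⟩] .nil .nil) .nil))) (.node 52 [⟨53,(Int.ofNat 1),1⟩] (.node 43 [⟨46,(Int.negSucc 0),1⟩] (.node 37 [⟨40,(Int.ofNat 1),1⟩] (.node 36 [⟨39,(Int.ofNat 1),1⟩] .nil .nil) (.node 38 [⟨0,(Int.ofNat 0),1⟩, ⟨1,(Int.ofNat 0),1⟩, ⟨2,(Int.ofNat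 0),1⟩, ⟨3,(Int.ofNat 1),1⟩, ⟨4,(Int.ofNat 0),1⟩, ⟨5,(Int.ofNat 0),1⟩, ⟨45,(Int.negSucc 0),2⟩] .nil .nil)) (.node 48 [⟨49,(Int.ofNat 1),1⟩] (.node 44 [⟨47,(Int.negSucc 0),1⟩] .nil .nil) .nil)) (.node 68 [⟨70,(Int.ofNat 1),1⟩] (.node 58 [⟨60,(Int.ofNat 1),1⟩] (.node 57 [⟨59,(Int.ofNat 1),1⟩] .nil .nil) (.node 63 [⟨64,(Int.ofNat 1),1⟩] .nil .nil)) (.node 75 [⟨76,(Int.ofNat 1),1⟩] (.node 69 [⟨71,(Int.ofNat 1),1⟩] .nil .nil) .nil))))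
def col40 : Tr Cl := (.node 33 [⟨35,(Int.negSucc 0),1⟩] (.node 7 [⟨9,(Int.ofNat 1),1⟩] (.node 3 [⟨46,(Int.negSucc 0),1⟩] (.node 1 [⟨46,(Int.ofNat 1),1⟩] (.node 0 [⟨46,(Int.ofNat 0),1⟩] .nil .nil) (.node 2 [⟨46,(Int.ofNat 1),1⟩] .nil .nil)) (.node 5 [⟨46,(Int.ofNat 1),1⟩] (.node 4 [⟨46,(Int.negSucc 0),1⟩] .nil .nil) .nil)) (.node 22 [⟨25,(Int.negSucc 0),1⟩] (.node 13 [⟨16,(Int.ofNat 1),1⟩] (.node 11 [⟨14,(Int.negSucc 0),1⟩] .nil .nil) (.node 18 [⟨20,(Int.negSucc 0),1⟩] .nil .nil)) (.node 29 [⟨31,(Int.negSucc 0),1⟩] (.node 24 [⟨27,(Int.ofNat 1),1⟩] .nil .nil) .nil))) (.node 52 [⟨54,(Int.ofNat 1),1⟩] (.node 40 [⟨45,(Int.negSucc 0),1⟩] (.node 37 [⟨0,(Int.ofNat 0),1⟩, ⟨1,(Int.ofNat 0),1⟩, ⟨2,(Int.ofNat 0),1⟩, ⟨3,(Int.ofNat 1),1⟩, ⟨4,(Int.ofNat 1),1⟩, ⟨5,(Int.ofNat 0),1⟩, ⟨46,(Int.negSucc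 0),2⟩] (.node 36 [⟨41,(Int.ofNat 1),1⟩] .nil .nil) (.node 38 [⟨43,(Int.ofNat 1),1⟩] .nil .nil)) (.node 48 [⟨50,(Int.ofNat 1),1⟩] (.node 42 [⟨47,(Int.negSucc 0),1⟩] .nil .nil) .nil)) (.node 67 [⟨70,(Int.negSucc 0),1⟩] (.node 58 [⟨61,(Int.ofNat 1),1⟩] (.node 56 [⟨59,(Int.negSucc 0),1⟩] .nil .nil) (.node 63 [⟨65,(Int.ofNat 1),1⟩] .nil .nil)) (.node 74 [⟨76,(Int.negSucc 0),1⟩] (.node 69 [⟨72,(Int.ofNat 1),1⟩] .nil .nil) .nil))))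
def col41 : Tr Cl := (.node 32 [⟨35,(Int.negSucc 0),1⟩] (.node 7 [⟨10,(Int.negSucc 0),1⟩] (.node 3 [⟨47,(Int.negSucc 0),1⟩] (.node 1 [⟨47,(Int.ofNat 1),1⟩] (.node 0 [⟨47,(Int.ofNat 0),1⟩] .nil .nil) (.node 2 [⟨47,(Int.ofNat 1),1⟩] .nil .nil)) (.node 5 [⟨47,(Int.negSucc 0),1⟩] (.node 4 [⟨47,(Int.ofNat 0),1⟩] .nil .nil) .nil)) (.node 22 [⟨26,(Int.ofNat 1),1⟩] (.node 12 [⟨16,(Int.ofNat 1),1⟩] (.node 11 [⟨15,(Int.ofNat 1),1⟩] .nil .nil) (.node 17 [⟨20,(Int.negSucc 0),1⟩] .nil .nil)) (.node 28 [⟨31,(Int.negSucc 0),1⟩] (.node 23 [⟨27,(Int.ofNat 1),1⟩] .nil .nil) .nil))) (.node 52 [⟨55,(Int.ofNat 1),1⟩] (.node 39 [⟨45,(Int.negSucc 0),1⟩] (.node 37 [⟨42,(Int.ofNat 1),1⟩] (.node 36 [⟨0,(Int.ofNat 0),1⟩, ⟨1,(Int.ofNat 0),1⟩, ⟨2,(Int.ofNat 0),1⟩, ⟨3,(Int.ofNat 1),1⟩, ⟨4,(Int.ofNat 1),1⟩,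 ⟨5,(Int.ofNat 1),1⟩, ⟨47,(Int.negSucc 0),2⟩] .nil .nil) (.node 38 [⟨44,(Int.ofNat 1),1⟩] .nil .nil)) (.node 48 [⟨51,(Int.ofNat 1),1⟩] (.node 41 [⟨46,(Int.negSucc 0),1⟩] .nil .nil) .nil)) (.node 67 [⟨71,(Int.negSucc 0),1⟩] (.node 57 [⟨61,(Int.negSucc 0),1⟩] (.node 56 [⟨60,(Int.negSucc 0),1⟩] .nil .nil) (.node 63 [⟨66,(Int.ofNat 1),1⟩] .nil .nil)) (.node 73 [⟨76,(Int.ofNat 1),1⟩] (.node 68 [⟨72,(Int.negSucc 0),1⟩] .nil .nil) .nil))))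
def col42 : Tr Cl := (.node 32 [⟨36,(Int.ofNat 1),1⟩] (.node 8 [⟨11,(Int.negSucc 0),1⟩] (.node 3 [⟨48,(Int.ofNat 1),1⟩] (.node 1 [⟨48,(Int.ofNat 0),1⟩] (.node 0 [⟨48,(Int.ofNat 1),1⟩] .nil .nil) (.node 2 [⟨48,(Int.negSucc 1),1⟩] .nil .nil)) (.node 5 [⟨48,(Int.ofNat 0),1⟩] (.node 4 [⟨48,(Int.ofNat 0),1⟩] .nil .nil) .nil)) (.node 25 [⟨28,(Int.negSucc 0),1⟩] (.node 10 [⟨13,(Int.negSucc 0),1⟩] (.node 9 [⟨12,(Int.negSucc 0),1⟩] .nil .nil) (.node 20 [⟨21,(Int.negSucc 0),1⟩] .nil .nil)) (.node 27 [⟨30,(Int.negSucc 0),1⟩] (.node 26 [⟨29,(Int.negSucc 0),1⟩] .nil .nil) .nil))) (.node 53 [⟨56,(Int.ofNat 1),1⟩] (.node 45 [⟨49,(Int.negSucc 0),1⟩] (.node 34 [⟨38,(Int.ofNat 1),1⟩] (.node 33 [⟨37,(Int.ofNat 1),1⟩] .nil .nil) (.node 35 [⟨0,(Int.ofNat 0),1⟩, ⟨1,(Int.ofNat 0),1⟩, ⟨2,(Int.ofNat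 1),1⟩, ⟨3,(Int.ofNat 0),1⟩, ⟨4,(Int.ofNat 0),1⟩, ⟨5,(Int.ofNat 0),1⟩, ⟨48,(Int.negSucc 0),2⟩] .nil .nil)) (.node 47 [⟨51,(Int.negSucc 0),1⟩] (.node 46 [⟨50,(Int.negSucc 0),1⟩] .nil .nil) .nil)) (.node 70 [⟨73,(Int.ofNat 1),1⟩] (.node 55 [⟨58,(Int.ofNat 1),1⟩] (.node 54 [⟨57,(Int.ofNat 1),1⟩] .nil .nil) (.node 62 [⟨63,(Int.ofNat 1),1⟩] .nil .nil)) (.node 72 [⟨75,(Int.ofNat 1),1⟩] (.node 71 [⟨74,(Int.ofNat 1),1⟩] .nil .nil) .nil))))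
def col43 : Tr Cl := (.node 32 [⟨39,(Int.ofNat 1),1⟩] (.node 7 [⟨11,(Int.negSucc 0),1⟩] (.node 3 [⟨49,(Int.negSucc 0),1⟩] (.node 1 [⟨49,(Int.ofNat 1),1⟩] (.node 0 [⟨49,(Int.ofNat 1),1⟩] .nil .nil) (.node 2 [⟨49,(Int.negSucc 0),1⟩] .nil .nil)) (.node 5 [⟨49,(Int.ofNat 0),1⟩] (.node 4 [⟨49,(Int.ofNat 1),1⟩] .nil .nil) .nil)) (.node 23 [⟨28,(Int.negSucc 0),1⟩] (.node 10 [⟨15,(Int.ofNat 1),1⟩] (.node 9 [⟨14,(Int.ofNat 1),1⟩] .nil .nil) (.node 19 [⟨21,(Int.negSucc 0),1⟩] .nil .nil)) (.node 27 [⟨31,(Int.ofNat 1),1⟩] (.node 24 [⟨29,(Int.negSucc 0),1⟩] .nil .nil) .nil))) (.node 52 [⟨56,(Int.negSucc 0),1⟩] (.node 38 [⟨48,(Int.negSucc 0),1⟩] (.node 34 [⟨0,(Int.ofNat 0),1⟩, ⟨1,(Int.ofNat 0),1⟩, ⟨2,(Int.ofNat 1),1⟩, ⟨3,(Int.ofNat 1),1⟩, ⟨4,(Int.ofNat 0),1⟩, ⟨5,(Int.ofNat 0),1⟩, ⟨49,(Int.negSucc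 0),2⟩] (.node 33 [⟨40,(Int.ofNat 1),1⟩] .nil .nil) (.node 35 [⟨45,(Int.ofNat 1),1⟩] .nil .nil)) (.node 44 [⟨51,(Int.negSucc 0),1⟩] (.node 43 [⟨50,(Int.negSucc 0),1⟩] .nil .nil) .nil)) (.node 68 [⟨73,(Int.negSucc 0),1⟩] (.node 55 [⟨60,(Int.ofNat 1),1⟩] (.node 54 [⟨59,(Int.ofNat 1),1⟩] .nil .nil) (.node 62 [⟨64,(Int.ofNat 1),1⟩] .nil .nil)) (.node 72 [⟨76,(Int.ofNat 1),1⟩] (.node 69 [⟨74,(Int.negSucc 0),1⟩] .nil .nil) .nil))))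
def col44 : Tr Cl := (.node 32 [⟨41,(Int.ofNat 1),1⟩] (.node 7 [⟨12,(Int.ofNat 1),1⟩] (.node 3 [⟨50,(Int.ofNat 0),1⟩] (.node 1 [⟨50,(Int.ofNat 1),1⟩] (.node 0 [⟨50,(Int.ofNat 1),1⟩] .nil .nil) (.node 2 [⟨50,(Int.negSucc 0),1⟩] .nil .nil)) (.node 5 [⟨50,(Int.ofNat 1),1⟩] (.node 4 [⟨50,(Int.negSucc 0),1⟩] .nil .nil) .nil)) (.node 22 [⟨28,(Int.negSucc 0),1⟩] (.node 10 [⟨16,(Int.negSucc 0),1⟩] (.node 8 [⟨14,(Int.ofNat 1),1⟩] .nil .nil) (.node 18 [⟨21,(Int.negSucc 0),1⟩] .nil .nil)) (.node 26 [⟨31,(Int.ofNat 1),1⟩] (.node 24 [⟨30,(Int.ofNat 1),1⟩] .nil .nil) .nil))) (.node 52 [⟨57,(Int.negSucc 0),1⟩] (.node 37 [⟨48,(Int.negSucc 0),1⟩] (.node 34 [⟨43,(Int.ofNat 1),1⟩] (.node 33 [⟨0,(Int.ofNat 0),1⟩, ⟨1,(Int.ofNat 0),1⟩, ⟨2,(Int.ofNat 1),1⟩, ⟨3,(Int.ofNat 1),1⟩, ⟨4,(Int.ofNat 1),1⟩,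 ⟨5,(Int.ofNat 0),1⟩, ⟨50,(Int.negSucc 0),2⟩] .nil .nil) (.node 35 [⟨46,(Int.ofNat 1),1⟩] .nil .nil)) (.node 42 [⟨51,(Int.negSucc 0),1⟩] (.node 40 [⟨49,(Int.negSucc 0),1⟩] .nil .nil) .nil)) (.node 67 [⟨73,(Int.ofNat 1),1⟩] (.node 55 [⟨61,(Int.ofNat 1),1⟩] (.node 53 [⟨59,(Int.negSucc 0),1⟩] .nil .nil) (.node 62 [⟨65,(Int.ofNat 1),1⟩] .nil .nil)) (.node 71 [⟨76,(Int.negSucc 0),1⟩] (.node 69 [⟨75,(Int.negSucc 0),1⟩] .nil .nil) .nil))))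
def col45 : Tr Cl := (.node 32 [⟨0,(Int.ofNat 0),1⟩, ⟨1,(Int.ofNat 0),1⟩, ⟨2,(Int.ofNat 1),1⟩, ⟨3,(Int.ofNat 1),1⟩, ⟨4,(Int.ofNat 1),1⟩, ⟨5,(Int.ofNat 1),1⟩, ⟨51,(Int.negSucc 0),2⟩] (.node 7 [⟨13,(Int.negSucc 0),1⟩] (.node 3 [⟨51,(Int.ofNat 0),1⟩] (.node 1 [⟨51,(Int.ofNat 1),1⟩] (.node 0 [⟨51,(Int.ofNat 1),1⟩] .nil .nil) (.node 2 [⟨51,(Int.negSucc 0),1⟩] .nil .nil)) (.node 5 [⟨51,(Int.negSucc 0),1⟩] (.node 4 [⟨51,(Int.ofNat 0),1⟩] .nil .nil) .nil)) (.node 22 [⟨29,(Int.ofNat 1),1⟩] (.node 9 [⟨16,(Int.negSucc 0),1⟩] (.node 8 [⟨15,(Int.negSucc 0),1⟩] .nil .nil) (.node 17 [⟨21,(Int.negSucc 0),1⟩] .nil .nil)) (.node 25 [⟨31,(Int.ofNat 1),1⟩] (.node 23 [⟨30,(Int.ofNat 1),1⟩] .nil .nil) .nil))) (.node 52 [⟨58,(Int.negSucc 0),1⟩] (.node 36 [⟨48,(Int.negSucc 0),1⟩] (.node 34 [⟨44,(Int.ofNat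 1),1⟩] (.node 33 [⟨42,(Int.ofNat 1),1⟩] .nil .nil) (.node 35 [⟨47,(Int.ofNat 1),1⟩] .nil .nil)) (.node 41 [⟨50,(Int.negSucc 0),1⟩] (.node 39 [⟨49,(Int.negSucc 0),1⟩] .nil .nil) .nil)) (.node 67 [⟨74,(Int.ofNat 1),1⟩] (.node 54 [⟨61,(Int.negSucc 0),1⟩] (.node 53 [⟨60,(Int.negSucc 0),1⟩] .nil .nil) (.node 62 [⟨66,(Int.ofNat 1),1⟩] .nil .nil)) (.node 70 [⟨76,(Int.ofNat 1),1⟩] (.node 68 [⟨75,(Int.ofNat 1),1⟩] .nil .nil) .nil))))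
def col46 : Tr Cl := (.node 28 [⟨36,(Int.ofNat 1),1⟩] (.node 6 [⟨7,(Int.negSucc 0),1⟩] (.node 3 [⟨52,(Int.ofNat 1),1⟩] (.node 1 [⟨52,(Int.negSucc 1),1⟩] (.node 0 [⟨52,(Int.ofNat 0),1⟩] .nil .nil) (.node 2 [⟨52,(Int.ofNat 0),1⟩] .nil .nil)) (.node 5 [⟨52,(Int.ofNat 0),1⟩] (.node 4 [⟨52,(Int.ofNat 0),1⟩] .nil .nil) .nil)) (.node 25 [⟨32,(Int.negSucc 0),1⟩] (.node 15 [⟨18,(Int.negSucc 0),1⟩] (.node 14 [⟨17,(Int.negSucc 0),1⟩] .nil .nil) (.node 16 [⟨19,(Int.negSucc 0),1⟩] .nil .nil)) (.node 27 [⟨34,(Int.negSucc 0),1⟩] (.node 26 [⟨33,(Int.negSucc 0),1⟩] .nil .nil) .nil))) (.node 49 [⟨56,(Int.ofNat 1),1⟩] (.node 45 [⟨53,(Int.negSucc 0),1⟩] (.node 30 [⟨38,(Int.ofNat 1),1⟩] (.node 29 [⟨37,(Int.ofNat 1),1⟩] .nil .nil) (.node 31 [⟨0,(Int.ofNat 0),1⟩, ⟨1,(Int.ofNat 1),1⟩, ⟨2,(Int.ofNat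 0),1⟩, ⟨3,(Int.ofNat 0),1⟩, ⟨4,(Int.ofNat 0),1⟩, ⟨5,(Int.ofNat 0),1⟩, ⟨52,(Int.negSucc 0),2⟩] .nil .nil)) (.node 47 [⟨55,(Int.negSucc 0),1⟩] (.node 46 [⟨54,(Int.negSucc 0),1⟩] .nil .nil) .nil)) (.node 65 [⟨68,(Int.ofNat 1),1⟩] (.node 51 [⟨58,(Int.ofNat 1),1⟩] (.node 50 [⟨57,(Int.ofNat 1),1⟩] .nil .nil) (.node 64 [⟨67,(Int.ofNat 1),1⟩] .nil .nil)) (.node 76 [⟨77,(Int.ofNat 1),1⟩] (.node 66 [⟨69,(Int.ofNat 1),1⟩] .nil .nil) .nil))))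
def col47 : Tr Cl := (.node 28 [⟨39,(Int.ofNat 1),1⟩] (.node 6 [⟨8,(Int.ofNat 1),1⟩] (.node 3 [⟨53,(Int.negSucc 0),1⟩] (.node 1 [⟨53,(Int.negSucc 0),1⟩] (.node 0 [⟨53,(Int.ofNat 0),1⟩] .nil .nil) (.node 2 [⟨53,(Int.ofNat 1),1⟩] .nil .nil)) (.node 5 [⟨53,(Int.ofNat 0),1⟩] (.node 4 [⟨53,(Int.ofNat 1),1⟩] .nil .nil) .nil)) (.node 23 [⟨32,(Int.negSucc 0),1⟩] (.node 13 [⟨18,(Int.negSucc 0),1⟩] (.node 12 [⟨17,(Int.negSucc 0),1⟩] .nil .nil) (.node 16 [⟨20,(Int.ofNat 1),1⟩] .nil .nil)) (.node 27 [⟨35,(Int.ofNat 1),1⟩] (.node 24 [⟨33,(Int.negSucc 0),1⟩] .nil .nil) .nil))) (.node 48 [⟨56,(Int.negSucc 0),1⟩] (.node 38 [⟨52,(Int.negSucc 0),1⟩] (.node 30 [⟨0,(Int.ofNat 0),1⟩, ⟨1,(Int.ofNat 1),1⟩, ⟨2,(Int.ofNat 0),1⟩, ⟨3,(Int.ofNat 1),1⟩, ⟨4,(Int.ofNat 0),1⟩, ⟨5,(Int.ofNat 0),1⟩, ⟨53,(Int.negSucc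 0),2⟩] (.node 29 [⟨40,(Int.ofNat 1),1⟩] .nil .nil) (.node 31 [⟨45,(Int.ofNat 1),1⟩] .nil .nil)) (.node 44 [⟨55,(Int.negSucc 0),1⟩] (.node 43 [⟨54,(Int.negSucc 0),1⟩] .nil .nil) .nil)) (.node 65 [⟨70,(Int.ofNat 1),1⟩] (.node 51 [⟨60,(Int.ofNat 1),1⟩] (.node 50 [⟨59,(Int.ofNat 1),1⟩] .nil .nil) (.node 63 [⟨67,(Int.negSucc 0),1⟩] .nil .nil)) (.node 75 [⟨77,(Int.negSucc 0),1⟩] (.node 66 [⟨71,(Int.ofNat 1),1⟩] .nil .nil) .nil))))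
def col48 : Tr Cl := (.node 28 [⟨41,(Int.ofNat 1),1⟩] (.node 6 [⟨9,(Int.negSucc 0),1⟩] (.node 3 [⟨54,(Int.ofNat 0),1⟩] (.node 1 [⟨54,(Int.negSucc 0),1⟩] (.node 0 [⟨54,(Int.ofNat 0),1⟩] .nil .nil) (.node 2 [⟨54,(Int.ofNat 1),1⟩] .nil .nil)) (.node 5 [⟨54,(Int.ofNat 1),1⟩] (.node 4 [⟨54,(Int.negSucc 0),1⟩] .nil .nil) .nil)) (.node 22 [⟨32,(Int.negSucc 0),1⟩] (.node 13 [⟨19,(Int.ofNat 1),1⟩] (.node 11 [⟨17,(Int.negSucc 0),1⟩] .nil .nil) (.node 15 [⟨20,(Int.ofNat 1),1⟩] .nil .nil)) (.node 26 [⟨35,(Int.ofNat 1),1⟩] (.node 24 [⟨34,(Int.ofNat 1),1⟩] .nil .nil) .nil))) (.node 48 [⟨57,(Int.negSucc 0),1⟩] (.node 37 [⟨52,(Int.negSucc 0),1⟩] (.node 30 [⟨43,(Int.ofNat 1),1⟩] (.node 29 [⟨0,(Int.ofNat 0),1⟩, ⟨1,(Int.ofNat 1),1⟩, ⟨2,(Int.ofNat 0),1⟩, ⟨3,(Int.ofNat 1),1⟩, ⟨4,(Int.ofNat 1),1⟩,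 ⟨5,(Int.ofNat 0),1⟩, ⟨54,(Int.negSucc 0),2⟩] .nil .nil) (.node 31 [⟨46,(Int.ofNat 1),1⟩] .nil .nil)) (.node 42 [⟨55,(Int.negSucc 0),1⟩] (.node 40 [⟨53,(Int.negSucc 0),1⟩] .nil .nil) .nil)) (.node 64 [⟨70,(Int.negSucc 0),1⟩] (.node 51 [⟨61,(Int.ofNat 1),1⟩] (.node 49 [⟨59,(Int.negSucc 0),1⟩] .nil .nil) (.node 63 [⟨68,(Int.negSucc 0),1⟩] .nil .nil)) (.node 74 [⟨77,(Int.ofNat 1),1⟩] (.node 66 [⟨72,(Int.ofNat 1),1⟩] .nil .nil) .nil))))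
def col49 : Tr Cl := (.node 28 [⟨0,(Int.ofNat 0),1⟩, ⟨1,(Int.ofNat 1),1⟩, ⟨2,(Int.ofNat 0),1⟩, ⟨3,(Int.ofNat 1),1⟩, ⟨4,(Int.ofNat 1),1⟩, ⟨5,(Int.ofNat 1),1⟩, ⟨55,(Int.negSucc 0),2⟩] (.node 6 [⟨10,(Int.ofNat 1),1⟩] (.node 3 [⟨55,(Int.ofNat 0),1⟩] (.node 1 [⟨55,(Int.negSucc 0),1⟩] (.node 0 [⟨55,(Int.ofNat 0),1⟩] .nil .nil) (.node 2 [⟨55,(Int.ofNat 1),1⟩] .nil .nil)) (.node 5 [⟨55,(Int.negSucc 0),1⟩] (.node 4 [⟨55,(Int.ofNat 0),1⟩] .nil .nil) .nil)) (.node 22 [⟨33,(Int.ofNat 1),1⟩] (.node 12 [⟨19,(Int.ofNat 1),1⟩] (.node 11 [⟨18,(Int.ofNat 1),1⟩] .nil .nil) (.node 14 [⟨20,(Int.ofNat 1),1⟩] .nil .nil)) (.node 25 [⟨35,(Int.ofNat 1),1⟩] (.node 23 [⟨34,(Int.ofNat 1),1⟩] .nil .nil) .nil))) (.node 48 [⟨58,(Int.negSucc 0),1⟩] (.node 36 [⟨52,(Int.negSucc 0),1⟩] (.node 30 [⟨44,(Int.ofNat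 1),1⟩] (.node 29 [⟨42,(Int.ofNat 1),1⟩] .nil .nil) (.node 31 [⟨47,(Int.ofNat 1),1⟩] .nil .nil)) (.node 41 [⟨54,(Int.negSucc 0),1⟩] (.node 39 [⟨53,(Int.negSucc 0),1⟩] .nil .nil) .nil)) (.node 64 [⟨71,(Int.negSucc 0),1⟩] (.node 50 [⟨61,(Int.negSucc 0),1⟩] (.node 49 [⟨60,(Int.negSucc 0),1⟩] .nil .nil) (.node 63 [⟨69,(Int.negSucc 0),1⟩] .nil .nil)) (.node 73 [⟨77,(Int.negSucc 0),1⟩] (.node 65 [⟨72,(Int.negSucc 0),1⟩] .nil .nil) .nil))))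
def col50 : Tr Cl := (.node 26 [⟨40,(Int.ofNat 1),1⟩] (.node 6 [⟨11,(Int.negSucc 0),1⟩] (.node 3 [⟨56,(Int.ofNat 0),1⟩] (.node 1 [⟨56,(Int.negSucc 0),1⟩] (.node 0 [⟨56,(Int.ofNat 1),1⟩] .nil .nil) (.node 2 [⟨56,(Int.negSucc 0),1⟩] .nil .nil)) (.node 5 [⟨56,(Int.ofNat 0),1⟩] (.node 4 [⟨56,(Int.ofNat 1),1⟩] .nil .nil) .nil)) (.node 23 [⟨36,(Int.negSucc 0),1⟩] (.node 10 [⟨18,(Int.negSucc 0),1⟩] (.node 9 [⟨17,(Int.negSucc 0),1⟩] .nil .nil) (.node 16 [⟨21,(Int.negSucc 0),1⟩] .nil .nil)) (.node 25 [⟨39,(Int.ofNat 1),1⟩] (.node 24 [⟨37,(Int.negSucc 0),1⟩] .nil .nil) .nil))) (.node 44 [⟨58,(Int.negSucc 0),1⟩] (.node 34 [⟨52,(Int.ofNat 1),1⟩] (.node 30 [⟨48,(Int.ofNat 1),1⟩] (.node 27 [⟨0,(Int.ofNat 0),1⟩, ⟨1,(Int.ofNat 1),1⟩, ⟨2,(Int.ofNat 1),1⟩, ⟨3,(Int.ofNat 1),1⟩, ⟨4,(Int.ofNat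 0),1⟩, ⟨5,(Int.ofNat 0),1⟩, ⟨56,(Int.negSucc 0),2⟩] .nil .nil) (.node 31 [⟨49,(Int.negSucc 0),1⟩] .nil .nil)) (.node 43 [⟨57,(Int.negSucc 0),1⟩] (.node 35 [⟨53,(Int.negSucc 0),1⟩] .nil .nil) .nil)) (.node 65 [⟨73,(Int.ofNat 1),1⟩] (.node 47 [⟨60,(Int.ofNat 1),1⟩] (.node 46 [⟨59,(Int.ofNat 1),1⟩] .nil .nil) (.node 62 [⟨67,(Int.ofNat 1),1⟩] .nil .nil)) (.node 72 [⟨77,(Int.ofNat 1),1⟩] (.node 66 [⟨74,(Int.ofNat 1),1⟩] .nil .nil) .nil))))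
def col51 : Tr Cl := (.node 26 [⟨0,(Int.ofNat 0),1⟩, ⟨1,(Int.ofNat 1),1⟩, ⟨2,(Int.ofNat 1),1⟩, ⟨3,(Int.ofNat 1),1⟩, ⟨4,(Int.ofNat 1),1⟩, ⟨5,(Int.ofNat 0),1⟩, ⟨57,(Int.negSucc 0),2⟩] (.node 6 [⟨12,(Int.ofNat 1),1⟩] (.node 3 [⟨57,(Int.ofNat 1),1⟩] (.node 1 [⟨57,(Int.negSucc 0),1⟩] (.node 0 [⟨57,(Int.ofNat 1),1⟩] .nil .nil) (.node 2 [⟨57,(Int.negSucc 0),1⟩] .nil .nil)) (.node 5 [⟨57,(Int.ofNat 1),1⟩] (.node 4 [⟨57,(Int.negSucc 0),1⟩] .nil .nil) .nil)) (.node 22 [⟨36,(Int.negSucc 0),1⟩] (.node 10 [⟨19,(Int.ofNat 1),1⟩] (.node 8 [⟨17,(Int.negSucc 0),1⟩] .nil .nil) (.node 15 [⟨21,(Int.negSucc 0),1⟩] .nil .nil)) (.node 25 [⟨41,(Int.ofNat 1),1⟩] (.node 24 [⟨38,(Int.ofNat 1),1⟩] .nil .nil) .nil))) (.node 42 [⟨58,(Int.negSucc 0),1⟩] (.node 33 [⟨52,(Int.ofNat 1),1⟩] (.node 29 [⟨48,(Int.ofNat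 1),1⟩] (.node 27 [⟨43,(Int.ofNat 1),1⟩] .nil .nil) (.node 31 [⟨50,(Int.negSucc 0),1⟩] .nil .nil)) (.node 40 [⟨56,(Int.negSucc 0),1⟩] (.node 35 [⟨54,(Int.negSucc 0),1⟩] .nil .nil) .nil)) (.node 64 [⟨73,(Int.negSucc 0),1⟩] (.node 47 [⟨61,(Int.ofNat 1),1⟩] (.node 45 [⟨59,(Int.negSucc 0),1⟩] .nil .nil) (.node 62 [⟨68,(Int.ofNat 1),1⟩] .nil .nil)) (.node 71 [⟨77,(Int.negSucc 0),1⟩] (.node 66 [⟨75,(Int.ofNat 1),1⟩] .nil .nil) .nil))))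
def col52 : Tr Cl := (.node 26 [⟨42,(Int.ofNat 1),1⟩] (.node 6 [⟨13,(Int.negSucc 0),1⟩] (.node 3 [⟨58,(Int.ofNat 1),1⟩] (.node 1 [⟨58,(Int.negSucc 0),1⟩] (.node 0 [⟨58,(Int.ofNat 1),1⟩] .nil .nil) (.node 2 [⟨58,(Int.negSucc 0),1⟩] .nil .nil)) (.node 5 [⟨58,(Int.negSucc 0),1⟩] (.node 4 [⟨58,(Int.ofNat 0),1⟩] .nil .nil) .nil)) (.node 22 [⟨37,(Int.ofNat 1),1⟩] (.node 9 [⟨19,(Int.ofNat 1),1⟩] (.node 8 [⟨18,(Int.ofNat 1),1⟩] .nil .nil) (.node 14 [⟨21,(Int.negSucc 0),1⟩] .nil .nil)) (.node 25 [⟨0,(Int.ofNat 0),1⟩, ⟨1,(Int.ofNat 1),1⟩, ⟨2,(Int.ofNat 1),1⟩, ⟨3,(Int.ofNat 1),1⟩, ⟨4,(Int.ofNat 1),1⟩, ⟨5,(Int.ofNat 1),1⟩, ⟨58,(Int.negSucc 0),2⟩] (.node 23 [⟨38,(Int.ofNat 1),1⟩] .nil .nil) .nil))) (.node 41 [⟨57,(Int.negSucc 0),1⟩] (.node 32 [⟨52,(Int.ofNat 1),1⟩] (.node 28 [⟨48,(Int.ofNat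 1),1⟩] (.node 27 [⟨44,(Int.ofNat 1),1⟩] .nil .nil) (.node 31 [⟨51,(Int.negSucc 0),1⟩] .nil .nil)) (.node 39 [⟨56,(Int.negSucc 0),1⟩] (.node 35 [⟨55,(Int.negSucc 0),1⟩] .nil .nil) .nil)) (.node 64 [⟨74,(Int.negSucc 0),1⟩] (.node 46 [⟨61,(Int.negSucc 0),1⟩] (.node 45 [⟨60,(Int.negSucc 0),1⟩] .nil .nil) (.node 62 [⟨69,(Int.ofNat 1),1⟩] .nil .nil)) (.node 70 [⟨77,(Int.ofNat 1),1⟩] (.node 65 [⟨75,(Int.negSucc 0),1⟩] .nil .nil) .nil))))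
def col53 : Tr Cl := (.node 26 [⟨45,(Int.ofNat 1),1⟩] (.node 6 [⟨14,(Int.negSucc 0),1⟩] (.node 3 [⟨59,(Int.negSucc 0),1⟩] (.node 1 [⟨59,(Int.ofNat 0),1⟩] (.node 0 [⟨59,(Int.ofNat 1),1⟩] .nil .nil) (.node 2 [⟨59,(Int.ofNat 0),1⟩] .nil .nil)) (.node 5 [⟨59,(Int.ofNat 1),1⟩] (.node 4 [⟨59,(Int.ofNat 0),1⟩] .nil .nil) .nil)) (.node 22 [⟨39,(Int.negSucc 0),1⟩] (.node 10 [⟨20,(Int.negSucc 0),1⟩] (.node 7 [⟨17,(Int.negSucc 0),1⟩] .nil .nil) (.node 13 [⟨21,(Int.negSucc 0),1⟩] .nil .nil)) (.node 24 [⟨0,(Int.ofNat 0),1⟩, ⟨1,(Int.ofNat 1),1⟩, ⟨2,(Int.ofNat 1),1⟩, ⟨3,(Int.ofNat 2),1⟩, ⟨4,(Int.ofNat 1),1⟩, ⟨5,(Int.ofNat 0),1⟩, ⟨59,(Int.negSucc 0),2⟩] (.node 23 [⟨41,(Int.ofNat 1),1⟩] .nil .nil) .nil))) (.node 38 [⟨57,(Int.negSucc 0),1⟩] (.node 33 [⟨53,(Int.ofNat 1),1⟩] (.node 29 [⟨49,(Int.ofNat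 1),1⟩] (.node 27 [⟨46,(Int.negSucc 0),1⟩] .nil .nil) (.node 30 [⟨50,(Int.negSucc 0),1⟩] .nil .nil)) (.node 37 [⟨56,(Int.ofNat 1),1⟩] (.node 34 [⟨54,(Int.negSucc 0),1⟩] .nil .nil) .nil)) (.node 63 [⟨73,(Int.ofNat 1),1⟩] (.node 44 [⟨61,(Int.ofNat 1),1⟩] (.node 42 [⟨60,(Int.negSucc 0),1⟩] .nil .nil) (.node 62 [⟨70,(Int.ofNat 1),1⟩] .nil .nil)) (.node 69 [⟨77,(Int.ofNat 1),1⟩] (.node 66 [⟨76,(Int.ofNat 1),1⟩] .nil .nil) .nil))))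
def col54 : Tr Cl := (.node 25 [⟨45,(Int.ofNat 1),1⟩] (.node 6 [⟨15,(Int.ofNat 1),1⟩] (.node 3 [⟨60,(Int.negSucc 0),1⟩] (.node 1 [⟨60,(Int.ofNat 0),1⟩] (.node 0 [⟨60,(Int.ofNat 1),1⟩] .nil .nil) (.node 2 [⟨60,(Int.ofNat 0),1⟩] .nil .nil)) (.node 5 [⟨60,(Int.negSucc 0),1⟩] (.node 4 [⟨60,(Int.ofNat 1),1⟩] .nil .nil) .nil)) (.node 22 [⟨40,(Int.ofNat 1),1⟩] (.node 9 [⟨20,(Int.negSucc 0),1⟩] (.node 7 [⟨18,(Int.ofNat 1),1⟩] .nil .nil) (.node 12 [⟨21,(Int.negSucc 0),1⟩] .nil .nil)) (.node 24 [⟨42,(Int.ofNat 1),1⟩] (.node 23 [⟨0,(Int.ofNat 0),1⟩, ⟨1,(Int.ofNat 1),1⟩, ⟨2,(Int.ofNat 1),1⟩, ⟨3,(Int.ofNat 2),1⟩, ⟨4,(Int.ofNat 1),1⟩, ⟨5,(Int.ofNat 1),1⟩, ⟨60,(Int.negSucc 0),2⟩] .nil .nil) .nil))) (.node 38 [⟨58,(Int.negSucc 0),1⟩] (.node 32 [⟨53,(Int.ofNat 1),1⟩] (.node 28 [⟨49,(Int.ofNat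 1),1⟩] (.node 27 [⟨47,(Int.negSucc 0),1⟩] .nil .nil) (.node 30 [⟨51,(Int.negSucc 0),1⟩] .nil .nil)) (.node 36 [⟨56,(Int.ofNat 1),1⟩] (.node 34 [⟨55,(Int.negSucc 0),1⟩] .nil .nil) .nil)) (.node 63 [⟨74,(Int.ofNat 1),1⟩] (.node 43 [⟨61,(Int.negSucc 0),1⟩] (.node 41 [⟨59,(Int.negSucc 0),1⟩] .nil .nil) (.node 62 [⟨71,(Int.ofNat 1),1⟩] .nil .nil)) (.node 68 [⟨77,(Int.negSucc 0),1⟩] (.node 65 [⟨76,(Int.negSucc 0),1⟩] .nil .nil) .nil))))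
def col55 : Tr Cl := (.node 25 [⟨46,(Int.ofNat 1),1⟩] (.node 6 [⟨16,(Int.negSucc 0),1⟩] (.node 3 [⟨61,(Int.ofNat 0),1⟩] (.node 1 [⟨61,(Int.ofNat 0),1⟩] (.node 0 [⟨61,(Int.ofNat 1),1⟩] .nil .nil) (.node 2 [⟨61,(Int.ofNat 0),1⟩] .nil .nil)) (.node 5 [⟨61,(Int.ofNat 0),1⟩] (.node 4 [⟨61,(Int.negSucc 0),1⟩] .nil .nil) .nil)) (.node 22 [⟨0,(Int.ofNat 0),1⟩, ⟨1,(Int.ofNat 1),1⟩, ⟨2,(Int.ofNat 1),1⟩, ⟨3,(Int.ofNat 2),1⟩, ⟨4,(Int.ofNat 2),1⟩, ⟨5,(Int.ofNat 1),1⟩, ⟨61,(Int.negSucc 0),2⟩] (.node 8 [⟨20,(Int.negSucc 0),1⟩] (.node 7 [⟨19,(Int.negSucc 0),1⟩] .nil .nil) (.node 11 [⟨21,(Int.negSucc 0),1⟩] .nil .nil)) (.node 24 [⟨44,(Int.negSucc 0),1⟩] (.node 23 [⟨43,(Int.ofNat 1),1⟩] .nil .nil) .nil))) (.node 37 [⟨58,(Int.negSucc 0),1⟩] (.node 32 [⟨54,(Int.ofNat 1),1⟩] (.node 28 [⟨50,(Int.ofNat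 1),1⟩] (.node 26 [⟨47,(Int.negSucc 0),1⟩] .nil .nil) (.node 29 [⟨51,(Int.negSucc 0),1⟩] .nil .nil)) (.node 36 [⟨57,(Int.ofNat 1),1⟩] (.node 33 [⟨55,(Int.negSucc 0),1⟩] .nil .nil) .nil)) (.node 63 [⟨75,(Int.ofNat 1),1⟩] (.node 40 [⟨60,(Int.negSucc 0),1⟩] (.node 39 [⟨59,(Int.ofNat 1),1⟩] .nil .nil) (.node 62 [⟨72,(Int.ofNat 1),1⟩] .nil .nil)) (.node 67 [⟨77,(Int.ofNat 1),1⟩] (.node 64 [⟨76,(Int.ofNat 1),1⟩] .nil .nil) .nil))))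
def col56 : Tr Cl := (.node 18 [⟨33,(Int.ofNat 1),1⟩] (.node 11 [⟨22,(Int.ofNat 1),1⟩] (.node 3 [⟨62,(Int.ofNat 0),1⟩] (.node 1 [⟨62,(Int.ofNat 0),1⟩] (.node 0 [⟨62,(Int.negSucc 1),1⟩] .nil .nil) (.node 2 [⟨62,(Int.ofNat 1),1⟩] .nil .nil)) (.node 5 [⟨62,(Int.ofNat 0),1⟩] (.node 4 [⟨62,(Int.ofNat 0),1⟩] .nil .nil) .nil)) (.node 15 [⟨26,(Int.ofNat 1),1⟩] (.node 13 [⟨24,(Int.ofNat 1),1⟩] (.node 12 [⟨23,(Int.ofNat 1),1⟩] .nil .nil) (.node 14 [⟨25,(Int.ofNat 1),1⟩] .nil .nil)) (.node 17 [⟨32,(Int.ofNat 1),1⟩] (.node 16 [⟨27,(Int.ofNat 1),1⟩] .nil .nil) .nil))) (.node 51 [⟨66,(Int.negSucc 0),1⟩] (.node 48 [⟨63,(Int.negSucc 0),1⟩] (.node 20 [⟨35,(Int.ofNat 1),1⟩] (.node 19 [⟨34,(Int.ofNat 1),1⟩] .nil .nil) (.node 21 [⟨0,(Int.ofNat 1),1⟩, ⟨1,(Int.ofNat 0),1⟩, ⟨2,(Int.ofNat 0),1⟩, ⟨3,(Int.ofNat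 0),1⟩, ⟨4,(Int.ofNat 0),1⟩, ⟨5,(Int.ofNat 0),1⟩, ⟨62,(Int.negSucc 0),2⟩] .nil .nil)) (.node 50 [⟨65,(Int.negSucc 0),1⟩] (.node 49 [⟨64,(Int.negSucc 0),1⟩] .nil .nil) .nil)) (.node 59 [⟨70,(Int.negSucc 0),1⟩] (.node 57 [⟨68,(Int.negSucc 0),1⟩] (.node 56 [⟨67,(Int.negSucc 0),1⟩] .nil .nil) (.node 58 [⟨69,(Int.negSucc 0),1⟩] .nil .nil)) (.node 61 [⟨72,(Int.negSucc 0),1⟩] (.node 60 [⟨71,(Int.negSucc 0),1⟩] .nil .nil) .nil))))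
def col57 : Tr Cl := (.node 18 [⟨37,(Int.ofNat 1),1⟩] (.node 8 [⟨22,(Int.ofNat 1),1⟩] (.node 3 [⟨63,(Int.ofNat 1),1⟩] (.node 1 [⟨63,(Int.ofNat 0),1⟩] (.node 0 [⟨63,(Int.negSucc 0),1⟩] .nil .nil) (.node 2 [⟨63,(Int.negSucc 0),1⟩] .nil .nil)) (.node 5 [⟨63,(Int.ofNat 0),1⟩] (.node 4 [⟨63,(Int.ofNat 0),1⟩] .nil .nil) .nil)) (.node 15 [⟨29,(Int.negSucc 0),1⟩] (.node 10 [⟨24,(Int.ofNat 1),1⟩] (.node 9 [⟨23,(Int.ofNat 1),1⟩] .nil .nil) (.node 14 [⟨28,(Int.negSucc 0),1⟩] .nil .nil)) (.node 17 [⟨36,(Int.ofNat 1),1⟩] (.node 16 [⟨30,(Int.negSucc 0),1⟩] .nil .nil) .nil))) (.node 47 [⟨66,(Int.negSucc 0),1⟩] (.node 35 [⟨62,(Int.negSucc 0),1⟩] (.node 20 [⟨0,(Int.ofNat 1),1⟩, ⟨1,(Int.ofNat 0),1⟩, ⟨2,(Int.ofNat 1),1⟩, ⟨3,(Int.ofNat 0),1⟩, ⟨4,(Int.ofNat 0),1⟩, ⟨5,(Int.ofNat 0),1⟩, ⟨63,(Int.negSucc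 0),2⟩] (.node 19 [⟨38,(Int.ofNat 1),1⟩] .nil .nil) (.node 21 [⟨48,(Int.ofNat 1),1⟩] .nil .nil)) (.node 46 [⟨65,(Int.negSucc 0),1⟩] (.node 45 [⟨64,(Int.negSucc 0),1⟩] .nil .nil) .nil)) (.node 59 [⟨73,(Int.negSucc 0),1⟩] (.node 54 [⟨68,(Int.ofNat 1),1⟩] (.node 53 [⟨67,(Int.ofNat 1),1⟩] .nil .nil) (.node 55 [⟨69,(Int.ofNat 1),1⟩] .nil .nil)) (.node 61 [⟨75,(Int.negSucc 0),1⟩] (.node 60 [⟨74,(Int.negSucc 0),1⟩] .nil .nil) .nil))))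
def col58 : Tr Cl := (.node 18 [⟨40,(Int.ofNat 1),1⟩] (.node 7 [⟨22,(Int.ofNat 1),1⟩] (.node 3 [⟨64,(Int.negSucc 0),1⟩] (.node 1 [⟨64,(Int.ofNat 1),1⟩] (.node 0 [⟨64,(Int.negSucc 0),1⟩] .nil .nil) (.node 2 [⟨64,(Int.ofNat 0),1⟩] .nil .nil)) (.node 5 [⟨64,(Int.ofNat 0),1⟩] (.node 4 [⟨64,(Int.ofNat 1),1⟩] .nil .nil) .nil)) (.node 13 [⟨29,(Int.negSucc 0),1⟩] (.node 10 [⟨26,(Int.negSucc 0),1⟩] (.node 9 [⟨25,(Int.negSucc 0),1⟩] .nil .nil) (.node 12 [⟨28,(Int.negSucc 0),1⟩] .nil .nil)) (.node 17 [⟨39,(Int.ofNat 1),1⟩] (.node 16 [⟨31,(Int.ofNat 1),1⟩] .nil .nil) .nil))) (.node 44 [⟨66,(Int.negSucc 0),1⟩] (.node 34 [⟨62,(Int.negSucc 0),1⟩] (.node 20 [⟨45,(Int.ofNat 1),1⟩] (.node 19 [⟨0,(Int.ofNat 1),1⟩, ⟨1,(Int.ofNat 0),1⟩, ⟨2,(Int.ofNat 1),1⟩, ⟨3,(Int.ofNat 1),1⟩, ⟨4,(Int.ofNat 0),1⟩,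 ⟨5,(Int.ofNat 0),1⟩, ⟨64,(Int.negSucc 0),2⟩] .nil .nil) (.node 21 [⟨49,(Int.ofNat 1),1⟩] .nil .nil)) (.node 43 [⟨65,(Int.negSucc 0),1⟩] (.node 38 [⟨63,(Int.negSucc 0),1⟩] .nil .nil) .nil)) (.node 57 [⟨73,(Int.ofNat 1),1⟩] (.node 54 [⟨70,(Int.ofNat 1),1⟩] (.node 52 [⟨67,(Int.negSucc 0),1⟩] .nil .nil) (.node 55 [⟨71,(Int.ofNat 1),1⟩] .nil .nil)) (.node 61 [⟨76,(Int.negSucc 0),1⟩] (.node 58 [⟨74,(Int.ofNat 1),1⟩] .nil .nil) .nil))))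
def col59 : Tr Cl := (.node 18 [⟨0,(Int.ofNat 1),1⟩, ⟨1,(Int.ofNat 0),1⟩, ⟨2,(Int.ofNat 1),1⟩, ⟨3,(Int.ofNat 1),1⟩, ⟨4,(Int.ofNat 1),1⟩, ⟨5,(Int.ofNat 0),1⟩, ⟨65,(Int.negSucc 0),2⟩] (.node 7 [⟨23,(Int.negSucc 0),1⟩] (.node 3 [⟨65,(Int.ofNat 0),1⟩] (.node 1 [⟨65,(Int.ofNat 1),1⟩] (.node 0 [⟨65,(Int.negSucc 0),1⟩] .nil .nil) (.node 2 [⟨65,(Int.ofNat 0),1⟩] .nil .nil)) (.node 5 [⟨65,(Int.ofNat 1),1⟩] (.node 4 [⟨65,(Int.negSucc 0),1⟩] .nil .nil) .nil)) (.node 13 [⟨30,(Int.ofNat 1),1⟩] (.node 10 [⟨27,(Int.ofNat 1),1⟩] (.node 8 [⟨25,(Int.negSucc 0),1⟩] .nil .nil) (.node 11 [⟨28,(Int.negSucc 0),1⟩] .nil .nil)) (.node 17 [⟨41,(Int.ofNat 1),1⟩] (.node 15 [⟨31,(Int.ofNat 1),1⟩] .nil .nil) .nil))) (.node 42 [⟨66,(Int.negSucc 0),1⟩] (.node 33 [⟨62,(Int.negSucc 0),1⟩] (.node 20 [⟨46,(Int.ofNat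 1),1⟩] (.node 19 [⟨43,(Int.ofNat 1),1⟩] .nil .nil) (.node 21 [⟨50,(Int.ofNat 1),1⟩] .nil .nil)) (.node 40 [⟨64,(Int.negSucc 0),1⟩] (.node 37 [⟨63,(Int.negSucc 0),1⟩] .nil .nil) .nil)) (.node 56 [⟨73,(Int.negSucc 0),1⟩] (.node 53 [⟨70,(Int.negSucc 0),1⟩] (.node 52 [⟨68,(Int.negSucc 0),1⟩] .nil .nil) (.node 55 [⟨72,(Int.ofNat 1),1⟩] .nil .nil)) (.node 60 [⟨76,(Int.ofNat 1),1⟩] (.node 58 [⟨75,(Int.ofNat 1),1⟩] .nil .nil) .nil))))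
def col60 : Tr Cl := (.node 18 [⟨42,(Int.ofNat 1),1⟩] (.node 7 [⟨24,(Int.ofNat 1),1⟩] (.node 3 [⟨66,(Int.ofNat 0),1⟩] (.node 1 [⟨66,(Int.ofNat 1),1⟩] (.node 0 [⟨66,(Int.negSucc 0),1⟩] .nil .nil) (.node 2 [⟨66,(Int.ofNat 0),1⟩] .nil .nil)) (.node 5 [⟨66,(Int.negSucc 0),1⟩] (.node 4 [⟨66,(Int.ofNat 0),1⟩] .nil .nil) .nil)) (.node 12 [⟨30,(Int.ofNat 1),1⟩] (.node 9 [⟨27,(Int.ofNat 1),1⟩] (.node 8 [⟨26,(Int.ofNat 1),1⟩] .nil .nil) (.node 11 [⟨29,(Int.ofNat 1),1⟩] .nil .nil)) (.node 17 [⟨0,(Int.ofNat 1),1⟩, ⟨1,(Int.ofNat 0),1⟩, ⟨2,(Int.ofNat 1),1⟩, ⟨3,(Int.ofNat 1),1⟩, ⟨4,(Int.ofNat 1),1⟩, ⟨5,(Int.ofNat 1),1⟩, ⟨66,(Int.negSucc 0),2⟩] (.node 14 [⟨31,(Int.ofNat 1),1⟩] .nil .nil) .nil))) (.node 41 [⟨65,(Int.negSucc 0),1⟩] (.node 32 [⟨62,(Int.negSucc 0),1⟩] (.node 20 [⟨47,(Int.ofNat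 1),1⟩] (.node 19 [⟨44,(Int.ofNat 1),1⟩] .nil .nil) (.node 21 [⟨51,(Int.ofNat 1),1⟩] .nil .nil)) (.node 39 [⟨64,(Int.negSucc 0),1⟩] (.node 36 [⟨63,(Int.negSucc 0),1⟩] .nil .nil) .nil)) (.node 56 [⟨74,(Int.negSucc 0),1⟩] (.node 53 [⟨71,(Int.negSucc 0),1⟩] (.node 52 [⟨69,(Int.negSucc 0),1⟩] .nil .nil) (.node 54 [⟨72,(Int.negSucc 0),1⟩] .nil .nil)) (.node 59 [⟨76,(Int.negSucc 0),1⟩] (.node 57 [⟨75,(Int.negSucc 0),1⟩] .nil .nil) .nil))))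
def col61 : Tr Cl := (.node 16 [⟨0,(Int.ofNat 1),1⟩, ⟨1,(Int.ofNat 1),1⟩, ⟨2,(Int.ofNat 1),1⟩, ⟨3,(Int.ofNat 1),1⟩, ⟨4,(Int.ofNat 0),1⟩, ⟨5,(Int.ofNat 0),1⟩, ⟨67,(Int.negSucc 0),2⟩] (.node 6 [⟨22,(Int.ofNat 1),1⟩] (.node 3 [⟨67,(Int.ofNat 0),1⟩] (.node 1 [⟨67,(Int.negSucc 0),1⟩] (.node 0 [⟨67,(Int.negSucc 0),1⟩] .nil .nil) (.node 2 [⟨67,(Int.ofNat 0),1⟩] .nil .nil)) (.node 5 [⟨67,(Int.ofNat 0),1⟩] (.node 4 [⟨67,(Int.ofNat 1),1⟩] .nil .nil) .nil)) (.node 13 [⟨37,(Int.negSucc 0),1⟩] (.node 10 [⟨33,(Int.ofNat 1),1⟩] (.node 9 [⟨32,(Int.ofNat 1),1⟩] .nil .nil) (.node 12 [⟨36,(Int.negSucc 0),1⟩] .nil .nil)) (.node 15 [⟨40,(Int.ofNat 1),1⟩] (.node 14 [⟨39,(Int.ofNat 1),1⟩] .nil .nil) .nil))) (.node 43 [⟨68,(Int.negSucc 0),1⟩] (.node 27 [⟨62,(Int.negSucc 0),1⟩] (.node 20 [⟨53,(Int.negSucc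 0),1⟩] (.node 19 [⟨52,(Int.ofNat 1),1⟩] .nil .nil) (.node 21 [⟨56,(Int.ofNat 1),1⟩] .nil .nil)) (.node 31 [⟨64,(Int.negSucc 0),1⟩] (.node 30 [⟨63,(Int.ofNat 1),1⟩] .nil .nil) .nil)) (.node 50 [⟨73,(Int.negSucc 0),1⟩] (.node 46 [⟨70,(Int.ofNat 1),1⟩] (.node 44 [⟨69,(Int.negSucc 0),1⟩] .nil .nil) (.node 47 [⟨71,(Int.ofNat 1),1⟩] .nil .nil)) (.node 61 [⟨77,(Int.negSucc 0),1⟩] (.node 51 [⟨74,(Int.negSucc 0),1⟩] .nil .nil) .nil))))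
def col62 : Tr Cl := (.node 16 [⟨43,(Int.ofNat 1),1⟩] (.node 6 [⟨23,(Int.negSucc 0),1⟩] (.node 3 [⟨68,(Int.ofNat 1),1⟩] (.node 1 [⟨68,(Int.negSucc 0),1⟩] (.node 0 [⟨68,(Int.negSucc 0),1⟩] .nil .nil) (.node 2 [⟨68,(Int.ofNat 0),1⟩] .nil .nil)) (.node 5 [⟨68,(Int.ofNat 1),1⟩] (.node 4 [⟨68,(Int.negSucc 0),1⟩] .nil .nil) .nil)) (.node 13 [⟨38,(Int.ofNat 1),1⟩] (.node 10 [⟨34,(Int.negSucc 0),1⟩] (.node 8 [⟨32,(Int.ofNat 1),1⟩] .nil .nil) (.node 11 [⟨36,(Int.negSucc 0),1⟩] .nil .nil)) (.node 15 [⟨0,(Int.ofNat 1),1⟩, ⟨1,(Int.ofNat 1),1⟩, ⟨2,(Int.ofNat 1),1⟩, ⟨3,(Int.ofNat 1),1⟩, ⟨4,(Int.ofNat 1),1⟩, ⟨5,(Int.ofNat 0),1⟩, ⟨68,(Int.negSucc 0),2⟩] (.node 14 [⟨41,(Int.ofNat 1),1⟩] .nil .nil) .nil))) (.node 40 [⟨67,(Int.negSucc 0),1⟩] (.node 26 [⟨62,(Int.negSucc 0),1⟩] (.node 20 [⟨54,(Int.negSucc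 0),1⟩] (.node 18 [⟨52,(Int.ofNat 1),1⟩] .nil .nil) (.node 21 [⟨57,(Int.ofNat 1),1⟩] .nil .nil)) (.node 31 [⟨65,(Int.negSucc 0),1⟩] (.node 29 [⟨63,(Int.ofNat 1),1⟩] .nil .nil) .nil)) (.node 49 [⟨73,(Int.ofNat 1),1⟩] (.node 45 [⟨70,(Int.negSucc 0),1⟩] (.node 42 [⟨69,(Int.negSucc 0),1⟩] .nil .nil) (.node 47 [⟨72,(Int.ofNat 1),1⟩] .nil .nil)) (.node 60 [⟨77,(Int.ofNat 1),1⟩] (.node 51 [⟨75,(Int.negSucc 0),1⟩] .nil .nil) .nil))))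
def col63 : Tr Cl := (.node 16 [⟨44,(Int.ofNat 1),1⟩] (.node 6 [⟨24,(Int.ofNat 1),1⟩] (.node 3 [⟨69,(Int.ofNat 1),1⟩] (.node 1 [⟨69,(Int.negSucc 0),1⟩] (.node 0 [⟨69,(Int.negSucc 0),1⟩] .nil .nil) (.node 2 [⟨69,(Int.ofNat 0),1⟩] .nil .nil)) (.node 5 [⟨69,(Int.negSucc 0),1⟩] (.node 4 [⟨69,(Int.ofNat 0),1⟩] .nil .nil) .nil)) (.node 12 [⟨38,(Int.ofNat 1),1⟩] (.node 9 [⟨34,(Int.negSucc 0),1⟩] (.node 8 [⟨33,(Int.negSucc 0),1⟩] .nil .nil) (.node 11 [⟨37,(Int.ofNat 1),1⟩] .nil .nil)) (.node 15 [⟨42,(Int.ofNat 1),1⟩] (.node 14 [⟨0,(Int.ofNat 1),1⟩, ⟨1,(Int.ofNat 1),1⟩, ⟨2,(Int.ofNat 1),1⟩, ⟨3,(Int.ofNat 1),1⟩, ⟨4,(Int.ofNat 1),1⟩, ⟨5,(Int.ofNat 1),1⟩, ⟨69,(Int.negSucc 0),2⟩] .nil .nil) .nil))) (.node 39 [⟨67,(Int.negSucc 0),1⟩] (.node 25 [⟨62,(Int.negSucc 0),1⟩] (.node 20 [⟨55,(Int.negSucc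 0),1⟩] (.node 17 [⟨52,(Int.ofNat 1),1⟩] .nil .nil) (.node 21 [⟨58,(Int.ofNat 1),1⟩] .nil .nil)) (.node 31 [⟨66,(Int.negSucc 0),1⟩] (.node 28 [⟨63,(Int.ofNat 1),1⟩] .nil .nil) .nil)) (.node 49 [⟨74,(Int.ofNat 1),1⟩] (.node 45 [⟨71,(Int.negSucc 0),1⟩] (.node 41 [⟨68,(Int.negSucc 0),1⟩] .nil .nil) (.node 46 [⟨72,(Int.negSucc 0),1⟩] .nil .nil)) (.node 59 [⟨77,(Int.negSucc 0),1⟩] (.node 50 [⟨75,(Int.ofNat 1),1⟩] .nil .nil) .nil))))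
def col64 : Tr Cl := (.node 16 [⟨46,(Int.negSucc 0),1⟩] (.node 6 [⟨25,(Int.ofNat 1),1⟩] (.node 3 [⟨70,(Int.negSucc 0),1⟩] (.node 1 [⟨70,(Int.ofNat 0),1⟩] (.node 0 [⟨70,(Int.negSucc 0),1⟩] .nil .nil) (.node 2 [⟨70,(Int.ofNat 1),1⟩] .nil .nil)) (.node 5 [⟨70,(Int.ofNat 1),1⟩] (.node 4 [⟨70,(Int.ofNat 0),1⟩] .nil .nil) .nil)) (.node 12 [⟨41,(Int.ofNat 1),1⟩] (.node 10 [⟨35,(Int.ofNat 1),1⟩] (.node 7 [⟨32,(Int.ofNat 1),1⟩] .nil .nil) (.node 11 [⟨39,(Int.negSucc 0),1⟩] .nil .nil)) (.node 15 [⟨45,(Int.ofNat 1),1⟩] (.node 13 [⟨0,(Int.ofNat 1),1⟩, ⟨1,(Int.ofNat 1),1⟩, ⟨2,(Int.ofNat 1),1⟩, ⟨3,(Int.ofNat 2),1⟩, ⟨4,(Int.ofNat 1),1⟩, ⟨5,(Int.ofNat 0),1⟩, ⟨70,(Int.negSucc 0),2⟩] .nil .nil) .nil))) (.node 37 [⟨67,(Int.ofNat 1),1⟩] (.node 24 [⟨62,(Int.negSucc 0),1⟩] (.node 19 [⟨54,(Int.negSucc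 0),1⟩] (.node 18 [⟨53,(Int.ofNat 1),1⟩] .nil .nil) (.node 21 [⟨59,(Int.ofNat 1),1⟩] .nil .nil)) (.node 30 [⟨65,(Int.negSucc 0),1⟩] (.node 29 [⟨64,(Int.ofNat 1),1⟩] .nil .nil) .nil)) (.node 48 [⟨73,(Int.negSucc 0),1⟩] (.node 42 [⟨71,(Int.negSucc 0),1⟩] (.node 38 [⟨68,(Int.negSucc 0),1⟩] .nil .nil) (.node 44 [⟨72,(Int.ofNat 1),1⟩] .nil .nil)) (.node 58 [⟨77,(Int.negSucc 0),1⟩] (.node 51 [⟨76,(Int.negSucc 0),1⟩] .nil .nil) .nil))))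
def col65 : Tr Cl := (.node 16 [⟨47,(Int.negSucc 0),1⟩] (.node 6 [⟨26,(Int.negSucc 0),1⟩] (.node 3 [⟨71,(Int.negSucc 0),1⟩] (.node 1 [⟨71,(Int.ofNat 0),1⟩] (.node 0 [⟨71,(Int.negSucc 0),1⟩] .nil .nil) (.node 2 [⟨71,(Int.ofNat 1),1⟩] .nil .nil)) (.node 5 [⟨71,(Int.negSucc 0),1⟩] (.node 4 [⟨71,(Int.ofNat 1),1⟩] .nil .nil) .nil)) (.node 12 [⟨0,(Int.ofNat 1),1⟩, ⟨1,(Int.ofNat 1),1⟩, ⟨2,(Int.ofNat 1),1⟩, ⟨3,(Int.ofNat 2),1⟩, ⟨4,(Int.ofNat 1),1⟩, ⟨5,(Int.ofNat 1),1⟩, ⟨71,(Int.negSucc 0),2⟩] (.node 9 [⟨35,(Int.ofNat 1),1⟩] (.node 7 [⟨33,(Int.negSucc 0),1⟩] .nil .nil) (.node 11 [⟨40,(Int.ofNat 1),1⟩] .nil .nil)) (.node 14 [⟨45,(Int.ofNat 1),1⟩] (.node 13 [⟨42,(Int.ofNat 1),1⟩] .nil .nil) .nil))) (.node 36 [⟨67,(Int.ofNat 1),1⟩] (.node 23 [⟨62,(Int.negSucc 0),1⟩] (.node 19 [⟨55,(Int.negSucc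 0),1⟩] (.node 17 [⟨53,(Int.ofNat 1),1⟩] .nil .nil) (.node 21 [⟨60,(Int.ofNat 1),1⟩] .nil .nil)) (.node 30 [⟨66,(Int.negSucc 0),1⟩] (.node 28 [⟨64,(Int.ofNat 1),1⟩] .nil .nil) .nil)) (.node 48 [⟨74,(Int.negSucc 0),1⟩] (.node 41 [⟨70,(Int.negSucc 0),1⟩] (.node 38 [⟨69,(Int.negSucc 0),1⟩] .nil .nil) (.node 43 [⟨72,(Int.negSucc 0),1⟩] .nil .nil)) (.node 57 [⟨77,(Int.ofNat 1),1⟩] (.node 50 [⟨76,(Int.ofNat 1),1⟩] .nil .nil) .nil))))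
def col66 : Tr Cl := (.node 15 [⟨47,(Int.negSucc 0),1⟩] (.node 6 [⟨27,(Int.ofNat 1),1⟩] (.node 3 [⟨72,(Int.ofNat 0),1⟩] (.node 1 [⟨72,(Int.ofNat 0),1⟩] (.node 0 [⟨72,(Int.negSucc 0),1⟩] .nil .nil) (.node 2 [⟨72,(Int.ofNat 1),1⟩] .nil .nil)) (.node 5 [⟨72,(Int.ofNat 0),1⟩] (.node 4 [⟨72,(Int.negSucc 0),1⟩] .nil .nil) .nil)) (.node 12 [⟨43,(Int.ofNat 1),1⟩] (.node 8 [⟨35,(Int.ofNat 1),1⟩] (.node 7 [⟨34,(Int.ofNat 1),1⟩] .nil .nil) (.node 11 [⟨0,(Int.ofNat 1),1⟩, ⟨1,(Int.ofNat 1),1⟩, ⟨2,(Int.ofNat 1),1⟩, ⟨3,(Int.ofNat 2),1⟩, ⟨4,(Int.ofNat 2),1⟩, ⟨5,(Int.ofNat 1),1⟩, ⟨72,(Int.negSucc 0),2⟩] .nil .nil)) (.node 14 [⟨46,(Int.ofNat 1),1⟩] (.node 13 [⟨44,(Int.negSucc 0),1⟩] .nil .nil) .nil))) (.node 36 [⟨68,(Int.ofNat 1),1⟩] (.node 22 [⟨62,(Int.negSucc 0),1⟩] (.node 18 [⟨55,(Int.negSucc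 0),1⟩] (.node 17 [⟨54,(Int.ofNat 1),1⟩] .nil .nil) (.node 21 [⟨61,(Int.ofNat 1),1⟩] .nil .nil)) (.node 29 [⟨66,(Int.negSucc 0),1⟩] (.node 28 [⟨65,(Int.ofNat 1),1⟩] .nil .nil) .nil)) (.node 48 [⟨75,(Int.negSucc 0),1⟩] (.node 39 [⟨70,(Int.ofNat 1),1⟩] (.node 37 [⟨69,(Int.negSucc 0),1⟩] .nil .nil) (.node 40 [⟨71,(Int.negSucc 0),1⟩] .nil .nil)) (.node 56 [⟨77,(Int.negSucc 0),1⟩] (.node 49 [⟨76,(Int.negSucc 0),1⟩] .nil .nil) .nil))))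
def col67 : Tr Cl := (.node 16 [⟨50,(Int.ofNat 1),1⟩] (.node 6 [⟨28,(Int.negSucc 0),1⟩] (.node 3 [⟨73,(Int.ofNat 0),1⟩] (.node 1 [⟨73,(Int.ofNat 0),1⟩] (.node 0 [⟨73,(Int.ofNat 0),1⟩] .nil .nil) (.node 2 [⟨73,(Int.negSucc 0),1⟩] .nil .nil)) (.node 5 [⟨73,(Int.ofNat 1),1⟩] (.node 4 [⟨73,(Int.ofNat 0),1⟩] .nil .nil) .nil)) (.node 10 [⟨0,(Int.ofNat 1),1⟩, ⟨1,(Int.ofNat 1),1⟩, ⟨2,(Int.ofNat 2),1⟩, ⟨3,(Int.ofNat 2),1⟩, ⟨4,(Int.ofNat 1),1⟩, ⟨5,(Int.ofNat 0),1⟩, ⟨73,(Int.negSucc 0),2⟩] (.node 8 [⟨39,(Int.negSucc 0),1⟩] (.node 7 [⟨36,(Int.ofNat 1),1⟩] .nil .nil) (.node 9 [⟨41,(Int.ofNat 1),1⟩] .nil .nil)) (.node 15 [⟨49,(Int.negSucc 0),1⟩] (.node 13 [⟨48,(Int.ofNat 1),1⟩] .nil .nil) .nil))) (.node 33 [⟨67,(Int.negSucc 0),1⟩] (.node 24 [⟨63,(Int.negSucc 0),1⟩] (.node 19 [⟨57,(Int.negSucc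 0),1⟩] (.node 18 [⟨56,(Int.ofNat 1),1⟩] .nil .nil) (.node 20 [⟨59,(Int.ofNat 1),1⟩] .nil .nil)) (.node 27 [⟨65,(Int.negSucc 0),1⟩] (.node 26 [⟨64,(Int.ofNat 1),1⟩] .nil .nil) .nil)) (.node 44 [⟨75,(Int.ofNat 1),1⟩] (.node 35 [⟨70,(Int.negSucc 0),1⟩] (.node 34 [⟨68,(Int.ofNat 1),1⟩] .nil .nil) (.node 42 [⟨74,(Int.negSucc 0),1⟩] .nil .nil)) (.node 55 [⟨77,(Int.ofNat 1),1⟩] (.node 47 [⟨76,(Int.negSucc 0),1⟩] .nil .nil) .nil))))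
def col68 : Tr Cl := (.node 16 [⟨51,(Int.ofNat 1),1⟩] (.node 6 [⟨29,(Int.ofNat 1),1⟩] (.node 3 [⟨74,(Int.ofNat 0),1⟩] (.node 1 [⟨74,(Int.ofNat 0),1⟩] (.node 0 [⟨74,(Int.ofNat 0),1⟩] .nil .nil) (.node 2 [⟨74,(Int.negSucc 0),1⟩] .nil .nil)) (.node 5 [⟨74,(Int.negSucc 0),1⟩] (.node 4 [⟨74,(Int.ofNat 1),1⟩] .nil .nil) .nil)) (.node 10 [⟨42,(Int.ofNat 1),1⟩] (.node 8 [⟨40,(Int.ofNat 1),1⟩] (.node 7 [⟨37,(Int.negSucc 0),1⟩] .nil .nil) (.node 9 [⟨0,(Int.ofNat 1),1⟩, ⟨1,(Int.ofNat 1),1⟩, ⟨2,(Int.ofNat 2),1⟩, ⟨3,(Int.ofNat 2),1⟩, ⟨4,(Int.ofNat 1),1⟩, ⟨5,(Int.ofNat 1),1⟩, ⟨74,(Int.negSucc 0),2⟩] .nil .nil)) (.node 14 [⟨49,(Int.negSucc 0),1⟩] (.node 12 [⟨48,(Int.ofNat 1),1⟩] .nil .nil) .nil))) (.node 32 [⟨67,(Int.negSucc 0),1⟩] (.node 23 [⟨63,(Int.negSucc 0),1⟩] (.node 19 [⟨58,(Int.negSucc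 0),1⟩] (.node 17 [⟨56,(Int.ofNat 1),1⟩] .nil .nil) (.node 20 [⟨60,(Int.ofNat 1),1⟩] .nil .nil)) (.node 27 [⟨66,(Int.negSucc 0),1⟩] (.node 25 [⟨64,(Int.ofNat 1),1⟩] .nil .nil) .nil)) (.node 43 [⟨75,(Int.negSucc 0),1⟩] (.node 35 [⟨71,(Int.negSucc 0),1⟩] (.node 34 [⟨69,(Int.ofNat 1),1⟩] .nil .nil) (.node 41 [⟨73,(Int.negSucc 0),1⟩] .nil .nil)) (.node 54 [⟨77,(Int.negSucc 0),1⟩] (.node 46 [⟨76,(Int.ofNat 1),1⟩] .nil .nil) .nil))))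
def col69 : Tr Cl := (.node 15 [⟨51,(Int.ofNat 1),1⟩] (.node 6 [⟨30,(Int.negSucc 0),1⟩] (.node 3 [⟨75,(Int.ofNat 1),1⟩] (.node 1 [⟨75,(Int.ofNat 0),1⟩] (.node 0 [⟨75,(Int.ofNat 0),1⟩] .nil .nil) (.node 2 [⟨75,(Int.negSucc 0),1⟩] .nil .nil)) (.node 5 [⟨75,(Int.ofNat 0),1⟩] (.node 4 [⟨75,(Int.negSucc 0),1⟩] .nil .nil) .nil)) (.node 10 [⟨44,(Int.negSucc 0),1⟩] (.node 8 [⟨0,(Int.ofNat 1),1⟩, ⟨1,(Int.ofNat 1),1⟩, ⟨2,(Int.ofNat 2),1⟩, ⟨3,(Int.ofNat 2),1⟩, ⟨4,(Int.ofNat 2),1⟩, ⟨5,(Int.ofNat 1),1⟩, ⟨75,(Int.negSucc 0),2⟩] (.node 7 [⟨38,(Int.ofNat 1),1⟩] .nil .nil) (.node 9 [⟨43,(Int.ofNat 1),1⟩] .nil .nil)) (.node 14 [⟨50,(Int.negSucc 0),1⟩] (.node 11 [⟨48,(Int.ofNat 1),1⟩] .nil .nil) .nil))) (.node 32 [⟨68,(Int.negSucc 0),1⟩] (.node 22 [⟨63,(Int.negSucc 0),1⟩] (.node 18 [⟨58,(Int.negSucc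 0),1⟩] (.node 17 [⟨57,(Int.ofNat 1),1⟩] .nil .nil) (.node 20 [⟨61,(Int.ofNat 1),1⟩] .nil .nil)) (.node 26 [⟨66,(Int.negSucc 0),1⟩] (.node 25 [⟨65,(Int.ofNat 1),1⟩] .nil .nil) .nil)) (.node 40 [⟨74,(Int.negSucc 0),1⟩] (.node 35 [⟨72,(Int.negSucc 0),1⟩] (.node 33 [⟨69,(Int.ofNat 1),1⟩] .nil .nil) (.node 39 [⟨73,(Int.ofNat 1),1⟩] .nil .nil)) (.node 53 [⟨77,(Int.ofNat 1),1⟩] (.node 45 [⟨76,(Int.negSucc 0),1⟩] .nil .nil) .nil))))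
def col70 : Tr Cl := (.node 13 [⟨51,(Int.ofNat 1),1⟩] (.node 6 [⟨31,(Int.ofNat 1),1⟩] (.node 3 [⟨76,(Int.negSucc 0),1⟩] (.node 1 [⟨76,(Int.ofNat 1),1⟩] (.node 0 [⟨76,(Int.ofNat 0),1⟩] .nil .nil) (.node 2 [⟨76,(Int.ofNat 0),1⟩] .nil .nil)) (.node 5 [⟨76,(Int.ofNat 0),1⟩] (.node 4 [⟨76,(Int.ofNat 0),1⟩] .nil .nil) .nil)) (.node 10 [⟨47,(Int.ofNat 1),1⟩] (.node 8 [⟨45,(Int.ofNat 1),1⟩] (.node 7 [⟨0,(Int.ofNat 1),1⟩, ⟨1,(Int.ofNat 1),1⟩, ⟨2,(Int.ofNat 2),1⟩, ⟨3,(Int.ofNat 3),1⟩, ⟨4,(Int.ofNat 2),1⟩, ⟨5,(Int.ofNat 1),1⟩, ⟨76,(Int.negSucc 0),2⟩] .nil .nil) (.node 9 [⟨46,(Int.negSucc 0),1⟩] .nil .nil)) (.node 12 [⟨50,(Int.negSucc 0),1⟩] (.node 11 [⟨49,(Int.ofNat 1),1⟩] .nil .nil) .nil))) (.node 32 [⟨70,(Int.negSucc 0),1⟩] (.node 22 [⟨64,(Int.negSucc 0),1⟩] (.node 18 [⟨60,(Int.negSucc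 0),1⟩] (.node 17 [⟨59,(Int.ofNat 1),1⟩] .nil .nil) (.node 19 [⟨61,(Int.ofNat 1),1⟩] .nil .nil)) (.node 24 [⟨66,(Int.negSucc 0),1⟩] (.node 23 [⟨65,(Int.ofNat 1),1⟩] .nil .nil) .nil)) (.node 37 [⟨74,(Int.ofNat 1),1⟩] (.node 34 [⟨72,(Int.negSucc 0),1⟩] (.node 33 [⟨71,(Int.ofNat 1),1⟩] .nil .nil) (.node 36 [⟨73,(Int.negSucc 0),1⟩] .nil .nil)) (.node 52 [⟨77,(Int.negSucc 0),1⟩] (.node 38 [⟨75,(Int.negSucc 0),1⟩] .nil .nil) .nil))))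
def col71 : Tr Cl := (.node 13 [⟨58,(Int.ofNat 1),1⟩] (.node 6 [⟨0,(Int.ofNat 1),1⟩, ⟨1,(Int.ofNat 2),1⟩, ⟨2,(Int.ofNat 2),1⟩, ⟨3,(Int.ofNat 3),1⟩, ⟨4,(Int.ofNat 2),1⟩, ⟨5,(Int.ofNat 1),1⟩, ⟨77,(Int.negSucc 0),2⟩] (.node 3 [⟨77,(Int.ofNat 0),1⟩] (.node 1 [⟨77,(Int.negSucc 0),1⟩] (.node 0 [⟨77,(Int.ofNat 0),1⟩] .nil .nil) (.node 2 [⟨77,(Int.ofNat 0),1⟩] .nil .nil)) (.node 5 [⟨77,(Int.ofNat 0),1⟩] (.node 4 [⟨77,(Int.ofNat 0),1⟩] .nil .nil) .nil)) (.node 10 [⟨55,(Int.negSucc 0),1⟩] (.node 8 [⟨53,(Int.negSucc 0),1⟩] (.node 7 [⟨52,(Int.ofNat 1),1⟩] .nil .nil) (.node 9 [⟨54,(Int.ofNat 1),1⟩] .nil .nil)) (.node 12 [⟨57,(Int.negSucc 0),1⟩] (.node 11 [⟨56,(Int.ofNat 1),1⟩] .nil .nil) .nil))) (.node 25 [⟨70,(Int.negSucc 0),1⟩] (.node 22 [⟨67,(Int.negSucc 0),1⟩] (.node 15 [⟨60,(Int.negSucc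 0),1⟩] (.node 14 [⟨59,(Int.ofNat 1),1⟩] .nil .nil) (.node 16 [⟨61,(Int.ofNat 1),1⟩] .nil .nil)) (.node 24 [⟨69,(Int.negSucc 0),1⟩] (.node 23 [⟨68,(Int.ofNat 1),1⟩] .nil .nil) .nil)) (.node 29 [⟨74,(Int.negSucc 0),1⟩] (.node 27 [⟨72,(Int.negSucc 0),1⟩] (.node 26 [⟨71,(Int.ofNat 1),1⟩] .nil .nil) (.node 28 [⟨73,(Int.ofNat 1),1⟩] .nil .nil)) (.node 31 [⟨76,(Int.negSucc 0),1⟩] (.node 30 [⟨75,(Int.ofNat 1),1⟩] .nil .nil) .nil))))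
def cols : Tr (Tr Cl) := (.node 36 col36 (.node 18 col18 (.node 9 col9 (.node 4 col4 (.node 2 col2 (.node 1 col1 (.node 0 col0 .nil .nil) .nil) (.node 3 col3 .nil .nil)) (.node 7 col7 (.node 6 col6 (.node 5 col5 .nil .nil) .nil) (.node 8 col8 .nil .nil))) (.node 14 col14 (.node 12 col12 (.node 11 col11 (.node 10 col10 .nil .nil) .nil) (.node 13 col13 .nil .nil)) (.node 16 col16 (.node 15 col15 .nil .nil) (.node 17 col17 .nil .nil)))) (.node 27 col27 (.node 23 col23 (.node 21 col21 (.node 20 col20 (.node 19 col19 .nil .nil) .nil) (.node 22 col22 .nil .nil)) (.node 25 col25 (.node 24 col24 .nil .nil) (.node 26 col26 .nil .nil))) (.node 32 col32 (.node 30 col30 (.node 29 col29 (.node 28 col28 .nil .nil) .nil) (.node 31 col31 .nil .nil)) (.node 34 col34 (.node 33 col33 .nil .nil)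 (.node 35 col35 .nil .nil))))) (.node 54 col54 (.node 45 col45 (.node 41 col41 (.node 39 col39 (.node 38 col38 (.node 37 col37 .nil .nil) .nil) (.node 40 col40 .nil .nil)) (.node 43 col43 (.node 42 col42 .nil .nil) (.node 44 col44 .nil .nil))) (.node 50 col50 (.node 48 col48 (.node 47 col47 (.node 46 col46 .nil .nil) .nil) (.node 49 col49 .nil .nil)) (.node 52 col52 (.node 51 col51 .nil .nil) (.node 53 col53 .nil .nil)))) (.node 63 col63 (.node 59 col59 (.node 57 col57 (.node 56 col56 (.node 55 col55 .nil .nil) .nil) (.node 58 col58 .nil .nil)) (.node 61 col61 (.node 60 col60 .nil .nil) (.node 62 col62 .nil .nil))) (.node 68 col68 (.node 66 col66 (.node 65 col65 (.node 64 col64 .nil .nil) .nil) (.node 67 col67 .nil .nil)) (.node 70 col70 (.node 69 col69 .nil .nil) (.node 71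 col71 .nil .nil))))))
def ch0 : Tr (List (ℕ × ℤ)) := (.node 61 [(16,(Int.negSucc 0))] (.node 51 [(6,(Int.negSucc 0))] (.node 48 [(3,(Int.ofNat 1))] (.node 47 [(2,(Int.negSucc 0))] (.node 46 [(1,(Int.ofNat 1))] .nil .nil) .nil) (.node 50 [(5,(Int.ofNat 1))] (.node 49 [(4,(Int.negSucc 0))] .nil .nil) .nil)) (.node 54 [(9,(Int.negSucc 0))] (.node 53 [(8,(Int.ofNat 1))] (.node 52 [(7,(Int.ofNat 1))] .nil .nil) .nil) (.node 55 [(10,(Int.ofNat 1))] .nil .nil))) (.node 66 [(21,(Int.negSucc 0))] (.node 64 [(19,(Int.negSucc 0))] (.node 63 [(18,(Int.negSucc 0))] (.node 62 [(17,(Int.ofNat 1))] .nil .nil) .nil) (.node 65 [(20,(Int.ofNat 1))] .nil .nil)) (.node 69 [(24,(Int.ofNat 1))] (.node 68 [(23,(Int.negSucc 0))] (.node 67 [(22,(Int.ofNat 1))] .nil .nil) .nil) (.node 70 [(25,(Int.negSucc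 0))] .nil .nil))))
def ch1 : Tr (List (ℕ × ℤ)) := (.node 58 [(16,(Int.negSucc 0))] (.node 44 [(6,(Int.negSucc 0))] (.node 40 [(3,(Int.negSucc 0))] (.node 39 [(2,(Int.ofNat 1))] (.node 25 [(0,(Int.ofNat 1))] .nil .nil) .nil) (.node 43 [(5,(Int.ofNat 1))] (.node 41 [(4,(Int.ofNat 1))] .nil .nil) .nil)) (.node 54 [(12,(Int.negSucc 0))] (.node 53 [(11,(Int.ofNat 1))] (.node 45 [(7,(Int.ofNat 1))] .nil .nil) .nil) (.node 55 [(13,(Int.ofNat 1))] .nil .nil))) (.node 66 [(28,(Int.negSucc 0))] (.node 64 [(26,(Int.negSucc 0))] (.node 60 [(18,(Int.negSucc 0))] (.node 59 [(17,(Int.ofNat 1))] .nil .nil) .nil) (.node 65 [(27,(Int.ofNat 1))] .nil .nil)) (.node 69 [(32,(Int.negSucc 0))] (.node 68 [(31,(Int.ofNat 1))] (.node 67 [(30,(Int.negSucc 0))] .nil .nil) .nil) (.node 71 [(46,(Int.negSucc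 0))] .nil .nil))))
def ch2 : Tr (List (ℕ × ℤ)) := (.node 57 [(16,(Int.negSucc 0))] (.node 44 [(8,(Int.negSucc 0))] (.node 37 [(3,(Int.ofNat 1))] (.node 32 [(1,(Int.ofNat 1))] (.node 24 [(0,(Int.negSucc 0))] .nil .nil) .nil) (.node 42 [(5,(Int.ofNat 1))] (.node 38 [(4,(Int.negSucc 0))] .nil .nil) .nil)) (.node 52 [(12,(Int.negSucc 0))] (.node 51 [(11,(Int.ofNat 1))] (.node 45 [(9,(Int.ofNat 1))] .nil .nil) .nil) (.node 55 [(14,(Int.ofNat 1))] .nil .nil))) (.node 66 [(29,(Int.negSucc 0))] (.node 62 [(26,(Int.negSucc 0))] (.node 60 [(20,(Int.negSucc 0))] (.node 59 [(19,(Int.ofNat 1))] .nil .nil) .nil) (.node 63 [(27,(Int.ofNat 1))] .nil .nil)) (.node 70 [(39,(Int.negSucc 0))] (.node 68 [(34,(Int.negSucc 0))] (.node 67 [(33,(Int.ofNat 1))] .nil .nil) .nil) (.node 71 [(47,(Int.ofNat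 1))] .nil .nil))))
def ch3 : Tr (List (ℕ × ℤ)) := (.node 57 [(17,(Int.negSucc 0))] (.node 43 [(8,(Int.negSucc 0))] (.node 34 [(2,(Int.ofNat 1))] (.node 31 [(1,(Int.negSucc 0))] (.node 23 [(0,(Int.ofNat 1))] .nil .nil) .nil) (.node 42 [(6,(Int.ofNat 1))] (.node 36 [(4,(Int.ofNat 1))] .nil .nil) .nil)) (.node 52 [(13,(Int.negSucc 0))] (.node 50 [(11,(Int.ofNat 1))] (.node 45 [(10,(Int.ofNat 1))] .nil .nil) .nil) (.node 54 [(14,(Int.ofNat 1))] .nil .nil))) (.node 65 [(29,(Int.negSucc 0))] (.node 61 [(26,(Int.negSucc 0))] (.node 60 [(21,(Int.negSucc 0))] (.node 58 [(19,(Int.ofNat 1))] .nil .nil) .nil) (.node 63 [(28,(Int.ofNat 1))] .nil .nil)) (.node 70 [(40,(Int.ofNat 1))] (.node 69 [(37,(Int.negSucc 0))] (.node 67 [(35,(Int.negSucc 0))] .nil .nil) .nil) (.node 71 [(48,(Int.negSucc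 0))] .nil .nil))))
def ch4 : Tr (List (ℕ × ℤ)) := (.node 57 [(18,(Int.negSucc 0))] (.node 43 [(9,(Int.negSucc 0))] (.node 33 [(2,(Int.negSucc 0))] (.node 30 [(1,(Int.ofNat 1))] (.node 22 [(0,(Int.negSucc 0))] .nil .nil) .nil) (.node 42 [(7,(Int.ofNat 1))] (.node 35 [(3,(Int.ofNat 1))] .nil .nil) .nil)) (.node 51 [(13,(Int.negSucc 0))] (.node 50 [(12,(Int.ofNat 1))] (.node 44 [(10,(Int.ofNat 1))] .nil .nil) .nil) (.node 53 [(14,(Int.ofNat 1))] .nil .nil))) (.node 64 [(29,(Int.negSucc 0))] (.node 61 [(27,(Int.negSucc 0))] (.node 59 [(21,(Int.negSucc 0))] (.node 58 [(20,(Int.ofNat 1))] .nil .nil) .nil) (.node 62 [(28,(Int.ofNat 1))] .nil .nil)) (.node 70 [(41,(Int.negSucc 0))] (.node 69 [(38,(Int.ofNat 1))] (.node 68 [(36,(Int.negSucc 0))] .nil .nil) .nil) (.node 71 [(49,(Int.ofNat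 1))] .nil .nil))))
def ch5 : Tr (List (ℕ × ℤ)) := (.node 56 [(16,(Int.negSucc 0))] (.node 40 [(8,(Int.ofNat 1))] (.node 29 [(2,(Int.ofNat 1))] (.node 28 [(1,(Int.ofNat 1))] (.node 21 [(0,(Int.ofNat 1))] .nil .nil) .nil) (.node 38 [(7,(Int.negSucc 0))] (.node 37 [(6,(Int.ofNat 1))] .nil .nil) .nil)) (.node 49 [(12,(Int.negSucc 0))] (.node 48 [(11,(Int.ofNat 1))] (.node 41 [(9,(Int.negSucc 0))] .nil .nil) .nil) (.node 55 [(15,(Int.ofNat 1))] .nil .nil))) (.node 64 [(33,(Int.ofNat 1))] (.node 62 [(30,(Int.ofNat 1))] (.node 60 [(23,(Int.negSucc 0))] (.node 59 [(22,(Int.ofNat 1))] .nil .nil) .nil) (.node 63 [(31,(Int.negSucc 0))] .nil .nil)) (.node 70 [(43,(Int.negSucc 0))] (.node 69 [(42,(Int.negSucc 0))] (.node 65 [(34,(Int.negSucc 0))] .nil .nil) .nil) (.node 71 [(50,(Int.negSucc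 0))] .nil .nil))))
def ch6 : Tr (List (ℕ × ℤ)) := (.node 56 [(17,(Int.negSucc 0))] (.node 39 [(8,(Int.ofNat 1))] (.node 29 [(3,(Int.ofNat 1))] (.node 27 [(1,(Int.negSucc 0))] (.node 20 [(0,(Int.negSucc 0))] .nil .nil) .nil) (.node 36 [(7,(Int.ofNat 1))] (.node 34 [(5,(Int.ofNat 1))] .nil .nil) .nil)) (.node 49 [(13,(Int.negSucc 0))] (.node 47 [(11,(Int.ofNat 1))] (.node 41 [(10,(Int.negSucc 0))] .nil .nil) .nil) (.node 54 [(15,(Int.ofNat 1))] .nil .nil))) (.node 64 [(35,(Int.negSucc 0))] (.node 61 [(30,(Int.ofNat 1))] (.node 60 [(24,(Int.negSucc 0))] (.node 58 [(22,(Int.ofNat 1))] .nil .nil) .nil) (.node 63 [(32,(Int.negSucc 0))] .nil .nil)) (.node 70 [(44,(Int.ofNat 1))] (.node 68 [(42,(Int.negSucc 0))] (.node 66 [(37,(Int.negSucc 0))] .nil .nil) .nil) (.node 71 [(51,(Int.ofNat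 1))] .nil .nil))))
def ch7 : Tr (List (ℕ × ℤ)) := (.node 56 [(18,(Int.negSucc 0))] (.node 39 [(9,(Int.ofNat 1))] (.node 29 [(4,(Int.ofNat 1))] (.node 26 [(1,(Int.ofNat 1))] (.node 19 [(0,(Int.ofNat 1))] .nil .nil) .nil) (.node 35 [(6,(Int.ofNat 1))] (.node 33 [(5,(Int.negSucc 0))] .nil .nil) .nil)) (.node 48 [(13,(Int.negSucc 0))] (.node 47 [(12,(Int.ofNat 1))] (.node 40 [(10,(Int.negSucc 0))] .nil .nil) .nil) (.node 53 [(15,(Int.ofNat 1))] .nil .nil))) (.node 65 [(36,(Int.negSucc 0))] (.node 61 [(31,(Int.ofNat 1))] (.node 59 [(24,(Int.negSucc 0))] (.node 58 [(23,(Int.ofNat 1))] .nil .nil) .nil) (.node 62 [(32,(Int.negSucc 0))] .nil .nil)) (.node 70 [(45,(Int.negSucc 0))] (.node 67 [(42,(Int.negSucc 0))] (.node 66 [(38,(Int.ofNat 1))] .nil .nil) .nil) (.node 71 [(52,(Int.negSucc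 0))] .nil .nil))))
def ch8 : Tr (List (ℕ × ℤ)) := (.node 56 [(19,(Int.negSucc 0))] (.node 36 [(9,(Int.ofNat 1))] (.node 28 [(3,(Int.negSucc 0))] (.node 27 [(2,(Int.negSucc 0))] (.node 18 [(0,(Int.ofNat 1))] .nil .nil) .nil) (.node 32 [(6,(Int.ofNat 1))] (.node 31 [(5,(Int.ofNat 1))] .nil .nil) .nil)) (.node 49 [(14,(Int.negSucc 0))] (.node 46 [(11,(Int.ofNat 1))] (.node 38 [(10,(Int.ofNat 1))] .nil .nil) .nil) (.node 52 [(15,(Int.ofNat 1))] .nil .nil))) (.node 65 [(39,(Int.negSucc 0))] (.node 61 [(33,(Int.negSucc 0))] (.node 60 [(25,(Int.negSucc 0))] (.node 57 [(22,(Int.ofNat 1))] .nil .nil) .nil) (.node 62 [(35,(Int.negSucc 0))] .nil .nil)) (.node 69 [(44,(Int.ofNat 1))] (.node 68 [(43,(Int.ofNat 1))] (.node 66 [(40,(Int.negSucc 0))] .nil .nil) .nil) (.node 71 [(53,(Int.negSucc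 0))] .nil .nil))))
def ch9 : Tr (List (ℕ × ℤ)) := (.node 56 [(20,(Int.negSucc 0))] (.node 35 [(8,(Int.ofNat 1))] (.node 28 [(4,(Int.negSucc 0))] (.node 26 [(2,(Int.ofNat 1))] (.node 17 [(0,(Int.negSucc 0))] .nil .nil) .nil) (.node 32 [(7,(Int.ofNat 1))] (.node 30 [(5,(Int.negSucc 0))] .nil .nil) .nil)) (.node 48 [(14,(Int.negSucc 0))] (.node 46 [(12,(Int.ofNat 1))] (.node 37 [(10,(Int.ofNat 1))] .nil .nil) .nil) (.node 51 [(15,(Int.ofNat 1))] .nil .nil))) (.node 64 [(39,(Int.negSucc 0))] (.node 61 [(34,(Int.negSucc 0))] (.node 59 [(25,(Int.negSucc 0))] (.node 57 [(23,(Int.ofNat 1))] .nil .nil) .nil) (.node 63 [(36,(Int.negSucc 0))] .nil .nil)) (.node 69 [(45,(Int.negSucc 0))] (.node 67 [(43,(Int.ofNat 1))] (.node 66 [(41,(Int.ofNat 1))] .nil .nil) .nil) (.node 71 [(54,(Int.ofNat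 1))] .nil .nil))))
def ch10 : Tr (List (ℕ × ℤ)) := (.node 56 [(21,(Int.negSucc 0))] (.node 33 [(8,(Int.ofNat 1))] (.node 27 [(4,(Int.ofNat 1))] (.node 26 [(3,(Int.ofNat 1))] (.node 16 [(0,(Int.ofNat 1))] .nil .nil) .nil) (.node 31 [(7,(Int.negSucc 0))] (.node 30 [(6,(Int.negSucc 0))] .nil .nil) .nil)) (.node 47 [(14,(Int.negSucc 0))] (.node 46 [(13,(Int.ofNat 1))] (.node 34 [(9,(Int.ofNat 1))] .nil .nil) .nil) (.node 50 [(15,(Int.ofNat 1))] .nil .nil))) (.node 64 [(40,(Int.ofNat 1))] (.node 62 [(37,(Int.negSucc 0))] (.node 58 [(25,(Int.negSucc 0))] (.node 57 [(24,(Int.ofNat 1))] .nil .nil) .nil) (.node 63 [(38,(Int.negSucc 0))] .nil .nil)) (.node 68 [(45,(Int.negSucc 0))] (.node 67 [(44,(Int.negSucc 0))] (.node 65 [(41,(Int.ofNat 1))] .nil .nil) .nil) (.node 71 [(55,(Int.negSucc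 0))] .nil .nil))))
def ch11 : Tr (List (ℕ × ℤ)) := (.node 56 [(26,(Int.negSucc 0))] (.node 25 [(8,(Int.ofNat 1))] (.node 21 [(3,(Int.ofNat 1))] (.node 20 [(2,(Int.ofNat 1))] (.node 18 [(1,(Int.ofNat 1))] .nil .nil) .nil) (.node 24 [(6,(Int.ofNat 1))] (.node 23 [(5,(Int.ofNat 1))] .nil .nil) .nil)) (.node 41 [(14,(Int.ofNat 1))] (.node 38 [(13,(Int.ofNat 1))] (.node 36 [(12,(Int.ofNat 1))] .nil .nil) .nil) (.node 45 [(15,(Int.ofNat 1))] .nil .nil))) (.node 65 [(47,(Int.negSucc 0))] (.node 59 [(35,(Int.negSucc 0))] (.node 58 [(33,(Int.negSucc 0))] (.node 57 [(30,(Int.negSucc 0))] .nil .nil) .nil) (.node 63 [(46,(Int.negSucc 0))] .nil .nil)) (.node 69 [(51,(Int.negSucc 0))] (.node 68 [(50,(Int.negSucc 0))] (.node 66 [(48,(Int.negSucc 0))] .nil .nil) .nil) (.node 70 [(53,(Int.negSucc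 0))] .nil .nil))))
def ch12 : Tr (List (ℕ × ℤ)) := (.node 56 [(27,(Int.negSucc 0))] (.node 25 [(9,(Int.ofNat 1))] (.node 21 [(4,(Int.ofNat 1))] (.node 19 [(2,(Int.negSucc 0))] (.node 17 [(1,(Int.negSucc 0))] .nil .nil) .nil) (.node 24 [(7,(Int.ofNat 1))] (.node 22 [(5,(Int.negSucc 0))] .nil .nil) .nil)) (.node 40 [(14,(Int.ofNat 1))] (.node 37 [(13,(Int.ofNat 1))] (.node 35 [(11,(Int.ofNat 1))] .nil .nil) .nil) (.node 44 [(15,(Int.ofNat 1))] .nil .nil))) (.node 64 [(47,(Int.negSucc 0))] (.node 60 [(36,(Int.negSucc 0))] (.node 58 [(34,(Int.negSucc 0))] (.node 57 [(31,(Int.negSucc 0))] .nil .nil) .nil) (.node 62 [(46,(Int.negSucc 0))] .nil .nil)) (.node 69 [(52,(Int.ofNat 1))] (.node 67 [(50,(Int.negSucc 0))] (.node 66 [(49,(Int.ofNat 1))] .nil .nil) .nil) (.node 70 [(54,(Int.ofNat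 1))] .nil .nil))))
def ch13 : Tr (List (ℕ × ℤ)) := (.node 56 [(28,(Int.negSucc 0))] (.node 25 [(10,(Int.ofNat 1))] (.node 20 [(4,(Int.negSucc 0))] (.node 19 [(3,(Int.negSucc 0))] (.node 16 [(1,(Int.ofNat 1))] .nil .nil) .nil) (.node 23 [(7,(Int.negSucc 0))] (.node 22 [(6,(Int.negSucc 0))] .nil .nil) .nil)) (.node 39 [(14,(Int.ofNat 1))] (.node 34 [(12,(Int.ofNat 1))] (.node 33 [(11,(Int.ofNat 1))] .nil .nil) .nil) (.node 43 [(15,(Int.ofNat 1))] .nil .nil))) (.node 64 [(48,(Int.ofNat 1))] (.node 60 [(38,(Int.negSucc 0))] (.node 59 [(37,(Int.negSucc 0))] (.node 57 [(32,(Int.negSucc 0))] .nil .nil) .nil) (.node 61 [(46,(Int.negSucc 0))] .nil .nil)) (.node 68 [(52,(Int.ofNat 1))] (.node 67 [(51,(Int.ofNat 1))] (.node 65 [(49,(Int.ofNat 1))] .nil .nil) .nil) (.node 70 [(55,(Int.negSucc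 0))] .nil .nil))))
def ch14 : Tr (List (ℕ × ℤ)) := (.node 56 [(29,(Int.negSucc 0))] (.node 24 [(10,(Int.negSucc 0))] (.node 18 [(4,(Int.ofNat 1))] (.node 17 [(3,(Int.ofNat 1))] (.node 16 [(2,(Int.ofNat 1))] .nil .nil) .nil) (.node 23 [(9,(Int.negSucc 0))] (.node 22 [(8,(Int.negSucc 0))] .nil .nil) .nil)) (.node 32 [(13,(Int.ofNat 1))] (.node 31 [(12,(Int.ofNat 1))] (.node 30 [(11,(Int.ofNat 1))] .nil .nil) .nil) (.node 42 [(15,(Int.ofNat 1))] .nil .nil))) (.node 62 [(48,(Int.ofNat 1))] (.node 60 [(41,(Int.negSucc 0))] (.node 59 [(40,(Int.negSucc 0))] (.node 58 [(39,(Int.negSucc 0))] .nil .nil) .nil) (.node 61 [(47,(Int.ofNat 1))] .nil .nil)) (.node 68 [(54,(Int.negSucc 0))] (.node 67 [(53,(Int.negSucc 0))] (.node 63 [(49,(Int.ofNat 1))] .nil .nil) .nil) (.node 69 [(55,(Int.negSucc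 0))] .nil .nil))))
def ch15 : Tr (List (ℕ × ℤ)) := (.node 57 [(42,(Int.negSucc 0))] (.node 21 [(10,(Int.ofNat 1))] (.node 18 [(7,(Int.ofNat 1))] (.node 17 [(6,(Int.ofNat 1))] (.node 16 [(5,(Int.ofNat 1))] .nil .nil) .nil) (.node 20 [(9,(Int.ofNat 1))] (.node 19 [(8,(Int.ofNat 1))] .nil .nil) .nil)) (.node 28 [(13,(Int.ofNat 1))] (.node 27 [(12,(Int.ofNat 1))] (.node 26 [(11,(Int.ofNat 1))] .nil .nil) .nil) (.node 29 [(14,(Int.ofNat 1))] .nil .nil))) (.node 62 [(51,(Int.negSucc 0))] (.node 60 [(45,(Int.negSucc 0))] (.node 59 [(44,(Int.negSucc 0))] (.node 58 [(43,(Int.negSucc 0))] .nil .nil) .nil) (.node 61 [(50,(Int.negSucc 0))] .nil .nil)) (.node 65 [(54,(Int.negSucc 0))] (.node 64 [(53,(Int.negSucc 0))] (.node 63 [(52,(Int.negSucc 0))] .nil .nil) .nil) (.node 66 [(55,(Int.negSucc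 0))] .nil .nil))))
def ch16 : Tr (List (ℕ × ℤ)) := (.node 48 [(26,(Int.ofNat 1))] (.node 38 [(18,(Int.negSucc 0))] (.node 14 [(2,(Int.negSucc 0))] (.node 13 [(1,(Int.negSucc 0))] (.node 10 [(0,(Int.negSucc 0))] .nil .nil) .nil) (.node 37 [(17,(Int.ofNat 1))] (.node 15 [(5,(Int.negSucc 0))] .nil .nil) .nil)) (.node 44 [(22,(Int.ofNat 1))] (.node 41 [(20,(Int.negSucc 0))] (.node 40 [(19,(Int.ofNat 1))] .nil .nil) .nil) (.node 45 [(23,(Int.negSucc 0))] .nil .nil))) (.node 54 [(34,(Int.negSucc 0))] (.node 52 [(31,(Int.negSucc 0))] (.node 51 [(30,(Int.ofNat 1))] (.node 49 [(27,(Int.negSucc 0))] .nil .nil) .nil) (.node 53 [(33,(Int.ofNat 1))] .nil .nil)) (.node 70 [(58,(Int.ofNat 1))] (.node 69 [(57,(Int.ofNat 1))] (.node 66 [(56,(Int.ofNat 1))] .nil .nil) .nil) (.node 71 [(61,(Int.ofNat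 1))] .nil .nil))))
def ch17 : Tr (List (ℕ × ℤ)) := (.node 47 [(26,(Int.ofNat 1))] (.node 36 [(18,(Int.ofNat 1))] (.node 14 [(3,(Int.negSucc 0))] (.node 12 [(1,(Int.ofNat 1))] (.node 9 [(0,(Int.ofNat 1))] .nil .nil) .nil) (.node 34 [(16,(Int.ofNat 1))] (.node 15 [(6,(Int.negSucc 0))] .nil .nil) .nil)) (.node 43 [(22,(Int.ofNat 1))] (.node 41 [(21,(Int.negSucc 0))] (.node 39 [(19,(Int.ofNat 1))] .nil .nil) .nil) (.node 45 [(24,(Int.negSucc 0))] .nil .nil))) (.node 55 [(37,(Int.negSucc 0))] (.node 52 [(32,(Int.negSucc 0))] (.node 50 [(30,(Int.ofNat 1))] (.node 49 [(28,(Int.negSucc 0))] .nil .nil) .nil) (.node 53 [(35,(Int.negSucc 0))] .nil .nil)) (.node 70 [(59,(Int.negSucc 0))] (.node 68 [(57,(Int.ofNat 1))] (.node 65 [(56,(Int.ofNat 1))] .nil .nil) .nil) (.node 71 [(62,(Int.negSucc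 0))] .nil .nil))))
def ch18 : Tr (List (ℕ × ℤ)) := (.node 47 [(27,(Int.ofNat 1))] (.node 35 [(17,(Int.ofNat 1))] (.node 14 [(4,(Int.negSucc 0))] (.node 11 [(1,(Int.negSucc 0))] (.node 8 [(0,(Int.negSucc 0))] .nil .nil) .nil) (.node 33 [(16,(Int.negSucc 0))] (.node 15 [(7,(Int.negSucc 0))] .nil .nil) .nil)) (.node 43 [(23,(Int.ofNat 1))] (.node 40 [(21,(Int.negSucc 0))] (.node 39 [(20,(Int.ofNat 1))] .nil .nil) .nil) (.node 44 [(24,(Int.negSucc 0))] .nil .nil))) (.node 55 [(38,(Int.ofNat 1))] (.node 51 [(32,(Int.negSucc 0))] (.node 50 [(31,(Int.ofNat 1))] (.node 48 [(28,(Int.negSucc 0))] .nil .nil) .nil) (.node 54 [(36,(Int.negSucc 0))] .nil .nil)) (.node 70 [(60,(Int.ofNat 1))] (.node 67 [(57,(Int.ofNat 1))] (.node 64 [(56,(Int.ofNat 1))] .nil .nil) .nil) (.node 71 [(63,(Int.ofNat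 1))] .nil .nil))))
def ch19 : Tr (List (ℕ × ℤ)) := (.node 46 [(26,(Int.ofNat 1))] (.node 32 [(17,(Int.ofNat 1))] (.node 13 [(3,(Int.ofNat 1))] (.node 12 [(2,(Int.ofNat 1))] (.node 7 [(0,(Int.negSucc 0))] .nil .nil) .nil) (.node 31 [(16,(Int.ofNat 1))] (.node 15 [(8,(Int.negSucc 0))] .nil .nil) .nil)) (.node 42 [(22,(Int.ofNat 1))] (.node 38 [(21,(Int.ofNat 1))] (.node 36 [(20,(Int.ofNat 1))] .nil .nil) .nil) (.node 45 [(25,(Int.negSucc 0))] .nil .nil))) (.node 55 [(40,(Int.negSucc 0))] (.node 51 [(35,(Int.negSucc 0))] (.node 50 [(33,(Int.negSucc 0))] (.node 49 [(29,(Int.negSucc 0))] .nil .nil) .nil) (.node 54 [(39,(Int.negSucc 0))] .nil .nil)) (.node 69 [(59,(Int.negSucc 0))] (.node 68 [(58,(Int.negSucc 0))] (.node 63 [(56,(Int.ofNat 1))] .nil .nil) .nil) (.node 71 [(64,(Int.ofNat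 1))] .nil .nil))))
def ch20 : Tr (List (ℕ × ℤ)) := (.node 46 [(27,(Int.ofNat 1))] (.node 32 [(18,(Int.ofNat 1))] (.node 13 [(4,(Int.ofNat 1))] (.node 11 [(2,(Int.negSucc 0))] (.node 6 [(0,(Int.ofNat 1))] .nil .nil) .nil) (.node 30 [(16,(Int.negSucc 0))] (.node 15 [(9,(Int.negSucc 0))] .nil .nil) .nil)) (.node 42 [(23,(Int.ofNat 1))] (.node 37 [(21,(Int.ofNat 1))] (.node 35 [(19,(Int.ofNat 1))] .nil .nil) .nil) (.node 44 [(25,(Int.negSucc 0))] .nil .nil))) (.node 55 [(41,(Int.ofNat 1))] (.node 52 [(36,(Int.negSucc 0))] (.node 50 [(34,(Int.negSucc 0))] (.node 48 [(29,(Int.negSucc 0))] .nil .nil) .nil) (.node 53 [(39,(Int.negSucc 0))] .nil .nil)) (.node 69 [(60,(Int.ofNat 1))] (.node 67 [(58,(Int.negSucc 0))] (.node 62 [(56,(Int.ofNat 1))] .nil .nil) .nil) (.node 71 [(65,(Int.negSucc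 0))] .nil .nil))))
def ch21 : Tr (List (ℕ × ℤ)) := (.node 46 [(28,(Int.ofNat 1))] (.node 31 [(18,(Int.negSucc 0))] (.node 12 [(4,(Int.negSucc 0))] (.node 11 [(3,(Int.negSucc 0))] (.node 5 [(0,(Int.negSucc 0))] .nil .nil) .nil) (.node 30 [(17,(Int.negSucc 0))] (.node 15 [(10,(Int.negSucc 0))] .nil .nil) .nil)) (.node 42 [(24,(Int.ofNat 1))] (.node 34 [(20,(Int.ofNat 1))] (.node 33 [(19,(Int.ofNat 1))] .nil .nil) .nil) (.node 43 [(25,(Int.negSucc 0))] .nil .nil))) (.node 54 [(41,(Int.ofNat 1))] (.node 52 [(38,(Int.negSucc 0))] (.node 51 [(37,(Int.negSucc 0))] (.node 47 [(29,(Int.negSucc 0))] .nil .nil) .nil) (.node 53 [(40,(Int.ofNat 1))] .nil .nil)) (.node 68 [(60,(Int.ofNat 1))] (.node 67 [(59,(Int.ofNat 1))] (.node 61 [(56,(Int.ofNat 1))] .nil .nil) .nil) (.node 71 [(66,(Int.ofNat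 1))] .nil .nil))))
def ch22 : Tr (List (ℕ × ℤ)) := (.node 46 [(30,(Int.negSucc 0))] (.node 28 [(17,(Int.ofNat 1))] (.node 13 [(6,(Int.ofNat 1))] (.node 12 [(5,(Int.ofNat 1))] (.node 4 [(0,(Int.ofNat 1))] .nil .nil) .nil) (.node 27 [(16,(Int.ofNat 1))] (.node 14 [(8,(Int.ofNat 1))] .nil .nil) .nil)) (.node 38 [(24,(Int.ofNat 1))] (.node 36 [(23,(Int.ofNat 1))] (.node 29 [(19,(Int.ofNat 1))] .nil .nil) .nil) (.node 41 [(25,(Int.ofNat 1))] .nil .nil))) (.node 55 [(44,(Int.negSucc 0))] (.node 52 [(42,(Int.negSucc 0))] (.node 48 [(35,(Int.negSucc 0))] (.node 47 [(33,(Int.negSucc 0))] .nil .nil) .nil) (.node 54 [(43,(Int.negSucc 0))] .nil .nil)) (.node 66 [(59,(Int.negSucc 0))] (.node 65 [(58,(Int.negSucc 0))] (.node 63 [(57,(Int.negSucc 0))] .nil .nil) .nil) (.node 71 [(67,(Int.negSucc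 0))] .nil .nil))))
def ch23 : Tr (List (ℕ × ℤ)) := (.node 46 [(31,(Int.negSucc 0))] (.node 28 [(18,(Int.ofNat 1))] (.node 13 [(7,(Int.ofNat 1))] (.node 11 [(5,(Int.negSucc 0))] (.node 3 [(0,(Int.negSucc 0))] .nil .nil) .nil) (.node 26 [(16,(Int.negSucc 0))] (.node 14 [(9,(Int.ofNat 1))] .nil .nil) .nil)) (.node 37 [(24,(Int.ofNat 1))] (.node 35 [(22,(Int.ofNat 1))] (.node 29 [(20,(Int.ofNat 1))] .nil .nil) .nil) (.node 40 [(25,(Int.ofNat 1))] .nil .nil))) (.node 55 [(45,(Int.ofNat 1))] (.node 51 [(42,(Int.negSucc 0))] (.node 49 [(36,(Int.negSucc 0))] (.node 47 [(34,(Int.negSucc 0))] .nil .nil) .nil) (.node 53 [(43,(Int.negSucc 0))] .nil .nil)) (.node 66 [(60,(Int.ofNat 1))] (.node 64 [(58,(Int.negSucc 0))] (.node 62 [(57,(Int.negSucc 0))] .nil .nil) .nil) (.node 71 [(68,(Int.ofNat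 1))] .nil .nil))))
def ch24 : Tr (List (ℕ × ℤ)) := (.node 46 [(32,(Int.negSucc 0))] (.node 27 [(18,(Int.negSucc 0))] (.node 12 [(7,(Int.negSucc 0))] (.node 11 [(6,(Int.negSucc 0))] (.node 2 [(0,(Int.ofNat 1))] .nil .nil) .nil) (.node 26 [(17,(Int.negSucc 0))] (.node 14 [(10,(Int.ofNat 1))] .nil .nil) .nil)) (.node 34 [(23,(Int.ofNat 1))] (.node 33 [(22,(Int.ofNat 1))] (.node 29 [(21,(Int.ofNat 1))] .nil .nil) .nil) (.node 39 [(25,(Int.ofNat 1))] .nil .nil))) (.node 54 [(45,(Int.ofNat 1))] (.node 50 [(42,(Int.negSucc 0))] (.node 49 [(38,(Int.negSucc 0))] (.node 48 [(37,(Int.negSucc 0))] .nil .nil) .nil) (.node 53 [(44,(Int.ofNat 1))] .nil .nil)) (.node 65 [(60,(Int.ofNat 1))] (.node 64 [(59,(Int.ofNat 1))] (.node 61 [(57,(Int.negSucc 0))] .nil .nil) .nil) (.node 71 [(69,(Int.negSucc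 0))] .nil .nil))))
def ch25 : Tr (List (ℕ × ℤ)) := (.node 47 [(39,(Int.negSucc 0))] (.node 27 [(20,(Int.negSucc 0))] (.node 12 [(9,(Int.negSucc 0))] (.node 11 [(8,(Int.negSucc 0))] (.node 1 [(0,(Int.negSucc 0))] .nil .nil) .nil) (.node 26 [(19,(Int.negSucc 0))] (.node 13 [(10,(Int.negSucc 0))] .nil .nil) .nil)) (.node 31 [(23,(Int.ofNat 1))] (.node 30 [(22,(Int.ofNat 1))] (.node 28 [(21,(Int.negSucc 0))] .nil .nil) .nil) (.node 32 [(24,(Int.ofNat 1))] .nil .nil))) (.node 52 [(45,(Int.ofNat 1))] (.node 50 [(43,(Int.ofNat 1))] (.node 49 [(41,(Int.negSucc 0))] (.node 48 [(40,(Int.negSucc 0))] .nil .nil) .nil) (.node 51 [(44,(Int.ofNat 1))] .nil .nil)) (.node 63 [(60,(Int.ofNat 1))] (.node 62 [(59,(Int.ofNat 1))] (.node 61 [(58,(Int.ofNat 1))] .nil .nil) .nil) (.node 71 [(70,(Int.ofNat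 1))] .nil .nil))))
def ch26 : Tr (List (ℕ × ℤ)) := (.node 42 [(30,(Int.negSucc 0))] (.node 24 [(17,(Int.ofNat 1))] (.node 10 [(3,(Int.negSucc 0))] (.node 9 [(2,(Int.negSucc 0))] (.node 7 [(1,(Int.negSucc 0))] .nil .nil) .nil) (.node 23 [(16,(Int.ofNat 1))] (.node 15 [(11,(Int.negSucc 0))] .nil .nil) .nil)) (.node 38 [(28,(Int.ofNat 1))] (.node 36 [(27,(Int.ofNat 1))] (.node 25 [(19,(Int.ofNat 1))] .nil .nil) .nil) (.node 41 [(29,(Int.ofNat 1))] .nil .nil))) (.node 55 [(48,(Int.negSucc 0))] (.node 52 [(46,(Int.negSucc 0))] (.node 44 [(35,(Int.negSucc 0))] (.node 43 [(33,(Int.negSucc 0))] .nil .nil) .nil) (.node 54 [(47,(Int.negSucc 0))] .nil .nil)) (.node 69 [(62,(Int.ofNat 1))] (.node 68 [(61,(Int.ofNat 1))] (.node 60 [(56,(Int.ofNat 1))] .nil .nil) .nil) (.node 70 [(64,(Int.ofNat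 1))] .nil .nil))))
def ch27 : Tr (List (ℕ × ℤ)) := (.node 42 [(31,(Int.negSucc 0))] (.node 24 [(18,(Int.ofNat 1))] (.node 10 [(4,(Int.negSucc 0))] (.node 8 [(2,(Int.ofNat 1))] (.node 6 [(1,(Int.ofNat 1))] .nil .nil) .nil) (.node 22 [(16,(Int.negSucc 0))] (.node 15 [(12,(Int.negSucc 0))] .nil .nil) .nil)) (.node 37 [(28,(Int.ofNat 1))] (.node 35 [(26,(Int.ofNat 1))] (.node 25 [(20,(Int.ofNat 1))] .nil .nil) .nil) (.node 40 [(29,(Int.ofNat 1))] .nil .nil))) (.node 55 [(49,(Int.ofNat 1))] (.node 51 [(46,(Int.negSucc 0))] (.node 45 [(36,(Int.negSucc 0))] (.node 43 [(34,(Int.negSucc 0))] .nil .nil) .nil) (.node 53 [(47,(Int.negSucc 0))] .nil .nil)) (.node 69 [(63,(Int.negSucc 0))] (.node 67 [(61,(Int.ofNat 1))] (.node 59 [(56,(Int.ofNat 1))] .nil .nil) .nil) (.node 70 [(65,(Int.negSucc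 0))] .nil .nil))))
def ch28 : Tr (List (ℕ × ℤ)) := (.node 42 [(32,(Int.negSucc 0))] (.node 23 [(18,(Int.negSucc 0))] (.node 9 [(4,(Int.ofNat 1))] (.node 8 [(3,(Int.ofNat 1))] (.node 5 [(1,(Int.negSucc 0))] .nil .nil) .nil) (.node 22 [(17,(Int.negSucc 0))] (.node 15 [(13,(Int.negSucc 0))] .nil .nil) .nil)) (.node 34 [(27,(Int.ofNat 1))] (.node 33 [(26,(Int.ofNat 1))] (.node 25 [(21,(Int.ofNat 1))] .nil .nil) .nil) (.node 39 [(29,(Int.ofNat 1))] .nil .nil))) (.node 54 [(49,(Int.ofNat 1))] (.node 50 [(46,(Int.negSucc 0))] (.node 45 [(38,(Int.negSucc 0))] (.node 44 [(37,(Int.negSucc 0))] .nil .nil) .nil) (.node 53 [(48,(Int.ofNat 1))] .nil .nil)) (.node 68 [(63,(Int.negSucc 0))] (.node 67 [(62,(Int.negSucc 0))] (.node 58 [(56,(Int.ofNat 1))] .nil .nil) .nil) (.node 70 [(66,(Int.ofNat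 1))] .nil .nil))))
def ch29 : Tr (List (ℕ × ℤ)) := (.node 43 [(39,(Int.negSucc 0))] (.node 23 [(20,(Int.negSucc 0))] (.node 7 [(4,(Int.negSucc 0))] (.node 6 [(3,(Int.negSucc 0))] (.node 5 [(2,(Int.negSucc 0))] .nil .nil) .nil) (.node 22 [(19,(Int.negSucc 0))] (.node 15 [(14,(Int.negSucc 0))] .nil .nil) .nil)) (.node 31 [(27,(Int.ofNat 1))] (.node 30 [(26,(Int.ofNat 1))] (.node 24 [(21,(Int.negSucc 0))] .nil .nil) .nil) (.node 32 [(28,(Int.ofNat 1))] .nil .nil))) (.node 52 [(49,(Int.ofNat 1))] (.node 50 [(47,(Int.ofNat 1))] (.node 45 [(41,(Int.negSucc 0))] (.node 44 [(40,(Int.negSucc 0))] .nil .nil) .nil) (.node 51 [(48,(Int.ofNat 1))] .nil .nil)) (.node 68 [(65,(Int.ofNat 1))] (.node 67 [(64,(Int.ofNat 1))] (.node 57 [(56,(Int.ofNat 1))] .nil .nil) .nil) (.node 69 [(66,(Int.ofNat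 1))] .nil .nil))))
def ch30 : Tr (List (ℕ × ℤ)) := (.node 39 [(33,(Int.negSucc 0))] (.node 21 [(17,(Int.ofNat 1))] (.node 10 [(6,(Int.ofNat 1))] (.node 9 [(5,(Int.ofNat 1))] (.node 4 [(1,(Int.negSucc 0))] .nil .nil) .nil) (.node 20 [(16,(Int.ofNat 1))] (.node 14 [(11,(Int.negSucc 0))] .nil .nil) .nil)) (.node 36 [(31,(Int.ofNat 1))] (.node 29 [(26,(Int.negSucc 0))] (.node 25 [(22,(Int.negSucc 0))] .nil .nil) .nil) (.node 38 [(32,(Int.ofNat 1))] .nil .nil))) (.node 55 [(51,(Int.negSucc 0))] (.node 49 [(46,(Int.ofNat 1))] (.node 45 [(42,(Int.ofNat 1))] (.node 40 [(35,(Int.negSucc 0))] .nil .nil) .nil) (.node 54 [(50,(Int.negSucc 0))] .nil .nil)) (.node 66 [(62,(Int.negSucc 0))] (.node 65 [(61,(Int.negSucc 0))] (.node 60 [(57,(Int.ofNat 1))] .nil .nil) .nil) (.node 70 [(67,(Int.ofNat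 1))] .nil .nil))))
def ch31 : Tr (List (ℕ × ℤ)) := (.node 39 [(34,(Int.negSucc 0))] (.node 21 [(18,(Int.ofNat 1))] (.node 10 [(7,(Int.ofNat 1))] (.node 8 [(5,(Int.negSucc 0))] (.node 3 [(1,(Int.ofNat 1))] .nil .nil) .nil) (.node 19 [(16,(Int.negSucc 0))] (.node 14 [(12,(Int.negSucc 0))] .nil .nil) .nil)) (.node 35 [(30,(Int.ofNat 1))] (.node 29 [(27,(Int.negSucc 0))] (.node 25 [(23,(Int.negSucc 0))] .nil .nil) .nil) (.node 37 [(32,(Int.ofNat 1))] .nil .nil))) (.node 55 [(52,(Int.ofNat 1))] (.node 48 [(46,(Int.ofNat 1))] (.node 44 [(42,(Int.ofNat 1))] (.node 41 [(36,(Int.negSucc 0))] .nil .nil) .nil) (.node 53 [(50,(Int.negSucc 0))] .nil .nil)) (.node 66 [(63,(Int.ofNat 1))] (.node 64 [(61,(Int.negSucc 0))] (.node 59 [(57,(Int.ofNat 1))] .nil .nil) .nil) (.node 70 [(68,(Int.negSucc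 0))] .nil .nil))))
def ch32 : Tr (List (ℕ × ℤ)) := (.node 40 [(37,(Int.negSucc 0))] (.node 20 [(18,(Int.negSucc 0))] (.node 9 [(7,(Int.negSucc 0))] (.node 8 [(6,(Int.negSucc 0))] (.node 2 [(1,(Int.negSucc 0))] .nil .nil) .nil) (.node 19 [(17,(Int.negSucc 0))] (.node 14 [(13,(Int.negSucc 0))] .nil .nil) .nil)) (.node 33 [(30,(Int.ofNat 1))] (.node 29 [(28,(Int.negSucc 0))] (.node 25 [(24,(Int.negSucc 0))] .nil .nil) .nil) (.node 34 [(31,(Int.ofNat 1))] .nil .nil))) (.node 54 [(52,(Int.ofNat 1))] (.node 47 [(46,(Int.ofNat 1))] (.node 43 [(42,(Int.ofNat 1))] (.node 41 [(38,(Int.negSucc 0))] .nil .nil) .nil) (.node 53 [(51,(Int.ofNat 1))] .nil .nil)) (.node 65 [(63,(Int.ofNat 1))] (.node 64 [(62,(Int.ofNat 1))] (.node 58 [(57,(Int.ofNat 1))] .nil .nil) .nil) (.node 70 [(69,(Int.ofNat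 1))] .nil .nil))))
def ch33 : Tr (List (ℕ × ℤ)) := (.node 37 [(35,(Int.negSucc 0))] (.node 21 [(19,(Int.negSucc 0))] (.node 10 [(8,(Int.negSucc 0))] (.node 7 [(5,(Int.ofNat 1))] (.node 4 [(2,(Int.ofNat 1))] .nil .nil) .nil) (.node 18 [(16,(Int.ofNat 1))] (.node 13 [(11,(Int.negSucc 0))] .nil .nil) .nil)) (.node 32 [(30,(Int.negSucc 0))] (.node 28 [(26,(Int.negSucc 0))] (.node 24 [(22,(Int.negSucc 0))] .nil .nil) .nil) (.node 36 [(34,(Int.ofNat 1))] .nil .nil))) (.node 55 [(53,(Int.negSucc 0))] (.node 49 [(47,(Int.ofNat 1))] (.node 45 [(43,(Int.ofNat 1))] (.node 41 [(39,(Int.ofNat 1))] .nil .nil) .nil) (.node 52 [(50,(Int.ofNat 1))] .nil .nil)) (.node 66 [(64,(Int.negSucc 0))] (.node 63 [(61,(Int.ofNat 1))] (.node 60 [(58,(Int.ofNat 1))] .nil .nil) .nil) (.node 69 [(67,(Int.negSucc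 0))] .nil .nil))))
def ch34 : Tr (List (ℕ × ℤ)) := (.node 38 [(36,(Int.negSucc 0))] (.node 21 [(20,(Int.negSucc 0))] (.node 10 [(9,(Int.negSucc 0))] (.node 6 [(5,(Int.negSucc 0))] (.node 3 [(2,(Int.negSucc 0))] .nil .nil) .nil) (.node 17 [(16,(Int.negSucc 0))] (.node 13 [(12,(Int.negSucc 0))] .nil .nil) .nil)) (.node 32 [(31,(Int.negSucc 0))] (.node 28 [(27,(Int.negSucc 0))] (.node 24 [(23,(Int.negSucc 0))] .nil .nil) .nil) (.node 35 [(33,(Int.ofNat 1))] .nil .nil))) (.node 55 [(54,(Int.ofNat 1))] (.node 48 [(47,(Int.ofNat 1))] (.node 44 [(43,(Int.ofNat 1))] (.node 40 [(39,(Int.ofNat 1))] .nil .nil) .nil) (.node 51 [(50,(Int.ofNat 1))] .nil .nil)) (.node 66 [(65,(Int.ofNat 1))] (.node 62 [(61,(Int.ofNat 1))] (.node 59 [(58,(Int.ofNat 1))] .nil .nil) .nil) (.node 69 [(68,(Int.ofNat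 1))] .nil .nil))))
def ch35 : Tr (List (ℕ × ℤ)) := (.node 38 [(37,(Int.ofNat 1))] (.node 20 [(19,(Int.negSucc 0))] (.node 9 [(8,(Int.negSucc 0))] (.node 7 [(6,(Int.negSucc 0))] (.node 4 [(3,(Int.negSucc 0))] .nil .nil) .nil) (.node 18 [(17,(Int.negSucc 0))] (.node 12 [(11,(Int.negSucc 0))] .nil .nil) .nil)) (.node 31 [(30,(Int.negSucc 0))] (.node 27 [(26,(Int.negSucc 0))] (.node 23 [(22,(Int.negSucc 0))] .nil .nil) .nil) (.node 34 [(33,(Int.negSucc 0))] .nil .nil))) (.node 54 [(53,(Int.ofNat 1))] (.node 49 [(48,(Int.ofNat 1))] (.node 45 [(44,(Int.ofNat 1))] (.node 41 [(40,(Int.ofNat 1))] .nil .nil) .nil) (.node 52 [(51,(Int.ofNat 1))] .nil .nil)) (.node 65 [(64,(Int.ofNat 1))] (.node 63 [(62,(Int.ofNat 1))] (.node 60 [(59,(Int.ofNat 1))] .nil .nil) .nil) (.node 68 [(67,(Int.ofNat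 1))] .nil .nil))))
def ch36 : Tr (List (ℕ × ℤ)) := (.node 37 [(38,(Int.ofNat 1))] (.node 19 [(20,(Int.negSucc 0))] (.node 8 [(9,(Int.negSucc 0))] (.node 6 [(7,(Int.negSucc 0))] (.node 3 [(4,(Int.negSucc 0))] .nil .nil) .nil) (.node 17 [(18,(Int.negSucc 0))] (.node 11 [(12,(Int.negSucc 0))] .nil .nil) .nil)) (.node 30 [(31,(Int.negSucc 0))] (.node 26 [(27,(Int.negSucc 0))] (.node 22 [(23,(Int.negSucc 0))] .nil .nil) .nil) (.node 33 [(34,(Int.negSucc 0))] .nil .nil))) (.node 53 [(54,(Int.ofNat 1))] (.node 48 [(49,(Int.ofNat 1))] (.node 44 [(45,(Int.ofNat 1))] (.node 40 [(41,(Int.ofNat 1))] .nil .nil) .nil) (.node 51 [(52,(Int.ofNat 1))] .nil .nil)) (.node 64 [(65,(Int.ofNat 1))] (.node 62 [(63,(Int.ofNat 1))] (.node 59 [(60,(Int.ofNat 1))] .nil .nil) .nil) (.node 67 [(68,(Int.ofNat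 1))] .nil .nil))))
def ch37 : Tr (List (ℕ × ℤ)) := (.node 36 [(38,(Int.negSucc 0))] (.node 20 [(21,(Int.negSucc 0))] (.node 9 [(10,(Int.negSucc 0))] (.node 5 [(6,(Int.negSucc 0))] (.node 2 [(3,(Int.negSucc 0))] .nil .nil) .nil) (.node 16 [(17,(Int.negSucc 0))] (.node 12 [(13,(Int.negSucc 0))] .nil .nil) .nil)) (.node 31 [(32,(Int.negSucc 0))] (.node 27 [(28,(Int.negSucc 0))] (.node 23 [(24,(Int.negSucc 0))] .nil .nil) .nil) (.node 33 [(35,(Int.ofNat 1))] .nil .nil))) (.node 54 [(55,(Int.ofNat 1))] (.node 47 [(48,(Int.ofNat 1))] (.node 43 [(44,(Int.ofNat 1))] (.node 39 [(40,(Int.ofNat 1))] .nil .nil) .nil) (.node 50 [(51,(Int.ofNat 1))] .nil .nil)) (.node 65 [(66,(Int.ofNat 1))] (.node 61 [(62,(Int.ofNat 1))] (.node 58 [(59,(Int.ofNat 1))] .nil .nil) .nil) (.node 68 [(69,(Int.ofNat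 1))] .nil .nil))))
def ch38 : Tr (List (ℕ × ℤ)) := (.node 35 [(37,(Int.negSucc 0))] (.node 19 [(21,(Int.negSucc 0))] (.node 8 [(10,(Int.negSucc 0))] (.node 5 [(7,(Int.ofNat 1))] (.node 2 [(4,(Int.ofNat 1))] .nil .nil) .nil) (.node 16 [(18,(Int.ofNat 1))] (.node 11 [(13,(Int.negSucc 0))] .nil .nil) .nil)) (.node 30 [(32,(Int.negSucc 0))] (.node 26 [(28,(Int.negSucc 0))] (.node 22 [(24,(Int.negSucc 0))] .nil .nil) .nil) (.node 34 [(36,(Int.ofNat 1))] .nil .nil))) (.node 53 [(55,(Int.negSucc 0))] (.node 47 [(49,(Int.ofNat 1))] (.node 43 [(45,(Int.ofNat 1))] (.node 39 [(41,(Int.ofNat 1))] .nil .nil) .nil) (.node 50 [(52,(Int.ofNat 1))] .nil .nil)) (.node 64 [(66,(Int.negSucc 0))] (.node 61 [(63,(Int.ofNat 1))] (.node 58 [(60,(Int.ofNat 1))] .nil .nil) .nil) (.node 67 [(69,(Int.negSucc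 0))] .nil .nil))))
def ch39 : Tr (List (ℕ × ℤ)) := (.node 37 [(40,(Int.negSucc 0))] (.node 18 [(20,(Int.negSucc 0))] (.node 7 [(9,(Int.negSucc 0))] (.node 6 [(8,(Int.negSucc 0))] (.node 1 [(2,(Int.negSucc 0))] .nil .nil) .nil) (.node 17 [(19,(Int.negSucc 0))] (.node 13 [(14,(Int.negSucc 0))] .nil .nil) .nil)) (.node 30 [(33,(Int.ofNat 1))] (.node 28 [(29,(Int.negSucc 0))] (.node 24 [(25,(Int.negSucc 0))] .nil .nil) .nil) (.node 31 [(34,(Int.ofNat 1))] .nil .nil))) (.node 52 [(54,(Int.ofNat 1))] (.node 46 [(47,(Int.ofNat 1))] (.node 42 [(43,(Int.ofNat 1))] (.node 38 [(41,(Int.negSucc 0))] .nil .nil) .nil) (.node 51 [(53,(Int.ofNat 1))] .nil .nil)) (.node 63 [(65,(Int.ofNat 1))] (.node 62 [(64,(Int.ofNat 1))] (.node 57 [(58,(Int.ofNat 1))] .nil .nil) .nil) (.node 69 [(70,(Int.ofNat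 1))] .nil .nil))))
def ch40 : Tr (List (ℕ × ℤ)) := (.node 34 [(39,(Int.negSucc 0))] (.node 18 [(21,(Int.ofNat 1))] (.node 7 [(10,(Int.ofNat 1))] (.node 5 [(8,(Int.negSucc 0))] (.node 1 [(3,(Int.ofNat 1))] .nil .nil) .nil) (.node 16 [(19,(Int.negSucc 0))] (.node 12 [(14,(Int.negSucc 0))] .nil .nil) .nil)) (.node 30 [(35,(Int.ofNat 1))] (.node 27 [(29,(Int.negSucc 0))] (.node 23 [(25,(Int.negSucc 0))] .nil .nil) .nil) (.node 32 [(37,(Int.ofNat 1))] .nil .nil))) (.node 52 [(55,(Int.ofNat 1))] (.node 46 [(48,(Int.ofNat 1))] (.node 42 [(44,(Int.ofNat 1))] (.node 36 [(41,(Int.negSucc 0))] .nil .nil) .nil) (.node 50 [(53,(Int.negSucc 0))] .nil .nil)) (.node 63 [(66,(Int.ofNat 1))] (.node 61 [(64,(Int.negSucc 0))] (.node 57 [(59,(Int.ofNat 1))] .nil .nil) .nil) (.node 68 [(70,(Int.negSucc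 0))] .nil .nil))))
def ch41 : Tr (List (ℕ × ℤ)) := (.node 33 [(39,(Int.negSucc 0))] (.node 17 [(21,(Int.ofNat 1))] (.node 6 [(10,(Int.ofNat 1))] (.node 5 [(9,(Int.ofNat 1))] (.node 1 [(4,(Int.negSucc 0))] .nil .nil) .nil) (.node 16 [(20,(Int.ofNat 1))] (.node 11 [(14,(Int.negSucc 0))] .nil .nil) .nil)) (.node 31 [(36,(Int.ofNat 1))] (.node 26 [(29,(Int.negSucc 0))] (.node 22 [(25,(Int.negSucc 0))] .nil .nil) .nil) (.node 32 [(38,(Int.ofNat 1))] .nil .nil))) (.node 51 [(55,(Int.negSucc 0))] (.node 46 [(49,(Int.ofNat 1))] (.node 42 [(45,(Int.ofNat 1))] (.node 35 [(40,(Int.negSucc 0))] .nil .nil) .nil) (.node 50 [(54,(Int.negSucc 0))] .nil .nil)) (.node 62 [(66,(Int.negSucc 0))] (.node 61 [(65,(Int.negSucc 0))] (.node 57 [(60,(Int.ofNat 1))] .nil .nil) .nil) (.node 67 [(70,(Int.ofNat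 1))] .nil .nil))))
def ch42 : Tr (List (ℕ × ℤ)) := (.node 39 [(43,(Int.negSucc 0))] (.node 20 [(23,(Int.negSucc 0))] (.node 4 [(7,(Int.negSucc 0))] (.node 3 [(6,(Int.negSucc 0))] (.node 2 [(5,(Int.negSucc 0))] .nil .nil) .nil) (.node 19 [(22,(Int.negSucc 0))] (.node 14 [(15,(Int.negSucc 0))] .nil .nil) .nil)) (.node 27 [(31,(Int.ofNat 1))] (.node 26 [(30,(Int.ofNat 1))] (.node 21 [(24,(Int.negSucc 0))] .nil .nil) .nil) (.node 28 [(32,(Int.ofNat 1))] .nil .nil))) (.node 49 [(52,(Int.ofNat 1))] (.node 47 [(50,(Int.ofNat 1))] (.node 41 [(45,(Int.negSucc 0))] (.node 40 [(44,(Int.negSucc 0))] .nil .nil) .nil) (.node 48 [(51,(Int.ofNat 1))] .nil .nil)) (.node 65 [(68,(Int.ofNat 1))] (.node 64 [(67,(Int.ofNat 1))] (.node 56 [(57,(Int.ofNat 1))] .nil .nil) .nil) (.node 66 [(69,(Int.ofNat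 1))] .nil .nil))))
def ch43 : Tr (List (ℕ × ℤ)) := (.node 32 [(42,(Int.negSucc 0))] (.node 18 [(23,(Int.negSucc 0))] (.node 4 [(9,(Int.ofNat 1))] (.node 3 [(8,(Int.ofNat 1))] (.node 1 [(5,(Int.negSucc 0))] .nil .nil) .nil) (.node 17 [(22,(Int.negSucc 0))] (.node 13 [(15,(Int.negSucc 0))] .nil .nil) .nil)) (.node 27 [(34,(Int.ofNat 1))] (.node 26 [(33,(Int.ofNat 1))] (.node 21 [(25,(Int.ofNat 1))] .nil .nil) .nil) (.node 29 [(39,(Int.ofNat 1))] .nil .nil))) (.node 49 [(54,(Int.ofNat 1))] (.node 46 [(50,(Int.negSucc 0))] (.node 38 [(45,(Int.negSucc 0))] (.node 37 [(44,(Int.negSucc 0))] .nil .nil) .nil) (.node 48 [(53,(Int.ofNat 1))] .nil .nil)) (.node 63 [(68,(Int.negSucc 0))] (.node 62 [(67,(Int.negSucc 0))] (.node 56 [(58,(Int.ofNat 1))] .nil .nil) .nil) (.node 66 [(70,(Int.ofNat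 1))] .nil .nil))))
def ch44 : Tr (List (ℕ × ℤ)) := (.node 31 [(42,(Int.negSucc 0))] (.node 18 [(24,(Int.ofNat 1))] (.node 4 [(10,(Int.negSucc 0))] (.node 2 [(8,(Int.ofNat 1))] (.node 1 [(6,(Int.ofNat 1))] .nil .nil) .nil) (.node 16 [(22,(Int.negSucc 0))] (.node 12 [(15,(Int.negSucc 0))] .nil .nil) .nil)) (.node 28 [(37,(Int.ofNat 1))] (.node 26 [(35,(Int.ofNat 1))] (.node 20 [(25,(Int.ofNat 1))] .nil .nil) .nil) (.node 29 [(40,(Int.ofNat 1))] .nil .nil))) (.node 49 [(55,(Int.ofNat 1))] (.node 46 [(51,(Int.negSucc 0))] (.node 36 [(45,(Int.negSucc 0))] (.node 34 [(43,(Int.negSucc 0))] .nil .nil) .nil) (.node 47 [(53,(Int.negSucc 0))] .nil .nil)) (.node 63 [(69,(Int.negSucc 0))] (.node 61 [(67,(Int.ofNat 1))] (.node 56 [(59,(Int.ofNat 1))] .nil .nil) .nil) (.node 65 [(70,(Int.negSucc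 0))] .nil .nil))))
def ch45 : Tr (List (ℕ × ℤ)) := (.node 30 [(42,(Int.negSucc 0))] (.node 17 [(24,(Int.ofNat 1))] (.node 3 [(10,(Int.negSucc 0))] (.node 2 [(9,(Int.negSucc 0))] (.node 1 [(7,(Int.negSucc 0))] .nil .nil) .nil) (.node 16 [(23,(Int.ofNat 1))] (.node 11 [(15,(Int.negSucc 0))] .nil .nil) .nil)) (.node 28 [(38,(Int.ofNat 1))] (.node 27 [(36,(Int.ofNat 1))] (.node 19 [(25,(Int.ofNat 1))] .nil .nil) .nil) (.node 29 [(41,(Int.ofNat 1))] .nil .nil))) (.node 48 [(55,(Int.negSucc 0))] (.node 46 [(52,(Int.negSucc 0))] (.node 35 [(44,(Int.negSucc 0))] (.node 33 [(43,(Int.negSucc 0))] .nil .nil) .nil) (.node 47 [(54,(Int.negSucc 0))] .nil .nil)) (.node 62 [(69,(Int.ofNat 1))] (.node 61 [(68,(Int.ofNat 1))] (.node 56 [(60,(Int.ofNat 1))] .nil .nil) .nil) (.node 64 [(70,(Int.ofNat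 1))] .nil .nil))))
def ch46 : Tr (List (ℕ × ℤ)) := (.node 39 [(47,(Int.negSucc 0))] (.node 20 [(27,(Int.negSucc 0))] (.node 9 [(12,(Int.negSucc 0))] (.node 8 [(11,(Int.negSucc 0))] (.node 0 [(1,(Int.negSucc 0))] .nil .nil) .nil) (.node 19 [(26,(Int.negSucc 0))] (.node 10 [(13,(Int.negSucc 0))] .nil .nil) .nil)) (.node 23 [(31,(Int.ofNat 1))] (.node 22 [(30,(Int.ofNat 1))] (.node 21 [(28,(Int.negSucc 0))] .nil .nil) .nil) (.node 24 [(32,(Int.ofNat 1))] .nil .nil))) (.node 45 [(52,(Int.ofNat 1))] (.node 43 [(50,(Int.ofNat 1))] (.node 41 [(49,(Int.negSucc 0))] (.node 40 [(48,(Int.negSucc 0))] .nil .nil) .nil) (.node 44 [(51,(Int.ofNat 1))] .nil .nil)) (.node 60 [(63,(Int.ofNat 1))] (.node 59 [(62,(Int.ofNat 1))] (.node 58 [(61,(Int.ofNat 1))] .nil .nil) .nil) (.node 70 [(71,(Int.ofNat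 1))] .nil .nil))))
def ch47 : Tr (List (ℕ × ℤ)) := (.node 32 [(46,(Int.negSucc 0))] (.node 18 [(27,(Int.negSucc 0))] (.node 7 [(12,(Int.negSucc 0))] (.node 6 [(11,(Int.negSucc 0))] (.node 0 [(2,(Int.ofNat 1))] .nil .nil) .nil) (.node 17 [(26,(Int.negSucc 0))] (.node 10 [(14,(Int.ofNat 1))] .nil .nil) .nil)) (.node 23 [(34,(Int.ofNat 1))] (.node 22 [(33,(Int.ofNat 1))] (.node 21 [(29,(Int.ofNat 1))] .nil .nil) .nil) (.node 25 [(39,(Int.ofNat 1))] .nil .nil))) (.node 45 [(54,(Int.ofNat 1))] (.node 42 [(50,(Int.negSucc 0))] (.node 38 [(49,(Int.negSucc 0))] (.node 37 [(48,(Int.negSucc 0))] .nil .nil) .nil) (.node 44 [(53,(Int.ofNat 1))] .nil .nil)) (.node 60 [(65,(Int.ofNat 1))] (.node 59 [(64,(Int.ofNat 1))] (.node 57 [(61,(Int.negSucc 0))] .nil .nil) .nil) (.node 69 [(71,(Int.negSucc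 0))] .nil .nil))))
def ch48 : Tr (List (ℕ × ℤ)) := (.node 31 [(46,(Int.negSucc 0))] (.node 18 [(28,(Int.ofNat 1))] (.node 7 [(13,(Int.ofNat 1))] (.node 5 [(11,(Int.negSucc 0))] (.node 0 [(3,(Int.negSucc 0))] .nil .nil) .nil) (.node 16 [(26,(Int.negSucc 0))] (.node 9 [(14,(Int.ofNat 1))] .nil .nil) .nil)) (.node 24 [(37,(Int.ofNat 1))] (.node 22 [(35,(Int.ofNat 1))] (.node 20 [(29,(Int.ofNat 1))] .nil .nil) .nil) (.node 25 [(40,(Int.ofNat 1))] .nil .nil))) (.node 45 [(55,(Int.ofNat 1))] (.node 42 [(51,(Int.negSucc 0))] (.node 36 [(49,(Int.negSucc 0))] (.node 34 [(47,(Int.negSucc 0))] .nil .nil) .nil) (.node 43 [(53,(Int.negSucc 0))] .nil .nil)) (.node 60 [(66,(Int.ofNat 1))] (.node 58 [(64,(Int.negSucc 0))] (.node 57 [(62,(Int.negSucc 0))] .nil .nil) .nil) (.node 68 [(71,(Int.ofNat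 1))] .nil .nil))))
def ch49 : Tr (List (ℕ × ℤ)) := (.node 30 [(46,(Int.negSucc 0))] (.node 17 [(28,(Int.ofNat 1))] (.node 6 [(13,(Int.ofNat 1))] (.node 5 [(12,(Int.ofNat 1))] (.node 0 [(4,(Int.ofNat 1))] .nil .nil) .nil) (.node 16 [(27,(Int.ofNat 1))] (.node 8 [(14,(Int.ofNat 1))] .nil .nil) .nil)) (.node 24 [(38,(Int.ofNat 1))] (.node 23 [(36,(Int.ofNat 1))] (.node 19 [(29,(Int.ofNat 1))] .nil .nil) .nil) (.node 25 [(41,(Int.ofNat 1))] .nil .nil))) (.node 44 [(55,(Int.negSucc 0))] (.node 42 [(52,(Int.negSucc 0))] (.node 35 [(48,(Int.negSucc 0))] (.node 33 [(47,(Int.negSucc 0))] .nil .nil) .nil) (.node 43 [(54,(Int.negSucc 0))] .nil .nil)) (.node 59 [(66,(Int.negSucc 0))] (.node 58 [(65,(Int.negSucc 0))] (.node 57 [(63,(Int.negSucc 0))] .nil .nil) .nil) (.node 67 [(71,(Int.negSucc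 0))] .nil .nil))))
def ch50 : Tr (List (ℕ × ℤ)) := (.node 28 [(46,(Int.ofNat 1))] (.node 18 [(31,(Int.negSucc 0))] (.node 4 [(12,(Int.negSucc 0))] (.node 3 [(11,(Int.negSucc 0))] (.node 0 [(5,(Int.negSucc 0))] .nil .nil) .nil) (.node 17 [(30,(Int.negSucc 0))] (.node 10 [(15,(Int.negSucc 0))] .nil .nil) .nil)) (.node 24 [(42,(Int.ofNat 1))] (.node 20 [(34,(Int.ofNat 1))] (.node 19 [(33,(Int.ofNat 1))] .nil .nil) .nil) (.node 25 [(43,(Int.negSucc 0))] .nil .nil))) (.node 41 [(54,(Int.ofNat 1))] (.node 38 [(52,(Int.negSucc 0))] (.node 37 [(51,(Int.negSucc 0))] (.node 29 [(47,(Int.negSucc 0))] .nil .nil) .nil) (.node 40 [(53,(Int.ofNat 1))] .nil .nil)) (.node 60 [(68,(Int.ofNat 1))] (.node 59 [(67,(Int.ofNat 1))] (.node 56 [(61,(Int.ofNat 1))] .nil .nil) .nil) (.node 66 [(71,(Int.ofNat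 1))] .nil .nil))))
def ch51 : Tr (List (ℕ × ℤ)) := (.node 27 [(46,(Int.ofNat 1))] (.node 18 [(32,(Int.ofNat 1))] (.node 4 [(13,(Int.ofNat 1))] (.node 2 [(11,(Int.negSucc 0))] (.node 0 [(6,(Int.ofNat 1))] .nil .nil) .nil) (.node 16 [(30,(Int.negSucc 0))] (.node 9 [(15,(Int.negSucc 0))] .nil .nil) .nil)) (.node 23 [(42,(Int.ofNat 1))] (.node 21 [(37,(Int.ofNat 1))] (.node 19 [(35,(Int.ofNat 1))] .nil .nil) .nil) (.node 25 [(44,(Int.negSucc 0))] .nil .nil))) (.node 41 [(55,(Int.ofNat 1))] (.node 36 [(52,(Int.negSucc 0))] (.node 34 [(50,(Int.negSucc 0))] (.node 29 [(48,(Int.negSucc 0))] .nil .nil) .nil) (.node 39 [(53,(Int.negSucc 0))] .nil .nil)) (.node 60 [(69,(Int.ofNat 1))] (.node 58 [(67,(Int.negSucc 0))] (.node 56 [(62,(Int.ofNat 1))] .nil .nil) .nil) (.node 65 [(71,(Int.negSucc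 0))] .nil .nil))))
def ch52 : Tr (List (ℕ × ℤ)) := (.node 26 [(46,(Int.ofNat 1))] (.node 17 [(32,(Int.ofNat 1))] (.node 3 [(13,(Int.ofNat 1))] (.node 2 [(12,(Int.ofNat 1))] (.node 0 [(7,(Int.negSucc 0))] .nil .nil) .nil) (.node 16 [(31,(Int.ofNat 1))] (.node 8 [(15,(Int.negSucc 0))] .nil .nil) .nil)) (.node 22 [(42,(Int.ofNat 1))] (.node 21 [(38,(Int.ofNat 1))] (.node 20 [(36,(Int.ofNat 1))] .nil .nil) .nil) (.node 25 [(45,(Int.negSucc 0))] .nil .nil))) (.node 40 [(55,(Int.negSucc 0))] (.node 35 [(51,(Int.negSucc 0))] (.node 33 [(50,(Int.negSucc 0))] (.node 29 [(49,(Int.negSucc 0))] .nil .nil) .nil) (.node 39 [(54,(Int.negSucc 0))] .nil .nil)) (.node 59 [(69,(Int.negSucc 0))] (.node 58 [(68,(Int.negSucc 0))] (.node 56 [(63,(Int.ofNat 1))] .nil .nil) .nil) (.node 64 [(71,(Int.ofNat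 1))] .nil .nil))))
def ch53 : Tr (List (ℕ × ℤ)) := (.node 27 [(47,(Int.ofNat 1))] (.node 17 [(35,(Int.ofNat 1))] (.node 4 [(14,(Int.negSucc 0))] (.node 1 [(11,(Int.negSucc 0))] (.node 0 [(8,(Int.negSucc 0))] .nil .nil) .nil) (.node 16 [(33,(Int.negSucc 0))] (.node 7 [(15,(Int.negSucc 0))] .nil .nil) .nil)) (.node 23 [(43,(Int.ofNat 1))] (.node 21 [(40,(Int.negSucc 0))] (.node 20 [(39,(Int.ofNat 1))] .nil .nil) .nil) (.node 24 [(44,(Int.negSucc 0))] .nil .nil))) (.node 38 [(55,(Int.ofNat 1))] (.node 32 [(51,(Int.negSucc 0))] (.node 31 [(50,(Int.ofNat 1))] (.node 28 [(48,(Int.negSucc 0))] .nil .nil) .nil) (.node 36 [(54,(Int.negSucc 0))] .nil .nil)) (.node 60 [(70,(Int.ofNat 1))] (.node 57 [(67,(Int.ofNat 1))] (.node 56 [(64,(Int.ofNat 1))] .nil .nil) .nil) (.node 63 [(71,(Int.ofNat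 1))] .nil .nil))))
def ch54 : Tr (List (ℕ × ℤ)) := (.node 26 [(47,(Int.ofNat 1))] (.node 18 [(36,(Int.ofNat 1))] (.node 3 [(14,(Int.negSucc 0))] (.node 1 [(12,(Int.ofNat 1))] (.node 0 [(9,(Int.ofNat 1))] .nil .nil) .nil) (.node 16 [(34,(Int.ofNat 1))] (.node 6 [(15,(Int.negSucc 0))] .nil .nil) .nil)) (.node 22 [(43,(Int.ofNat 1))] (.node 21 [(41,(Int.negSucc 0))] (.node 19 [(39,(Int.ofNat 1))] .nil .nil) .nil) (.node 24 [(45,(Int.negSucc 0))] .nil .nil))) (.node 37 [(55,(Int.negSucc 0))] (.node 32 [(52,(Int.negSucc 0))] (.node 30 [(50,(Int.ofNat 1))] (.node 28 [(49,(Int.negSucc 0))] .nil .nil) .nil) (.node 35 [(53,(Int.negSucc 0))] .nil .nil)) (.node 59 [(70,(Int.negSucc 0))] (.node 57 [(68,(Int.ofNat 1))] (.node 56 [(65,(Int.ofNat 1))] .nil .nil) .nil) (.node 62 [(71,(Int.negSucc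 0))] .nil .nil))))
def ch55 : Tr (List (ℕ × ℤ)) := (.node 26 [(48,(Int.ofNat 1))] (.node 18 [(38,(Int.negSucc 0))] (.node 2 [(14,(Int.negSucc 0))] (.node 1 [(13,(Int.negSucc 0))] (.node 0 [(10,(Int.negSucc 0))] .nil .nil) .nil) (.node 17 [(37,(Int.ofNat 1))] (.node 5 [(15,(Int.negSucc 0))] .nil .nil) .nil)) (.node 22 [(44,(Int.ofNat 1))] (.node 20 [(41,(Int.negSucc 0))] (.node 19 [(40,(Int.ofNat 1))] .nil .nil) .nil) (.node 23 [(45,(Int.negSucc 0))] .nil .nil))) (.node 34 [(54,(Int.negSucc 0))] (.node 31 [(52,(Int.negSucc 0))] (.node 30 [(51,(Int.ofNat 1))] (.node 27 [(49,(Int.negSucc 0))] .nil .nil) .nil) (.node 33 [(53,(Int.ofNat 1))] .nil .nil)) (.node 58 [(70,(Int.ofNat 1))] (.node 57 [(69,(Int.ofNat 1))] (.node 56 [(66,(Int.ofNat 1))] .nil .nil) .nil) (.node 61 [(71,(Int.ofNat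 1))] .nil .nil))))
def ch56 : Tr (List (ℕ × ℤ)) := (.node 42 [(57,(Int.negSucc 0))] (.node 10 [(21,(Int.ofNat 1))] (.node 7 [(18,(Int.ofNat 1))] (.node 6 [(17,(Int.ofNat 1))] (.node 5 [(16,(Int.ofNat 1))] .nil .nil) .nil) (.node 9 [(20,(Int.ofNat 1))] (.node 8 [(19,(Int.ofNat 1))] .nil .nil) .nil)) (.node 13 [(28,(Int.ofNat 1))] (.node 12 [(27,(Int.ofNat 1))] (.node 11 [(26,(Int.ofNat 1))] .nil .nil) .nil) (.node 14 [(29,(Int.ofNat 1))] .nil .nil))) (.node 51 [(62,(Int.negSucc 0))] (.node 45 [(60,(Int.negSucc 0))] (.node 44 [(59,(Int.negSucc 0))] (.node 43 [(58,(Int.negSucc 0))] .nil .nil) .nil) (.node 50 [(61,(Int.negSucc 0))] .nil .nil)) (.node 54 [(65,(Int.negSucc 0))] (.node 53 [(64,(Int.negSucc 0))] (.node 52 [(63,(Int.negSucc 0))] .nil .nil) .nil) (.node 55 [(66,(Int.negSucc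 0))] .nil .nil))))
def ch57 : Tr (List (ℕ × ℤ)) := (.node 29 [(56,(Int.negSucc 0))] (.node 10 [(24,(Int.negSucc 0))] (.node 4 [(18,(Int.ofNat 1))] (.node 3 [(17,(Int.ofNat 1))] (.node 2 [(16,(Int.ofNat 1))] .nil .nil) .nil) (.node 9 [(23,(Int.negSucc 0))] (.node 8 [(22,(Int.negSucc 0))] .nil .nil) .nil)) (.node 13 [(32,(Int.ofNat 1))] (.node 12 [(31,(Int.ofNat 1))] (.node 11 [(30,(Int.ofNat 1))] .nil .nil) .nil) (.node 15 [(42,(Int.ofNat 1))] .nil .nil))) (.node 48 [(62,(Int.ofNat 1))] (.node 41 [(60,(Int.negSucc 0))] (.node 40 [(59,(Int.negSucc 0))] (.node 39 [(58,(Int.negSucc 0))] .nil .nil) .nil) (.node 47 [(61,(Int.ofNat 1))] .nil .nil)) (.node 54 [(68,(Int.negSucc 0))] (.node 53 [(67,(Int.negSucc 0))] (.node 49 [(63,(Int.ofNat 1))] .nil .nil) .nil) (.node 55 [(69,(Int.negSucc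 0))] .nil .nil))))
def ch58 : Tr (List (ℕ × ℤ)) := (.node 28 [(56,(Int.negSucc 0))] (.node 10 [(25,(Int.ofNat 1))] (.node 4 [(20,(Int.negSucc 0))] (.node 3 [(19,(Int.negSucc 0))] (.node 1 [(16,(Int.ofNat 1))] .nil .nil) .nil) (.node 7 [(23,(Int.negSucc 0))] (.node 6 [(22,(Int.negSucc 0))] .nil .nil) .nil)) (.node 14 [(39,(Int.ofNat 1))] (.node 12 [(34,(Int.ofNat 1))] (.node 11 [(33,(Int.ofNat 1))] .nil .nil) .nil) (.node 15 [(43,(Int.ofNat 1))] .nil .nil))) (.node 48 [(64,(Int.ofNat 1))] (.node 38 [(60,(Int.negSucc 0))] (.node 37 [(59,(Int.negSucc 0))] (.node 32 [(57,(Int.negSucc 0))] .nil .nil) .nil) (.node 46 [(61,(Int.negSucc 0))] .nil .nil)) (.node 52 [(68,(Int.ofNat 1))] (.node 51 [(67,(Int.ofNat 1))] (.node 49 [(65,(Int.ofNat 1))] .nil .nil) .nil) (.node 55 [(70,(Int.negSucc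 0))] .nil .nil))))
def ch59 : Tr (List (ℕ × ℤ)) := (.node 27 [(56,(Int.negSucc 0))] (.node 9 [(25,(Int.ofNat 1))] (.node 4 [(21,(Int.ofNat 1))] (.node 2 [(19,(Int.negSucc 0))] (.node 1 [(17,(Int.negSucc 0))] .nil .nil) .nil) (.node 7 [(24,(Int.ofNat 1))] (.node 5 [(22,(Int.negSucc 0))] .nil .nil) .nil)) (.node 14 [(40,(Int.ofNat 1))] (.node 13 [(37,(Int.ofNat 1))] (.node 11 [(35,(Int.ofNat 1))] .nil .nil) .nil) (.node 15 [(44,(Int.ofNat 1))] .nil .nil))) (.node 47 [(64,(Int.negSucc 0))] (.node 36 [(60,(Int.negSucc 0))] (.node 34 [(58,(Int.negSucc 0))] (.node 31 [(57,(Int.negSucc 0))] .nil .nil) .nil) (.node 46 [(62,(Int.negSucc 0))] .nil .nil)) (.node 52 [(69,(Int.ofNat 1))] (.node 50 [(67,(Int.negSucc 0))] (.node 49 [(66,(Int.ofNat 1))] .nil .nil) .nil) (.node 54 [(70,(Int.ofNat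 1))] .nil .nil))))
def ch60 : Tr (List (ℕ × ℤ)) := (.node 26 [(56,(Int.negSucc 0))] (.node 8 [(25,(Int.ofNat 1))] (.node 3 [(21,(Int.ofNat 1))] (.node 2 [(20,(Int.ofNat 1))] (.node 1 [(18,(Int.ofNat 1))] .nil .nil) .nil) (.node 6 [(24,(Int.ofNat 1))] (.node 5 [(23,(Int.ofNat 1))] .nil .nil) .nil)) (.node 14 [(41,(Int.ofNat 1))] (.node 13 [(38,(Int.ofNat 1))] (.node 12 [(36,(Int.ofNat 1))] .nil .nil) .nil) (.node 15 [(45,(Int.ofNat 1))] .nil .nil))) (.node 47 [(65,(Int.negSucc 0))] (.node 35 [(59,(Int.negSucc 0))] (.node 33 [(58,(Int.negSucc 0))] (.node 30 [(57,(Int.negSucc 0))] .nil .nil) .nil) (.node 46 [(63,(Int.negSucc 0))] .nil .nil)) (.node 51 [(69,(Int.negSucc 0))] (.node 50 [(68,(Int.negSucc 0))] (.node 48 [(66,(Int.negSucc 0))] .nil .nil) .nil) (.node 53 [(70,(Int.negSucc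 0))] .nil .nil))))
def ch61 : Tr (List (ℕ × ℤ)) := (.node 21 [(56,(Int.negSucc 0))] (.node 8 [(33,(Int.ofNat 1))] (.node 4 [(27,(Int.ofNat 1))] (.node 3 [(26,(Int.ofNat 1))] (.node 0 [(16,(Int.ofNat 1))] .nil .nil) .nil) (.node 7 [(31,(Int.negSucc 0))] (.node 6 [(30,(Int.negSucc 0))] .nil .nil) .nil)) (.node 14 [(47,(Int.negSucc 0))] (.node 13 [(46,(Int.ofNat 1))] (.node 9 [(34,(Int.ofNat 1))] .nil .nil) .nil) (.node 15 [(50,(Int.ofNat 1))] .nil .nil))) (.node 40 [(64,(Int.ofNat 1))] (.node 37 [(62,(Int.negSucc 0))] (.node 25 [(58,(Int.negSucc 0))] (.node 24 [(57,(Int.ofNat 1))] .nil .nil) .nil) (.node 38 [(63,(Int.negSucc 0))] .nil .nil)) (.node 45 [(68,(Int.negSucc 0))] (.node 44 [(67,(Int.negSucc 0))] (.node 41 [(65,(Int.ofNat 1))] .nil .nil) .nil) (.node 55 [(71,(Int.negSucc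 0))] .nil .nil))))
def ch62 : Tr (List (ℕ × ℤ)) := (.node 20 [(56,(Int.negSucc 0))] (.node 8 [(35,(Int.ofNat 1))] (.node 4 [(28,(Int.negSucc 0))] (.node 2 [(26,(Int.ofNat 1))] (.node 0 [(17,(Int.negSucc 0))] .nil .nil) .nil) (.node 7 [(32,(Int.ofNat 1))] (.node 5 [(30,(Int.negSucc 0))] .nil .nil) .nil)) (.node 14 [(48,(Int.negSucc 0))] (.node 12 [(46,(Int.ofNat 1))] (.node 10 [(37,(Int.ofNat 1))] .nil .nil) .nil) (.node 15 [(51,(Int.ofNat 1))] .nil .nil))) (.node 39 [(64,(Int.negSucc 0))] (.node 34 [(61,(Int.negSucc 0))] (.node 25 [(59,(Int.negSucc 0))] (.node 23 [(57,(Int.ofNat 1))] .nil .nil) .nil) (.node 36 [(63,(Int.negSucc 0))] .nil .nil)) (.node 45 [(69,(Int.negSucc 0))] (.node 43 [(67,(Int.ofNat 1))] (.node 41 [(66,(Int.ofNat 1))] .nil .nil) .nil) (.node 54 [(71,(Int.ofNat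 1))] .nil .nil))))
def ch63 : Tr (List (ℕ × ℤ)) := (.node 19 [(56,(Int.negSucc 0))] (.node 9 [(36,(Int.ofNat 1))] (.node 3 [(28,(Int.negSucc 0))] (.node 2 [(27,(Int.negSucc 0))] (.node 0 [(18,(Int.ofNat 1))] .nil .nil) .nil) (.node 6 [(32,(Int.ofNat 1))] (.node 5 [(31,(Int.ofNat 1))] .nil .nil) .nil)) (.node 14 [(49,(Int.negSucc 0))] (.node 11 [(46,(Int.ofNat 1))] (.node 10 [(38,(Int.ofNat 1))] .nil .nil) .nil) (.node 15 [(52,(Int.ofNat 1))] .nil .nil))) (.node 39 [(65,(Int.negSucc 0))] (.node 33 [(61,(Int.negSucc 0))] (.node 25 [(60,(Int.negSucc 0))] (.node 22 [(57,(Int.ofNat 1))] .nil .nil) .nil) (.node 35 [(62,(Int.negSucc 0))] .nil .nil)) (.node 44 [(69,(Int.ofNat 1))] (.node 43 [(68,(Int.ofNat 1))] (.node 40 [(66,(Int.negSucc 0))] .nil .nil) .nil) (.node 53 [(71,(Int.negSucc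 0))] .nil .nil))))
def ch64 : Tr (List (ℕ × ℤ)) := (.node 18 [(56,(Int.negSucc 0))] (.node 9 [(39,(Int.ofNat 1))] (.node 4 [(29,(Int.ofNat 1))] (.node 1 [(26,(Int.ofNat 1))] (.node 0 [(19,(Int.ofNat 1))] .nil .nil) .nil) (.node 6 [(35,(Int.ofNat 1))] (.node 5 [(33,(Int.negSucc 0))] .nil .nil) .nil)) (.node 13 [(48,(Int.negSucc 0))] (.node 12 [(47,(Int.ofNat 1))] (.node 10 [(40,(Int.negSucc 0))] .nil .nil) .nil) (.node 15 [(53,(Int.ofNat 1))] .nil .nil))) (.node 36 [(65,(Int.negSucc 0))] (.node 31 [(61,(Int.ofNat 1))] (.node 24 [(59,(Int.negSucc 0))] (.node 23 [(58,(Int.ofNat 1))] .nil .nil) .nil) (.node 32 [(62,(Int.negSucc 0))] .nil .nil)) (.node 45 [(70,(Int.negSucc 0))] (.node 42 [(67,(Int.negSucc 0))] (.node 38 [(66,(Int.ofNat 1))] .nil .nil) .nil) (.node 52 [(71,(Int.negSucc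 0))] .nil .nil))))
def ch65 : Tr (List (ℕ × ℤ)) := (.node 17 [(56,(Int.negSucc 0))] (.node 8 [(39,(Int.ofNat 1))] (.node 3 [(29,(Int.ofNat 1))] (.node 1 [(27,(Int.negSucc 0))] (.node 0 [(20,(Int.negSucc 0))] .nil .nil) .nil) (.node 7 [(36,(Int.ofNat 1))] (.node 5 [(34,(Int.ofNat 1))] .nil .nil) .nil)) (.node 13 [(49,(Int.negSucc 0))] (.node 11 [(47,(Int.ofNat 1))] (.node 10 [(41,(Int.negSucc 0))] .nil .nil) .nil) (.node 15 [(54,(Int.ofNat 1))] .nil .nil))) (.node 35 [(64,(Int.negSucc 0))] (.node 30 [(61,(Int.ofNat 1))] (.node 24 [(60,(Int.negSucc 0))] (.node 22 [(58,(Int.ofNat 1))] .nil .nil) .nil) (.node 32 [(63,(Int.negSucc 0))] .nil .nil)) (.node 44 [(70,(Int.ofNat 1))] (.node 42 [(68,(Int.negSucc 0))] (.node 37 [(66,(Int.negSucc 0))] .nil .nil) .nil) (.node 51 [(71,(Int.ofNat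 1))] .nil .nil))))
def ch66 : Tr (List (ℕ × ℤ)) := (.node 16 [(56,(Int.negSucc 0))] (.node 8 [(40,(Int.ofNat 1))] (.node 2 [(29,(Int.ofNat 1))] (.node 1 [(28,(Int.ofNat 1))] (.node 0 [(21,(Int.ofNat 1))] .nil .nil) .nil) (.node 7 [(38,(Int.negSucc 0))] (.node 6 [(37,(Int.ofNat 1))] .nil .nil) .nil)) (.node 12 [(49,(Int.negSucc 0))] (.node 11 [(48,(Int.ofNat 1))] (.node 9 [(41,(Int.negSucc 0))] .nil .nil) .nil) (.node 15 [(55,(Int.ofNat 1))] .nil .nil))) (.node 33 [(64,(Int.ofNat 1))] (.node 30 [(62,(Int.ofNat 1))] (.node 23 [(60,(Int.negSucc 0))] (.node 22 [(59,(Int.ofNat 1))] .nil .nil) .nil) (.node 31 [(63,(Int.negSucc 0))] .nil .nil)) (.node 43 [(70,(Int.negSucc 0))] (.node 42 [(69,(Int.negSucc 0))] (.node 34 [(65,(Int.negSucc 0))] .nil .nil) .nil) (.node 50 [(71,(Int.negSucc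 0))] .nil .nil))))
def ch67 : Tr (List (ℕ × ℤ)) := (.node 18 [(57,(Int.negSucc 0))] (.node 9 [(43,(Int.negSucc 0))] (.node 2 [(33,(Int.negSucc 0))] (.node 1 [(30,(Int.ofNat 1))] (.node 0 [(22,(Int.negSucc 0))] .nil .nil) .nil) (.node 7 [(42,(Int.ofNat 1))] (.node 3 [(35,(Int.ofNat 1))] .nil .nil) .nil)) (.node 13 [(51,(Int.negSucc 0))] (.node 12 [(50,(Int.ofNat 1))] (.node 10 [(44,(Int.ofNat 1))] .nil .nil) .nil) (.node 14 [(53,(Int.ofNat 1))] .nil .nil))) (.node 29 [(64,(Int.negSucc 0))] (.node 27 [(61,(Int.negSucc 0))] (.node 21 [(59,(Int.negSucc 0))] (.node 20 [(58,(Int.ofNat 1))] .nil .nil) .nil) (.node 28 [(62,(Int.ofNat 1))] .nil .nil)) (.node 41 [(70,(Int.negSucc 0))] (.node 38 [(69,(Int.ofNat 1))] (.node 36 [(68,(Int.negSucc 0))] .nil .nil) .nil) (.node 49 [(71,(Int.ofNat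 1))] .nil .nil))))
def ch68 : Tr (List (ℕ × ℤ)) := (.node 17 [(57,(Int.negSucc 0))] (.node 8 [(43,(Int.negSucc 0))] (.node 2 [(34,(Int.ofNat 1))] (.node 1 [(31,(Int.negSucc 0))] (.node 0 [(23,(Int.ofNat 1))] .nil .nil) .nil) (.node 6 [(42,(Int.ofNat 1))] (.node 4 [(36,(Int.ofNat 1))] .nil .nil) .nil)) (.node 13 [(52,(Int.negSucc 0))] (.node 11 [(50,(Int.ofNat 1))] (.node 10 [(45,(Int.ofNat 1))] .nil .nil) .nil) (.node 14 [(54,(Int.ofNat 1))] .nil .nil))) (.node 29 [(65,(Int.negSucc 0))] (.node 26 [(61,(Int.negSucc 0))] (.node 21 [(60,(Int.negSucc 0))] (.node 19 [(58,(Int.ofNat 1))] .nil .nil) .nil) (.node 28 [(63,(Int.ofNat 1))] .nil .nil)) (.node 40 [(70,(Int.ofNat 1))] (.node 37 [(69,(Int.negSucc 0))] (.node 35 [(67,(Int.negSucc 0))] .nil .nil) .nil) (.node 48 [(71,(Int.negSucc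 0))] .nil .nil))))
def ch69 : Tr (List (ℕ × ℤ)) := (.node 16 [(57,(Int.negSucc 0))] (.node 8 [(44,(Int.negSucc 0))] (.node 3 [(37,(Int.ofNat 1))] (.node 1 [(32,(Int.ofNat 1))] (.node 0 [(24,(Int.negSucc 0))] .nil .nil) .nil) (.node 5 [(42,(Int.ofNat 1))] (.node 4 [(38,(Int.negSucc 0))] .nil .nil) .nil)) (.node 12 [(52,(Int.negSucc 0))] (.node 11 [(51,(Int.ofNat 1))] (.node 9 [(45,(Int.ofNat 1))] .nil .nil) .nil) (.node 14 [(55,(Int.ofNat 1))] .nil .nil))) (.node 29 [(66,(Int.negSucc 0))] (.node 26 [(62,(Int.negSucc 0))] (.node 20 [(60,(Int.negSucc 0))] (.node 19 [(59,(Int.ofNat 1))] .nil .nil) .nil) (.node 27 [(63,(Int.ofNat 1))] .nil .nil)) (.node 39 [(70,(Int.negSucc 0))] (.node 34 [(68,(Int.negSucc 0))] (.node 33 [(67,(Int.ofNat 1))] .nil .nil) .nil) (.node 47 [(71,(Int.ofNat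 1))] .nil .nil))))
def ch70 : Tr (List (ℕ × ℤ)) := (.node 16 [(58,(Int.negSucc 0))] (.node 6 [(44,(Int.negSucc 0))] (.node 3 [(40,(Int.negSucc 0))] (.node 2 [(39,(Int.ofNat 1))] (.node 0 [(25,(Int.ofNat 1))] .nil .nil) .nil) (.node 5 [(43,(Int.ofNat 1))] (.node 4 [(41,(Int.ofNat 1))] .nil .nil) .nil)) (.node 12 [(54,(Int.negSucc 0))] (.node 11 [(53,(Int.ofNat 1))] (.node 7 [(45,(Int.ofNat 1))] .nil .nil) .nil) (.node 13 [(55,(Int.ofNat 1))] .nil .nil))) (.node 28 [(66,(Int.negSucc 0))] (.node 26 [(64,(Int.negSucc 0))] (.node 18 [(60,(Int.negSucc 0))] (.node 17 [(59,(Int.ofNat 1))] .nil .nil) .nil) (.node 27 [(65,(Int.ofNat 1))] .nil .nil)) (.node 32 [(69,(Int.negSucc 0))] (.node 31 [(68,(Int.ofNat 1))] (.node 30 [(67,(Int.negSucc 0))] .nil .nil) .nil) (.node 46 [(71,(Int.negSucc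 0))] .nil .nil))))
def ch71 : Tr (List (ℕ × ℤ)) := (.node 16 [(61,(Int.negSucc 0))] (.node 6 [(51,(Int.negSucc 0))] (.node 3 [(48,(Int.ofNat 1))] (.node 2 [(47,(Int.negSucc 0))] (.node 1 [(46,(Int.ofNat 1))] .nil .nil) .nil) (.node 5 [(50,(Int.ofNat 1))] (.node 4 [(49,(Int.negSucc 0))] .nil .nil) .nil)) (.node 9 [(54,(Int.negSucc 0))] (.node 8 [(53,(Int.ofNat 1))] (.node 7 [(52,(Int.ofNat 1))] .nil .nil) .nil) (.node 10 [(55,(Int.ofNat 1))] .nil .nil))) (.node 21 [(66,(Int.negSucc 0))] (.node 19 [(64,(Int.negSucc 0))] (.node 18 [(63,(Int.negSucc 0))] (.node 17 [(62,(Int.ofNat 1))] .nil .nil) .nil) (.node 20 [(65,(Int.ofNat 1))] .nil .nil)) (.node 24 [(69,(Int.ofNat 1))] (.node 23 [(68,(Int.negSucc 0))] (.node 22 [(67,(Int.ofNat 1))] .nil .nil) .nil) (.node 25 [(70,(Int.negSucc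 0))] .nil .nil))))
def chainT : Tr (Tr (List (ℕ × ℤ))) := (.node 36 ch36 (.node 18 ch18 (.node 9 ch9 (.node 4 ch4 (.node 2 ch2 (.node 1 ch1 (.node 0 ch0 .nil .nil) .nil) (.node 3 ch3 .nil .nil)) (.node 7 ch7 (.node 6 ch6 (.node 5 ch5 .nil .nil) .nil) (.node 8 ch8 .nil .nil))) (.node 14 ch14 (.node 12 ch12 (.node 11 ch11 (.node 10 ch10 .nil .nil) .nil) (.node 13 ch13 .nil .nil)) (.node 16 ch16 (.node 15 ch15 .nil .nil) (.node 17 ch17 .nil .nil)))) (.node 27 ch27 (.node 23 ch23 (.node 21 ch21 (.node 20 ch20 (.node 19 ch19 .nil .nil) .nil) (.node 22 ch22 .nil .nil)) (.node 25 ch25 (.node 24 ch24 .nil .nil) (.node 26 ch26 .nil .nil))) (.node 32 ch32 (.node 30 ch30 (.node 29 ch29 (.node 28 ch28 .nil .nil) .nil) (.node 31 ch31 .nil .nil)) (.node 34 ch34 (.node 33 ch33 .nil .nil)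 (.node 35 ch35 .nil .nil))))) (.node 54 ch54 (.node 45 ch45 (.node 41 ch41 (.node 39 ch39 (.node 38 ch38 (.node 37 ch37 .nil .nil) .nil) (.node 40 ch40 .nil .nil)) (.node 43 ch43 (.node 42 ch42 .nil .nil) (.node 44 ch44 .nil .nil))) (.node 50 ch50 (.node 48 ch48 (.node 47 ch47 (.node 46 ch46 .nil .nil) .nil) (.node 49 ch49 .nil .nil)) (.node 52 ch52 (.node 51 ch51 .nil .nil) (.node 53 ch53 .nil .nil)))) (.node 63 ch63 (.node 59 ch59 (.node 57 ch57 (.node 56 ch56 (.node 55 ch55 .nil .nil) .nil) (.node 58 ch58 .nil .nil)) (.node 61 ch61 (.node 60 ch60 .nil .nil) (.node 62 ch62 .nil .nil))) (.node 68 ch68 (.node 66 ch66 (.node 65 ch65 (.node 64 ch64 .nil .nil) .nil) (.node 67 ch67 .nil .nil)) (.node 70 ch70 (.node 69 ch69 .nil .nil) (.node 71 ch71 .nil .nil))))))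
def negT : Tr ℕ := (.node 36 35 (.node 18 53 (.node 9 62 (.node 4 67 (.node 2 69 (.node 1 70 (.node 0 71 .nil .nil) .nil) (.node 3 68 .nil .nil)) (.node 7 64 (.node 6 65 (.node 5 66 .nil .nil) .nil) (.node 8 63 .nil .nil))) (.node 14 57 (.node 12 59 (.node 11 60 (.node 10 61 .nil .nil) .nil) (.node 13 58 .nil .nil)) (.node 16 55 (.node 15 56 .nil .nil) (.node 17 54 .nil .nil)))) (.node 27 44 (.node 23 48 (.node 21 50 (.node 20 51 (.node 19 52 .nil .nil) .nil) (.node 22 49 .nil .nil)) (.node 25 46 (.node 24 47 .nil .nil) (.node 26 45 .nil .nil))) (.node 32 39 (.node 30 41 (.node 29 42 (.node 28 43 .nil .nil) .nil) (.node 31 40 .nil .nil)) (.node 34 37 (.node 33 38 .nil .nil) (.node 35 36 .nil .nil))))) (.node 54 17 (.node 45 26 (.node 41 30 (.node 39 32 (.node 38 33 (.node 37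 34 .nil .nil) .nil) (.node 40 31 .nil .nil)) (.node 43 28 (.node 42 29 .nil .nil) (.node 44 27 .nil .nil))) (.node 50 21 (.node 48 23 (.node 47 24 (.node 46 25 .nil .nil) .nil) (.node 49 22 .nil .nil)) (.node 52 19 (.node 51 20 .nil .nil) (.node 53 18 .nil .nil)))) (.node 63 8 (.node 59 12 (.node 57 14 (.node 56 15 (.node 55 16 .nil .nil) .nil) (.node 58 13 .nil .nil)) (.node 61 10 (.node 60 11 .nil .nil) (.node 62 9 .nil .nil))) (.node 68 3 (.node 66 5 (.node 65 6 (.node 64 7 .nil .nil) .nil) (.node 67 4 .nil .nil)) (.node 70 1 (.node 69 2 .nil .nil) (.node 71 0 .nil .nil))))))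
def nc0 : Tr Vc := (.node 39 [⟨39,(Int.ofNat 1),0,0⟩] (.node 19 [⟨34,(Int.ofNat 1),0,0⟩] (.node 9 [⟨9,(Int.ofNat 1),0,0⟩] (.node 4 [⟨4,(Int.ofNat 1),0,0⟩] (.node 2 [⟨0,(Int.ofNat 1),0,0⟩, ⟨2,(Int.ofNat 1),0,0⟩] (.node 1 [⟨1,(Int.ofNat 1),0,0⟩] (.node 0 [⟨0,(Int.negSucc 0),0,0⟩] .nil .nil) .nil) (.node 3 [⟨3,(Int.ofNat 1),0,0⟩] .nil .nil)) (.node 7 [⟨7,(Int.ofNat 1),0,0⟩] (.node 6 [⟨6,(Int.ofNat 1),0,0⟩] (.node 5 [⟨5,(Int.ofNat 1),0,0⟩] .nil .nil) .nil) (.node 8 [⟨8,(Int.ofNat 1),0,0⟩] .nil .nil))) (.node 14 [⟨25,(Int.ofNat 1),0,0⟩] (.node 12 [⟨23,(Int.ofNat 1),0,0⟩] (.node 11 [⟨22,(Int.ofNat 1),0,0⟩] (.node 10 [⟨10,(Int.ofNat 1),0,0⟩] .nil .nil) .nil) (.node 13 [⟨24,(Int.ofNat 1),0,0⟩] .nil .nil)) (.node 17 [⟨32,(Int.ofNat 1),0,0⟩] (.node 16 [⟨27,(Int.ofNat 1),0,0⟩] (.node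 15 [⟨26,(Int.ofNat 1),0,0⟩] .nil .nil) .nil) (.node 18 [⟨33,(Int.ofNat 1),0,0⟩] .nil .nil)))) (.node 29 [⟨29,(Int.ofNat 1),0,0⟩] (.node 24 [⟨13,(Int.negSucc 0),0,0⟩] (.node 22 [⟨11,(Int.negSucc 0),0,0⟩] (.node 21 [⟨62,(Int.negSucc 0),0,0⟩] (.node 20 [⟨35,(Int.ofNat 1),0,0⟩] .nil .nil) .nil) (.node 23 [⟨12,(Int.negSucc 0),0,0⟩] .nil .nil)) (.node 27 [⟨16,(Int.negSucc 0),0,0⟩] (.node 26 [⟨15,(Int.negSucc 0),0,0⟩] (.node 25 [⟨14,(Int.negSucc 0),0,0⟩] .nil .nil) .nil) (.node 28 [⟨28,(Int.ofNat 1),0,0⟩] .nil .nil))) (.node 34 [⟨19,(Int.negSucc 0),0,0⟩] (.node 32 [⟨17,(Int.negSucc 0),0,0⟩] (.node 31 [⟨31,(Int.ofNat 1),0,0⟩] (.node 30 [⟨30,(Int.ofNat 1),0,0⟩] .nil .nil) .nil) (.node 33 [⟨18,(Int.negSucc 0),0,0⟩] .nil .nil)) (.node 37 [⟨37,(Int.ofNat 1),0,0⟩] (.node 36 [⟨36,(Int.ofNat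 1),0,0⟩] (.node 35 [⟨20,(Int.negSucc 0),0,0⟩] .nil .nil) .nil) (.node 38 [⟨38,(Int.ofNat 1),0,0⟩] .nil .nil))))) (.node 59 [⟨70,(Int.negSucc 0),0,0⟩] (.node 49 [⟨64,(Int.negSucc 0),0,0⟩] (.node 44 [⟨44,(Int.ofNat 1),0,0⟩] (.node 42 [⟨42,(Int.ofNat 1),0,0⟩] (.node 41 [⟨41,(Int.ofNat 1),0,0⟩] (.node 40 [⟨40,(Int.ofNat 1),0,0⟩] .nil .nil) .nil) (.node 43 [⟨43,(Int.ofNat 1),0,0⟩] .nil .nil)) (.node 47 [⟨47,(Int.ofNat 1),0,0⟩] (.node 46 [⟨46,(Int.ofNat 1),0,0⟩] (.node 45 [⟨45,(Int.ofNat 1),0,0⟩] .nil .nil) .nil) (.node 48 [⟨63,(Int.negSucc 0),0,0⟩] .nil .nil))) (.node 54 [⟨54,(Int.ofNat 1),0,0⟩] (.node 52 [⟨52,(Int.ofNat 1),0,0⟩] (.node 51 [⟨66,(Int.negSucc 0),0,0⟩] (.node 50 [⟨65,(Int.negSucc 0),0,0⟩] .nil .nil) .nil) (.node 53 [⟨53,(Int.ofNat 1),0,0⟩] .nil .nil)) (.node 57 [⟨68,(Int.negSucc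 0),0,0⟩] (.node 56 [⟨67,(Int.negSucc 0),0,0⟩] (.node 55 [⟨55,(Int.ofNat 1),0,0⟩] .nil .nil) .nil) (.node 58 [⟨69,(Int.negSucc 0),0,0⟩] .nil .nil)))) (.node 69 [⟨58,(Int.ofNat 1),0,0⟩] (.node 64 [⟨49,(Int.ofNat 1),0,0⟩] (.node 62 [⟨21,(Int.negSucc 0),0,0⟩] (.node 61 [⟨72,(Int.negSucc 0),0,0⟩] (.node 60 [⟨71,(Int.negSucc 0),0,0⟩] .nil .nil) .nil) (.node 63 [⟨48,(Int.ofNat 1),0,0⟩] .nil .nil)) (.node 67 [⟨56,(Int.ofNat 1),0,0⟩] (.node 66 [⟨51,(Int.ofNat 1),0,0⟩] (.node 65 [⟨50,(Int.ofNat 1),0,0⟩] .nil .nil) .nil) (.node 68 [⟨57,(Int.ofNat 1),0,0⟩] .nil .nil))) (.node 74 [⟨74,(Int.ofNat 1),0,0⟩] (.node 72 [⟨61,(Int.ofNat 1),0,0⟩] (.node 71 [⟨60,(Int.ofNat 1),0,0⟩] (.node 70 [⟨59,(Int.ofNat 1),0,0⟩] .nil .nil) .nil) (.node 73 [⟨73,(Int.ofNat 1),0,0⟩] .nil .nil)) (.node 76 [⟨76,(Int.ofNat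 1),0,0⟩] (.node 75 [⟨75,(Int.ofNat 1),0,0⟩] .nil .nil) (.node 77 [⟨77,(Int.ofNat 1),0,0⟩] .nil .nil))))))
def nc1 : Tr Vc := (.node 39 [⟨39,(Int.ofNat 1),0,0⟩] (.node 19 [⟨16,(Int.ofNat 1),0,0⟩] (.node 9 [⟨9,(Int.ofNat 1),0,0⟩] (.node 4 [⟨4,(Int.ofNat 1),0,0⟩] (.node 2 [⟨2,(Int.ofNat 1),0,0⟩] (.node 1 [⟨1,(Int.negSucc 0),0,0⟩] (.node 0 [⟨0,(Int.ofNat 1),0,0⟩] .nil .nil) .nil) (.node 3 [⟨1,(Int.ofNat 1),0,0⟩, ⟨3,(Int.ofNat 1),0,0⟩] .nil .nil)) (.node 7 [⟨6,(Int.ofNat 1),0,0⟩] (.node 6 [⟨7,(Int.negSucc 0),0,0⟩] (.node 5 [⟨5,(Int.ofNat 1),0,0⟩] .nil .nil) .nil) (.node 8 [⟨8,(Int.ofNat 1),0,0⟩] .nil .nil))) (.node 14 [⟨17,(Int.negSucc 0),0,0⟩] (.node 12 [⟨12,(Int.ofNat 1),0,0⟩] (.node 11 [⟨11,(Int.ofNat 1),0,0⟩] (.node 10 [⟨10,(Int.ofNat 1),0,0⟩] .nil .nil) .nil) (.node 13 [⟨13,(Int.ofNat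 1),0,0⟩] .nil .nil)) (.node 17 [⟨14,(Int.ofNat 1),0,0⟩] (.node 16 [⟨19,(Int.negSucc 0),0,0⟩] (.node 15 [⟨18,(Int.negSucc 0),0,0⟩] .nil .nil) .nil) (.node 18 [⟨15,(Int.ofNat 1),0,0⟩] .nil .nil)))) (.node 29 [⟨37,(Int.ofNat 1),0,0⟩] (.node 24 [⟨24,(Int.ofNat 1),0,0⟩] (.node 22 [⟨22,(Int.ofNat 1),0,0⟩] (.node 21 [⟨21,(Int.ofNat 1),0,0⟩] (.node 20 [⟨20,(Int.ofNat 1),0,0⟩] .nil .nil) .nil) (.node 23 [⟨23,(Int.ofNat 1),0,0⟩] .nil .nil)) (.node 27 [⟨34,(Int.negSucc 0),0,0⟩] (.node 26 [⟨33,(Int.negSucc 0),0,0⟩] (.node 25 [⟨32,(Int.negSucc 0),0,0⟩] .nil .nil) .nil) (.node 28 [⟨36,(Int.ofNat 1),0,0⟩] .nil .nil))) (.node 34 [⟨27,(Int.ofNat 1),0,0⟩] (.node 32 [⟨25,(Int.ofNat 1),0,0⟩] (.node 31 [⟨52,(Int.negSucc 0),0,0⟩] (.node 30 [⟨38,(Int.ofNat 1),0,0⟩] .nil .nil) .nil) (.node 33 [⟨26,(Int.ofNat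 1),0,0⟩] .nil .nil)) (.node 37 [⟨29,(Int.negSucc 0),0,0⟩] (.node 36 [⟨28,(Int.negSucc 0),0,0⟩] (.node 35 [⟨35,(Int.ofNat 1),0,0⟩] .nil .nil) .nil) (.node 38 [⟨30,(Int.negSucc 0),0,0⟩] .nil .nil))))) (.node 59 [⟨59,(Int.ofNat 1),0,0⟩] (.node 49 [⟨56,(Int.ofNat 1),0,0⟩] (.node 44 [⟨44,(Int.ofNat 1),0,0⟩] (.node 42 [⟨42,(Int.ofNat 1),0,0⟩] (.node 41 [⟨41,(Int.ofNat 1),0,0⟩] (.node 40 [⟨40,(Int.ofNat 1),0,0⟩] .nil .nil) .nil) (.node 43 [⟨43,(Int.ofNat 1),0,0⟩] .nil .nil)) (.node 47 [⟨55,(Int.negSucc 0),0,0⟩] (.node 46 [⟨54,(Int.negSucc 0),0,0⟩] (.node 45 [⟨53,(Int.negSucc 0),0,0⟩] .nil .nil) .nil) (.node 48 [⟨48,(Int.ofNat 1),0,0⟩] .nil .nil))) (.node 54 [⟨46,(Int.ofNat 1),0,0⟩] (.node 52 [⟨31,(Int.negSucc 0),0,0⟩] (.node 51 [⟨58,(Int.ofNat 1),0,0⟩] (.node 50 [⟨57,(Int.ofNat 1),0,0⟩]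 .nil .nil) .nil) (.node 53 [⟨45,(Int.ofNat 1),0,0⟩] .nil .nil)) (.node 57 [⟨50,(Int.negSucc 0),0,0⟩] (.node 56 [⟨49,(Int.negSucc 0),0,0⟩] (.node 55 [⟨47,(Int.ofNat 1),0,0⟩] .nil .nil) .nil) (.node 58 [⟨51,(Int.negSucc 0),0,0⟩] .nil .nil)))) (.node 69 [⟨66,(Int.negSucc 0),0,0⟩] (.node 64 [⟨67,(Int.ofNat 1),0,0⟩] (.node 62 [⟨62,(Int.ofNat 1),0,0⟩] (.node 61 [⟨61,(Int.ofNat 1),0,0⟩] (.node 60 [⟨60,(Int.ofNat 1),0,0⟩] .nil .nil) .nil) (.node 63 [⟨63,(Int.ofNat 1),0,0⟩] .nil .nil)) (.node 67 [⟨64,(Int.negSucc 0),0,0⟩] (.node 66 [⟨69,(Int.ofNat 1),0,0⟩] (.node 65 [⟨68,(Int.ofNat 1),0,0⟩] .nil .nil) .nil) (.node 68 [⟨65,(Int.negSucc 0),0,0⟩] .nil .nil))) (.node 74 [⟨74,(Int.ofNat 1),0,0⟩] (.node 72 [⟨72,(Int.ofNat 1),0,0⟩] (.node 71 [⟨71,(Int.ofNat 1),0,0⟩] (.node 70 [⟨70,(Int.ofNat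 1),0,0⟩] .nil .nil) .nil) (.node 73 [⟨73,(Int.ofNat 1),0,0⟩] .nil .nil)) (.node 76 [⟨77,(Int.ofNat 1),0,0⟩] (.node 75 [⟨75,(Int.ofNat 1),0,0⟩] .nil .nil) (.node 77 [⟨76,(Int.negSucc 0),0,0⟩] .nil .nil))))))
def nc2 : Tr Vc := (.node 39 [⟨39,(Int.ofNat 1),0,0⟩] (.node 19 [⟨19,(Int.ofNat 1),0,0⟩] (.node 9 [⟨12,(Int.negSucc 0),0,0⟩] (.node 4 [⟨4,(Int.ofNat 1),0,0⟩] (.node 2 [⟨2,(Int.negSucc 0),0,0⟩] (.node 1 [⟨1,(Int.ofNat 1),0,0⟩] (.node 0 [⟨0,(Int.ofNat 1),0,0⟩, ⟨2,(Int.ofNat 1),0,0⟩] .nil .nil) .nil) (.node 3 [⟨2,(Int.ofNat 1),0,0⟩, ⟨3,(Int.ofNat 1),0,0⟩] .nil .nil)) (.node 7 [⟨7,(Int.ofNat 1),0,0⟩] (.node 6 [⟨6,(Int.ofNat 1),0,0⟩] (.node 5 [⟨5,(Int.ofNat 1),0,0⟩] .nil .nil) .nil) (.node 8 [⟨11,(Int.negSucc 0),0,0⟩] .nil .nil))) (.node 14 [⟨14,(Int.ofNat 1),0,0⟩] (.node 12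 [⟨9,(Int.ofNat 1),0,0⟩] (.node 11 [⟨8,(Int.ofNat 1),0,0⟩] (.node 10 [⟨13,(Int.negSucc 0),0,0⟩] .nil .nil) .nil) (.node 13 [⟨10,(Int.ofNat 1),0,0⟩] .nil .nil)) (.node 17 [⟨17,(Int.ofNat 1),0,0⟩] (.node 16 [⟨16,(Int.ofNat 1),0,0⟩] (.node 15 [⟨15,(Int.ofNat 1),0,0⟩] .nil .nil) .nil) (.node 18 [⟨18,(Int.ofNat 1),0,0⟩] .nil .nil)))) (.node 29 [⟨26,(Int.ofNat 1),0,0⟩] (.node 24 [⟨24,(Int.ofNat 1),0,0⟩] (.node 22 [⟨22,(Int.ofNat 1),0,0⟩] (.node 21 [⟨20,(Int.ofNat 1),0,0⟩] (.node 20 [⟨21,(Int.negSucc 0),0,0⟩] .nil .nil) .nil) (.node 23 [⟨23,(Int.ofNat 1),0,0⟩] .nil .nil)) (.node 27 [⟨30,(Int.negSucc 0),0,0⟩] (.node 26 [⟨29,(Int.negSucc 0),0,0⟩] (.node 25 [⟨28,(Int.negSucc 0),0,0⟩] .nil .nil) .nil) (.node 28 [⟨25,(Int.ofNat 1),0,0⟩] .nil .nil))) (.node 34 [⟨38,(Int.ofNat 1),0,0⟩] (.node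 32 [⟨36,(Int.ofNat 1),0,0⟩] (.node 31 [⟨31,(Int.ofNat 1),0,0⟩] (.node 30 [⟨27,(Int.ofNat 1),0,0⟩] .nil .nil) .nil) (.node 33 [⟨37,(Int.ofNat 1),0,0⟩] .nil .nil)) (.node 37 [⟨33,(Int.negSucc 0),0,0⟩] (.node 36 [⟨32,(Int.negSucc 0),0,0⟩] (.node 35 [⟨48,(Int.negSucc 0),0,0⟩] .nil .nil) .nil) (.node 38 [⟨34,(Int.negSucc 0),0,0⟩] .nil .nil))))) (.node 59 [⟨59,(Int.ofNat 1),0,0⟩] (.node 49 [⟨45,(Int.ofNat 1),0,0⟩] (.node 44 [⟨44,(Int.ofNat 1),0,0⟩] (.node 42 [⟨42,(Int.ofNat 1),0,0⟩] (.node 41 [⟨41,(Int.ofNat 1),0,0⟩] (.node 40 [⟨40,(Int.ofNat 1),0,0⟩] .nil .nil) .nil) (.node 43 [⟨43,(Int.ofNat 1),0,0⟩] .nil .nil)) (.node 47 [⟨51,(Int.negSucc 0),0,0⟩] (.node 46 [⟨50,(Int.negSucc 0),0,0⟩] (.node 45 [⟨49,(Int.negSucc 0),0,0⟩] .nil .nil) .nil) (.node 48 [⟨35,(Int.negSucc 0),0,0⟩] .nil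 .nil))) (.node 54 [⟨57,(Int.ofNat 1),0,0⟩] (.node 52 [⟨52,(Int.ofNat 1),0,0⟩] (.node 51 [⟨47,(Int.ofNat 1),0,0⟩] (.node 50 [⟨46,(Int.ofNat 1),0,0⟩] .nil .nil) .nil) (.node 53 [⟨56,(Int.ofNat 1),0,0⟩] .nil .nil)) (.node 57 [⟨54,(Int.negSucc 0),0,0⟩] (.node 56 [⟨53,(Int.negSucc 0),0,0⟩] (.node 55 [⟨58,(Int.ofNat 1),0,0⟩] .nil .nil) .nil) (.node 58 [⟨55,(Int.negSucc 0),0,0⟩] .nil .nil)))) (.node 69 [⟨69,(Int.ofNat 1),0,0⟩] (.node 64 [⟨64,(Int.ofNat 1),0,0⟩] (.node 62 [⟨63,(Int.ofNat 1),0,0⟩] (.node 61 [⟨61,(Int.ofNat 1),0,0⟩] (.node 60 [⟨60,(Int.ofNat 1),0,0⟩] .nil .nil) .nil) (.node 63 [⟨62,(Int.negSucc 0),0,0⟩] .nil .nil)) (.node 67 [⟨67,(Int.ofNat 1),0,0⟩] (.node 66 [⟨66,(Int.ofNat 1),0,0⟩] (.node 65 [⟨65,(Int.ofNat 1),0,0⟩] .nil .nil) .nil) (.node 68 [⟨68,(Int.ofNat 1),0,0⟩]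 .nil .nil))) (.node 74 [⟨71,(Int.negSucc 0),0,0⟩] (.node 72 [⟨75,(Int.ofNat 1),0,0⟩] (.node 71 [⟨74,(Int.ofNat 1),0,0⟩] (.node 70 [⟨73,(Int.ofNat 1),0,0⟩] .nil .nil) .nil) (.node 73 [⟨70,(Int.negSucc 0),0,0⟩] .nil .nil)) (.node 76 [⟨76,(Int.ofNat 1),0,0⟩] (.node 75 [⟨72,(Int.negSucc 0),0,0⟩] .nil .nil) (.node 77 [⟨77,(Int.ofNat 1),0,0⟩] .nil .nil))))))
def nc3 : Tr Vc := (.node 39 [⟨36,(Int.negSucc 0),0,0⟩] (.node 19 [⟨20,(Int.negSucc 0),0,0⟩] (.node 9 [⟨9,(Int.ofNat 1),0,0⟩] (.node 4 [⟨3,(Int.ofNat 1),0,0⟩, ⟨4,(Int.ofNat 1),0,0⟩] (.node 2 [⟨2,(Int.ofNat 1),0,0⟩, ⟨3,(Int.ofNat 1),0,0⟩] (.node 1 [⟨1,(Int.ofNat 1),0,0⟩, ⟨3,(Int.ofNat 1),0,0⟩] (.node 0 [⟨0,(Int.ofNat 1),0,0⟩] .nil .nil) .nil) (.node 3 [⟨3,(Int.negSucc 0),0,0⟩] .nil .nil)) (.node 7 [⟨8,(Int.negSucc 0),0,0⟩] (.node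 6 [⟨6,(Int.ofNat 1),0,0⟩] (.node 5 [⟨5,(Int.ofNat 1),0,0⟩] .nil .nil) .nil) (.node 8 [⟨7,(Int.ofNat 1),0,0⟩] .nil .nil))) (.node 14 [⟨12,(Int.ofNat 1),0,0⟩] (.node 12 [⟨14,(Int.negSucc 0),0,0⟩] (.node 11 [⟨11,(Int.ofNat 1),0,0⟩] (.node 10 [⟨10,(Int.ofNat 1),0,0⟩] .nil .nil) .nil) (.node 13 [⟨15,(Int.negSucc 0),0,0⟩] .nil .nil)) (.node 17 [⟨17,(Int.ofNat 1),0,0⟩] (.node 16 [⟨16,(Int.ofNat 1),0,0⟩] (.node 15 [⟨13,(Int.ofNat 1),0,0⟩] .nil .nil) .nil) (.node 18 [⟨18,(Int.ofNat 1),0,0⟩] .nil .nil)))) (.node 29 [⟨29,(Int.ofNat 1),0,0⟩] (.node 24 [⟨26,(Int.negSucc 0),0,0⟩] (.node 22 [⟨22,(Int.ofNat 1),0,0⟩] (.node 21 [⟨21,(Int.ofNat 1),0,0⟩] (.node 20 [⟨19,(Int.ofNat 1),0,0⟩] .nil .nil) .nil) (.node 23 [⟨25,(Int.negSucc 0),0,0⟩] .nil .nil)) (.node 27 [⟨27,(Int.ofNat 1),0,0⟩] (.node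 26 [⟨24,(Int.ofNat 1),0,0⟩] (.node 25 [⟨23,(Int.ofNat 1),0,0⟩] .nil .nil) .nil) (.node 28 [⟨28,(Int.ofNat 1),0,0⟩] .nil .nil))) (.node 34 [⟨35,(Int.negSucc 0),0,0⟩] (.node 32 [⟨32,(Int.ofNat 1),0,0⟩] (.node 31 [⟨30,(Int.ofNat 1),0,0⟩] (.node 30 [⟨31,(Int.negSucc 0),0,0⟩] .nil .nil) .nil) (.node 33 [⟨33,(Int.ofNat 1),0,0⟩] .nil .nil)) (.node 37 [⟨40,(Int.ofNat 1),0,0⟩] (.node 36 [⟨39,(Int.ofNat 1),0,0⟩] (.node 35 [⟨34,(Int.ofNat 1),0,0⟩] .nil .nil) .nil) (.node 38 [⟨45,(Int.negSucc 0),0,0⟩] .nil .nil))))) (.node 59 [⟨57,(Int.negSucc 0),0,0⟩] (.node 49 [⟨48,(Int.negSucc 0),0,0⟩] (.node 44 [⟨47,(Int.negSucc 0),0,0⟩] (.node 42 [⟨42,(Int.ofNat 1),0,0⟩] (.node 41 [⟨41,(Int.ofNat 1),0,0⟩] (.node 40 [⟨37,(Int.negSucc 0),0,0⟩] .nil .nil) .nil) (.node 43 [⟨46,(Int.negSucc 0),0,0⟩] .nil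 .nil)) (.node 47 [⟨44,(Int.ofNat 1),0,0⟩] (.node 46 [⟨43,(Int.ofNat 1),0,0⟩] (.node 45 [⟨38,(Int.negSucc 0),0,0⟩] .nil .nil) .nil) (.node 48 [⟨49,(Int.ofNat 1),0,0⟩] .nil .nil))) (.node 54 [⟨54,(Int.ofNat 1),0,0⟩] (.node 52 [⟨53,(Int.ofNat 1),0,0⟩] (.node 51 [⟨51,(Int.ofNat 1),0,0⟩] (.node 50 [⟨50,(Int.ofNat 1),0,0⟩] .nil .nil) .nil) (.node 53 [⟨52,(Int.negSucc 0),0,0⟩] .nil .nil)) (.node 57 [⟨59,(Int.ofNat 1),0,0⟩] (.node 56 [⟨56,(Int.ofNat 1),0,0⟩] (.node 55 [⟨55,(Int.ofNat 1),0,0⟩] .nil .nil) .nil) (.node 58 [⟨60,(Int.ofNat 1),0,0⟩] .nil .nil)))) (.node 69 [⟨71,(Int.ofNat 1),0,0⟩] (.node 64 [⟨63,(Int.negSucc 0),0,0⟩] (.node 62 [⟨62,(Int.ofNat 1),0,0⟩] (.node 61 [⟨61,(Int.ofNat 1),0,0⟩] (.node 60 [⟨58,(Int.negSucc 0),0,0⟩] .nil .nil) .nil) (.node 63 [⟨64,(Int.ofNat 1),0,0⟩]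 .nil .nil)) (.node 67 [⟨67,(Int.ofNat 1),0,0⟩] (.node 66 [⟨66,(Int.ofNat 1),0,0⟩] (.node 65 [⟨65,(Int.ofNat 1),0,0⟩] .nil .nil) .nil) (.node 68 [⟨70,(Int.ofNat 1),0,0⟩] .nil .nil))) (.node 74 [⟨74,(Int.ofNat 1),0,0⟩] (.node 72 [⟨72,(Int.ofNat 1),0,0⟩] (.node 71 [⟨69,(Int.negSucc 0),0,0⟩] (.node 70 [⟨68,(Int.negSucc 0),0,0⟩] .nil .nil) .nil) (.node 73 [⟨73,(Int.ofNat 1),0,0⟩] .nil .nil)) (.node 76 [⟨75,(Int.negSucc 0),0,0⟩] (.node 75 [⟨76,(Int.ofNat 1),0,0⟩] .nil .nil) (.node 77 [⟨77,(Int.ofNat 1),0,0⟩] .nil .nil))))))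
def nc4 : Tr Vc := (.node 39 [⟨41,(Int.ofNat 1),0,0⟩] (.node 19 [⟨18,(Int.ofNat 1),0,0⟩] (.node 9 [⟨8,(Int.ofNat 1),0,0⟩] (.node 4 [⟨4,(Int.negSucc 0),0,0⟩] (.node 2 [⟨2,(Int.ofNat 1),0,0⟩] (.node 1 [⟨1,(Int.ofNat 1),0,0⟩] (.node 0 [⟨0,(Int.ofNat 1),0,0⟩] .nil .nil) .nil) (.node 3 [⟨3,(Int.ofNat 1),0,0⟩, ⟨4,(Int.ofNat 1),0,0⟩] .nil .nil)) (.node 7 [⟨7,(Int.ofNat 1),0,0⟩] (.node 6 [⟨6,(Int.ofNat 1),0,0⟩] (.node 5 [⟨4,(Int.ofNat 1),0,0⟩, ⟨5,(Int.ofNat 1),0,0⟩] .nil .nil) .nil) (.node 8 [⟨9,(Int.negSucc 0),0,0⟩] .nil .nil))) (.node 14 [⟨14,(Int.ofNat 1),0,0⟩] (.node 12 [⟨11,(Int.ofNat 1),0,0⟩] (.node 11 [⟨12,(Int.negSucc 0),0,0⟩] (.node 10 [⟨10,(Int.ofNat 1),0,0⟩] .nil .nil) .nil) (.node 13 [⟨13,(Int.ofNat 1),0,0⟩] .nil .nil)) (.node 17 [⟨17,(Int.ofNat 1),0,0⟩] (.node 16 [⟨15,(Int.ofNat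 1),0,0⟩] (.node 15 [⟨16,(Int.negSucc 0),0,0⟩] .nil .nil) .nil) (.node 18 [⟨19,(Int.negSucc 0),0,0⟩] .nil .nil)))) (.node 29 [⟨30,(Int.negSucc 0),0,0⟩] (.node 24 [⟨24,(Int.ofNat 1),0,0⟩] (.node 22 [⟨23,(Int.negSucc 0),0,0⟩] (.node 21 [⟨21,(Int.ofNat 1),0,0⟩] (.node 20 [⟨20,(Int.ofNat 1),0,0⟩] .nil .nil) .nil) (.node 23 [⟨22,(Int.ofNat 1),0,0⟩] .nil .nil)) (.node 27 [⟨26,(Int.ofNat 1),0,0⟩] (.node 26 [⟨27,(Int.negSucc 0),0,0⟩] (.node 25 [⟨25,(Int.ofNat 1),0,0⟩] .nil .nil) .nil) (.node 28 [⟨28,(Int.ofNat 1),0,0⟩] .nil .nil))) (.node 34 [⟨33,(Int.ofNat 1),0,0⟩] (.node 32 [⟨32,(Int.ofNat 1),0,0⟩] (.node 31 [⟨31,(Int.ofNat 1),0,0⟩] (.node 30 [⟨29,(Int.ofNat 1),0,0⟩] .nil .nil) .nil) (.node 33 [⟨34,(Int.negSucc 0),0,0⟩] .nil .nil)) (.node 37 [⟨38,(Int.negSucc 0),0,0⟩] (.node 36 [⟨36,(Int.ofNat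 1),0,0⟩] (.node 35 [⟨35,(Int.ofNat 1),0,0⟩] .nil .nil) .nil) (.node 38 [⟨37,(Int.ofNat 1),0,0⟩] .nil .nil))))) (.node 59 [⟨59,(Int.ofNat 1),0,0⟩] (.node 49 [⟨50,(Int.ofNat 1),0,0⟩] (.node 44 [⟨42,(Int.ofNat 1),0,0⟩] (.node 42 [⟨44,(Int.negSucc 0),0,0⟩] (.node 41 [⟨39,(Int.negSucc 0),0,0⟩] (.node 40 [⟨43,(Int.negSucc 0),0,0⟩] .nil .nil) .nil) (.node 43 [⟨40,(Int.negSucc 0),0,0⟩] .nil .nil)) (.node 47 [⟨47,(Int.ofNat 1),0,0⟩] (.node 46 [⟨45,(Int.negSucc 0),0,0⟩] (.node 45 [⟨46,(Int.ofNat 1),0,0⟩] .nil .nil) .nil) (.node 48 [⟨48,(Int.ofNat 1),0,0⟩] .nil .nil))) (.node 54 [⟨53,(Int.negSucc 0),0,0⟩] (.node 52 [⟨52,(Int.ofNat 1),0,0⟩] (.node 51 [⟨51,(Int.ofNat 1),0,0⟩] (.node 50 [⟨49,(Int.negSucc 0),0,0⟩] .nil .nil) .nil) (.node 53 [⟨54,(Int.ofNat 1),0,0⟩] .nil .nil)) (.node 57 [⟨56,(Int.negSucc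 0),0,0⟩] (.node 56 [⟨57,(Int.ofNat 1),0,0⟩] (.node 55 [⟨55,(Int.ofNat 1),0,0⟩] .nil .nil) .nil) (.node 58 [⟨58,(Int.ofNat 1),0,0⟩] .nil .nil)))) (.node 69 [⟨69,(Int.ofNat 1),0,0⟩] (.node 64 [⟨65,(Int.ofNat 1),0,0⟩] (.node 62 [⟨62,(Int.ofNat 1),0,0⟩] (.node 61 [⟨60,(Int.negSucc 0),0,0⟩] (.node 60 [⟨61,(Int.ofNat 1),0,0⟩] .nil .nil) .nil) (.node 63 [⟨63,(Int.ofNat 1),0,0⟩] .nil .nil)) (.node 67 [⟨68,(Int.ofNat 1),0,0⟩] (.node 66 [⟨66,(Int.ofNat 1),0,0⟩] (.node 65 [⟨64,(Int.negSucc 0),0,0⟩] .nil .nil) .nil) (.node 68 [⟨67,(Int.negSucc 0),0,0⟩] .nil .nil))) (.node 74 [⟨75,(Int.ofNat 1),0,0⟩] (.node 72 [⟨71,(Int.negSucc 0),0,0⟩] (.node 71 [⟨72,(Int.ofNat 1),0,0⟩] (.node 70 [⟨70,(Int.ofNat 1),0,0⟩] .nil .nil) .nil) (.node 73 [⟨73,(Int.ofNat 1),0,0⟩] .nil .nil)) (.node 76 [⟨76,(Int.ofNat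 1),0,0⟩] (.node 75 [⟨74,(Int.negSucc 0),0,0⟩] .nil .nil) (.node 77 [⟨77,(Int.ofNat 1),0,0⟩] .nil .nil))))))
def nc5 : Tr Vc := (.node 39 [⟨40,(Int.negSucc 0),0,0⟩] (.node 19 [⟨19,(Int.ofNat 1),0,0⟩] (.node 9 [⟨10,(Int.negSucc 0),0,0⟩] (.node 4 [⟨4,(Int.ofNat 1),0,0⟩, ⟨5,(Int.ofNat 1),0,0⟩] (.node 2 [⟨2,(Int.ofNat 1),0,0⟩] (.node 1 [⟨1,(Int.ofNat 1),0,0⟩] (.node 0 [⟨0,(Int.ofNat 1),0,0⟩] .nil .nil) .nil) (.node 3 [⟨3,(Int.ofNat 1),0,0⟩] .nil .nil)) (.node 7 [⟨7,(Int.ofNat 1),0,0⟩] (.node 6 [⟨6,(Int.ofNat 1),0,0⟩] (.node 5 [⟨5,(Int.negSucc 0),0,0⟩] .nil .nil) .nil) (.node 8 [⟨8,(Int.ofNat 1),0,0⟩] .nil .nil))) (.node 14 [⟨15,(Int.negSucc 0),0,0⟩] (.node 12 [⟨13,(Int.negSucc 0),0,0⟩] (.node 11 [⟨11,(Int.ofNat 1),0,0⟩] (.node 10 [⟨9,(Int.ofNat 1),0,0⟩] .nil .nil) .nil) (.node 13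 [⟨12,(Int.ofNat 1),0,0⟩] .nil .nil)) (.node 17 [⟨18,(Int.negSucc 0),0,0⟩] (.node 16 [⟨16,(Int.ofNat 1),0,0⟩] (.node 15 [⟨14,(Int.ofNat 1),0,0⟩] .nil .nil) .nil) (.node 18 [⟨17,(Int.ofNat 1),0,0⟩] .nil .nil)))) (.node 29 [⟨28,(Int.ofNat 1),0,0⟩] (.node 24 [⟨23,(Int.ofNat 1),0,0⟩] (.node 22 [⟨22,(Int.ofNat 1),0,0⟩] (.node 21 [⟨21,(Int.ofNat 1),0,0⟩] (.node 20 [⟨20,(Int.ofNat 1),0,0⟩] .nil .nil) .nil) (.node 23 [⟨24,(Int.negSucc 0),0,0⟩] .nil .nil)) (.node 27 [⟨27,(Int.ofNat 1),0,0⟩] (.node 26 [⟨25,(Int.ofNat 1),0,0⟩] (.node 25 [⟨26,(Int.negSucc 0),0,0⟩] .nil .nil) .nil) (.node 28 [⟨29,(Int.negSucc 0),0,0⟩] .nil .nil))) (.node 34 [⟨34,(Int.ofNat 1),0,0⟩] (.node 32 [⟨33,(Int.negSucc 0),0,0⟩] (.node 31 [⟨31,(Int.ofNat 1),0,0⟩] (.node 30 [⟨30,(Int.ofNat 1),0,0⟩] .nil .nil) .nil)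 (.node 33 [⟨32,(Int.ofNat 1),0,0⟩] .nil .nil)) (.node 37 [⟨36,(Int.ofNat 1),0,0⟩] (.node 36 [⟨37,(Int.negSucc 0),0,0⟩] (.node 35 [⟨35,(Int.ofNat 1),0,0⟩] .nil .nil) .nil) (.node 38 [⟨38,(Int.ofNat 1),0,0⟩] .nil .nil))))) (.node 59 [⟨60,(Int.ofNat 1),0,0⟩] (.node 49 [⟨49,(Int.ofNat 1),0,0⟩] (.node 44 [⟨43,(Int.negSucc 0),0,0⟩] (.node 42 [⟨41,(Int.negSucc 0),0,0⟩] (.node 41 [⟨42,(Int.negSucc 0),0,0⟩] (.node 40 [⟨39,(Int.ofNat 1),0,0⟩] .nil .nil) .nil) (.node 43 [⟨44,(Int.ofNat 1),0,0⟩] .nil .nil)) (.node 47 [⟨46,(Int.negSucc 0),0,0⟩] (.node 46 [⟨47,(Int.ofNat 1),0,0⟩] (.node 45 [⟨45,(Int.ofNat 1),0,0⟩] .nil .nil) .nil) (.node 48 [⟨48,(Int.ofNat 1),0,0⟩] .nil .nil))) (.node 54 [⟨55,(Int.ofNat 1),0,0⟩] (.node 52 [⟨52,(Int.ofNat 1),0,0⟩] (.node 51 [⟨50,(Int.negSucc 0),0,0⟩] (.node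 50 [⟨51,(Int.ofNat 1),0,0⟩] .nil .nil) .nil) (.node 53 [⟨53,(Int.ofNat 1),0,0⟩] .nil .nil)) (.node 57 [⟨58,(Int.ofNat 1),0,0⟩] (.node 56 [⟨56,(Int.ofNat 1),0,0⟩] (.node 55 [⟨54,(Int.negSucc 0),0,0⟩] .nil .nil) .nil) (.node 58 [⟨57,(Int.negSucc 0),0,0⟩] .nil .nil)))) (.node 69 [⟨68,(Int.negSucc 0),0,0⟩] (.node 64 [⟨64,(Int.ofNat 1),0,0⟩] (.node 62 [⟨62,(Int.ofNat 1),0,0⟩] (.node 61 [⟨61,(Int.ofNat 1),0,0⟩] (.node 60 [⟨59,(Int.negSucc 0),0,0⟩] .nil .nil) .nil) (.node 63 [⟨63,(Int.ofNat 1),0,0⟩] .nil .nil)) (.node 67 [⟨67,(Int.ofNat 1),0,0⟩] (.node 66 [⟨65,(Int.negSucc 0),0,0⟩] (.node 65 [⟨66,(Int.ofNat 1),0,0⟩] .nil .nil) .nil) (.node 68 [⟨69,(Int.ofNat 1),0,0⟩] .nil .nil))) (.node 74 [⟨73,(Int.negSucc 0),0,0⟩] (.node 72 [⟨72,(Int.ofNat 1),0,0⟩] (.node 71 [⟨70,(Int.negSucc 0),0,0⟩]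 (.node 70 [⟨71,(Int.ofNat 1),0,0⟩] .nil .nil) .nil) (.node 73 [⟨74,(Int.ofNat 1),0,0⟩] .nil .nil)) (.node 76 [⟨76,(Int.ofNat 1),0,0⟩] (.node 75 [⟨75,(Int.ofNat 1),0,0⟩] .nil .nil) (.node 77 [⟨77,(Int.ofNat 1),0,0⟩] .nil .nil))))))
def nT : Tr (Tr Vc) := (.node 3 nc3 (.node 1 nc1 (.node 0 nc0 .nil .nil) (.node 2 nc2 .nil .nil)) (.node 5 nc5 (.node 4 nc4 .nil .nil) .nil))
def wc0 : Tr (ℕ × ℤ) := (.node 36 (36,(Int.ofNat 1)) (.node 18 (7,(Int.negSucc 0)) (.node 9 (20,(Int.ofNat 1)) (.node 4 (4,(Int.ofNat 1)) (.node 2 (2,(Int.ofNat 1)) (.node 1 (1,(Int.ofNat 1)) (.node 0 (0,(Int.ofNat 1)) .nil .nil) .nil) (.node 3 (3,(Int.ofNat 1)) .nil .nil)) (.node 7 (18,(Int.ofNat 1)) (.node 6 (17,(Int.ofNat 1)) (.node 5 (16,(Int.ofNat 1)) .nil .nil) .nil) (.node 8 (19,(Int.ofNat 1)) .nil .nil)))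 (.node 14 (29,(Int.ofNat 1)) (.node 12 (27,(Int.ofNat 1)) (.node 11 (26,(Int.ofNat 1)) (.node 10 (21,(Int.ofNat 1)) .nil .nil) .nil) (.node 13 (28,(Int.ofNat 1)) .nil .nil)) (.node 16 (5,(Int.negSucc 0)) (.node 15 (56,(Int.negSucc 0)) .nil .nil) (.node 17 (6,(Int.negSucc 0)) .nil .nil)))) (.node 27 (12,(Int.negSucc 0)) (.node 23 (23,(Int.ofNat 1)) (.node 21 (10,(Int.negSucc 0)) (.node 20 (9,(Int.negSucc 0)) (.node 19 (8,(Int.negSucc 0)) .nil .nil) .nil) (.node 22 (22,(Int.ofNat 1)) .nil .nil)) (.node 25 (25,(Int.ofNat 1)) (.node 24 (24,(Int.ofNat 1)) .nil .nil) (.node 26 (11,(Int.negSucc 0)) .nil .nil))) (.node 32 (32,(Int.ofNat 1)) (.node 30 (30,(Int.ofNat 1)) (.node 29 (14,(Int.negSucc 0)) (.node 28 (13,(Int.negSucc 0)) .nil .nil) .nil) (.node 31 (31,(Int.ofNat 1)) .nil .nil))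 (.node 34 (34,(Int.ofNat 1)) (.node 33 (33,(Int.ofNat 1)) .nil .nil) (.node 35 (35,(Int.ofNat 1)) .nil .nil))))) (.node 54 (65,(Int.negSucc 0)) (.node 45 (60,(Int.negSucc 0)) (.node 41 (41,(Int.ofNat 1)) (.node 39 (39,(Int.ofNat 1)) (.node 38 (38,(Int.ofNat 1)) (.node 37 (37,(Int.ofNat 1)) .nil .nil) .nil) (.node 40 (40,(Int.ofNat 1)) .nil .nil)) (.node 43 (58,(Int.negSucc 0)) (.node 42 (57,(Int.negSucc 0)) .nil .nil) (.node 44 (59,(Int.negSucc 0)) .nil .nil))) (.node 50 (61,(Int.negSucc 0)) (.node 48 (48,(Int.ofNat 1)) (.node 47 (47,(Int.ofNat 1)) (.node 46 (46,(Int.ofNat 1)) .nil .nil) .nil) (.node 49 (49,(Int.ofNat 1)) .nil .nil)) (.node 52 (63,(Int.negSucc 0)) (.node 51 (62,(Int.negSucc 0)) .nil .nil) (.node 53 (64,(Int.negSucc 0)) .nil .nil)))) (.node 63 (52,(Int.ofNat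 1)) (.node 59 (44,(Int.ofNat 1)) (.node 57 (42,(Int.ofNat 1)) (.node 56 (15,(Int.negSucc 0)) (.node 55 (66,(Int.negSucc 0)) .nil .nil) .nil) (.node 58 (43,(Int.ofNat 1)) .nil .nil)) (.node 61 (50,(Int.ofNat 1)) (.node 60 (45,(Int.ofNat 1)) .nil .nil) (.node 62 (51,(Int.ofNat 1)) .nil .nil))) (.node 68 (68,(Int.ofNat 1)) (.node 66 (55,(Int.ofNat 1)) (.node 65 (54,(Int.ofNat 1)) (.node 64 (53,(Int.ofNat 1)) .nil .nil) .nil) (.node 67 (67,(Int.ofNat 1)) .nil .nil)) (.node 70 (70,(Int.ofNat 1)) (.node 69 (69,(Int.ofNat 1)) .nil .nil) (.node 71 (71,(Int.ofNat 1)) .nil .nil))))))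
def wc1 : Tr (ℕ × ℤ) := (.node 36 (36,(Int.ofNat 1)) (.node 18 (18,(Int.ofNat 1)) (.node 9 (12,(Int.negSucc 0)) (.node 4 (4,(Int.ofNat 1)) (.node 2 (2,(Int.ofNat 1)) (.node 1 (0,(Int.ofNat 1)) (.node 0 (1,(Int.negSucc 0)) .nil .nil) .nil) (.node 3 (3,(Int.ofNat 1)) .nil .nil)) (.node 7 (7,(Int.ofNat 1)) (.node 6 (6,(Int.ofNat 1)) (.node 5 (5,(Int.ofNat 1)) .nil .nil) .nil) (.node 8 (11,(Int.negSucc 0)) .nil .nil))) (.node 14 (14,(Int.ofNat 1)) (.node 12 (9,(Int.ofNat 1)) (.node 11 (8,(Int.ofNat 1)) (.node 10 (13,(Int.negSucc 0)) .nil .nil) .nil) (.node 13 (10,(Int.ofNat 1)) .nil .nil)) (.node 16 (16,(Int.ofNat 1)) (.node 15 (15,(Int.ofNat 1)) .nil .nil) (.node 17 (17,(Int.ofNat 1)) .nil .nil)))) (.node 27 (20,(Int.ofNat 1)) (.node 23 (31,(Int.ofNat 1)) (.node 21 (28,(Int.negSucc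 0)) (.node 20 (27,(Int.negSucc 0)) (.node 19 (26,(Int.negSucc 0)) .nil .nil) .nil) (.node 22 (30,(Int.ofNat 1)) .nil .nil)) (.node 25 (46,(Int.negSucc 0)) (.node 24 (32,(Int.ofNat 1)) .nil .nil) (.node 26 (19,(Int.ofNat 1)) .nil .nil))) (.node 32 (24,(Int.negSucc 0)) (.node 30 (22,(Int.negSucc 0)) (.node 29 (29,(Int.ofNat 1)) (.node 28 (21,(Int.ofNat 1)) .nil .nil) .nil) (.node 31 (23,(Int.negSucc 0)) .nil .nil)) (.node 34 (34,(Int.ofNat 1)) (.node 33 (33,(Int.ofNat 1)) .nil .nil) (.node 35 (35,(Int.ofNat 1)) .nil .nil))))) (.node 54 (54,(Int.ofNat 1)) (.node 45 (52,(Int.ofNat 1)) (.node 41 (49,(Int.negSucc 0)) (.node 39 (47,(Int.negSucc 0)) (.node 38 (38,(Int.ofNat 1)) (.node 37 (37,(Int.ofNat 1)) .nil .nil) .nil) (.node 40 (48,(Int.negSucc 0)) .nil .nil)) (.node 43 (50,(Int.ofNat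 1)) (.node 42 (42,(Int.ofNat 1)) .nil .nil) (.node 44 (51,(Int.ofNat 1)) .nil .nil))) (.node 50 (43,(Int.negSucc 0)) (.node 48 (40,(Int.ofNat 1)) (.node 47 (39,(Int.ofNat 1)) (.node 46 (25,(Int.negSucc 0)) .nil .nil) .nil) (.node 49 (41,(Int.ofNat 1)) .nil .nil)) (.node 52 (45,(Int.negSucc 0)) (.node 51 (44,(Int.negSucc 0)) .nil .nil) (.node 53 (53,(Int.ofNat 1)) .nil .nil)))) (.node 63 (60,(Int.negSucc 0)) (.node 59 (62,(Int.ofNat 1)) (.node 57 (57,(Int.ofNat 1)) (.node 56 (56,(Int.ofNat 1)) (.node 55 (55,(Int.ofNat 1)) .nil .nil) .nil) (.node 58 (61,(Int.ofNat 1)) .nil .nil)) (.node 61 (58,(Int.negSucc 0)) (.node 60 (63,(Int.ofNat 1)) .nil .nil) (.node 62 (59,(Int.negSucc 0)) .nil .nil))) (.node 68 (68,(Int.ofNat 1)) (.node 66 (66,(Int.ofNat 1)) (.node 65 (65,(Int.ofNat 1))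 (.node 64 (64,(Int.ofNat 1)) .nil .nil) .nil) (.node 67 (67,(Int.ofNat 1)) .nil .nil)) (.node 70 (71,(Int.ofNat 1)) (.node 69 (69,(Int.ofNat 1)) .nil .nil) (.node 71 (70,(Int.negSucc 0)) .nil .nil))))))
def wc2 : Tr (ℕ × ℤ) := (.node 36 (36,(Int.ofNat 1)) (.node 18 (18,(Int.ofNat 1)) (.node 9 (9,(Int.ofNat 1)) (.node 4 (7,(Int.negSucc 0)) (.node 2 (5,(Int.negSucc 0)) (.node 1 (1,(Int.ofNat 1)) (.node 0 (0,(Int.ofNat 1)) .nil .nil) .nil) (.node 3 (6,(Int.negSucc 0)) .nil .nil)) (.node 7 (4,(Int.ofNat 1)) (.node 6 (3,(Int.ofNat 1)) (.node 5 (2,(Int.ofNat 1)) .nil .nil) .nil) (.node 8 (8,(Int.ofNat 1)) .nil .nil))) (.node 14 (15,(Int.negSucc 0)) (.node 12 (12,(Int.ofNat 1)) (.node 11 (11,(Int.ofNat 1)) (.node 10 (10,(Int.ofNat 1)) .nil .nil) .nil) (.node 13 (13,(Int.ofNat 1))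 .nil .nil)) (.node 16 (16,(Int.ofNat 1)) (.node 15 (14,(Int.ofNat 1)) .nil .nil) (.node 17 (17,(Int.ofNat 1)) .nil .nil)))) (.node 27 (31,(Int.ofNat 1)) (.node 23 (20,(Int.ofNat 1)) (.node 21 (24,(Int.negSucc 0)) (.node 20 (23,(Int.negSucc 0)) (.node 19 (22,(Int.negSucc 0)) .nil .nil) .nil) (.node 22 (19,(Int.ofNat 1)) .nil .nil)) (.node 25 (25,(Int.ofNat 1)) (.node 24 (21,(Int.ofNat 1)) .nil .nil) (.node 26 (30,(Int.ofNat 1)) .nil .nil))) (.node 32 (28,(Int.negSucc 0)) (.node 30 (26,(Int.negSucc 0)) (.node 29 (42,(Int.negSucc 0)) (.node 28 (32,(Int.ofNat 1)) .nil .nil) .nil) (.node 31 (27,(Int.negSucc 0)) .nil .nil)) (.node 34 (34,(Int.ofNat 1)) (.node 33 (33,(Int.ofNat 1)) .nil .nil) (.node 35 (35,(Int.ofNat 1)) .nil .nil))))) (.node 54 (54,(Int.ofNat 1)) (.node 45 (41,(Int.ofNat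 1)) (.node 41 (45,(Int.negSucc 0)) (.node 39 (43,(Int.negSucc 0)) (.node 38 (38,(Int.ofNat 1)) (.node 37 (37,(Int.ofNat 1)) .nil .nil) .nil) (.node 40 (44,(Int.negSucc 0)) .nil .nil)) (.node 43 (39,(Int.ofNat 1)) (.node 42 (29,(Int.negSucc 0)) .nil .nil) (.node 44 (40,(Int.ofNat 1)) .nil .nil))) (.node 50 (47,(Int.negSucc 0)) (.node 48 (51,(Int.ofNat 1)) (.node 47 (50,(Int.ofNat 1)) (.node 46 (46,(Int.ofNat 1)) .nil .nil) .nil) (.node 49 (52,(Int.ofNat 1)) .nil .nil)) (.node 52 (49,(Int.negSucc 0)) (.node 51 (48,(Int.negSucc 0)) .nil .nil) (.node 53 (53,(Int.ofNat 1)) .nil .nil)))) (.node 63 (63,(Int.ofNat 1)) (.node 59 (59,(Int.ofNat 1)) (.node 57 (56,(Int.negSucc 0)) (.node 56 (57,(Int.ofNat 1)) (.node 55 (55,(Int.ofNat 1)) .nil .nil) .nil) (.node 58 (58,(Int.ofNat 1)) .nil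 .nil)) (.node 61 (61,(Int.ofNat 1)) (.node 60 (60,(Int.ofNat 1)) .nil .nil) (.node 62 (62,(Int.ofNat 1)) .nil .nil))) (.node 68 (65,(Int.negSucc 0)) (.node 66 (69,(Int.ofNat 1)) (.node 65 (68,(Int.ofNat 1)) (.node 64 (67,(Int.ofNat 1)) .nil .nil) .nil) (.node 67 (64,(Int.negSucc 0)) .nil .nil)) (.node 70 (70,(Int.ofNat 1)) (.node 69 (66,(Int.negSucc 0)) .nil .nil) (.node 71 (71,(Int.ofNat 1)) .nil .nil))))))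
def wc3 : Tr (ℕ × ℤ) := (.node 36 (36,(Int.ofNat 1)) (.node 18 (20,(Int.negSucc 0)) (.node 9 (7,(Int.ofNat 1)) (.node 4 (4,(Int.ofNat 1)) (.node 2 (1,(Int.ofNat 1)) (.node 1 (2,(Int.negSucc 0)) (.node 0 (0,(Int.ofNat 1)) .nil .nil) .nil) (.node 3 (3,(Int.ofNat 1)) .nil .nil)) (.node 7 (9,(Int.negSucc 0)) (.node 6 (8,(Int.negSucc 0)) (.node 5 (5,(Int.ofNat 1)) .nil .nil) .nil) (.node 8 (6,(Int.ofNat 1)) .nil .nil))) (.node 14 (13,(Int.ofNat 1)) (.node 12 (12,(Int.ofNat 1)) (.node 11 (11,(Int.ofNat 1)) (.node 10 (10,(Int.ofNat 1)) .nil .nil) .nil) (.node 13 (14,(Int.negSucc 0)) .nil .nil)) (.node 16 (16,(Int.ofNat 1)) (.node 15 (15,(Int.ofNat 1)) .nil .nil) (.node 17 (19,(Int.negSucc 0)) .nil .nil)))) (.node 27 (27,(Int.ofNat 1)) (.node 23 (23,(Int.ofNat 1)) (.node 21 (21,(Int.ofNat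 1)) (.node 20 (18,(Int.ofNat 1)) (.node 19 (17,(Int.ofNat 1)) .nil .nil) .nil) (.node 22 (22,(Int.ofNat 1)) .nil .nil)) (.node 25 (24,(Int.ofNat 1)) (.node 24 (25,(Int.negSucc 0)) .nil .nil) (.node 26 (26,(Int.ofNat 1)) .nil .nil))) (.node 32 (39,(Int.negSucc 0)) (.node 30 (33,(Int.ofNat 1)) (.node 29 (28,(Int.ofNat 1)) (.node 28 (29,(Int.negSucc 0)) .nil .nil) .nil) (.node 31 (34,(Int.ofNat 1)) .nil .nil)) (.node 34 (31,(Int.negSucc 0)) (.node 33 (30,(Int.negSucc 0)) .nil .nil) (.node 35 (35,(Int.ofNat 1)) .nil .nil))))) (.node 54 (52,(Int.negSucc 0)) (.node 45 (45,(Int.ofNat 1)) (.node 41 (38,(Int.ofNat 1)) (.node 39 (32,(Int.negSucc 0)) (.node 38 (41,(Int.negSucc 0)) (.node 37 (40,(Int.negSucc 0)) .nil .nil) .nil) (.node 40 (37,(Int.ofNat 1)) .nil .nil)) (.node 43 (42,(Int.negSucc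 0)) (.node 42 (43,(Int.ofNat 1)) .nil .nil) (.node 44 (44,(Int.ofNat 1)) .nil .nil))) (.node 50 (50,(Int.ofNat 1)) (.node 48 (48,(Int.ofNat 1)) (.node 47 (46,(Int.negSucc 0)) (.node 46 (47,(Int.ofNat 1)) .nil .nil) .nil) (.node 49 (49,(Int.ofNat 1)) .nil .nil)) (.node 52 (54,(Int.ofNat 1)) (.node 51 (53,(Int.ofNat 1)) .nil .nil) (.node 53 (51,(Int.negSucc 0)) .nil .nil)))) (.node 63 (65,(Int.ofNat 1)) (.node 59 (59,(Int.ofNat 1)) (.node 57 (58,(Int.ofNat 1)) (.node 56 (56,(Int.ofNat 1)) (.node 55 (55,(Int.ofNat 1)) .nil .nil) .nil) (.node 58 (57,(Int.negSucc 0)) .nil .nil)) (.node 61 (61,(Int.ofNat 1)) (.node 60 (60,(Int.ofNat 1)) .nil .nil) (.node 62 (64,(Int.ofNat 1)) .nil .nil))) (.node 68 (68,(Int.ofNat 1)) (.node 66 (66,(Int.ofNat 1)) (.node 65 (63,(Int.negSucc 0)) (.node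 64 (62,(Int.negSucc 0)) .nil .nil) .nil) (.node 67 (67,(Int.ofNat 1)) .nil .nil)) (.node 70 (69,(Int.negSucc 0)) (.node 69 (70,(Int.ofNat 1)) .nil .nil) (.node 71 (71,(Int.ofNat 1)) .nil .nil))))))
def wc4 : Tr (ℕ × ℤ) := (.node 36 (38,(Int.negSucc 0)) (.node 18 (18,(Int.ofNat 1)) (.node 9 (10,(Int.negSucc 0)) (.node 4 (4,(Int.ofNat 1)) (.node 2 (3,(Int.negSucc 0)) (.node 1 (1,(Int.ofNat 1)) (.node 0 (0,(Int.ofNat 1)) .nil .nil) .nil) (.node 3 (2,(Int.ofNat 1)) .nil .nil)) (.node 7 (7,(Int.ofNat 1)) (.node 6 (5,(Int.ofNat 1)) (.node 5 (6,(Int.negSucc 0)) .nil .nil) .nil) (.node 8 (8,(Int.ofNat 1)) .nil .nil))) (.node 14 (14,(Int.ofNat 1)) (.node 12 (13,(Int.negSucc 0)) (.node 11 (11,(Int.ofNat 1)) (.node 10 (9,(Int.ofNat 1)) .nil .nil) .nil) (.node 13 (12,(Int.ofNat 1)) .nil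 .nil)) (.node 16 (17,(Int.negSucc 0)) (.node 15 (15,(Int.ofNat 1)) .nil .nil) (.node 17 (16,(Int.ofNat 1)) .nil .nil)))) (.node 27 (28,(Int.negSucc 0)) (.node 23 (24,(Int.negSucc 0)) (.node 21 (20,(Int.ofNat 1)) (.node 20 (21,(Int.negSucc 0)) (.node 19 (19,(Int.ofNat 1)) .nil .nil) .nil) (.node 22 (22,(Int.ofNat 1)) .nil .nil)) (.node 25 (25,(Int.ofNat 1)) (.node 24 (23,(Int.ofNat 1)) .nil .nil) (.node 26 (26,(Int.ofNat 1)) .nil .nil))) (.node 32 (31,(Int.ofNat 1)) (.node 30 (30,(Int.ofNat 1)) (.node 29 (29,(Int.ofNat 1)) (.node 28 (27,(Int.ofNat 1)) .nil .nil) .nil) (.node 31 (32,(Int.negSucc 0)) .nil .nil)) (.node 34 (37,(Int.negSucc 0)) (.node 33 (35,(Int.ofNat 1)) .nil .nil) (.node 35 (33,(Int.negSucc 0)) .nil .nil))))) (.node 54 (55,(Int.ofNat 1)) (.node 45 (45,(Int.ofNat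 1)) (.node 41 (41,(Int.ofNat 1)) (.node 39 (40,(Int.ofNat 1)) (.node 38 (36,(Int.ofNat 1)) (.node 37 (34,(Int.negSucc 0)) .nil .nil) .nil) (.node 40 (39,(Int.negSucc 0)) .nil .nil)) (.node 43 (44,(Int.ofNat 1)) (.node 42 (42,(Int.ofNat 1)) .nil .nil) (.node 44 (43,(Int.negSucc 0)) .nil .nil))) (.node 50 (51,(Int.ofNat 1)) (.node 48 (47,(Int.negSucc 0)) (.node 47 (48,(Int.ofNat 1)) (.node 46 (46,(Int.ofNat 1)) .nil .nil) .nil) (.node 49 (49,(Int.ofNat 1)) .nil .nil)) (.node 52 (52,(Int.ofNat 1)) (.node 51 (50,(Int.negSucc 0)) .nil .nil) (.node 53 (53,(Int.ofNat 1)) .nil .nil)))) (.node 63 (63,(Int.ofNat 1)) (.node 59 (58,(Int.negSucc 0)) (.node 57 (57,(Int.ofNat 1)) (.node 56 (56,(Int.ofNat 1)) (.node 55 (54,(Int.negSucc 0)) .nil .nil) .nil) (.node 58 (59,(Int.ofNat 1)) .nil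 .nil)) (.node 61 (62,(Int.ofNat 1)) (.node 60 (60,(Int.ofNat 1)) .nil .nil) (.node 62 (61,(Int.negSucc 0)) .nil .nil))) (.node 68 (69,(Int.ofNat 1)) (.node 66 (65,(Int.negSucc 0)) (.node 65 (66,(Int.ofNat 1)) (.node 64 (64,(Int.ofNat 1)) .nil .nil) .nil) (.node 67 (67,(Int.ofNat 1)) .nil .nil)) (.node 70 (70,(Int.ofNat 1)) (.node 69 (68,(Int.negSucc 0)) .nil .nil) (.node 71 (71,(Int.ofNat 1)) .nil .nil))))))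
def wc5 : Tr (ℕ × ℤ) := (.node 36 (35,(Int.negSucc 0)) (.node 18 (17,(Int.ofNat 1)) (.node 9 (8,(Int.ofNat 1)) (.node 4 (3,(Int.ofNat 1)) (.node 2 (2,(Int.ofNat 1)) (.node 1 (1,(Int.ofNat 1)) (.node 0 (0,(Int.ofNat 1)) .nil .nil) .nil) (.node 3 (4,(Int.negSucc 0)) .nil .nil)) (.node 7 (6,(Int.ofNat 1)) (.node 6 (7,(Int.negSucc 0)) (.node 5 (5,(Int.ofNat 1)) .nil .nil) .nil) (.node 8 (9,(Int.negSucc 0)) .nil .nil))) (.node 14 (14,(Int.ofNat 1)) (.node 12 (11,(Int.ofNat 1)) (.node 11 (12,(Int.negSucc 0)) (.node 10 (10,(Int.ofNat 1)) .nil .nil) .nil) (.node 13 (13,(Int.ofNat 1)) .nil .nil)) (.node 16 (16,(Int.ofNat 1)) (.node 15 (15,(Int.ofNat 1)) .nil .nil) (.node 17 (18,(Int.negSucc 0)) .nil .nil)))) (.node 27 (26,(Int.ofNat 1)) (.node 23 (22,(Int.ofNat 1)) (.node 21 (21,(Int.ofNat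 1)) (.node 20 (19,(Int.ofNat 1)) (.node 19 (20,(Int.negSucc 0)) .nil .nil) .nil) (.node 22 (23,(Int.negSucc 0)) .nil .nil)) (.node 25 (25,(Int.ofNat 1)) (.node 24 (24,(Int.ofNat 1)) .nil .nil) (.node 26 (27,(Int.negSucc 0)) .nil .nil))) (.node 32 (32,(Int.ofNat 1)) (.node 30 (31,(Int.negSucc 0)) (.node 29 (29,(Int.ofNat 1)) (.node 28 (28,(Int.ofNat 1)) .nil .nil) .nil) (.node 31 (30,(Int.ofNat 1)) .nil .nil)) (.node 34 (33,(Int.ofNat 1)) (.node 33 (34,(Int.negSucc 0)) .nil .nil) (.node 35 (36,(Int.negSucc 0)) .nil .nil))))) (.node 54 (53,(Int.negSucc 0)) (.node 45 (44,(Int.negSucc 0)) (.node 41 (40,(Int.negSucc 0)) (.node 39 (39,(Int.ofNat 1)) (.node 38 (37,(Int.negSucc 0)) (.node 37 (38,(Int.ofNat 1)) .nil .nil) .nil) (.node 40 (41,(Int.ofNat 1)) .nil .nil)) (.node 43 (43,(Int.ofNat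 1)) (.node 42 (42,(Int.ofNat 1)) .nil .nil) (.node 44 (45,(Int.ofNat 1)) .nil .nil))) (.node 50 (50,(Int.ofNat 1)) (.node 48 (49,(Int.ofNat 1)) (.node 47 (47,(Int.ofNat 1)) (.node 46 (46,(Int.ofNat 1)) .nil .nil) .nil) (.node 49 (48,(Int.negSucc 0)) .nil .nil)) (.node 52 (51,(Int.negSucc 0)) (.node 51 (52,(Int.ofNat 1)) .nil .nil) (.node 53 (54,(Int.ofNat 1)) .nil .nil)))) (.node 63 (62,(Int.negSucc 0)) (.node 59 (60,(Int.ofNat 1)) (.node 57 (57,(Int.ofNat 1)) (.node 56 (56,(Int.ofNat 1)) (.node 55 (55,(Int.ofNat 1)) .nil .nil) .nil) (.node 58 (58,(Int.ofNat 1)) .nil .nil)) (.node 61 (61,(Int.ofNat 1)) (.node 60 (59,(Int.negSucc 0)) .nil .nil) (.node 62 (63,(Int.ofNat 1)) .nil .nil))) (.node 68 (67,(Int.negSucc 0)) (.node 66 (66,(Int.ofNat 1)) (.node 65 (64,(Int.negSucc 0))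 (.node 64 (65,(Int.ofNat 1)) .nil .nil) .nil) (.node 67 (68,(Int.ofNat 1)) .nil .nil)) (.node 70 (70,(Int.ofNat 1)) (.node 69 (69,(Int.ofNat 1)) .nil .nil) (.node 71 (71,(Int.ofNat 1)) .nil .nil))))))
def wT : Tr (Tr (ℕ × ℤ)) := (.node 3 wc3 (.node 1 wc1 (.node 0 wc0 .nil .nil) (.node 2 wc2 .nil .nil)) (.node 5 wc5 (.node 4 wc4 .nil .nil) .nil))
def dT : Tr (ℕ × ℕ) := (.node 36 (8,4) (.node 18 (7,3) (.node 9 (5,4) (.node 4 (7,2) (.node 2 (9,4) (.node 1 (10,3) (.node 0 (11,1) .nil .nil) .nil) (.node 3 (8,5) .nil .nil)) (.node 7 (6,3) (.node 6 (7,5) (.node 5 (8,4) .nil .nil) .nil) (.node 8 (6,5) .nil .nil))) (.node 14 (2,2) (.node 12 (4,4) (.node 11 (5,5) (.node 10 (4,1) .nil .nil) .nil) (.node 13 (3,3) .nil .nil)) (.node 16 (9,4) (.node 15 (1,0) .nil .nil) (.node 17 (8,5) .nil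 .nil)))) (.node 27 (5,4) (.node 23 (7,4) (.node 21 (5,1) (.node 20 (6,4) (.node 19 (7,5) .nil .nil) .nil) (.node 22 (8,5) .nil .nil)) (.node 25 (7,3) (.node 24 (6,2) .nil .nil) (.node 26 (6,5) .nil .nil))) (.node 32 (5,2) (.node 30 (7,5) (.node 29 (3,0) (.node 28 (4,3) .nil .nil) .nil) (.node 31 (6,4) .nil .nil)) (.node 34 (7,3) (.node 33 (8,5) .nil .nil) (.node 35 (9,4) .nil .nil))))) (.node 54 (7,5) (.node 45 (5,5) (.node 41 (6,5) (.node 39 (4,2) (.node 38 (7,5) (.node 37 (6,3) .nil .nil) .nil) (.node 40 (5,4) .nil .nil)) (.node 43 (3,3) (.node 42 (2,0) .nil .nil) (.node 44 (4,4) .nil .nil))) (.node 50 (4,1) (.node 48 (6,4) (.node 47 (5,2) (.node 46 (6,3) .nil .nil) .nil) (.node 49 (7,5) .nil .nil)) (.node 52 (6,5) (.node 51 (5,4) .nil .nil) (.node 53 (6,3) .nil .nil))))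 (.node 63 (5,5) (.node 59 (3,4) (.node 57 (1,2) (.node 56 (0,0) (.node 55 (8,4) .nil .nil) .nil) (.node 58 (2,3) .nil .nil)) (.node 61 (3,1) (.node 60 (4,5) .nil .nil) (.node 62 (4,4) .nil .nil))) (.node 68 (7,5) (.node 66 (7,4) (.node 65 (6,5) (.node 64 (5,3) .nil .nil) .nil) (.node 67 (6,2) .nil .nil)) (.node 70 (9,3) (.node 69 (8,4) .nil .nil) (.node 71 (10,1) .nil .nil))))))

end Cfsg.Agent.Lib.Chevalley.Tbl.E6
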