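import Cfsg.Agent.Lib.Chevalley.Tbl.E6
import Cfsg.Agent.Lib.Chevalley.SysOf

set_option autoImplicit false
set_option maxRecDepth 1000000

namespace Cfsg.Agent.Lib.Chevalley.Tbl.E6
open Cfsg.Lie Cfsg.Agent.Lib.Chevalley.Reflect Cfsg.Agent.Lib.Chevalley.Comm Cfsg.Agent.Lib.Chevalley.Basic Cfsg.Agent.Lib.Chevalley.Extra Cfsg.Agent.Lib.Chevalley.SysOf

noncomputable def ca0 : Tr ℤ := (.node 36 (Int.ofNat 0) (.node 18 (Int.ofNat 1) (.node 9 (Int.negSucc 0) (.node 4 (Int.ofNat 0) (.node 2 (Int.ofNat 0) (.node 1 (Int.ofNat 0) (.node 0 (Int.ofNat 0) .nil .nil) .nil) (.node 3 (Int.ofNat 0) .nil .nil)) (.node 7 (Int.negSucc 0) (.node 6 (Int.negSucc 0) (.node 5 (Int.negSucc 0) .nil .nil) .nil) (.node 8 (Int.negSucc 0) .nil .nil))) (.node 14 (Int.negSucc 0) (.node 12 (Int.negSucc 0) (.node 11 (Int.negSucc 0) (.node 10 (Int.negSucc 0) .nil .nil) .nil) (.node 13 (Int.negSucc 0) .nil .nil)) (.node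 16 (Int.ofNat 1) (.node 15 (Int.negSucc 1) .nil .nil) (.node 17 (Int.ofNat 1) .nil .nil)))) (.node 27 (Int.ofNat 1) (.node 23 (Int.ofNat 0) (.node 21 (Int.ofNat 1) (.node 20 (Int.ofNat 1) (.node 19 (Int.ofNat 1) .nil .nil) .nil) (.node 22 (Int.ofNat 0) .nil .nil)) (.node 25 (Int.ofNat 0) (.node 24 (Int.ofNat 0) .nil .nil) (.node 26 (Int.ofNat 1) .nil .nil))) (.node 32 (Int.ofNat 0) (.node 30 (Int.ofNat 0) (.node 29 (Int.ofNat 1) (.node 28 (Int.ofNat 1) .nil .nil) .nil) (.node 31 (Int.ofNat 0) .nil .nil)) (.node 34 (Int.ofNat 0) (.node 33 (Int.ofNat 0) .nil .nil) (.node 35 (Int.ofNat 0) .nil .nil))))) (.node 54 (Int.negSucc 0) (.node 45 (Int.negSucc 0) (.node 41 (Int.ofNat 0) (.node 39 (Int.ofNat 0) (.node 38 (Int.ofNat 0) (.node 37 (Int.ofNat 0) .nil .nil) .nil) (.node 40 (Int.ofNat 0) .nil .nil)) (.node 43 (Int.negSucc 0) (.node 42 (Int.negSucc 0) .nil .nil) (.node 44 (Int.negSucc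 0) .nil .nil))) (.node 50 (Int.negSucc 0) (.node 48 (Int.ofNat 0) (.node 47 (Int.ofNat 0) (.node 46 (Int.ofNat 0) .nil .nil) .nil) (.node 49 (Int.ofNat 0) .nil .nil)) (.node 52 (Int.negSucc 0) (.node 51 (Int.negSucc 0) .nil .nil) (.node 53 (Int.negSucc 0) .nil .nil)))) (.node 63 (Int.ofNat 1) (.node 59 (Int.ofNat 1) (.node 57 (Int.ofNat 1) (.node 56 (Int.ofNat 2) (.node 55 (Int.negSucc 0) .nil .nil) .nil) (.node 58 (Int.ofNat 1) .nil .nil)) (.node 61 (Int.ofNat 1) (.node 60 (Int.ofNat 1) .nil .nil) (.node 62 (Int.ofNat 1) .nil .nil))) (.node 68 (Int.ofNat 0) (.node 66 (Int.ofNat 1) (.node 65 (Int.ofNat 1) (.node 64 (Int.ofNat 1) .nil .nil) .nil) (.node 67 (Int.ofNat 0) .nil .nil)) (.node 70 (Int.ofNat 0) (.node 69 (Int.ofNat 0) .nil .nil) (.node 71 (Int.ofNat 0) .nil .nil))))))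
noncomputable def ca1 : Tr ℤ := (.node 36 (Int.ofNat 0) (.node 18 (Int.ofNat 0) (.node 9 (Int.negSucc 0) (.node 4 (Int.ofNat 0) (.node 2 (Int.ofNat 0) (.node 1 (Int.ofNat 1) (.node 0 (Int.negSucc 0) .nil .nil) .nil) (.node 3 (Int.ofNat 0) .nil .nil)) (.node 7 (Int.ofNat 0) (.node 6 (Int.ofNat 0) (.node 5 (Int.ofNat 0) .nil .nil) .nil) (.node 8 (Int.negSucc 0) .nil .nil))) (.node 14 (Int.ofNat 0) (.node 12 (Int.ofNat 1) (.node 11 (Int.ofNat 1) (.node 10 (Int.negSucc 0) .nil .nil) .nil) (.node 13 (Int.ofNat 1) .nil .nil)) (.node 16 (Int.ofNat 0) (.node 15 (Int.ofNat 0) .nil .nil) (.node 17 (Int.ofNat 0) .nil .nil)))) (.node 27 (Int.ofNat 1) (.node 23 (Int.negSucc 0) (.node 21 (Int.negSucc 0) (.node 20 (Int.negSucc 0) (.node 19 (Int.negSucc 0) .nil .nil) .nil) (.node 22 (Int.negSucc 0) .nil .nil)) (.node 25 (Int.negSucc 1) (.node 24 (Int.negSucc 0) .nil .nil) (.node 26 (Int.ofNat 1) .nil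 .nil))) (.node 32 (Int.ofNat 1) (.node 30 (Int.ofNat 1) (.node 29 (Int.ofNat 0) (.node 28 (Int.ofNat 1) .nil .nil) .nil) (.node 31 (Int.ofNat 1) .nil .nil)) (.node 34 (Int.ofNat 0) (.node 33 (Int.ofNat 0) .nil .nil) (.node 35 (Int.ofNat 0) .nil .nil))))) (.node 54 (Int.ofNat 0) (.node 45 (Int.negSucc 0) (.node 41 (Int.negSucc 0) (.node 39 (Int.negSucc 0) (.node 38 (Int.ofNat 0) (.node 37 (Int.ofNat 0) .nil .nil) .nil) (.node 40 (Int.negSucc 0) .nil .nil)) (.node 43 (Int.negSucc 0) (.node 42 (Int.ofNat 0) .nil .nil) (.node 44 (Int.negSucc 0) .nil .nil))) (.node 50 (Int.ofNat 1) (.node 48 (Int.ofNat 1) (.node 47 (Int.ofNat 1) (.node 46 (Int.ofNat 2) .nil .nil) .nil) (.node 49 (Int.ofNat 1) .nil .nil)) (.node 52 (Int.ofNat 1) (.node 51 (Int.ofNat 1) .nil .nil) (.node 53 (Int.ofNat 0) .nil .nil)))) (.node 63 (Int.ofNat 1) (.node 59 (Int.negSucc 0) (.node 57 (Int.ofNat 0) (.node 56 (Int.ofNat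 0) (.node 55 (Int.ofNat 0) .nil .nil) .nil) (.node 58 (Int.negSucc 0) .nil .nil)) (.node 61 (Int.ofNat 1) (.node 60 (Int.negSucc 0) .nil .nil) (.node 62 (Int.ofNat 1) .nil .nil))) (.node 68 (Int.ofNat 0) (.node 66 (Int.ofNat 0) (.node 65 (Int.ofNat 0) (.node 64 (Int.ofNat 0) .nil .nil) .nil) (.node 67 (Int.ofNat 0) .nil .nil)) (.node 70 (Int.negSucc 0) (.node 69 (Int.ofNat 0) .nil .nil) (.node 71 (Int.ofNat 1) .nil .nil))))))
noncomputable def ca2 : Tr ℤ := (.node 36 (Int.ofNat 0) (.node 18 (Int.ofNat 0) (.node 9 (Int.ofNat 0) (.node 4 (Int.negSucc 0) (.node 2 (Int.negSucc 0) (.node 1 (Int.ofNat 0) (.node 0 (Int.ofNat 0) .nil .nil) .nil) (.node 3 (Int.negSucc 0) .nil .nil)) (.node 7 (Int.ofNat 1) (.node 6 (Int.ofNat 1) (.node 5 (Int.ofNat 1) .nil .nil) .nil) (.node 8 (Int.ofNat 0) .nil .nil))) (.node 14 (Int.negSucc 0) (.node 12 (Int.ofNat 0) (.node 11 (Int.ofNat 0) (.node 10 (Int.ofNat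 0) .nil .nil) .nil) (.node 13 (Int.ofNat 0) .nil .nil)) (.node 16 (Int.ofNat 0) (.node 15 (Int.ofNat 1) .nil .nil) (.node 17 (Int.ofNat 0) .nil .nil)))) (.node 27 (Int.negSucc 0) (.node 23 (Int.ofNat 1) (.node 21 (Int.negSucc 0) (.node 20 (Int.negSucc 0) (.node 19 (Int.negSucc 0) .nil .nil) .nil) (.node 22 (Int.ofNat 1) .nil .nil)) (.node 25 (Int.ofNat 0) (.node 24 (Int.ofNat 1) .nil .nil) (.node 26 (Int.negSucc 0) .nil .nil))) (.node 32 (Int.ofNat 1) (.node 30 (Int.ofNat 1) (.node 29 (Int.negSucc 1) (.node 28 (Int.negSucc 0) .nil .nil) .nil) (.node 31 (Int.ofNat 1) .nil .nil)) (.node 34 (Int.ofNat 0) (.node 33 (Int.ofNat 0) .nil .nil) (.node 35 (Int.ofNat 0) .nil .nil))))) (.node 54 (Int.ofNat 0) (.node 45 (Int.ofNat 1) (.node 41 (Int.negSucc 0) (.node 39 (Int.negSucc 0) (.node 38 (Int.ofNat 0) (.node 37 (Int.ofNat 0) .nil .nil) .nil) (.node 40 (Int.negSucc 0) .nil .nil)) (.node 43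 (Int.ofNat 1) (.node 42 (Int.ofNat 2) .nil .nil) (.node 44 (Int.ofNat 1) .nil .nil))) (.node 50 (Int.ofNat 1) (.node 48 (Int.negSucc 0) (.node 47 (Int.negSucc 0) (.node 46 (Int.ofNat 0) .nil .nil) .nil) (.node 49 (Int.negSucc 0) .nil .nil)) (.node 52 (Int.ofNat 1) (.node 51 (Int.ofNat 1) .nil .nil) (.node 53 (Int.ofNat 0) .nil .nil)))) (.node 63 (Int.ofNat 0) (.node 59 (Int.ofNat 0) (.node 57 (Int.ofNat 1) (.node 56 (Int.negSucc 0) (.node 55 (Int.ofNat 0) .nil .nil) .nil) (.node 58 (Int.ofNat 0) .nil .nil)) (.node 61 (Int.ofNat 0) (.node 60 (Int.ofNat 0) .nil .nil) (.node 62 (Int.ofNat 0) .nil .nil))) (.node 68 (Int.ofNat 1) (.node 66 (Int.negSucc 0) (.node 65 (Int.negSucc 0) (.node 64 (Int.negSucc 0) .nil .nil) .nil) (.node 67 (Int.ofNat 1) .nil .nil)) (.node 70 (Int.ofNat 0) (.node 69 (Int.ofNat 1) .nil .nil) (.node 71 (Int.ofNat 0) .nil .nil))))))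
noncomputable def ca3 : Tr ℤ := (.node 36 (Int.ofNat 0) (.node 18 (Int.negSucc 0) (.node 9 (Int.ofNat 1) (.node 4 (Int.ofNat 0) (.node 2 (Int.ofNat 1) (.node 1 (Int.negSucc 0) (.node 0 (Int.ofNat 0) .nil .nil) .nil) (.node 3 (Int.ofNat 0) .nil .nil)) (.node 7 (Int.negSucc 0) (.node 6 (Int.negSucc 0) (.node 5 (Int.ofNat 0) .nil .nil) .nil) (.node 8 (Int.ofNat 1) .nil .nil))) (.node 14 (Int.ofNat 1) (.node 12 (Int.ofNat 0) (.node 11 (Int.ofNat 0) (.node 10 (Int.ofNat 0) .nil .nil) .nil) (.node 13 (Int.negSucc 0) .nil .nil)) (.node 16 (Int.ofNat 0) (.node 15 (Int.ofNat 0) .nil .nil) (.node 17 (Int.negSucc 0) .nil .nil)))) (.node 27 (Int.ofNat 0) (.node 23 (Int.ofNat 0) (.node 21 (Int.ofNat 0) (.node 20 (Int.ofNat 1) (.node 19 (Int.ofNat 1) .nil .nil) .nil) (.node 22 (Int.ofNat 0) .nil .nil)) (.node 25 (Int.ofNat 1) (.node 24 (Int.negSucc 0) .nil .nil) (.node 26 (Int.ofNat 0) .nil .nil)))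 (.node 32 (Int.negSucc 1) (.node 30 (Int.negSucc 0) (.node 29 (Int.ofNat 1) (.node 28 (Int.negSucc 0) .nil .nil) .nil) (.node 31 (Int.negSucc 0) .nil .nil)) (.node 34 (Int.ofNat 1) (.node 33 (Int.ofNat 1) .nil .nil) (.node 35 (Int.ofNat 0) .nil .nil))))) (.node 54 (Int.ofNat 1) (.node 45 (Int.ofNat 0) (.node 41 (Int.ofNat 1) (.node 39 (Int.ofNat 2) (.node 38 (Int.negSucc 0) (.node 37 (Int.negSucc 0) .nil .nil) .nil) (.node 40 (Int.ofNat 1) .nil .nil)) (.node 43 (Int.ofNat 1) (.node 42 (Int.negSucc 0) .nil .nil) (.node 44 (Int.ofNat 0) .nil .nil))) (.node 50 (Int.ofNat 0) (.node 48 (Int.ofNat 0) (.node 47 (Int.ofNat 1) (.node 46 (Int.negSucc 0) .nil .nil) .nil) (.node 49 (Int.ofNat 0) .nil .nil)) (.node 52 (Int.negSucc 0) (.node 51 (Int.negSucc 0) .nil .nil) (.node 53 (Int.ofNat 1) .nil .nil)))) (.node 63 (Int.negSucc 0) (.node 59 (Int.ofNat 0) (.node 57 (Int.negSucc 0) (.node 56 (Int.ofNat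 0) (.node 55 (Int.ofNat 0) .nil .nil) .nil) (.node 58 (Int.ofNat 1) .nil .nil)) (.node 61 (Int.ofNat 0) (.node 60 (Int.ofNat 0) .nil .nil) (.node 62 (Int.negSucc 0) .nil .nil))) (.node 68 (Int.ofNat 0) (.node 66 (Int.ofNat 0) (.node 65 (Int.ofNat 1) (.node 64 (Int.ofNat 1) .nil .nil) .nil) (.node 67 (Int.ofNat 0) .nil .nil)) (.node 70 (Int.ofNat 1) (.node 69 (Int.negSucc 0) .nil .nil) (.node 71 (Int.ofNat 0) .nil .nil))))))
noncomputable def ca4 : Tr ℤ := (.node 36 (Int.negSucc 0) (.node 18 (Int.ofNat 0) (.node 9 (Int.negSucc 0) (.node 4 (Int.ofNat 0) (.node 2 (Int.negSucc 0) (.node 1 (Int.ofNat 0) (.node 0 (Int.ofNat 0) .nil .nil) .nil) (.node 3 (Int.ofNat 1) .nil .nil)) (.node 7 (Int.ofNat 0) (.node 6 (Int.ofNat 1) (.node 5 (Int.negSucc 0) .nil .nil) .nil) (.node 8 (Int.ofNat 0) .nil .nil))) (.node 14 (Int.ofNat 0) (.node 12 (Int.negSucc 0) (.node 11 (Int.ofNat 0) (.node 10 (Int.ofNat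 1) .nil .nil) .nil) (.node 13 (Int.ofNat 1) .nil .nil)) (.node 16 (Int.negSucc 0) (.node 15 (Int.ofNat 0) .nil .nil) (.node 17 (Int.ofNat 1) .nil .nil)))) (.node 27 (Int.negSucc 0) (.node 23 (Int.negSucc 0) (.node 21 (Int.ofNat 1) (.node 20 (Int.negSucc 0) (.node 19 (Int.ofNat 0) .nil .nil) .nil) (.node 22 (Int.ofNat 0) .nil .nil)) (.node 25 (Int.ofNat 0) (.node 24 (Int.ofNat 1) .nil .nil) (.node 26 (Int.ofNat 0) .nil .nil))) (.node 32 (Int.ofNat 1) (.node 30 (Int.ofNat 0) (.node 29 (Int.ofNat 0) (.node 28 (Int.ofNat 1) .nil .nil) .nil) (.node 31 (Int.negSucc 0) .nil .nil)) (.node 34 (Int.negSucc 1) (.node 33 (Int.negSucc 0) .nil .nil) (.node 35 (Int.ofNat 1) .nil .nil))))) (.node 54 (Int.negSucc 0) (.node 45 (Int.ofNat 0) (.node 41 (Int.ofNat 0) (.node 39 (Int.negSucc 0) (.node 38 (Int.ofNat 1) (.node 37 (Int.ofNat 2) .nil .nil) .nil) (.node 40 (Int.ofNat 1) .nil .nil)) (.node 43 (Int.negSucc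 0) (.node 42 (Int.ofNat 0) .nil .nil) (.node 44 (Int.ofNat 1) .nil .nil))) (.node 50 (Int.negSucc 0) (.node 48 (Int.ofNat 1) (.node 47 (Int.negSucc 0) (.node 46 (Int.ofNat 0) .nil .nil) .nil) (.node 49 (Int.ofNat 0) .nil .nil)) (.node 52 (Int.ofNat 0) (.node 51 (Int.ofNat 1) .nil .nil) (.node 53 (Int.ofNat 0) .nil .nil)))) (.node 63 (Int.ofNat 0) (.node 59 (Int.ofNat 1) (.node 57 (Int.ofNat 0) (.node 56 (Int.ofNat 0) (.node 55 (Int.ofNat 1) .nil .nil) .nil) (.node 58 (Int.negSucc 0) .nil .nil)) (.node 61 (Int.negSucc 0) (.node 60 (Int.ofNat 0) .nil .nil) (.node 62 (Int.ofNat 1) .nil .nil))) (.node 68 (Int.negSucc 0) (.node 66 (Int.ofNat 1) (.node 65 (Int.negSucc 0) (.node 64 (Int.ofNat 0) .nil .nil) .nil) (.node 67 (Int.ofNat 0) .nil .nil)) (.node 70 (Int.ofNat 0) (.node 69 (Int.ofNat 1) .nil .nil) (.node 71 (Int.ofNat 0) .nil .nil))))))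
noncomputable def ca5 : Tr ℤ := (.node 36 (Int.ofNat 2) (.node 18 (Int.ofNat 1) (.node 9 (Int.ofNat 1) (.node 4 (Int.ofNat 1) (.node 2 (Int.ofNat 0) (.node 1 (Int.ofNat 0) (.node 0 (Int.ofNat 0) .nil .nil) .nil) (.node 3 (Int.negSucc 0) .nil .nil)) (.node 7 (Int.ofNat 1) (.node 6 (Int.negSucc 0) (.node 5 (Int.ofNat 0) .nil .nil) .nil) (.node 8 (Int.negSucc 0) .nil .nil))) (.node 14 (Int.ofNat 0) (.node 12 (Int.ofNat 1) (.node 11 (Int.negSucc 0) (.node 10 (Int.ofNat 0) .nil .nil) .nil) (.node 13 (Int.ofNat 0) .nil .nil)) (.node 16 (Int.ofNat 0) (.node 15 (Int.ofNat 0) .nil .nil) (.node 17 (Int.negSucc 0) .nil .nil)))) (.node 27 (Int.ofNat 1) (.node 23 (Int.ofNat 1) (.node 21 (Int.ofNat 0) (.node 20 (Int.ofNat 1) (.node 19 (Int.negSucc 0) .nil .nil) .nil) (.node 22 (Int.negSucc 0) .nil .nil)) (.node 25 (Int.ofNat 0) (.node 24 (Int.ofNat 0) .nil .nil) (.node 26 (Int.negSucc 0) .nil .nil)))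 (.node 32 (Int.ofNat 0) (.node 30 (Int.negSucc 0) (.node 29 (Int.ofNat 0) (.node 28 (Int.ofNat 0) .nil .nil) .nil) (.node 31 (Int.ofNat 1) .nil .nil)) (.node 34 (Int.ofNat 1) (.node 33 (Int.negSucc 0) .nil .nil) (.node 35 (Int.negSucc 1) .nil .nil))))) (.node 54 (Int.ofNat 1) (.node 45 (Int.ofNat 1) (.node 41 (Int.ofNat 1) (.node 39 (Int.ofNat 0) (.node 38 (Int.ofNat 1) (.node 37 (Int.negSucc 0) .nil .nil) .nil) (.node 40 (Int.negSucc 0) .nil .nil)) (.node 43 (Int.ofNat 0) (.node 42 (Int.ofNat 0) .nil .nil) (.node 44 (Int.negSucc 0) .nil .nil))) (.node 50 (Int.ofNat 0) (.node 48 (Int.negSucc 0) (.node 47 (Int.ofNat 0) (.node 46 (Int.ofNat 0) .nil .nil) .nil) (.node 49 (Int.ofNat 1) .nil .nil)) (.node 52 (Int.ofNat 1) (.node 51 (Int.negSucc 0) .nil .nil) (.node 53 (Int.negSucc 0) .nil .nil)))) (.node 63 (Int.ofNat 1) (.node 59 (Int.negSucc 0) (.node 57 (Int.ofNat 0) (.node 56 (Int.ofNat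 0) (.node 55 (Int.ofNat 0) .nil .nil) .nil) (.node 58 (Int.ofNat 0) .nil .nil)) (.node 61 (Int.ofNat 0) (.node 60 (Int.ofNat 1) .nil .nil) (.node 62 (Int.negSucc 0) .nil .nil))) (.node 68 (Int.ofNat 1) (.node 66 (Int.ofNat 0) (.node 65 (Int.ofNat 1) (.node 64 (Int.negSucc 0) .nil .nil) .nil) (.node 67 (Int.negSucc 0) .nil .nil)) (.node 70 (Int.ofNat 0) (.node 69 (Int.ofNat 0) .nil .nil) (.node 71 (Int.ofNat 0) .nil .nil))))))
noncomputable def caT : Tr (Tr ℤ) := (.node 3 ca3 (.node 1 ca1 (.node 0 ca0 .nil .nil) (.node 2 ca2 .nil .nil)) (.node 5 ca5 (.node 4 ca4 .nil .nil) .nil))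

theorem posneg_check : posNegCheck chevE6 = true := by decide +kernel

theorem shape_check0 : shapeCheck chevE6 nT wT negT 0 = true := by decide +kernel

theorem h_check0 : hCheckI chevE6 cols caT 0 = true := by decide +kernel

theorem shape_check1 : shapeCheck chevE6 nT wT negT 1 = true := by decide +kernel

theorem h_check1 : hCheckI chevE6 cols caT 1 = true := by decide +kernel

theorem shape_check2 : shapeCheck chevE6 nT wT negT 2 = true := by decide +kernel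

theorem h_check2 : hCheckI chevE6 cols caT 2 = true := by decide +kernel

theorem shape_check3 : shapeCheck chevE6 nT wT negT 3 = true := by decide +kernel

theorem h_check3 : hCheckI chevE6 cols caT 3 = true := by decide +kernel

theorem shape_check4 : shapeCheck chevE6 nT wT negT 4 = true := by decide +kernel

theorem h_check4 : hCheckI chevE6 cols caT 4 = true := by decide +kernel

theorem shape_check5 : shapeCheck chevE6 nT wT negT 5 = true := by decide +kernel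

theorem h_check5 : hCheckI chevE6 cols caT 5 = true := by decide +kernel

end Cfsg.Agent.Lib.Chevalley.Tbl.E6
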