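import Cfsg.Agent.Lib.Chevalley.Comm
import Cfsg.Prelude.Def_ChevE7

set_option autoImplicit false
set_option maxRecDepth 1000000

namespace Cfsg.Agent.Lib.Chevalley.Tbl.E7
open Cfsg.Lie Cfsg.Agent.Lib.Chevalley.Reflect Cfsg.Agent.Lib.Chevalley.Comm


noncomputable def col0 : Tr Cl := (.node 113 [⟨21,(Int.negSucc 0),1⟩] (.node 103 [⟨11,(Int.negSucc 0),1⟩] (.node 5 [⟨7,(Int.ofNat 0),1⟩] (.node 2 [⟨7,(Int.ofNat 0),1⟩] (.node 1 [⟨7,(Int.ofNat 0),1⟩] (.node 0 [⟨7,(Int.ofNat 1),1⟩] .nil .nil) .nil) (.node 4 [⟨7,(Int.ofNat 0),1⟩] (.node 3 [⟨7,(Int.ofNat 0),1⟩] .nil .nil) .nil)) (.node 101 [⟨9,(Int.negSucc 0),1⟩] (.node 100 [⟨8,(Int.ofNat 1),1⟩] (.node 6 [⟨7,(Int.ofNat 0),1⟩] .nil .nil) .nil) (.node 102 [⟨10,(Int.ofNat 1),1⟩] .nil .nil))) (.node 108 [⟨16,(Int.negSucc 0),1⟩] (.node 106 [⟨14,(Int.negSucc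 0),1⟩] (.node 105 [⟨13,(Int.negSucc 0),1⟩] (.node 104 [⟨12,(Int.ofNat 1),1⟩] .nil .nil) .nil) (.node 107 [⟨15,(Int.ofNat 1),1⟩] .nil .nil)) (.node 111 [⟨19,(Int.ofNat 1),1⟩] (.node 110 [⟨18,(Int.negSucc 0),1⟩] (.node 109 [⟨17,(Int.ofNat 1),1⟩] .nil .nil) .nil) (.node 112 [⟨20,(Int.negSucc 0),1⟩] .nil .nil)))) (.node 123 [⟨31,(Int.ofNat 1),1⟩] (.node 118 [⟨26,(Int.ofNat 1),1⟩] (.node 116 [⟨24,(Int.ofNat 1),1⟩] (.node 115 [⟨23,(Int.negSucc 0),1⟩] (.node 114 [⟨22,(Int.ofNat 1),1⟩] .nil .nil) .nil) (.node 117 [⟨25,(Int.negSucc 0),1⟩] .nil .nil)) (.node 121 [⟨29,(Int.ofNat 1),1⟩] (.node 120 [⟨28,(Int.negSucc 0),1⟩] (.node 119 [⟨27,(Int.ofNat 1),1⟩] .nil .nil) .nil) (.node 122 [⟨30,(Int.negSucc 0),1⟩] .nil .nil))) (.node 128 [⟨36,(Int.ofNat 1),1⟩] (.node 126 [⟨34,(Int.ofNat 1),1⟩] (.node 125 [⟨33,(Int.ofNat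 1),1⟩] (.node 124 [⟨32,(Int.negSucc 0),1⟩] .nil .nil) .nil) (.node 127 [⟨35,(Int.negSucc 0),1⟩] .nil .nil)) (.node 131 [⟨39,(Int.negSucc 0),1⟩] (.node 130 [⟨38,(Int.ofNat 1),1⟩] (.node 129 [⟨37,(Int.negSucc 0),1⟩] .nil .nil) .nil) (.node 132 [⟨0,(Int.negSucc 1),1⟩, ⟨1,(Int.negSucc 1),1⟩, ⟨2,(Int.negSucc 2),1⟩, ⟨3,(Int.negSucc 3),1⟩, ⟨4,(Int.negSucc 2),1⟩, ⟨5,(Int.negSucc 1),1⟩, ⟨6,(Int.negSucc 0),1⟩, ⟨7,(Int.negSucc 0),2⟩] .nil .nil)))))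
noncomputable def col1 : Tr Cl := (.node 97 [⟨21,(Int.ofNat 1),1⟩] (.node 82 [⟨11,(Int.ofNat 1),1⟩] (.node 5 [⟨8,(Int.ofNat 0),1⟩] (.node 2 [⟨8,(Int.ofNat 1),1⟩] (.node 1 [⟨8,(Int.ofNat 0),1⟩] (.node 0 [⟨8,(Int.negSucc 0),1⟩] .nil .nil) .nil) (.node 4 [⟨8,(Int.ofNat 0),1⟩] (.node 3 [⟨8,(Int.ofNat 0),1⟩] .nil .nil) .nil)) (.node 80 [⟨9,(Int.ofNat 1),1⟩] (.node 39 [⟨7,(Int.ofNat 1),1⟩] (.node 6 [⟨8,(Int.ofNat 0),1⟩] .nil .nil) .nil) (.node 81 [⟨10,(Int.negSucc 0),1⟩] .nil .nil))) (.node 92 [⟨16,(Int.ofNat 1),1⟩] (.node 90 [⟨14,(Int.ofNat 1),1⟩] (.node 84 [⟨13,(Int.ofNat 1),1⟩] (.node 83 [⟨12,(Int.negSucc 0),1⟩] .nil .nil) .nil) (.node 91 [⟨15,(Int.negSucc 0),1⟩] .nil .nil)) (.node 95 [⟨19,(Int.negSucc 0),1⟩] (.node 94 [⟨18,(Int.ofNat 1),1⟩] (.node 93 [⟨17,(Int.negSucc 0),1⟩] .nil .nil) .nil)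 (.node 96 [⟨20,(Int.ofNat 1),1⟩] .nil .nil)))) (.node 123 [⟨47,(Int.negSucc 0),1⟩] (.node 118 [⟨42,(Int.negSucc 0),1⟩] (.node 116 [⟨40,(Int.negSucc 0),1⟩] (.node 99 [⟨23,(Int.ofNat 1),1⟩] (.node 98 [⟨22,(Int.negSucc 0),1⟩] .nil .nil) .nil) (.node 117 [⟨41,(Int.ofNat 1),1⟩] .nil .nil)) (.node 121 [⟨45,(Int.negSucc 0),1⟩] (.node 120 [⟨44,(Int.ofNat 1),1⟩] (.node 119 [⟨43,(Int.negSucc 0),1⟩] .nil .nil) .nil) (.node 122 [⟨46,(Int.ofNat 1),1⟩] .nil .nil))) (.node 128 [⟨57,(Int.negSucc 0),1⟩] (.node 126 [⟨55,(Int.negSucc 0),1⟩] (.node 125 [⟨49,(Int.negSucc 0),1⟩] (.node 124 [⟨48,(Int.ofNat 1),1⟩] .nil .nil) .nil) (.node 127 [⟨56,(Int.ofNat 1),1⟩] .nil .nil)) (.node 131 [⟨0,(Int.negSucc 0),1⟩, ⟨1,(Int.negSucc 1),1⟩, ⟨2,(Int.negSucc 2),1⟩, ⟨3,(Int.negSucc 3),1⟩, ⟨4,(Int.negSucc 2),1⟩, ⟨5,(Int.negSucc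 1),1⟩, ⟨6,(Int.negSucc 0),1⟩, ⟨8,(Int.negSucc 0),2⟩] (.node 130 [⟨59,(Int.negSucc 0),1⟩] (.node 129 [⟨58,(Int.ofNat 1),1⟩] .nil .nil) .nil) (.node 132 [⟨100,(Int.negSucc 0),1⟩] .nil .nil)))))
noncomputable def col2 : Tr Cl := (.node 97 [⟨27,(Int.ofNat 1),1⟩] (.node 77 [⟨11,(Int.negSucc 0),1⟩] (.node 5 [⟨9,(Int.ofNat 0),1⟩] (.node 2 [⟨9,(Int.negSucc 0),1⟩] (.node 1 [⟨9,(Int.ofNat 0),1⟩] (.node 0 [⟨9,(Int.ofNat 0),1⟩] .nil .nil) .nil) (.node 4 [⟨9,(Int.ofNat 0),1⟩] (.node 3 [⟨9,(Int.ofNat 1),1⟩] .nil .nil) .nil)) (.node 59 [⟨8,(Int.ofNat 1),1⟩] (.node 38 [⟨7,(Int.negSucc 0),1⟩] (.node 6 [⟨9,(Int.ofNat 0),1⟩] .nil .nil) .nil) (.node 76 [⟨10,(Int.ofNat 1),1⟩] .nil .nil))) (.node 88 [⟨16,(Int.ofNat 1),1⟩] (.node 86 [⟨14,(Int.ofNat 1),1⟩] (.node 79 [⟨13,(Int.negSucc 0),1⟩] (.node 78 [⟨12,(Int.ofNat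 1),1⟩] .nil .nil) .nil) (.node 87 [⟨15,(Int.negSucc 0),1⟩] .nil .nil)) (.node 95 [⟨25,(Int.negSucc 0),1⟩] (.node 94 [⟨24,(Int.ofNat 1),1⟩] (.node 89 [⟨17,(Int.negSucc 0),1⟩] .nil .nil) .nil) (.node 96 [⟨26,(Int.ofNat 1),1⟩] .nil .nil)))) (.node 123 [⟨51,(Int.negSucc 0),1⟩] (.node 112 [⟨42,(Int.negSucc 0),1⟩] (.node 110 [⟨40,(Int.negSucc 0),1⟩] (.node 99 [⟨29,(Int.ofNat 1),1⟩] (.node 98 [⟨28,(Int.negSucc 0),1⟩] .nil .nil) .nil) (.node 111 [⟨41,(Int.ofNat 1),1⟩] .nil .nil)) (.node 115 [⟨45,(Int.negSucc 0),1⟩] (.node 114 [⟨44,(Int.ofNat 1),1⟩] (.node 113 [⟨43,(Int.negSucc 0),1⟩] .nil .nil) .nil) (.node 122 [⟨50,(Int.ofNat 1),1⟩] .nil .nil))) (.node 128 [⟨62,(Int.ofNat 1),1⟩] (.node 126 [⟨60,(Int.ofNat 1),1⟩] (.node 125 [⟨53,(Int.negSucc 0),1⟩] (.node 124 [⟨52,(Int.ofNat 1),1⟩] .nil .nil) .nil)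 (.node 127 [⟨61,(Int.negSucc 0),1⟩] .nil .nil)) (.node 131 [⟨80,(Int.negSucc 0),1⟩] (.node 130 [⟨0,(Int.negSucc 0),1⟩, ⟨1,(Int.negSucc 1),1⟩, ⟨2,(Int.negSucc 1),1⟩, ⟨3,(Int.negSucc 3),1⟩, ⟨4,(Int.negSucc 2),1⟩, ⟨5,(Int.negSucc 1),1⟩, ⟨6,(Int.negSucc 0),1⟩, ⟨9,(Int.negSucc 0),2⟩] (.node 129 [⟨63,(Int.negSucc 0),1⟩] .nil .nil) .nil) (.node 132 [⟨101,(Int.ofNat 1),1⟩] .nil .nil)))))
noncomputable def col3 : Tr Cl := (.node 97 [⟨30,(Int.ofNat 1),1⟩] (.node 73 [⟨11,(Int.ofNat 1),1⟩] (.node 5 [⟨10,(Int.ofNat 0),1⟩] (.node 2 [⟨10,(Int.ofNat 0),1⟩] (.node 1 [⟨10,(Int.ofNat 1),1⟩] (.node 0 [⟨10,(Int.ofNat 0),1⟩] .nil .nil) .nil) (.node 4 [⟨10,(Int.ofNat 1),1⟩] (.node 3 [⟨10,(Int.negSucc 0),1⟩] .nil .nil) .nil)) (.node 58 [⟨8,(Int.negSucc 0),1⟩] (.node 37 [⟨7,(Int.ofNat 1),1⟩] (.node 6 [⟨10,(Int.ofNat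 0),1⟩] .nil .nil) .nil) (.node 63 [⟨9,(Int.ofNat 1),1⟩] .nil .nil))) (.node 88 [⟨19,(Int.ofNat 1),1⟩] (.node 85 [⟨14,(Int.ofNat 1),1⟩] (.node 75 [⟨13,(Int.ofNat 1),1⟩] (.node 74 [⟨12,(Int.negSucc 0),1⟩] .nil .nil) .nil) (.node 87 [⟨18,(Int.negSucc 0),1⟩] .nil .nil)) (.node 92 [⟨25,(Int.negSucc 0),1⟩] (.node 91 [⟨24,(Int.ofNat 1),1⟩] (.node 89 [⟨20,(Int.negSucc 0),1⟩] .nil .nil) .nil) (.node 93 [⟨26,(Int.ofNat 1),1⟩] .nil .nil)))) (.node 120 [⟨51,(Int.negSucc 0),1⟩] (.node 109 [⟨42,(Int.negSucc 0),1⟩] (.node 107 [⟨40,(Int.negSucc 0),1⟩] (.node 99 [⟨32,(Int.ofNat 1),1⟩] (.node 98 [⟨31,(Int.negSucc 0),1⟩] .nil .nil) .nil) (.node 108 [⟨41,(Int.ofNat 1),1⟩] .nil .nil)) (.node 115 [⟨48,(Int.negSucc 0),1⟩] (.node 114 [⟨47,(Int.ofNat 1),1⟩] (.node 113 [⟨46,(Int.negSucc 0),1⟩] .nil .nil) .nil) (.node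 119 [⟨50,(Int.ofNat 1),1⟩] .nil .nil))) (.node 128 [⟨66,(Int.negSucc 0),1⟩] (.node 126 [⟨64,(Int.negSucc 0),1⟩] (.node 125 [⟨54,(Int.negSucc 0),1⟩] (.node 121 [⟨52,(Int.ofNat 1),1⟩] .nil .nil) .nil) (.node 127 [⟨65,(Int.ofNat 1),1⟩] .nil .nil)) (.node 131 [⟨81,(Int.ofNat 1),1⟩] (.node 130 [⟨76,(Int.negSucc 0),1⟩] (.node 129 [⟨0,(Int.negSucc 0),1⟩, ⟨1,(Int.negSucc 1),1⟩, ⟨2,(Int.negSucc 1),1⟩, ⟨3,(Int.negSucc 2),1⟩, ⟨4,(Int.negSucc 2),1⟩, ⟨5,(Int.negSucc 1),1⟩, ⟨6,(Int.negSucc 0),1⟩, ⟨10,(Int.negSucc 0),2⟩] .nil .nil) .nil) (.node 132 [⟨102,(Int.negSucc 0),1⟩] .nil .nil)))))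
noncomputable def col4 : Tr Cl := (.node 95 [⟨30,(Int.ofNat 1),1⟩] (.node 66 [⟨10,(Int.ofNat 1),1⟩] (.node 5 [⟨11,(Int.ofNat 1),1⟩] (.node 2 [⟨11,(Int.ofNat 0),1⟩] (.node 1 [⟨11,(Int.ofNat 1),1⟩] (.node 0 [⟨11,(Int.ofNat 0),1⟩] .nil .nil) .nil) (.node 4 [⟨11,(Int.negSucc 0),1⟩] (.node 3 [⟨11,(Int.ofNat 0),1⟩] .nil .nil) .nil)) (.node 57 [⟨8,(Int.ofNat 1),1⟩] (.node 36 [⟨7,(Int.negSucc 0),1⟩] (.node 6 [⟨11,(Int.ofNat 0),1⟩] .nil .nil) .nil) (.node 62 [⟨9,(Int.negSucc 0),1⟩] .nil .nil))) (.node 88 [⟨21,(Int.ofNat 1),1⟩] (.node 85 [⟨15,(Int.ofNat 1),1⟩] (.node 72 [⟨13,(Int.negSucc 0),1⟩] (.node 71 [⟨12,(Int.ofNat 1),1⟩] .nil .nil) .nil) (.node 86 [⟨18,(Int.negSucc 0),1⟩] .nil .nil)) (.node 92 [⟨27,(Int.negSucc 0),1⟩] (.node 90 [⟨24,(Int.ofNat 1),1⟩] (.node 89 [⟨22,(Int.negSucc 0),1⟩] .nil .nil)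 .nil) (.node 93 [⟨28,(Int.ofNat 1),1⟩] .nil .nil)))) (.node 118 [⟨51,(Int.negSucc 0),1⟩] (.node 109 [⟨44,(Int.negSucc 0),1⟩] (.node 106 [⟨40,(Int.negSucc 0),1⟩] (.node 99 [⟨33,(Int.ofNat 1),1⟩] (.node 96 [⟨31,(Int.negSucc 0),1⟩] .nil .nil) .nil) (.node 108 [⟨43,(Int.ofNat 1),1⟩] .nil .nil)) (.node 115 [⟨49,(Int.negSucc 0),1⟩] (.node 112 [⟨47,(Int.ofNat 1),1⟩] (.node 111 [⟨46,(Int.negSucc 0),1⟩] .nil .nil) .nil) (.node 117 [⟨50,(Int.ofNat 1),1⟩] .nil .nil))) (.node 128 [⟨0,(Int.negSucc 0),1⟩, ⟨1,(Int.negSucc 1),1⟩, ⟨2,(Int.negSucc 1),1⟩, ⟨3,(Int.negSucc 2),1⟩, ⟨4,(Int.negSucc 1),1⟩, ⟨5,(Int.negSucc 1),1⟩, ⟨6,(Int.negSucc 0),1⟩, ⟨11,(Int.negSucc 0),2⟩] (.node 126 [⟨67,(Int.ofNat 1),1⟩] (.node 124 [⟨54,(Int.negSucc 0),1⟩] (.node 121 [⟨53,(Int.ofNat 1),1⟩] .nil .nil) .nil) (.node 127 [⟨68,(Int.negSucc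 0),1⟩] .nil .nil)) (.node 131 [⟨82,(Int.negSucc 0),1⟩] (.node 130 [⟨77,(Int.ofNat 1),1⟩] (.node 129 [⟨73,(Int.negSucc 0),1⟩] .nil .nil) .nil) (.node 132 [⟨103,(Int.ofNat 1),1⟩] .nil .nil)))))
noncomputable def col5 : Tr Cl := (.node 94 [⟨30,(Int.ofNat 1),1⟩] (.node 65 [⟨10,(Int.negSucc 0),1⟩] (.node 5 [⟨12,(Int.negSucc 0),1⟩] (.node 2 [⟨12,(Int.ofNat 0),1⟩] (.node 1 [⟨12,(Int.ofNat 1),1⟩] (.node 0 [⟨12,(Int.ofNat 0),1⟩] .nil .nil) .nil) (.node 4 [⟨12,(Int.ofNat 0),1⟩] (.node 3 [⟨12,(Int.ofNat 0),1⟩] .nil .nil) .nil)) (.node 56 [⟨8,(Int.negSucc 0),1⟩] (.node 35 [⟨7,(Int.ofNat 1),1⟩] (.node 6 [⟨12,(Int.ofNat 1),1⟩] .nil .nil) .nil) (.node 61 [⟨9,(Int.ofNat 1),1⟩] .nil .nil))) (.node 87 [⟨21,(Int.ofNat 1),1⟩] (.node 85 [⟨16,(Int.ofNat 1),1⟩] (.node 70 [⟨13,(Int.ofNat 1),1⟩] (.node 68 [⟨11,(Int.ofNat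 1),1⟩] .nil .nil) .nil) (.node 86 [⟨19,(Int.negSucc 0),1⟩] .nil .nil)) (.node 91 [⟨27,(Int.negSucc 0),1⟩] (.node 90 [⟨25,(Int.ofNat 1),1⟩] (.node 89 [⟨23,(Int.negSucc 0),1⟩] .nil .nil) .nil) (.node 93 [⟨29,(Int.ofNat 1),1⟩] .nil .nil)))) (.node 118 [⟨52,(Int.negSucc 0),1⟩] (.node 109 [⟨45,(Int.negSucc 0),1⟩] (.node 106 [⟨41,(Int.negSucc 0),1⟩] (.node 98 [⟨33,(Int.ofNat 1),1⟩] (.node 96 [⟨32,(Int.negSucc 0),1⟩] .nil .nil) .nil) (.node 107 [⟨43,(Int.ofNat 1),1⟩] .nil .nil)) (.node 114 [⟨49,(Int.negSucc 0),1⟩] (.node 112 [⟨48,(Int.ofNat 1),1⟩] (.node 110 [⟨46,(Int.negSucc 0),1⟩] .nil .nil) .nil) (.node 116 [⟨50,(Int.ofNat 1),1⟩] .nil .nil))) (.node 128 [⟨71,(Int.negSucc 0),1⟩] (.node 126 [⟨69,(Int.negSucc 0),1⟩] (.node 123 [⟨54,(Int.negSucc 0),1⟩] (.node 120 [⟨53,(Int.ofNat 1),1⟩] .nil .nil) .nil)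 (.node 127 [⟨0,(Int.negSucc 0),1⟩, ⟨1,(Int.negSucc 1),1⟩, ⟨2,(Int.negSucc 1),1⟩, ⟨3,(Int.negSucc 2),1⟩, ⟨4,(Int.negSucc 1),1⟩, ⟨5,(Int.negSucc 0),1⟩, ⟨6,(Int.negSucc 0),1⟩, ⟨12,(Int.negSucc 0),2⟩] .nil .nil)) (.node 131 [⟨83,(Int.ofNat 1),1⟩] (.node 130 [⟨78,(Int.negSucc 0),1⟩] (.node 129 [⟨74,(Int.ofNat 1),1⟩] .nil .nil) .nil) (.node 132 [⟨104,(Int.negSucc 0),1⟩] .nil .nil)))))
noncomputable def col6 : Tr Cl := (.node 94 [⟨31,(Int.ofNat 1),1⟩] (.node 64 [⟨10,(Int.ofNat 1),1⟩] (.node 5 [⟨13,(Int.ofNat 0),1⟩] (.node 2 [⟨13,(Int.ofNat 0),1⟩] (.node 1 [⟨13,(Int.ofNat 1),1⟩] (.node 0 [⟨13,(Int.ofNat 0),1⟩] .nil .nil) .nil) (.node 4 [⟨13,(Int.ofNat 0),1⟩] (.node 3 [⟨13,(Int.ofNat 0),1⟩] .nil .nil) .nil)) (.node 55 [⟨8,(Int.ofNat 1),1⟩] (.node 34 [⟨7,(Int.negSucc 0),1⟩] (.node 6 [⟨13,(Int.negSucc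 0),1⟩] .nil .nil) .nil) (.node 60 [⟨9,(Int.negSucc 0),1⟩] .nil .nil))) (.node 87 [⟨22,(Int.ofNat 1),1⟩] (.node 85 [⟨17,(Int.ofNat 1),1⟩] (.node 69 [⟨12,(Int.ofNat 1),1⟩] (.node 67 [⟨11,(Int.negSucc 0),1⟩] .nil .nil) .nil) (.node 86 [⟨20,(Int.negSucc 0),1⟩] .nil .nil)) (.node 91 [⟨28,(Int.negSucc 0),1⟩] (.node 90 [⟨26,(Int.ofNat 1),1⟩] (.node 88 [⟨23,(Int.negSucc 0),1⟩] .nil .nil) .nil) (.node 92 [⟨29,(Int.ofNat 1),1⟩] .nil .nil)))) (.node 117 [⟨52,(Int.negSucc 0),1⟩] (.node 108 [⟨45,(Int.negSucc 0),1⟩] (.node 106 [⟨42,(Int.negSucc 0),1⟩] (.node 97 [⟨33,(Int.ofNat 1),1⟩] (.node 95 [⟨32,(Int.negSucc 0),1⟩] .nil .nil) .nil) (.node 107 [⟨44,(Int.ofNat 1),1⟩] .nil .nil)) (.node 113 [⟨49,(Int.negSucc 0),1⟩] (.node 111 [⟨48,(Int.ofNat 1),1⟩] (.node 110 [⟨47,(Int.negSucc 0),1⟩] .nil .nil) .nil) (.node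 116 [⟨51,(Int.ofNat 1),1⟩] .nil .nil))) (.node 128 [⟨72,(Int.ofNat 1),1⟩] (.node 126 [⟨0,(Int.negSucc 0),1⟩, ⟨1,(Int.negSucc 1),1⟩, ⟨2,(Int.negSucc 1),1⟩, ⟨3,(Int.negSucc 2),1⟩, ⟨4,(Int.negSucc 1),1⟩, ⟨5,(Int.negSucc 0),1⟩, ⟨6,(Int.ofNat 0),1⟩, ⟨13,(Int.negSucc 0),2⟩] (.node 122 [⟨54,(Int.negSucc 0),1⟩] (.node 119 [⟨53,(Int.ofNat 1),1⟩] .nil .nil) .nil) (.node 127 [⟨70,(Int.negSucc 0),1⟩] .nil .nil)) (.node 131 [⟨84,(Int.negSucc 0),1⟩] (.node 130 [⟨79,(Int.ofNat 1),1⟩] (.node 129 [⟨75,(Int.negSucc 0),1⟩] .nil .nil) .nil) (.node 132 [⟨105,(Int.ofNat 1),1⟩] .nil .nil)))))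
noncomputable def col7 : Tr Cl := (.node 97 [⟨34,(Int.ofNat 1),1⟩] (.node 54 [⟨10,(Int.ofNat 1),1⟩] (.node 5 [⟨14,(Int.ofNat 0),1⟩] (.node 2 [⟨14,(Int.ofNat 0),1⟩] (.node 1 [⟨14,(Int.negSucc 0),1⟩] (.node 0 [⟨14,(Int.ofNat 0),1⟩] .nil .nil) .nil) (.node 4 [⟨14,(Int.ofNat 1),1⟩] (.node 3 [⟨14,(Int.ofNat 0),1⟩] .nil .nil) .nil)) (.node 49 [⟨8,(Int.ofNat 1),1⟩] (.node 33 [⟨7,(Int.negSucc 0),1⟩] (.node 6 [⟨14,(Int.ofNat 0),1⟩] .nil .nil) .nil) (.node 53 [⟨9,(Int.ofNat 1),1⟩] .nil .nil))) (.node 78 [⟨19,(Int.negSucc 0),1⟩] (.node 75 [⟨17,(Int.ofNat 1),1⟩] (.node 74 [⟨16,(Int.negSucc 0),1⟩] (.node 73 [⟨15,(Int.ofNat 1),1⟩] .nil .nil) .nil) (.node 77 [⟨18,(Int.ofNat 1),1⟩] .nil .nil)) (.node 83 [⟨25,(Int.negSucc 0),1⟩] (.node 82 [⟨24,(Int.ofNat 1),1⟩] (.node 79 [⟨20,(Int.ofNat 1),1⟩] .nil .nil) .nil)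 (.node 84 [⟨26,(Int.ofNat 1),1⟩] .nil .nil)))) (.node 120 [⟨61,(Int.ofNat 1),1⟩] (.node 105 [⟨42,(Int.negSucc 0),1⟩] (.node 103 [⟨40,(Int.negSucc 0),1⟩] (.node 99 [⟨36,(Int.ofNat 1),1⟩] (.node 98 [⟨35,(Int.negSucc 0),1⟩] .nil .nil) .nil) (.node 104 [⟨41,(Int.ofNat 1),1⟩] .nil .nil)) (.node 115 [⟨57,(Int.negSucc 0),1⟩] (.node 114 [⟨56,(Int.ofNat 1),1⟩] (.node 113 [⟨55,(Int.negSucc 0),1⟩] .nil .nil) .nil) (.node 119 [⟨60,(Int.negSucc 0),1⟩] .nil .nil))) (.node 125 [⟨0,(Int.negSucc 0),1⟩, ⟨1,(Int.negSucc 0),1⟩, ⟨2,(Int.negSucc 1),1⟩, ⟨3,(Int.negSucc 2),1⟩, ⟨4,(Int.negSucc 2),1⟩, ⟨5,(Int.negSucc 1),1⟩, ⟨6,(Int.negSucc 0),1⟩, ⟨14,(Int.negSucc 0),2⟩] (.node 123 [⟨65,(Int.ofNat 1),1⟩] (.node 122 [⟨64,(Int.negSucc 0),1⟩] (.node 121 [⟨62,(Int.negSucc 0),1⟩] .nil .nil) .nil) (.node 124 [⟨66,(Int.negSucc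 0),1⟩] .nil .nil)) (.node 131 [⟨90,(Int.negSucc 0),1⟩] (.node 130 [⟨86,(Int.negSucc 0),1⟩] (.node 129 [⟨85,(Int.negSucc 0),1⟩] .nil .nil) .nil) (.node 132 [⟨106,(Int.ofNat 1),1⟩] .nil .nil)))))
noncomputable def col8 : Tr Cl := (.node 95 [⟨34,(Int.ofNat 1),1⟩] (.node 54 [⟨11,(Int.ofNat 1),1⟩] (.node 5 [⟨15,(Int.ofNat 1),1⟩] (.node 2 [⟨15,(Int.ofNat 0),1⟩] (.node 1 [⟨15,(Int.negSucc 0),1⟩] (.node 0 [⟨15,(Int.ofNat 0),1⟩] .nil .nil) .nil) (.node 4 [⟨15,(Int.negSucc 0),1⟩] (.node 3 [⟨15,(Int.ofNat 1),1⟩] .nil .nil) .nil)) (.node 48 [⟨8,(Int.negSucc 0),1⟩] (.node 32 [⟨7,(Int.ofNat 1),1⟩] (.node 6 [⟨15,(Int.ofNat 0),1⟩] .nil .nil) .nil) (.node 52 [⟨9,(Int.negSucc 0),1⟩] .nil .nil))) (.node 78 [⟨21,(Int.negSucc 0),1⟩] (.node 72 [⟨17,(Int.negSucc 0),1⟩] (.node 71 [⟨16,(Int.ofNat 1),1⟩] (.node 66 [⟨14,(Int.ofNat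 1),1⟩] .nil .nil) .nil) (.node 76 [⟨18,(Int.ofNat 1),1⟩] .nil .nil)) (.node 83 [⟨27,(Int.negSucc 0),1⟩] (.node 81 [⟨24,(Int.ofNat 1),1⟩] (.node 79 [⟨22,(Int.ofNat 1),1⟩] .nil .nil) .nil) (.node 84 [⟨28,(Int.ofNat 1),1⟩] .nil .nil)))) (.node 118 [⟨61,(Int.ofNat 1),1⟩] (.node 105 [⟨44,(Int.negSucc 0),1⟩] (.node 102 [⟨40,(Int.negSucc 0),1⟩] (.node 99 [⟨37,(Int.ofNat 1),1⟩] (.node 96 [⟨35,(Int.negSucc 0),1⟩] .nil .nil) .nil) (.node 104 [⟨43,(Int.ofNat 1),1⟩] .nil .nil)) (.node 115 [⟨58,(Int.negSucc 0),1⟩] (.node 112 [⟨56,(Int.ofNat 1),1⟩] (.node 111 [⟨55,(Int.negSucc 0),1⟩] .nil .nil) .nil) (.node 117 [⟨60,(Int.negSucc 0),1⟩] .nil .nil))) (.node 125 [⟨73,(Int.negSucc 0),1⟩] (.node 123 [⟨68,(Int.negSucc 0),1⟩] (.node 122 [⟨67,(Int.ofNat 1),1⟩] (.node 121 [⟨63,(Int.negSucc 0),1⟩] .nil .nil) .nil)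 (.node 124 [⟨0,(Int.negSucc 0),1⟩, ⟨1,(Int.negSucc 0),1⟩, ⟨2,(Int.negSucc 1),1⟩, ⟨3,(Int.negSucc 2),1⟩, ⟨4,(Int.negSucc 1),1⟩, ⟨5,(Int.negSucc 1),1⟩, ⟨6,(Int.negSucc 0),1⟩, ⟨15,(Int.negSucc 0),2⟩] .nil .nil)) (.node 131 [⟨91,(Int.ofNat 1),1⟩] (.node 130 [⟨87,(Int.ofNat 1),1⟩] (.node 128 [⟨85,(Int.negSucc 0),1⟩] .nil .nil) .nil) (.node 132 [⟨107,(Int.negSucc 0),1⟩] .nil .nil)))))
noncomputable def col9 : Tr Cl := (.node 94 [⟨34,(Int.ofNat 1),1⟩] (.node 54 [⟨12,(Int.ofNat 1),1⟩] (.node 5 [⟨16,(Int.negSucc 0),1⟩] (.node 2 [⟨16,(Int.ofNat 0),1⟩] (.node 1 [⟨16,(Int.negSucc 0),1⟩] (.node 0 [⟨16,(Int.ofNat 0),1⟩] .nil .nil) .nil) (.node 4 [⟨16,(Int.ofNat 0),1⟩] (.node 3 [⟨16,(Int.ofNat 1),1⟩] .nil .nil) .nil)) (.node 47 [⟨8,(Int.ofNat 1),1⟩] (.node 31 [⟨7,(Int.negSucc 0),1⟩] (.node 6 [⟨16,(Int.ofNat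 1),1⟩] .nil .nil) .nil) (.node 51 [⟨9,(Int.ofNat 1),1⟩] .nil .nil))) (.node 77 [⟨21,(Int.negSucc 0),1⟩] (.node 70 [⟨17,(Int.ofNat 1),1⟩] (.node 68 [⟨15,(Int.ofNat 1),1⟩] (.node 65 [⟨14,(Int.negSucc 0),1⟩] .nil .nil) .nil) (.node 76 [⟨19,(Int.ofNat 1),1⟩] .nil .nil)) (.node 82 [⟨27,(Int.negSucc 0),1⟩] (.node 81 [⟨25,(Int.ofNat 1),1⟩] (.node 79 [⟨23,(Int.ofNat 1),1⟩] .nil .nil) .nil) (.node 84 [⟨29,(Int.ofNat 1),1⟩] .nil .nil)))) (.node 118 [⟨62,(Int.ofNat 1),1⟩] (.node 105 [⟨45,(Int.negSucc 0),1⟩] (.node 102 [⟨41,(Int.negSucc 0),1⟩] (.node 98 [⟨37,(Int.ofNat 1),1⟩] (.node 96 [⟨36,(Int.negSucc 0),1⟩] .nil .nil) .nil) (.node 103 [⟨43,(Int.ofNat 1),1⟩] .nil .nil)) (.node 114 [⟨58,(Int.negSucc 0),1⟩] (.node 112 [⟨57,(Int.ofNat 1),1⟩] (.node 110 [⟨55,(Int.negSucc 0),1⟩] .nil .nil) .nil) (.node 116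 [⟨60,(Int.negSucc 0),1⟩] .nil .nil))) (.node 125 [⟨74,(Int.ofNat 1),1⟩] (.node 123 [⟨0,(Int.negSucc 0),1⟩, ⟨1,(Int.negSucc 0),1⟩, ⟨2,(Int.negSucc 1),1⟩, ⟨3,(Int.negSucc 2),1⟩, ⟨4,(Int.negSucc 1),1⟩, ⟨5,(Int.negSucc 0),1⟩, ⟨6,(Int.negSucc 0),1⟩, ⟨16,(Int.negSucc 0),2⟩] (.node 122 [⟨69,(Int.negSucc 0),1⟩] (.node 120 [⟨63,(Int.negSucc 0),1⟩] .nil .nil) .nil) (.node 124 [⟨71,(Int.negSucc 0),1⟩] .nil .nil)) (.node 131 [⟨92,(Int.negSucc 0),1⟩] (.node 130 [⟨88,(Int.negSucc 0),1⟩] (.node 127 [⟨85,(Int.negSucc 0),1⟩] .nil .nil) .nil) (.node 132 [⟨108,(Int.ofNat 1),1⟩] .nil .nil)))))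
noncomputable def col10 : Tr Cl := (.node 94 [⟨35,(Int.ofNat 1),1⟩] (.node 54 [⟨13,(Int.ofNat 1),1⟩] (.node 5 [⟨17,(Int.ofNat 0),1⟩] (.node 2 [⟨17,(Int.ofNat 0),1⟩] (.node 1 [⟨17,(Int.negSucc 0),1⟩] (.node 0 [⟨17,(Int.ofNat 0),1⟩] .nil .nil) .nil) (.node 4 [⟨17,(Int.ofNat 0),1⟩] (.node 3 [⟨17,(Int.ofNat 1),1⟩] .nil .nil) .nil)) (.node 46 [⟨8,(Int.negSucc 0),1⟩] (.node 30 [⟨7,(Int.ofNat 1),1⟩] (.node 6 [⟨17,(Int.negSucc 0),1⟩] .nil .nil) .nil) (.node 50 [⟨9,(Int.negSucc 0),1⟩] .nil .nil))) (.node 77 [⟨22,(Int.negSucc 0),1⟩] (.node 69 [⟨16,(Int.ofNat 1),1⟩] (.node 67 [⟨15,(Int.negSucc 0),1⟩] (.node 64 [⟨14,(Int.ofNat 1),1⟩] .nil .nil) .nil) (.node 76 [⟨20,(Int.ofNat 1),1⟩] .nil .nil)) (.node 82 [⟨28,(Int.negSucc 0),1⟩] (.node 81 [⟨26,(Int.ofNat 1),1⟩] (.node 78 [⟨23,(Int.ofNat 1),1⟩] .nil .nil)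 .nil) (.node 83 [⟨29,(Int.ofNat 1),1⟩] .nil .nil)))) (.node 117 [⟨62,(Int.ofNat 1),1⟩] (.node 104 [⟨45,(Int.negSucc 0),1⟩] (.node 102 [⟨42,(Int.negSucc 0),1⟩] (.node 97 [⟨37,(Int.ofNat 1),1⟩] (.node 95 [⟨36,(Int.negSucc 0),1⟩] .nil .nil) .nil) (.node 103 [⟨44,(Int.ofNat 1),1⟩] .nil .nil)) (.node 113 [⟨58,(Int.negSucc 0),1⟩] (.node 111 [⟨57,(Int.ofNat 1),1⟩] (.node 110 [⟨56,(Int.negSucc 0),1⟩] .nil .nil) .nil) (.node 116 [⟨61,(Int.negSucc 0),1⟩] .nil .nil))) (.node 125 [⟨75,(Int.negSucc 0),1⟩] (.node 123 [⟨70,(Int.negSucc 0),1⟩] (.node 122 [⟨0,(Int.negSucc 0),1⟩, ⟨1,(Int.negSucc 0),1⟩, ⟨2,(Int.negSucc 1),1⟩, ⟨3,(Int.negSucc 2),1⟩, ⟨4,(Int.negSucc 1),1⟩, ⟨5,(Int.negSucc 0),1⟩, ⟨6,(Int.ofNat 0),1⟩, ⟨17,(Int.negSucc 0),2⟩] (.node 119 [⟨63,(Int.negSucc 0),1⟩] .nil .nil) .nil) (.node 124 [⟨72,(Int.ofNat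 1),1⟩] .nil .nil)) (.node 131 [⟨93,(Int.ofNat 1),1⟩] (.node 130 [⟨89,(Int.ofNat 1),1⟩] (.node 126 [⟨85,(Int.negSucc 0),1⟩] .nil .nil) .nil) (.node 132 [⟨109,(Int.negSucc 0),1⟩] .nil .nil)))))
noncomputable def col11 : Tr Cl := (.node 92 [⟨34,(Int.ofNat 1),1⟩] (.node 53 [⟨11,(Int.negSucc 0),1⟩] (.node 5 [⟨18,(Int.ofNat 1),1⟩] (.node 2 [⟨18,(Int.ofNat 1),1⟩] (.node 1 [⟨18,(Int.ofNat 0),1⟩] (.node 0 [⟨18,(Int.ofNat 0),1⟩] .nil .nil) .nil) (.node 4 [⟨18,(Int.ofNat 0),1⟩] (.node 3 [⟨18,(Int.negSucc 0),1⟩] .nil .nil) .nil)) (.node 45 [⟨8,(Int.ofNat 1),1⟩] (.node 29 [⟨7,(Int.negSucc 0),1⟩] (.node 6 [⟨18,(Int.ofNat 0),1⟩] .nil .nil) .nil) (.node 52 [⟨10,(Int.negSucc 0),1⟩] .nil .nil))) (.node 74 [⟨21,(Int.ofNat 1),1⟩] (.node 71 [⟨19,(Int.ofNat 1),1⟩] (.node 63 [⟨15,(Int.ofNat 1),1⟩] (.node 62 [⟨14,(Int.ofNat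 1),1⟩] .nil .nil) .nil) (.node 72 [⟨20,(Int.negSucc 0),1⟩] .nil .nil)) (.node 83 [⟨30,(Int.negSucc 0),1⟩] (.node 80 [⟨24,(Int.ofNat 1),1⟩] (.node 75 [⟨22,(Int.negSucc 0),1⟩] .nil .nil) .nil) (.node 84 [⟨31,(Int.ofNat 1),1⟩] .nil .nil)))) (.node 118 [⟨65,(Int.negSucc 0),1⟩] (.node 105 [⟨47,(Int.negSucc 0),1⟩] (.node 101 [⟨40,(Int.negSucc 0),1⟩] (.node 99 [⟨38,(Int.ofNat 1),1⟩] (.node 93 [⟨35,(Int.negSucc 0),1⟩] .nil .nil) .nil) (.node 104 [⟨46,(Int.ofNat 1),1⟩] .nil .nil)) (.node 115 [⟨59,(Int.negSucc 0),1⟩] (.node 109 [⟨56,(Int.ofNat 1),1⟩] (.node 108 [⟨55,(Int.negSucc 0),1⟩] .nil .nil) .nil) (.node 117 [⟨64,(Int.ofNat 1),1⟩] .nil .nil))) (.node 125 [⟨77,(Int.negSucc 0),1⟩] (.node 121 [⟨0,(Int.negSucc 0),1⟩, ⟨1,(Int.negSucc 0),1⟩, ⟨2,(Int.negSucc 1),1⟩, ⟨3,(Int.negSucc 1),1⟩, ⟨4,(Int.negSucc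 1),1⟩, ⟨5,(Int.negSucc 1),1⟩, ⟨6,(Int.negSucc 0),1⟩, ⟨18,(Int.negSucc 0),2⟩] (.node 120 [⟨68,(Int.negSucc 0),1⟩] (.node 119 [⟨67,(Int.ofNat 1),1⟩] .nil .nil) .nil) (.node 124 [⟨76,(Int.negSucc 0),1⟩] .nil .nil)) (.node 131 [⟨94,(Int.negSucc 0),1⟩] (.node 129 [⟨87,(Int.ofNat 1),1⟩] (.node 128 [⟨86,(Int.ofNat 1),1⟩] .nil .nil) .nil) (.node 132 [⟨110,(Int.ofNat 1),1⟩] .nil .nil)))))
noncomputable def col12 : Tr Cl := (.node 91 [⟨34,(Int.ofNat 1),1⟩] (.node 53 [⟨12,(Int.negSucc 0),1⟩] (.node 5 [⟨19,(Int.negSucc 0),1⟩] (.node 2 [⟨19,(Int.ofNat 1),1⟩] (.node 1 [⟨19,(Int.ofNat 0),1⟩] (.node 0 [⟨19,(Int.ofNat 0),1⟩] .nil .nil) .nil) (.node 4 [⟨19,(Int.ofNat 1),1⟩] (.node 3 [⟨19,(Int.negSucc 0),1⟩] .nil .nil) .nil)) (.node 44 [⟨8,(Int.negSucc 0),1⟩] (.node 28 [⟨7,(Int.ofNat 1),1⟩] (.node 6 [⟨19,(Int.ofNat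 1),1⟩] .nil .nil) .nil) (.node 51 [⟨10,(Int.ofNat 1),1⟩] .nil .nil))) (.node 73 [⟨21,(Int.ofNat 1),1⟩] (.node 68 [⟨18,(Int.ofNat 1),1⟩] (.node 63 [⟨16,(Int.ofNat 1),1⟩] (.node 61 [⟨14,(Int.negSucc 0),1⟩] .nil .nil) .nil) (.node 70 [⟨20,(Int.ofNat 1),1⟩] .nil .nil)) (.node 82 [⟨30,(Int.negSucc 0),1⟩] (.node 80 [⟨25,(Int.ofNat 1),1⟩] (.node 75 [⟨23,(Int.negSucc 0),1⟩] .nil .nil) .nil) (.node 84 [⟨32,(Int.ofNat 1),1⟩] .nil .nil)))) (.node 118 [⟨66,(Int.negSucc 0),1⟩] (.node 105 [⟨48,(Int.negSucc 0),1⟩] (.node 101 [⟨41,(Int.negSucc 0),1⟩] (.node 98 [⟨38,(Int.ofNat 1),1⟩] (.node 93 [⟨36,(Int.negSucc 0),1⟩] .nil .nil) .nil) (.node 103 [⟨46,(Int.ofNat 1),1⟩] .nil .nil)) (.node 114 [⟨59,(Int.negSucc 0),1⟩] (.node 109 [⟨57,(Int.ofNat 1),1⟩] (.node 107 [⟨55,(Int.negSucc 0),1⟩] .nil .nil) .nil) (.node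 116 [⟨64,(Int.ofNat 1),1⟩] .nil .nil))) (.node 125 [⟨78,(Int.ofNat 1),1⟩] (.node 121 [⟨71,(Int.negSucc 0),1⟩] (.node 120 [⟨0,(Int.negSucc 0),1⟩, ⟨1,(Int.negSucc 0),1⟩, ⟨2,(Int.negSucc 1),1⟩, ⟨3,(Int.negSucc 1),1⟩, ⟨4,(Int.negSucc 1),1⟩, ⟨5,(Int.negSucc 0),1⟩, ⟨6,(Int.negSucc 0),1⟩, ⟨19,(Int.negSucc 0),2⟩] (.node 119 [⟨69,(Int.negSucc 0),1⟩] .nil .nil) .nil) (.node 123 [⟨76,(Int.negSucc 0),1⟩] .nil .nil)) (.node 131 [⟨95,(Int.ofNat 1),1⟩] (.node 129 [⟨88,(Int.negSucc 0),1⟩] (.node 127 [⟨86,(Int.ofNat 1),1⟩] .nil .nil) .nil) (.node 132 [⟨111,(Int.negSucc 0),1⟩] .nil .nil)))))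
noncomputable def col13 : Tr Cl := (.node 91 [⟨35,(Int.ofNat 1),1⟩] (.node 53 [⟨13,(Int.negSucc 0),1⟩] (.node 5 [⟨20,(Int.ofNat 0),1⟩] (.node 2 [⟨20,(Int.ofNat 1),1⟩] (.node 1 [⟨20,(Int.ofNat 0),1⟩] (.node 0 [⟨20,(Int.ofNat 0),1⟩] .nil .nil) .nil) (.node 4 [⟨20,(Int.ofNat 1),1⟩] (.node 3 [⟨20,(Int.negSucc 0),1⟩] .nil .nil) .nil)) (.node 43 [⟨8,(Int.ofNat 1),1⟩] (.node 27 [⟨7,(Int.negSucc 0),1⟩] (.node 6 [⟨20,(Int.negSucc 0),1⟩] .nil .nil) .nil) (.node 50 [⟨10,(Int.negSucc 0),1⟩] .nil .nil))) (.node 73 [⟨22,(Int.ofNat 1),1⟩] (.node 67 [⟨18,(Int.negSucc 0),1⟩] (.node 63 [⟨17,(Int.ofNat 1),1⟩] (.node 60 [⟨14,(Int.ofNat 1),1⟩] .nil .nil) .nil) (.node 69 [⟨19,(Int.ofNat 1),1⟩] .nil .nil)) (.node 82 [⟨31,(Int.negSucc 0),1⟩] (.node 80 [⟨26,(Int.ofNat 1),1⟩] (.node 74 [⟨23,(Int.negSucc 0),1⟩] .nil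 .nil) .nil) (.node 83 [⟨32,(Int.ofNat 1),1⟩] .nil .nil)))) (.node 117 [⟨66,(Int.negSucc 0),1⟩] (.node 104 [⟨48,(Int.negSucc 0),1⟩] (.node 101 [⟨42,(Int.negSucc 0),1⟩] (.node 97 [⟨38,(Int.ofNat 1),1⟩] (.node 92 [⟨36,(Int.negSucc 0),1⟩] .nil .nil) .nil) (.node 103 [⟨47,(Int.ofNat 1),1⟩] .nil .nil)) (.node 113 [⟨59,(Int.negSucc 0),1⟩] (.node 108 [⟨57,(Int.ofNat 1),1⟩] (.node 107 [⟨56,(Int.negSucc 0),1⟩] .nil .nil) .nil) (.node 116 [⟨65,(Int.ofNat 1),1⟩] .nil .nil))) (.node 125 [⟨79,(Int.negSucc 0),1⟩] (.node 121 [⟨72,(Int.ofNat 1),1⟩] (.node 120 [⟨70,(Int.negSucc 0),1⟩] (.node 119 [⟨0,(Int.negSucc 0),1⟩, ⟨1,(Int.negSucc 0),1⟩, ⟨2,(Int.negSucc 1),1⟩, ⟨3,(Int.negSucc 1),1⟩, ⟨4,(Int.negSucc 1),1⟩, ⟨5,(Int.negSucc 0),1⟩, ⟨6,(Int.ofNat 0),1⟩, ⟨20,(Int.negSucc 0),2⟩] .nil .nil) .nil) (.node 122 [⟨76,(Int.negSucc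 0),1⟩] .nil .nil)) (.node 131 [⟨96,(Int.negSucc 0),1⟩] (.node 129 [⟨89,(Int.ofNat 1),1⟩] (.node 126 [⟨86,(Int.ofNat 1),1⟩] .nil .nil) .nil) (.node 132 [⟨112,(Int.ofNat 1),1⟩] .nil .nil)))))
noncomputable def col14 : Tr Cl := (.node 90 [⟨34,(Int.ofNat 1),1⟩] (.node 52 [⟨12,(Int.ofNat 1),1⟩] (.node 5 [⟨21,(Int.ofNat 0),1⟩] (.node 2 [⟨21,(Int.ofNat 1),1⟩] (.node 1 [⟨21,(Int.ofNat 0),1⟩] (.node 0 [⟨21,(Int.ofNat 0),1⟩] .nil .nil) .nil) (.node 4 [⟨21,(Int.negSucc 0),1⟩] (.node 3 [⟨21,(Int.ofNat 0),1⟩] .nil .nil) .nil)) (.node 42 [⟨8,(Int.ofNat 1),1⟩] (.node 26 [⟨7,(Int.negSucc 0),1⟩] (.node 6 [⟨21,(Int.ofNat 1),1⟩] .nil .nil) .nil) (.node 51 [⟨11,(Int.ofNat 1),1⟩] .nil .nil))) (.node 70 [⟨22,(Int.ofNat 1),1⟩] (.node 65 [⟨18,(Int.ofNat 1),1⟩] (.node 62 [⟨16,(Int.negSucc 0),1⟩] (.node 61 [⟨15,(Int.negSucc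 0),1⟩] .nil .nil) .nil) (.node 66 [⟨19,(Int.ofNat 1),1⟩] .nil .nil)) (.node 81 [⟨30,(Int.negSucc 0),1⟩] (.node 80 [⟨27,(Int.ofNat 1),1⟩] (.node 72 [⟨23,(Int.ofNat 1),1⟩] .nil .nil) .nil) (.node 84 [⟨33,(Int.ofNat 1),1⟩] .nil .nil)))) (.node 117 [⟨69,(Int.negSucc 0),1⟩] (.node 105 [⟨49,(Int.negSucc 0),1⟩] (.node 101 [⟨43,(Int.negSucc 0),1⟩] (.node 96 [⟨38,(Int.ofNat 1),1⟩] (.node 93 [⟨37,(Int.negSucc 0),1⟩] .nil .nil) .nil) (.node 102 [⟨46,(Int.ofNat 1),1⟩] .nil .nil)) (.node 112 [⟨59,(Int.negSucc 0),1⟩] (.node 109 [⟨58,(Int.ofNat 1),1⟩] (.node 106 [⟨55,(Int.negSucc 0),1⟩] .nil .nil) .nil) (.node 116 [⟨67,(Int.negSucc 0),1⟩] .nil .nil))) (.node 124 [⟨78,(Int.ofNat 1),1⟩] (.node 121 [⟨74,(Int.negSucc 0),1⟩] (.node 120 [⟨73,(Int.negSucc 0),1⟩] (.node 118 [⟨0,(Int.negSucc 0),1⟩, ⟨1,(Int.negSucc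 0),1⟩, ⟨2,(Int.negSucc 1),1⟩, ⟨3,(Int.negSucc 1),1⟩, ⟨4,(Int.negSucc 0),1⟩, ⟨5,(Int.negSucc 0),1⟩, ⟨6,(Int.negSucc 0),1⟩, ⟨21,(Int.negSucc 0),2⟩] .nil .nil) .nil) (.node 123 [⟨77,(Int.ofNat 1),1⟩] .nil .nil)) (.node 131 [⟨97,(Int.negSucc 0),1⟩] (.node 128 [⟨88,(Int.negSucc 0),1⟩] (.node 127 [⟨87,(Int.negSucc 0),1⟩] .nil .nil) .nil) (.node 132 [⟨113,(Int.ofNat 1),1⟩] .nil .nil)))))
noncomputable def col15 : Tr Cl := (.node 90 [⟨35,(Int.ofNat 1),1⟩] (.node 52 [⟨13,(Int.ofNat 1),1⟩] (.node 5 [⟨22,(Int.ofNat 1),1⟩] (.node 2 [⟨22,(Int.ofNat 1),1⟩] (.node 1 [⟨22,(Int.ofNat 0),1⟩] (.node 0 [⟨22,(Int.ofNat 0),1⟩] .nil .nil) .nil) (.node 4 [⟨22,(Int.negSucc 0),1⟩] (.node 3 [⟨22,(Int.ofNat 0),1⟩] .nil .nil) .nil)) (.node 41 [⟨8,(Int.negSucc 0),1⟩] (.node 25 [⟨7,(Int.ofNat 1),1⟩] (.node 6 [⟨22,(Int.negSucc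 0),1⟩] .nil .nil) .nil) (.node 50 [⟨11,(Int.negSucc 0),1⟩] .nil .nil))) (.node 69 [⟨21,(Int.ofNat 1),1⟩] (.node 64 [⟨18,(Int.negSucc 0),1⟩] (.node 62 [⟨17,(Int.negSucc 0),1⟩] (.node 60 [⟨15,(Int.ofNat 1),1⟩] .nil .nil) .nil) (.node 66 [⟨20,(Int.ofNat 1),1⟩] .nil .nil)) (.node 81 [⟨31,(Int.negSucc 0),1⟩] (.node 80 [⟨28,(Int.ofNat 1),1⟩] (.node 71 [⟨23,(Int.ofNat 1),1⟩] .nil .nil) .nil) (.node 83 [⟨33,(Int.ofNat 1),1⟩] .nil .nil)))) (.node 117 [⟨0,(Int.negSucc 0),1⟩, ⟨1,(Int.negSucc 0),1⟩, ⟨2,(Int.negSucc 1),1⟩, ⟨3,(Int.negSucc 1),1⟩, ⟨4,(Int.negSucc 0),1⟩, ⟨5,(Int.negSucc 0),1⟩, ⟨6,(Int.ofNat 0),1⟩, ⟨22,(Int.negSucc 0),2⟩] (.node 104 [⟨49,(Int.negSucc 0),1⟩] (.node 101 [⟨44,(Int.negSucc 0),1⟩] (.node 95 [⟨38,(Int.ofNat 1),1⟩] (.node 92 [⟨37,(Int.negSucc 0),1⟩] .nil .nil) .nil) (.node 102 [⟨47,(Int.ofNat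 1),1⟩] .nil .nil)) (.node 111 [⟨59,(Int.negSucc 0),1⟩] (.node 108 [⟨58,(Int.ofNat 1),1⟩] (.node 106 [⟨56,(Int.negSucc 0),1⟩] .nil .nil) .nil) (.node 116 [⟨68,(Int.negSucc 0),1⟩] .nil .nil))) (.node 124 [⟨79,(Int.negSucc 0),1⟩] (.node 121 [⟨75,(Int.ofNat 1),1⟩] (.node 119 [⟨73,(Int.negSucc 0),1⟩] (.node 118 [⟨70,(Int.negSucc 0),1⟩] .nil .nil) .nil) (.node 122 [⟨77,(Int.ofNat 1),1⟩] .nil .nil)) (.node 131 [⟨98,(Int.ofNat 1),1⟩] (.node 128 [⟨89,(Int.ofNat 1),1⟩] (.node 126 [⟨87,(Int.negSucc 0),1⟩] .nil .nil) .nil) (.node 132 [⟨114,(Int.negSucc 0),1⟩] .nil .nil)))))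
noncomputable def col16 : Tr Cl := (.node 90 [⟨36,(Int.ofNat 1),1⟩] (.node 51 [⟨13,(Int.negSucc 0),1⟩] (.node 5 [⟨23,(Int.negSucc 0),1⟩] (.node 2 [⟨23,(Int.ofNat 1),1⟩] (.node 1 [⟨23,(Int.ofNat 0),1⟩] (.node 0 [⟨23,(Int.ofNat 0),1⟩] .nil .nil) .nil) (.node 4 [⟨23,(Int.ofNat 0),1⟩] (.node 3 [⟨23,(Int.ofNat 0),1⟩] .nil .nil) .nil)) (.node 40 [⟨8,(Int.ofNat 1),1⟩] (.node 24 [⟨7,(Int.negSucc 0),1⟩] (.node 6 [⟨23,(Int.ofNat 0),1⟩] .nil .nil) .nil) (.node 50 [⟨12,(Int.negSucc 0),1⟩] .nil .nil))) (.node 67 [⟨21,(Int.ofNat 1),1⟩] (.node 64 [⟨19,(Int.negSucc 0),1⟩] (.node 61 [⟨17,(Int.ofNat 1),1⟩] (.node 60 [⟨16,(Int.ofNat 1),1⟩] .nil .nil) .nil) (.node 65 [⟨20,(Int.negSucc 0),1⟩] .nil .nil)) (.node 81 [⟨32,(Int.negSucc 0),1⟩] (.node 80 [⟨29,(Int.ofNat 1),1⟩] (.node 68 [⟨22,(Int.ofNat 1),1⟩] .nil .nil)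 .nil) (.node 82 [⟨33,(Int.ofNat 1),1⟩] .nil .nil)))) (.node 117 [⟨71,(Int.negSucc 0),1⟩] (.node 103 [⟨49,(Int.negSucc 0),1⟩] (.node 101 [⟨45,(Int.negSucc 0),1⟩] (.node 94 [⟨38,(Int.ofNat 1),1⟩] (.node 91 [⟨37,(Int.negSucc 0),1⟩] .nil .nil) .nil) (.node 102 [⟨48,(Int.ofNat 1),1⟩] .nil .nil)) (.node 110 [⟨59,(Int.negSucc 0),1⟩] (.node 107 [⟨58,(Int.ofNat 1),1⟩] (.node 106 [⟨57,(Int.negSucc 0),1⟩] .nil .nil) .nil) (.node 116 [⟨0,(Int.negSucc 0),1⟩, ⟨1,(Int.negSucc 0),1⟩, ⟨2,(Int.negSucc 1),1⟩, ⟨3,(Int.negSucc 1),1⟩, ⟨4,(Int.negSucc 0),1⟩, ⟨5,(Int.ofNat 0),1⟩, ⟨6,(Int.ofNat 0),1⟩, ⟨23,(Int.negSucc 0),2⟩] .nil .nil))) (.node 123 [⟨79,(Int.negSucc 0),1⟩] (.node 120 [⟨75,(Int.ofNat 1),1⟩] (.node 119 [⟨74,(Int.ofNat 1),1⟩] (.node 118 [⟨72,(Int.negSucc 0),1⟩] .nil .nil) .nil) (.node 122 [⟨78,(Int.negSucc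 0),1⟩] .nil .nil)) (.node 131 [⟨99,(Int.negSucc 0),1⟩] (.node 127 [⟨89,(Int.ofNat 1),1⟩] (.node 126 [⟨88,(Int.ofNat 1),1⟩] .nil .nil) .nil) (.node 132 [⟨115,(Int.ofNat 1),1⟩] .nil .nil)))))
noncomputable def col17 : Tr Cl := (.node 88 [⟨34,(Int.ofNat 1),1⟩] (.node 49 [⟨11,(Int.ofNat 1),1⟩] (.node 5 [⟨24,(Int.ofNat 1),1⟩] (.node 2 [⟨24,(Int.negSucc 0),1⟩] (.node 1 [⟨24,(Int.ofNat 0),1⟩] (.node 0 [⟨24,(Int.ofNat 1),1⟩] .nil .nil) .nil) (.node 4 [⟨24,(Int.ofNat 0),1⟩] (.node 3 [⟨24,(Int.ofNat 0),1⟩] .nil .nil) .nil)) (.node 45 [⟨9,(Int.ofNat 1),1⟩] (.node 23 [⟨7,(Int.ofNat 1),1⟩] (.node 6 [⟨24,(Int.ofNat 0),1⟩] .nil .nil) .nil) (.node 48 [⟨10,(Int.ofNat 1),1⟩] .nil .nil))) (.node 72 [⟨26,(Int.negSucc 0),1⟩] (.node 59 [⟨18,(Int.ofNat 1),1⟩] (.node 58 [⟨15,(Int.ofNat 1),1⟩] (.node 57 [⟨14,(Int.ofNat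 1),1⟩] .nil .nil) .nil) (.node 71 [⟨25,(Int.ofNat 1),1⟩] .nil .nil)) (.node 78 [⟨30,(Int.ofNat 1),1⟩] (.node 75 [⟨28,(Int.negSucc 0),1⟩] (.node 74 [⟨27,(Int.ofNat 1),1⟩] .nil .nil) .nil) (.node 79 [⟨31,(Int.negSucc 0),1⟩] .nil .nil)))) (.node 113 [⟨67,(Int.ofNat 1),1⟩] (.node 105 [⟨51,(Int.negSucc 0),1⟩] (.node 100 [⟨40,(Int.negSucc 0),1⟩] (.node 99 [⟨39,(Int.ofNat 1),1⟩] (.node 89 [⟨35,(Int.negSucc 0),1⟩] .nil .nil) .nil) (.node 104 [⟨50,(Int.ofNat 1),1⟩] .nil .nil)) (.node 111 [⟨64,(Int.ofNat 1),1⟩] (.node 109 [⟨61,(Int.negSucc 0),1⟩] (.node 108 [⟨60,(Int.ofNat 1),1⟩] .nil .nil) .nil) (.node 112 [⟨65,(Int.negSucc 0),1⟩] .nil .nil))) (.node 125 [⟨82,(Int.negSucc 0),1⟩] (.node 121 [⟨80,(Int.negSucc 0),1⟩] (.node 115 [⟨0,(Int.negSucc 0),1⟩, ⟨1,(Int.negSucc 0),1⟩, ⟨2,(Int.negSucc 0),1⟩, ⟨3,(Int.negSucc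 1),1⟩, ⟨4,(Int.negSucc 1),1⟩, ⟨5,(Int.negSucc 1),1⟩, ⟨6,(Int.negSucc 0),1⟩, ⟨24,(Int.negSucc 0),2⟩] (.node 114 [⟨68,(Int.negSucc 0),1⟩] .nil .nil) .nil) (.node 124 [⟨81,(Int.negSucc 0),1⟩] .nil .nil)) (.node 130 [⟨94,(Int.negSucc 0),1⟩] (.node 129 [⟨91,(Int.negSucc 0),1⟩] (.node 128 [⟨90,(Int.negSucc 0),1⟩] .nil .nil) .nil) (.node 132 [⟨116,(Int.negSucc 0),1⟩] .nil .nil)))))
noncomputable def col18 : Tr Cl := (.node 87 [⟨34,(Int.ofNat 1),1⟩] (.node 49 [⟨12,(Int.ofNat 1),1⟩] (.node 5 [⟨25,(Int.negSucc 0),1⟩] (.node 2 [⟨25,(Int.negSucc 0),1⟩] (.node 1 [⟨25,(Int.ofNat 0),1⟩] (.node 0 [⟨25,(Int.ofNat 1),1⟩] .nil .nil) .nil) (.node 4 [⟨25,(Int.ofNat 1),1⟩] (.node 3 [⟨25,(Int.ofNat 0),1⟩] .nil .nil) .nil)) (.node 44 [⟨9,(Int.negSucc 0),1⟩] (.node 22 [⟨7,(Int.negSucc 0),1⟩] (.node 6 [⟨25,(Int.ofNat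 1),1⟩] .nil .nil) .nil) (.node 47 [⟨10,(Int.negSucc 0),1⟩] .nil .nil))) (.node 70 [⟨26,(Int.ofNat 1),1⟩] (.node 59 [⟨19,(Int.ofNat 1),1⟩] (.node 58 [⟨16,(Int.ofNat 1),1⟩] (.node 56 [⟨14,(Int.negSucc 0),1⟩] .nil .nil) .nil) (.node 68 [⟨24,(Int.ofNat 1),1⟩] .nil .nil)) (.node 77 [⟨30,(Int.ofNat 1),1⟩] (.node 75 [⟨29,(Int.negSucc 0),1⟩] (.node 73 [⟨27,(Int.ofNat 1),1⟩] .nil .nil) .nil) (.node 79 [⟨32,(Int.negSucc 0),1⟩] .nil .nil)))) (.node 113 [⟨69,(Int.negSucc 0),1⟩] (.node 105 [⟨52,(Int.negSucc 0),1⟩] (.node 100 [⟨41,(Int.negSucc 0),1⟩] (.node 98 [⟨39,(Int.ofNat 1),1⟩] (.node 89 [⟨36,(Int.negSucc 0),1⟩] .nil .nil) .nil) (.node 103 [⟨50,(Int.ofNat 1),1⟩] .nil .nil)) (.node 110 [⟨64,(Int.ofNat 1),1⟩] (.node 109 [⟨62,(Int.negSucc 0),1⟩] (.node 107 [⟨60,(Int.ofNat 1),1⟩] .nil .nil) .nil) (.node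 112 [⟨66,(Int.negSucc 0),1⟩] .nil .nil))) (.node 125 [⟨83,(Int.ofNat 1),1⟩] (.node 120 [⟨80,(Int.negSucc 0),1⟩] (.node 115 [⟨71,(Int.negSucc 0),1⟩] (.node 114 [⟨0,(Int.negSucc 0),1⟩, ⟨1,(Int.negSucc 0),1⟩, ⟨2,(Int.negSucc 0),1⟩, ⟨3,(Int.negSucc 1),1⟩, ⟨4,(Int.negSucc 1),1⟩, ⟨5,(Int.negSucc 0),1⟩, ⟨6,(Int.negSucc 0),1⟩, ⟨25,(Int.negSucc 0),2⟩] .nil .nil) .nil) (.node 123 [⟨81,(Int.negSucc 0),1⟩] .nil .nil)) (.node 130 [⟨95,(Int.ofNat 1),1⟩] (.node 129 [⟨92,(Int.ofNat 1),1⟩] (.node 127 [⟨90,(Int.negSucc 0),1⟩] .nil .nil) .nil) (.node 132 [⟨117,(Int.ofNat 1),1⟩] .nil .nil)))))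
noncomputable def col19 : Tr Cl := (.node 87 [⟨35,(Int.ofNat 1),1⟩] (.node 49 [⟨13,(Int.ofNat 1),1⟩] (.node 5 [⟨26,(Int.ofNat 0),1⟩] (.node 2 [⟨26,(Int.negSucc 0),1⟩] (.node 1 [⟨26,(Int.ofNat 0),1⟩] (.node 0 [⟨26,(Int.ofNat 1),1⟩] .nil .nil) .nil) (.node 4 [⟨26,(Int.ofNat 1),1⟩] (.node 3 [⟨26,(Int.ofNat 0),1⟩] .nil .nil) .nil)) (.node 43 [⟨9,(Int.ofNat 1),1⟩] (.node 21 [⟨7,(Int.ofNat 1),1⟩] (.node 6 [⟨26,(Int.negSucc 0),1⟩] .nil .nil) .nil) (.node 46 [⟨10,(Int.ofNat 1),1⟩] .nil .nil))) (.node 69 [⟨25,(Int.ofNat 1),1⟩] (.node 59 [⟨20,(Int.ofNat 1),1⟩] (.node 58 [⟨17,(Int.ofNat 1),1⟩] (.node 55 [⟨14,(Int.ofNat 1),1⟩] .nil .nil) .nil) (.node 67 [⟨24,(Int.negSucc 0),1⟩] .nil .nil)) (.node 77 [⟨31,(Int.ofNat 1),1⟩] (.node 74 [⟨29,(Int.negSucc 0),1⟩] (.node 73 [⟨28,(Int.ofNat 1),1⟩] .nil .nil) .nil)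 (.node 78 [⟨32,(Int.negSucc 0),1⟩] .nil .nil)))) (.node 113 [⟨0,(Int.negSucc 0),1⟩, ⟨1,(Int.negSucc 0),1⟩, ⟨2,(Int.negSucc 0),1⟩, ⟨3,(Int.negSucc 1),1⟩, ⟨4,(Int.negSucc 1),1⟩, ⟨5,(Int.negSucc 0),1⟩, ⟨6,(Int.ofNat 0),1⟩, ⟨26,(Int.negSucc 0),2⟩] (.node 104 [⟨52,(Int.negSucc 0),1⟩] (.node 100 [⟨42,(Int.negSucc 0),1⟩] (.node 97 [⟨39,(Int.ofNat 1),1⟩] (.node 88 [⟨36,(Int.negSucc 0),1⟩] .nil .nil) .nil) (.node 103 [⟨51,(Int.ofNat 1),1⟩] .nil .nil)) (.node 110 [⟨65,(Int.ofNat 1),1⟩] (.node 108 [⟨62,(Int.negSucc 0),1⟩] (.node 107 [⟨61,(Int.ofNat 1),1⟩] .nil .nil) .nil) (.node 111 [⟨66,(Int.negSucc 0),1⟩] .nil .nil))) (.node 125 [⟨84,(Int.negSucc 0),1⟩] (.node 119 [⟨80,(Int.negSucc 0),1⟩] (.node 115 [⟨72,(Int.ofNat 1),1⟩] (.node 114 [⟨70,(Int.negSucc 0),1⟩] .nil .nil) .nil) (.node 122 [⟨81,(Int.negSucc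 0),1⟩] .nil .nil)) (.node 130 [⟨96,(Int.negSucc 0),1⟩] (.node 129 [⟨93,(Int.negSucc 0),1⟩] (.node 126 [⟨90,(Int.negSucc 0),1⟩] .nil .nil) .nil) (.node 132 [⟨118,(Int.negSucc 0),1⟩] .nil .nil)))))
noncomputable def col20 : Tr Cl := (.node 86 [⟨34,(Int.ofNat 1),1⟩] (.node 48 [⟨12,(Int.negSucc 0),1⟩] (.node 5 [⟨27,(Int.ofNat 0),1⟩] (.node 2 [⟨27,(Int.negSucc 0),1⟩] (.node 1 [⟨27,(Int.ofNat 0),1⟩] (.node 0 [⟨27,(Int.ofNat 1),1⟩] .nil .nil) .nil) (.node 4 [⟨27,(Int.negSucc 0),1⟩] (.node 3 [⟨27,(Int.ofNat 1),1⟩] .nil .nil) .nil)) (.node 42 [⟨9,(Int.ofNat 1),1⟩] (.node 20 [⟨7,(Int.ofNat 1),1⟩] (.node 6 [⟨27,(Int.ofNat 1),1⟩] .nil .nil) .nil) (.node 47 [⟨11,(Int.negSucc 0),1⟩] .nil .nil))) (.node 66 [⟨25,(Int.ofNat 1),1⟩] (.node 59 [⟨21,(Int.ofNat 1),1⟩] (.node 57 [⟨16,(Int.negSucc 0),1⟩] (.node 56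 [⟨15,(Int.negSucc 0),1⟩] .nil .nil) .nil) (.node 65 [⟨24,(Int.ofNat 1),1⟩] .nil .nil)) (.node 76 [⟨30,(Int.ofNat 1),1⟩] (.node 72 [⟨29,(Int.ofNat 1),1⟩] (.node 70 [⟨28,(Int.ofNat 1),1⟩] .nil .nil) .nil) (.node 79 [⟨33,(Int.negSucc 0),1⟩] .nil .nil)))) (.node 112 [⟨0,(Int.negSucc 0),1⟩, ⟨1,(Int.negSucc 0),1⟩, ⟨2,(Int.negSucc 0),1⟩, ⟨3,(Int.negSucc 1),1⟩, ⟨4,(Int.negSucc 0),1⟩, ⟨5,(Int.negSucc 0),1⟩, ⟨6,(Int.negSucc 0),1⟩, ⟨27,(Int.negSucc 0),2⟩] (.node 105 [⟨53,(Int.negSucc 0),1⟩] (.node 100 [⟨43,(Int.negSucc 0),1⟩] (.node 96 [⟨39,(Int.ofNat 1),1⟩] (.node 89 [⟨37,(Int.negSucc 0),1⟩] .nil .nil) .nil) (.node 102 [⟨50,(Int.ofNat 1),1⟩] .nil .nil)) (.node 110 [⟨67,(Int.negSucc 0),1⟩] (.node 109 [⟨63,(Int.negSucc 0),1⟩] (.node 106 [⟨60,(Int.ofNat 1),1⟩] .nil .nil) .nil) (.node 111 [⟨69,(Int.negSucc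 0),1⟩] .nil .nil))) (.node 124 [⟨83,(Int.ofNat 1),1⟩] (.node 118 [⟨80,(Int.negSucc 0),1⟩] (.node 115 [⟨74,(Int.negSucc 0),1⟩] (.node 114 [⟨73,(Int.negSucc 0),1⟩] .nil .nil) .nil) (.node 123 [⟨82,(Int.ofNat 1),1⟩] .nil .nil)) (.node 130 [⟨97,(Int.negSucc 0),1⟩] (.node 128 [⟨92,(Int.ofNat 1),1⟩] (.node 127 [⟨91,(Int.ofNat 1),1⟩] .nil .nil) .nil) (.node 132 [⟨119,(Int.negSucc 0),1⟩] .nil .nil)))))
noncomputable def col21 : Tr Cl := (.node 86 [⟨35,(Int.ofNat 1),1⟩] (.node 48 [⟨13,(Int.negSucc 0),1⟩] (.node 5 [⟨28,(Int.ofNat 1),1⟩] (.node 2 [⟨28,(Int.negSucc 0),1⟩] (.node 1 [⟨28,(Int.ofNat 0),1⟩] (.node 0 [⟨28,(Int.ofNat 1),1⟩] .nil .nil) .nil) (.node 4 [⟨28,(Int.negSucc 0),1⟩] (.node 3 [⟨28,(Int.ofNat 1),1⟩] .nil .nil) .nil)) (.node 41 [⟨9,(Int.negSucc 0),1⟩] (.node 19 [⟨7,(Int.negSucc 0),1⟩] (.node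 6 [⟨28,(Int.negSucc 0),1⟩] .nil .nil) .nil) (.node 46 [⟨11,(Int.ofNat 1),1⟩] .nil .nil))) (.node 66 [⟨26,(Int.ofNat 1),1⟩] (.node 59 [⟨22,(Int.ofNat 1),1⟩] (.node 57 [⟨17,(Int.negSucc 0),1⟩] (.node 55 [⟨15,(Int.ofNat 1),1⟩] .nil .nil) .nil) (.node 64 [⟨24,(Int.negSucc 0),1⟩] .nil .nil)) (.node 76 [⟨31,(Int.ofNat 1),1⟩] (.node 71 [⟨29,(Int.ofNat 1),1⟩] (.node 69 [⟨27,(Int.ofNat 1),1⟩] .nil .nil) .nil) (.node 78 [⟨33,(Int.negSucc 0),1⟩] .nil .nil)))) (.node 112 [⟨70,(Int.negSucc 0),1⟩] (.node 104 [⟨53,(Int.negSucc 0),1⟩] (.node 100 [⟨44,(Int.negSucc 0),1⟩] (.node 95 [⟨39,(Int.ofNat 1),1⟩] (.node 88 [⟨37,(Int.negSucc 0),1⟩] .nil .nil) .nil) (.node 102 [⟨51,(Int.ofNat 1),1⟩] .nil .nil)) (.node 110 [⟨68,(Int.negSucc 0),1⟩] (.node 108 [⟨63,(Int.negSucc 0),1⟩] (.node 106 [⟨61,(Int.ofNat 1),1⟩] .nil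 .nil) .nil) (.node 111 [⟨0,(Int.negSucc 0),1⟩, ⟨1,(Int.negSucc 0),1⟩, ⟨2,(Int.negSucc 0),1⟩, ⟨3,(Int.negSucc 1),1⟩, ⟨4,(Int.negSucc 0),1⟩, ⟨5,(Int.negSucc 0),1⟩, ⟨6,(Int.ofNat 0),1⟩, ⟨28,(Int.negSucc 0),2⟩] .nil .nil))) (.node 124 [⟨84,(Int.negSucc 0),1⟩] (.node 117 [⟨80,(Int.negSucc 0),1⟩] (.node 115 [⟨75,(Int.ofNat 1),1⟩] (.node 113 [⟨73,(Int.negSucc 0),1⟩] .nil .nil) .nil) (.node 122 [⟨82,(Int.ofNat 1),1⟩] .nil .nil)) (.node 130 [⟨98,(Int.ofNat 1),1⟩] (.node 128 [⟨93,(Int.negSucc 0),1⟩] (.node 126 [⟨91,(Int.ofNat 1),1⟩] .nil .nil) .nil) (.node 132 [⟨120,(Int.ofNat 1),1⟩] .nil .nil)))))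
noncomputable def col22 : Tr Cl := (.node 86 [⟨36,(Int.ofNat 1),1⟩] (.node 47 [⟨13,(Int.ofNat 1),1⟩] (.node 5 [⟨29,(Int.negSucc 0),1⟩] (.node 2 [⟨29,(Int.negSucc 0),1⟩] (.node 1 [⟨29,(Int.ofNat 0),1⟩] (.node 0 [⟨29,(Int.ofNat 1),1⟩] .nil .nil) .nil) (.node 4 [⟨29,(Int.ofNat 0),1⟩] (.node 3 [⟨29,(Int.ofNat 1),1⟩] .nil .nil) .nil)) (.node 40 [⟨9,(Int.ofNat 1),1⟩] (.node 18 [⟨7,(Int.ofNat 1),1⟩] (.node 6 [⟨29,(Int.ofNat 0),1⟩] .nil .nil) .nil) (.node 46 [⟨12,(Int.ofNat 1),1⟩] .nil .nil))) (.node 65 [⟨26,(Int.negSucc 0),1⟩] (.node 59 [⟨23,(Int.ofNat 1),1⟩] (.node 56 [⟨17,(Int.ofNat 1),1⟩] (.node 55 [⟨16,(Int.ofNat 1),1⟩] .nil .nil) .nil) (.node 64 [⟨25,(Int.negSucc 0),1⟩] .nil .nil)) (.node 76 [⟨32,(Int.ofNat 1),1⟩] (.node 68 [⟨28,(Int.ofNat 1),1⟩] (.node 67 [⟨27,(Int.ofNat 1),1⟩] .nil .nil) .nil)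 (.node 77 [⟨33,(Int.negSucc 0),1⟩] .nil .nil)))) (.node 112 [⟨72,(Int.negSucc 0),1⟩] (.node 103 [⟨53,(Int.negSucc 0),1⟩] (.node 100 [⟨45,(Int.negSucc 0),1⟩] (.node 94 [⟨39,(Int.ofNat 1),1⟩] (.node 87 [⟨37,(Int.negSucc 0),1⟩] .nil .nil) .nil) (.node 102 [⟨52,(Int.ofNat 1),1⟩] .nil .nil)) (.node 110 [⟨0,(Int.negSucc 0),1⟩, ⟨1,(Int.negSucc 0),1⟩, ⟨2,(Int.negSucc 0),1⟩, ⟨3,(Int.negSucc 1),1⟩, ⟨4,(Int.negSucc 0),1⟩, ⟨5,(Int.ofNat 0),1⟩, ⟨6,(Int.ofNat 0),1⟩, ⟨29,(Int.negSucc 0),2⟩] (.node 107 [⟨63,(Int.negSucc 0),1⟩] (.node 106 [⟨62,(Int.ofNat 1),1⟩] .nil .nil) .nil) (.node 111 [⟨71,(Int.negSucc 0),1⟩] .nil .nil))) (.node 123 [⟨84,(Int.negSucc 0),1⟩] (.node 116 [⟨80,(Int.negSucc 0),1⟩] (.node 114 [⟨75,(Int.ofNat 1),1⟩] (.node 113 [⟨74,(Int.ofNat 1),1⟩] .nil .nil) .nil) (.node 122 [⟨83,(Int.negSucc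 0),1⟩] .nil .nil)) (.node 130 [⟨99,(Int.negSucc 0),1⟩] (.node 127 [⟨93,(Int.negSucc 0),1⟩] (.node 126 [⟨92,(Int.negSucc 0),1⟩] .nil .nil) .nil) (.node 132 [⟨121,(Int.negSucc 0),1⟩] .nil .nil)))))
noncomputable def col23 : Tr Cl := (.node 85 [⟨34,(Int.ofNat 1),1⟩] (.node 45 [⟨12,(Int.ofNat 1),1⟩] (.node 5 [⟨30,(Int.ofNat 0),1⟩] (.node 2 [⟨30,(Int.ofNat 0),1⟩] (.node 1 [⟨30,(Int.ofNat 1),1⟩] (.node 0 [⟨30,(Int.ofNat 1),1⟩] .nil .nil) .nil) (.node 4 [⟨30,(Int.ofNat 0),1⟩] (.node 3 [⟨30,(Int.negSucc 0),1⟩] .nil .nil) .nil)) (.node 42 [⟨10,(Int.ofNat 1),1⟩] (.node 17 [⟨7,(Int.negSucc 0),1⟩] (.node 6 [⟨30,(Int.ofNat 1),1⟩] .nil .nil) .nil) (.node 44 [⟨11,(Int.ofNat 1),1⟩] .nil .nil))) (.node 62 [⟨25,(Int.ofNat 1),1⟩] (.node 58 [⟨21,(Int.negSucc 0),1⟩] (.node 57 [⟨19,(Int.negSucc 0),1⟩] (.node 56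 [⟨18,(Int.negSucc 0),1⟩] .nil .nil) .nil) (.node 61 [⟨24,(Int.ofNat 1),1⟩] .nil .nil)) (.node 72 [⟨32,(Int.ofNat 1),1⟩] (.node 70 [⟨31,(Int.ofNat 1),1⟩] (.node 63 [⟨27,(Int.ofNat 1),1⟩] .nil .nil) .nil) (.node 75 [⟨33,(Int.ofNat 1),1⟩] .nil .nil)))) (.node 112 [⟨76,(Int.negSucc 0),1⟩] (.node 105 [⟨54,(Int.negSucc 0),1⟩] (.node 100 [⟨46,(Int.negSucc 0),1⟩] (.node 93 [⟨39,(Int.ofNat 1),1⟩] (.node 89 [⟨38,(Int.negSucc 0),1⟩] .nil .nil) .nil) (.node 101 [⟨50,(Int.ofNat 1),1⟩] .nil .nil)) (.node 108 [⟨69,(Int.negSucc 0),1⟩] (.node 107 [⟨67,(Int.negSucc 0),1⟩] (.node 106 [⟨64,(Int.negSucc 0),1⟩] .nil .nil) .nil) (.node 109 [⟨0,(Int.negSucc 0),1⟩, ⟨1,(Int.negSucc 0),1⟩, ⟨2,(Int.negSucc 0),1⟩, ⟨3,(Int.negSucc 0),1⟩, ⟨4,(Int.negSucc 0),1⟩, ⟨5,(Int.negSucc 0),1⟩, ⟨6,(Int.negSucc 0),1⟩, ⟨30,(Int.negSucc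 0),2⟩] .nil .nil))) (.node 121 [⟨83,(Int.ofNat 1),1⟩] (.node 118 [⟨81,(Int.ofNat 1),1⟩] (.node 115 [⟨78,(Int.negSucc 0),1⟩] (.node 114 [⟨77,(Int.negSucc 0),1⟩] .nil .nil) .nil) (.node 120 [⟨82,(Int.ofNat 1),1⟩] .nil .nil)) (.node 129 [⟨97,(Int.negSucc 0),1⟩] (.node 128 [⟨95,(Int.negSucc 0),1⟩] (.node 127 [⟨94,(Int.negSucc 0),1⟩] .nil .nil) .nil) (.node 132 [⟨122,(Int.ofNat 1),1⟩] .nil .nil)))))
noncomputable def col24 : Tr Cl := (.node 85 [⟨35,(Int.ofNat 1),1⟩] (.node 45 [⟨13,(Int.ofNat 1),1⟩] (.node 5 [⟨31,(Int.ofNat 1),1⟩] (.node 2 [⟨31,(Int.ofNat 0),1⟩] (.node 1 [⟨31,(Int.ofNat 1),1⟩] (.node 0 [⟨31,(Int.ofNat 1),1⟩] .nil .nil) .nil) (.node 4 [⟨31,(Int.ofNat 0),1⟩] (.node 3 [⟨31,(Int.negSucc 0),1⟩] .nil .nil) .nil)) (.node 41 [⟨10,(Int.negSucc 0),1⟩] (.node 16 [⟨7,(Int.ofNat 1),1⟩] (.node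 6 [⟨31,(Int.negSucc 0),1⟩] .nil .nil) .nil) (.node 43 [⟨11,(Int.negSucc 0),1⟩] .nil .nil))) (.node 62 [⟨26,(Int.ofNat 1),1⟩] (.node 58 [⟨22,(Int.negSucc 0),1⟩] (.node 57 [⟨20,(Int.negSucc 0),1⟩] (.node 55 [⟨18,(Int.ofNat 1),1⟩] .nil .nil) .nil) (.node 60 [⟨24,(Int.negSucc 0),1⟩] .nil .nil)) (.node 71 [⟨32,(Int.ofNat 1),1⟩] (.node 69 [⟨30,(Int.ofNat 1),1⟩] (.node 63 [⟨28,(Int.ofNat 1),1⟩] .nil .nil) .nil) (.node 74 [⟨33,(Int.ofNat 1),1⟩] .nil .nil)))) (.node 111 [⟨76,(Int.negSucc 0),1⟩] (.node 104 [⟨54,(Int.negSucc 0),1⟩] (.node 100 [⟨47,(Int.negSucc 0),1⟩] (.node 92 [⟨39,(Int.ofNat 1),1⟩] (.node 88 [⟨38,(Int.negSucc 0),1⟩] .nil .nil) .nil) (.node 101 [⟨51,(Int.ofNat 1),1⟩] .nil .nil)) (.node 108 [⟨0,(Int.negSucc 0),1⟩, ⟨1,(Int.negSucc 0),1⟩, ⟨2,(Int.negSucc 0),1⟩, ⟨3,(Int.negSucc 0),1⟩, ⟨4,(Int.negSucc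 0),1⟩, ⟨5,(Int.negSucc 0),1⟩, ⟨6,(Int.ofNat 0),1⟩, ⟨31,(Int.negSucc 0),2⟩] (.node 107 [⟨68,(Int.negSucc 0),1⟩] (.node 106 [⟨65,(Int.negSucc 0),1⟩] .nil .nil) .nil) (.node 109 [⟨70,(Int.negSucc 0),1⟩] .nil .nil))) (.node 121 [⟨84,(Int.negSucc 0),1⟩] (.node 117 [⟨81,(Int.ofNat 1),1⟩] (.node 115 [⟨79,(Int.ofNat 1),1⟩] (.node 113 [⟨77,(Int.negSucc 0),1⟩] .nil .nil) .nil) (.node 119 [⟨82,(Int.ofNat 1),1⟩] .nil .nil)) (.node 129 [⟨98,(Int.ofNat 1),1⟩] (.node 128 [⟨96,(Int.ofNat 1),1⟩] (.node 126 [⟨94,(Int.negSucc 0),1⟩] .nil .nil) .nil) (.node 132 [⟨123,(Int.negSucc 0),1⟩] .nil .nil)))))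
noncomputable def col25 : Tr Cl := (.node 85 [⟨36,(Int.ofNat 1),1⟩] (.node 44 [⟨13,(Int.negSucc 0),1⟩] (.node 5 [⟨32,(Int.negSucc 0),1⟩] (.node 2 [⟨32,(Int.ofNat 0),1⟩] (.node 1 [⟨32,(Int.ofNat 1),1⟩] (.node 0 [⟨32,(Int.ofNat 1),1⟩] .nil .nil) .nil) (.node 4 [⟨32,(Int.ofNat 1),1⟩] (.node 3 [⟨32,(Int.negSucc 0),1⟩] .nil .nil) .nil)) (.node 40 [⟨10,(Int.ofNat 1),1⟩] (.node 15 [⟨7,(Int.negSucc 0),1⟩] (.node 6 [⟨32,(Int.ofNat 0),1⟩] .nil .nil) .nil) (.node 43 [⟨12,(Int.negSucc 0),1⟩] .nil .nil))) (.node 61 [⟨26,(Int.negSucc 0),1⟩] (.node 58 [⟨23,(Int.negSucc 0),1⟩] (.node 56 [⟨20,(Int.ofNat 1),1⟩] (.node 55 [⟨19,(Int.ofNat 1),1⟩] .nil .nil) .nil) (.node 60 [⟨25,(Int.negSucc 0),1⟩] .nil .nil)) (.node 68 [⟨31,(Int.ofNat 1),1⟩] (.node 67 [⟨30,(Int.ofNat 1),1⟩] (.node 63 [⟨29,(Int.ofNat 1),1⟩] .nil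 .nil) .nil) (.node 73 [⟨33,(Int.ofNat 1),1⟩] .nil .nil)))) (.node 110 [⟨76,(Int.negSucc 0),1⟩] (.node 103 [⟨54,(Int.negSucc 0),1⟩] (.node 100 [⟨48,(Int.negSucc 0),1⟩] (.node 91 [⟨39,(Int.ofNat 1),1⟩] (.node 87 [⟨38,(Int.negSucc 0),1⟩] .nil .nil) .nil) (.node 101 [⟨52,(Int.ofNat 1),1⟩] .nil .nil)) (.node 108 [⟨71,(Int.negSucc 0),1⟩] (.node 107 [⟨0,(Int.negSucc 0),1⟩, ⟨1,(Int.negSucc 0),1⟩, ⟨2,(Int.negSucc 0),1⟩, ⟨3,(Int.negSucc 0),1⟩, ⟨4,(Int.negSucc 0),1⟩, ⟨5,(Int.ofNat 0),1⟩, ⟨6,(Int.ofNat 0),1⟩, ⟨32,(Int.negSucc 0),2⟩] (.node 106 [⟨66,(Int.negSucc 0),1⟩] .nil .nil) .nil) (.node 109 [⟨72,(Int.negSucc 0),1⟩] .nil .nil))) (.node 120 [⟨84,(Int.negSucc 0),1⟩] (.node 116 [⟨81,(Int.ofNat 1),1⟩] (.node 114 [⟨79,(Int.ofNat 1),1⟩] (.node 113 [⟨78,(Int.ofNat 1),1⟩] .nil .nil) .nil) (.node 119 [⟨83,(Int.negSucc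 0),1⟩] .nil .nil)) (.node 129 [⟨99,(Int.negSucc 0),1⟩] (.node 127 [⟨96,(Int.ofNat 1),1⟩] (.node 126 [⟨95,(Int.ofNat 1),1⟩] .nil .nil) .nil) (.node 132 [⟨124,(Int.ofNat 1),1⟩] .nil .nil)))))
noncomputable def col26 : Tr Cl := (.node 85 [⟨37,(Int.ofNat 1),1⟩] (.node 42 [⟨13,(Int.ofNat 1),1⟩] (.node 5 [⟨33,(Int.ofNat 0),1⟩] (.node 2 [⟨33,(Int.ofNat 0),1⟩] (.node 1 [⟨33,(Int.ofNat 1),1⟩] (.node 0 [⟨33,(Int.ofNat 1),1⟩] .nil .nil) .nil) (.node 4 [⟨33,(Int.negSucc 0),1⟩] (.node 3 [⟨33,(Int.ofNat 0),1⟩] .nil .nil) .nil)) (.node 40 [⟨11,(Int.ofNat 1),1⟩] (.node 14 [⟨7,(Int.ofNat 1),1⟩] (.node 6 [⟨33,(Int.ofNat 0),1⟩] .nil .nil) .nil) (.node 41 [⟨12,(Int.ofNat 1),1⟩] .nil .nil))) (.node 61 [⟨28,(Int.negSucc 0),1⟩] (.node 57 [⟨23,(Int.ofNat 1),1⟩] (.node 56 [⟨22,(Int.ofNat 1),1⟩] (.node 55 [⟨21,(Int.ofNat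 1),1⟩] .nil .nil) .nil) (.node 60 [⟨27,(Int.negSucc 0),1⟩] .nil .nil)) (.node 65 [⟨31,(Int.ofNat 1),1⟩] (.node 64 [⟨30,(Int.ofNat 1),1⟩] (.node 62 [⟨29,(Int.negSucc 0),1⟩] .nil .nil) .nil) (.node 66 [⟨32,(Int.ofNat 1),1⟩] .nil .nil)))) (.node 110 [⟨77,(Int.ofNat 1),1⟩] (.node 102 [⟨54,(Int.negSucc 0),1⟩] (.node 100 [⟨49,(Int.negSucc 0),1⟩] (.node 90 [⟨39,(Int.ofNat 1),1⟩] (.node 86 [⟨38,(Int.negSucc 0),1⟩] .nil .nil) .nil) (.node 101 [⟨53,(Int.ofNat 1),1⟩] .nil .nil)) (.node 108 [⟨74,(Int.negSucc 0),1⟩] (.node 107 [⟨73,(Int.negSucc 0),1⟩] (.node 106 [⟨0,(Int.negSucc 0),1⟩, ⟨1,(Int.negSucc 0),1⟩, ⟨2,(Int.negSucc 0),1⟩, ⟨3,(Int.negSucc 0),1⟩, ⟨4,(Int.ofNat 0),1⟩, ⟨5,(Int.ofNat 0),1⟩, ⟨6,(Int.ofNat 0),1⟩, ⟨33,(Int.negSucc 0),2⟩] .nil .nil) .nil) (.node 109 [⟨75,(Int.negSucc 0),1⟩] .nil .nil)))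 (.node 118 [⟨84,(Int.negSucc 0),1⟩] (.node 116 [⟨82,(Int.negSucc 0),1⟩] (.node 112 [⟨79,(Int.ofNat 1),1⟩] (.node 111 [⟨78,(Int.ofNat 1),1⟩] .nil .nil) .nil) (.node 117 [⟨83,(Int.negSucc 0),1⟩] .nil .nil)) (.node 128 [⟨99,(Int.negSucc 0),1⟩] (.node 127 [⟨98,(Int.negSucc 0),1⟩] (.node 126 [⟨97,(Int.negSucc 0),1⟩] .nil .nil) .nil) (.node 132 [⟨125,(Int.negSucc 0),1⟩] .nil .nil)))))
noncomputable def col27 : Tr Cl := (.node 75 [⟨37,(Int.ofNat 1),1⟩] (.node 45 [⟨16,(Int.ofNat 1),1⟩] (.node 5 [⟨34,(Int.ofNat 0),1⟩] (.node 2 [⟨34,(Int.ofNat 0),1⟩] (.node 1 [⟨34,(Int.negSucc 0),1⟩] (.node 0 [⟨34,(Int.ofNat 1),1⟩] .nil .nil) .nil) (.node 4 [⟨34,(Int.ofNat 0),1⟩] (.node 3 [⟨34,(Int.ofNat 0),1⟩] .nil .nil) .nil)) (.node 42 [⟨14,(Int.ofNat 1),1⟩] (.node 13 [⟨7,(Int.ofNat 1),1⟩] (.node 6 [⟨34,(Int.ofNat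 1),1⟩] .nil .nil) .nil) (.node 44 [⟨15,(Int.ofNat 1),1⟩] .nil .nil))) (.node 52 [⟨25,(Int.ofNat 1),1⟩] (.node 49 [⟨21,(Int.ofNat 1),1⟩] (.node 48 [⟨19,(Int.ofNat 1),1⟩] (.node 47 [⟨18,(Int.ofNat 1),1⟩] .nil .nil) .nil) (.node 51 [⟨24,(Int.ofNat 1),1⟩] .nil .nil)) (.node 70 [⟨35,(Int.ofNat 1),1⟩] (.node 54 [⟨30,(Int.ofNat 1),1⟩] (.node 53 [⟨27,(Int.ofNat 1),1⟩] .nil .nil) .nil) (.node 72 [⟨36,(Int.ofNat 1),1⟩] .nil .nil)))) (.node 112 [⟨86,(Int.negSucc 0),1⟩] (.node 102 [⟨64,(Int.negSucc 0),1⟩] (.node 100 [⟨55,(Int.negSucc 0),1⟩] (.node 84 [⟨39,(Int.ofNat 1),1⟩] (.node 79 [⟨38,(Int.ofNat 1),1⟩] .nil .nil) .nil) (.node 101 [⟨60,(Int.negSucc 0),1⟩] .nil .nil)) (.node 105 [⟨0,(Int.negSucc 0),1⟩, ⟨1,(Int.ofNat 0),1⟩, ⟨2,(Int.negSucc 0),1⟩, ⟨3,(Int.negSucc 0),1⟩, ⟨4,(Int.negSucc 0),1⟩, ⟨5,(Int.negSucc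 0),1⟩, ⟨6,(Int.negSucc 0),1⟩, ⟨34,(Int.negSucc 0),2⟩] (.node 104 [⟨69,(Int.negSucc 0),1⟩] (.node 103 [⟨67,(Int.negSucc 0),1⟩] .nil .nil) .nil) (.node 109 [⟨85,(Int.negSucc 0),1⟩] .nil .nil))) (.node 121 [⟨92,(Int.negSucc 0),1⟩] (.node 118 [⟨90,(Int.negSucc 0),1⟩] (.node 115 [⟨88,(Int.negSucc 0),1⟩] (.node 114 [⟨87,(Int.negSucc 0),1⟩] .nil .nil) .nil) (.node 120 [⟨91,(Int.negSucc 0),1⟩] .nil .nil)) (.node 125 [⟨97,(Int.negSucc 0),1⟩] (.node 124 [⟨95,(Int.negSucc 0),1⟩] (.node 123 [⟨94,(Int.negSucc 0),1⟩] .nil .nil) .nil) (.node 132 [⟨126,(Int.negSucc 0),1⟩] .nil .nil)))))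
noncomputable def col28 : Tr Cl := (.node 74 [⟨37,(Int.ofNat 1),1⟩] (.node 45 [⟨17,(Int.ofNat 1),1⟩] (.node 5 [⟨35,(Int.ofNat 1),1⟩] (.node 2 [⟨35,(Int.ofNat 0),1⟩] (.node 1 [⟨35,(Int.negSucc 0),1⟩] (.node 0 [⟨35,(Int.ofNat 1),1⟩] .nil .nil) .nil) (.node 4 [⟨35,(Int.ofNat 0),1⟩] (.node 3 [⟨35,(Int.ofNat 0),1⟩] .nil .nil) .nil)) (.node 41 [⟨14,(Int.negSucc 0),1⟩] (.node 12 [⟨7,(Int.negSucc 0),1⟩] (.node 6 [⟨35,(Int.negSucc 0),1⟩] .nil .nil) .nil) (.node 43 [⟨15,(Int.negSucc 0),1⟩] .nil .nil))) (.node 52 [⟨26,(Int.ofNat 1),1⟩] (.node 49 [⟨22,(Int.ofNat 1),1⟩] (.node 48 [⟨20,(Int.ofNat 1),1⟩] (.node 46 [⟨18,(Int.negSucc 0),1⟩] .nil .nil) .nil) (.node 50 [⟨24,(Int.negSucc 0),1⟩] .nil .nil)) (.node 69 [⟨34,(Int.ofNat 1),1⟩] (.node 54 [⟨31,(Int.ofNat 1),1⟩] (.node 53 [⟨28,(Int.ofNat 1),1⟩] .nil .nil)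 .nil) (.node 71 [⟨36,(Int.ofNat 1),1⟩] .nil .nil)))) (.node 111 [⟨86,(Int.negSucc 0),1⟩] (.node 102 [⟨65,(Int.negSucc 0),1⟩] (.node 100 [⟨56,(Int.negSucc 0),1⟩] (.node 83 [⟨39,(Int.ofNat 1),1⟩] (.node 78 [⟨38,(Int.ofNat 1),1⟩] .nil .nil) .nil) (.node 101 [⟨61,(Int.negSucc 0),1⟩] .nil .nil)) (.node 105 [⟨70,(Int.negSucc 0),1⟩] (.node 104 [⟨0,(Int.negSucc 0),1⟩, ⟨1,(Int.ofNat 0),1⟩, ⟨2,(Int.negSucc 0),1⟩, ⟨3,(Int.negSucc 0),1⟩, ⟨4,(Int.negSucc 0),1⟩, ⟨5,(Int.negSucc 0),1⟩, ⟨6,(Int.ofNat 0),1⟩, ⟨35,(Int.negSucc 0),2⟩] (.node 103 [⟨68,(Int.negSucc 0),1⟩] .nil .nil) .nil) (.node 108 [⟨85,(Int.negSucc 0),1⟩] .nil .nil))) (.node 121 [⟨93,(Int.ofNat 1),1⟩] (.node 117 [⟨90,(Int.negSucc 0),1⟩] (.node 115 [⟨89,(Int.ofNat 1),1⟩] (.node 113 [⟨87,(Int.negSucc 0),1⟩] .nil .nil) .nil) (.node 119 [⟨91,(Int.negSucc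 0),1⟩] .nil .nil)) (.node 125 [⟨98,(Int.ofNat 1),1⟩] (.node 124 [⟨96,(Int.ofNat 1),1⟩] (.node 122 [⟨94,(Int.negSucc 0),1⟩] .nil .nil) .nil) (.node 132 [⟨127,(Int.ofNat 1),1⟩] .nil .nil)))))
noncomputable def col29 : Tr Cl := (.node 73 [⟨37,(Int.ofNat 1),1⟩] (.node 44 [⟨17,(Int.negSucc 0),1⟩] (.node 5 [⟨36,(Int.negSucc 0),1⟩] (.node 2 [⟨36,(Int.ofNat 0),1⟩] (.node 1 [⟨36,(Int.negSucc 0),1⟩] (.node 0 [⟨36,(Int.ofNat 1),1⟩] .nil .nil) .nil) (.node 4 [⟨36,(Int.ofNat 1),1⟩] (.node 3 [⟨36,(Int.ofNat 0),1⟩] .nil .nil) .nil)) (.node 40 [⟨14,(Int.ofNat 1),1⟩] (.node 11 [⟨7,(Int.ofNat 1),1⟩] (.node 6 [⟨36,(Int.ofNat 0),1⟩] .nil .nil) .nil) (.node 43 [⟨16,(Int.negSucc 0),1⟩] .nil .nil))) (.node 51 [⟨26,(Int.negSucc 0),1⟩] (.node 49 [⟨23,(Int.ofNat 1),1⟩] (.node 47 [⟨20,(Int.negSucc 0),1⟩] (.node 46 [⟨19,(Int.negSucc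 0),1⟩] .nil .nil) .nil) (.node 50 [⟨25,(Int.negSucc 0),1⟩] .nil .nil)) (.node 67 [⟨34,(Int.ofNat 1),1⟩] (.node 54 [⟨32,(Int.ofNat 1),1⟩] (.node 53 [⟨29,(Int.ofNat 1),1⟩] .nil .nil) .nil) (.node 68 [⟨35,(Int.ofNat 1),1⟩] .nil .nil)))) (.node 110 [⟨86,(Int.negSucc 0),1⟩] (.node 102 [⟨66,(Int.negSucc 0),1⟩] (.node 100 [⟨57,(Int.negSucc 0),1⟩] (.node 82 [⟨39,(Int.ofNat 1),1⟩] (.node 77 [⟨38,(Int.ofNat 1),1⟩] .nil .nil) .nil) (.node 101 [⟨62,(Int.negSucc 0),1⟩] .nil .nil)) (.node 105 [⟨72,(Int.negSucc 0),1⟩] (.node 104 [⟨71,(Int.negSucc 0),1⟩] (.node 103 [⟨0,(Int.negSucc 0),1⟩, ⟨1,(Int.ofNat 0),1⟩, ⟨2,(Int.negSucc 0),1⟩, ⟨3,(Int.negSucc 0),1⟩, ⟨4,(Int.negSucc 0),1⟩, ⟨5,(Int.ofNat 0),1⟩, ⟨6,(Int.ofNat 0),1⟩, ⟨36,(Int.negSucc 0),2⟩] .nil .nil) .nil) (.node 107 [⟨85,(Int.negSucc 0),1⟩] .nil .nil)))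 (.node 120 [⟨93,(Int.ofNat 1),1⟩] (.node 116 [⟨90,(Int.negSucc 0),1⟩] (.node 114 [⟨89,(Int.ofNat 1),1⟩] (.node 113 [⟨88,(Int.ofNat 1),1⟩] .nil .nil) .nil) (.node 119 [⟨92,(Int.ofNat 1),1⟩] .nil .nil)) (.node 125 [⟨99,(Int.negSucc 0),1⟩] (.node 123 [⟨96,(Int.ofNat 1),1⟩] (.node 122 [⟨95,(Int.ofNat 1),1⟩] .nil .nil) .nil) (.node 132 [⟨128,(Int.negSucc 0),1⟩] .nil .nil)))))
noncomputable def col30 : Tr Cl := (.node 66 [⟨36,(Int.ofNat 1),1⟩] (.node 42 [⟨17,(Int.ofNat 1),1⟩] (.node 5 [⟨37,(Int.ofNat 0),1⟩] (.node 2 [⟨37,(Int.ofNat 0),1⟩] (.node 1 [⟨37,(Int.negSucc 0),1⟩] (.node 0 [⟨37,(Int.ofNat 1),1⟩] .nil .nil) .nil) (.node 4 [⟨37,(Int.negSucc 0),1⟩] (.node 3 [⟨37,(Int.ofNat 1),1⟩] .nil .nil) .nil)) (.node 40 [⟨15,(Int.ofNat 1),1⟩] (.node 10 [⟨7,(Int.negSucc 0),1⟩] (.node 6 [⟨37,(Int.ofNat 0),1⟩]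 .nil .nil) .nil) (.node 41 [⟨16,(Int.ofNat 1),1⟩] .nil .nil))) (.node 51 [⟨28,(Int.negSucc 0),1⟩] (.node 48 [⟨23,(Int.negSucc 0),1⟩] (.node 47 [⟨22,(Int.negSucc 0),1⟩] (.node 46 [⟨21,(Int.negSucc 0),1⟩] .nil .nil) .nil) (.node 50 [⟨27,(Int.negSucc 0),1⟩] .nil .nil)) (.node 64 [⟨34,(Int.ofNat 1),1⟩] (.node 54 [⟨33,(Int.ofNat 1),1⟩] (.node 52 [⟨29,(Int.negSucc 0),1⟩] .nil .nil) .nil) (.node 65 [⟨35,(Int.ofNat 1),1⟩] .nil .nil)))) (.node 110 [⟨87,(Int.ofNat 1),1⟩] (.node 102 [⟨0,(Int.negSucc 0),1⟩, ⟨1,(Int.ofNat 0),1⟩, ⟨2,(Int.negSucc 0),1⟩, ⟨3,(Int.negSucc 0),1⟩, ⟨4,(Int.ofNat 0),1⟩, ⟨5,(Int.ofNat 0),1⟩, ⟨6,(Int.ofNat 0),1⟩, ⟨37,(Int.negSucc 0),2⟩] (.node 100 [⟨58,(Int.negSucc 0),1⟩] (.node 81 [⟨39,(Int.ofNat 1),1⟩] (.node 76 [⟨38,(Int.ofNat 1),1⟩] .nil .nil) .nil) (.node 101 [⟨63,(Int.negSucc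 0),1⟩] .nil .nil)) (.node 105 [⟨75,(Int.negSucc 0),1⟩] (.node 104 [⟨74,(Int.negSucc 0),1⟩] (.node 103 [⟨73,(Int.negSucc 0),1⟩] .nil .nil) .nil) (.node 106 [⟨85,(Int.negSucc 0),1⟩] .nil .nil))) (.node 118 [⟨93,(Int.ofNat 1),1⟩] (.node 116 [⟨91,(Int.ofNat 1),1⟩] (.node 112 [⟨89,(Int.ofNat 1),1⟩] (.node 111 [⟨88,(Int.ofNat 1),1⟩] .nil .nil) .nil) (.node 117 [⟨92,(Int.ofNat 1),1⟩] .nil .nil)) (.node 124 [⟨99,(Int.negSucc 0),1⟩] (.node 123 [⟨98,(Int.negSucc 0),1⟩] (.node 122 [⟨97,(Int.negSucc 0),1⟩] .nil .nil) .nil) (.node 132 [⟨129,(Int.ofNat 1),1⟩] .nil .nil)))))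
noncomputable def col31 : Tr Cl := (.node 62 [⟨36,(Int.ofNat 1),1⟩] (.node 42 [⟨20,(Int.ofNat 1),1⟩] (.node 5 [⟨38,(Int.ofNat 0),1⟩] (.node 2 [⟨38,(Int.ofNat 1),1⟩] (.node 1 [⟨38,(Int.ofNat 0),1⟩] (.node 0 [⟨38,(Int.ofNat 1),1⟩] .nil .nil) .nil) (.node 4 [⟨38,(Int.ofNat 0),1⟩] (.node 3 [⟨38,(Int.negSucc 0),1⟩] .nil .nil) .nil)) (.node 40 [⟨18,(Int.ofNat 1),1⟩] (.node 9 [⟨7,(Int.ofNat 1),1⟩] (.node 6 [⟨38,(Int.ofNat 0),1⟩] .nil .nil) .nil) (.node 41 [⟨19,(Int.ofNat 1),1⟩] .nil .nil))) (.node 51 [⟨31,(Int.negSucc 0),1⟩] (.node 45 [⟨23,(Int.ofNat 1),1⟩] (.node 44 [⟨22,(Int.ofNat 1),1⟩] (.node 43 [⟨21,(Int.ofNat 1),1⟩] .nil .nil) .nil) (.node 50 [⟨30,(Int.negSucc 0),1⟩] .nil .nil)) (.node 60 [⟨34,(Int.ofNat 1),1⟩] (.node 53 [⟨33,(Int.negSucc 0),1⟩] (.node 52 [⟨32,(Int.negSucc 0),1⟩] .nil .nil)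 .nil) (.node 61 [⟨35,(Int.ofNat 1),1⟩] .nil .nil)))) (.node 107 [⟨87,(Int.ofNat 1),1⟩] (.node 102 [⟨76,(Int.negSucc 0),1⟩] (.node 100 [⟨59,(Int.negSucc 0),1⟩] (.node 80 [⟨39,(Int.ofNat 1),1⟩] (.node 63 [⟨37,(Int.ofNat 1),1⟩] .nil .nil) .nil) (.node 101 [⟨0,(Int.negSucc 0),1⟩, ⟨1,(Int.ofNat 0),1⟩, ⟨2,(Int.negSucc 0),1⟩, ⟨3,(Int.ofNat 0),1⟩, ⟨4,(Int.ofNat 0),1⟩, ⟨5,(Int.ofNat 0),1⟩, ⟨6,(Int.ofNat 0),1⟩, ⟨38,(Int.negSucc 0),2⟩] .nil .nil)) (.node 105 [⟨79,(Int.negSucc 0),1⟩] (.node 104 [⟨78,(Int.negSucc 0),1⟩] (.node 103 [⟨77,(Int.negSucc 0),1⟩] .nil .nil) .nil) (.node 106 [⟨86,(Int.ofNat 1),1⟩] .nil .nil))) (.node 118 [⟨96,(Int.negSucc 0),1⟩] (.node 116 [⟨94,(Int.negSucc 0),1⟩] (.node 109 [⟨89,(Int.ofNat 1),1⟩] (.node 108 [⟨88,(Int.ofNat 1),1⟩] .nil .nil) .nil) (.node 117 [⟨95,(Int.negSucc 0),1⟩]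 .nil .nil)) (.node 121 [⟨99,(Int.negSucc 0),1⟩] (.node 120 [⟨98,(Int.negSucc 0),1⟩] (.node 119 [⟨97,(Int.negSucc 0),1⟩] .nil .nil) .nil) (.node 132 [⟨130,(Int.negSucc 0),1⟩] .nil .nil)))))
noncomputable def col32 : Tr Cl := (.node 57 [⟨36,(Int.ofNat 1),1⟩] (.node 42 [⟨26,(Int.ofNat 1),1⟩] (.node 5 [⟨39,(Int.ofNat 0),1⟩] (.node 2 [⟨39,(Int.negSucc 0),1⟩] (.node 1 [⟨39,(Int.ofNat 0),1⟩] (.node 0 [⟨39,(Int.ofNat 2),1⟩] .nil .nil) .nil) (.node 4 [⟨39,(Int.ofNat 0),1⟩] (.node 3 [⟨39,(Int.ofNat 0),1⟩] .nil .nil) .nil)) (.node 40 [⟨24,(Int.ofNat 1),1⟩] (.node 8 [⟨7,(Int.negSucc 0),1⟩] (.node 6 [⟨39,(Int.ofNat 0),1⟩] .nil .nil) .nil) (.node 41 [⟨25,(Int.ofNat 1),1⟩] .nil .nil))) (.node 47 [⟨31,(Int.ofNat 1),1⟩] (.node 45 [⟨29,(Int.ofNat 1),1⟩] (.node 44 [⟨28,(Int.ofNat 1),1⟩] (.node 43 [⟨27,(Int.ofNat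 1),1⟩] .nil .nil) .nil) (.node 46 [⟨30,(Int.ofNat 1),1⟩] .nil .nil)) (.node 55 [⟨34,(Int.ofNat 1),1⟩] (.node 49 [⟨33,(Int.ofNat 1),1⟩] (.node 48 [⟨32,(Int.ofNat 1),1⟩] .nil .nil) .nil) (.node 56 [⟨35,(Int.ofNat 1),1⟩] .nil .nil)))) (.node 107 [⟨91,(Int.negSucc 0),1⟩] (.node 102 [⟨81,(Int.negSucc 0),1⟩] (.node 100 [⟨0,(Int.negSucc 0),1⟩, ⟨1,(Int.ofNat 0),1⟩, ⟨2,(Int.ofNat 0),1⟩, ⟨3,(Int.ofNat 0),1⟩, ⟨4,(Int.ofNat 0),1⟩, ⟨5,(Int.ofNat 0),1⟩, ⟨6,(Int.ofNat 0),1⟩, ⟨39,(Int.negSucc 0),2⟩] (.node 59 [⟨38,(Int.ofNat 1),1⟩] (.node 58 [⟨37,(Int.ofNat 1),1⟩] .nil .nil) .nil) (.node 101 [⟨80,(Int.negSucc 0),1⟩] .nil .nil)) (.node 105 [⟨84,(Int.negSucc 0),1⟩] (.node 104 [⟨83,(Int.negSucc 0),1⟩] (.node 103 [⟨82,(Int.negSucc 0),1⟩] .nil .nil) .nil) (.node 106 [⟨90,(Int.negSucc 0),1⟩] .nil .nil))) (.node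 112 [⟨96,(Int.negSucc 0),1⟩] (.node 110 [⟨94,(Int.negSucc 0),1⟩] (.node 109 [⟨93,(Int.negSucc 0),1⟩] (.node 108 [⟨92,(Int.negSucc 0),1⟩] .nil .nil) .nil) (.node 111 [⟨95,(Int.negSucc 0),1⟩] .nil .nil)) (.node 115 [⟨99,(Int.negSucc 0),1⟩] (.node 114 [⟨98,(Int.negSucc 0),1⟩] (.node 113 [⟨97,(Int.negSucc 0),1⟩] .nil .nil) .nil) (.node 132 [⟨131,(Int.ofNat 1),1⟩] .nil .nil)))))
noncomputable def col33 : Tr Cl := (.node 79 [⟨47,(Int.negSucc 0),1⟩] (.node 33 [⟨11,(Int.negSucc 0),1⟩] (.node 5 [⟨40,(Int.ofNat 1),1⟩] (.node 2 [⟨40,(Int.ofNat 0),1⟩] (.node 1 [⟨40,(Int.ofNat 0),1⟩] (.node 0 [⟨40,(Int.negSucc 0),1⟩] .nil .nil) .nil) (.node 4 [⟨40,(Int.ofNat 0),1⟩] (.node 3 [⟨40,(Int.ofNat 0),1⟩] .nil .nil) .nil)) (.node 29 [⟨9,(Int.negSucc 0),1⟩] (.node 23 [⟨8,(Int.negSucc 0),1⟩] (.node 6 [⟨40,(Int.ofNat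 0),1⟩] .nil .nil) .nil) (.node 32 [⟨10,(Int.negSucc 0),1⟩] .nil .nil))) (.node 71 [⟨41,(Int.ofNat 1),1⟩] (.node 38 [⟨18,(Int.negSucc 0),1⟩] (.node 37 [⟨15,(Int.negSucc 0),1⟩] (.node 36 [⟨14,(Int.negSucc 0),1⟩] .nil .nil) .nil) (.node 39 [⟨24,(Int.negSucc 0),1⟩] .nil .nil)) (.node 75 [⟨44,(Int.negSucc 0),1⟩] (.node 74 [⟨43,(Int.ofNat 1),1⟩] (.node 72 [⟨42,(Int.negSucc 0),1⟩] .nil .nil) .nil) (.node 78 [⟨46,(Int.ofNat 1),1⟩] .nil .nil)))) (.node 98 [⟨68,(Int.negSucc 0),1⟩] (.node 92 [⟨60,(Int.ofNat 1),1⟩] (.node 88 [⟨55,(Int.ofNat 1),1⟩] (.node 84 [⟨51,(Int.negSucc 0),1⟩] (.node 83 [⟨50,(Int.ofNat 1),1⟩] .nil .nil) .nil) (.node 89 [⟨56,(Int.negSucc 0),1⟩] .nil .nil)) (.node 96 [⟨65,(Int.negSucc 0),1⟩] (.node 95 [⟨64,(Int.ofNat 1),1⟩] (.node 93 [⟨61,(Int.negSucc 0),1⟩] .nil .nil) .nil) (.node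 97 [⟨67,(Int.ofNat 1),1⟩] .nil .nil))) (.node 125 [⟨103,(Int.ofNat 1),1⟩] (.node 121 [⟨101,(Int.ofNat 1),1⟩] (.node 115 [⟨100,(Int.ofNat 1),1⟩] (.node 99 [⟨0,(Int.ofNat 0),1⟩, ⟨1,(Int.negSucc 0),1⟩, ⟨2,(Int.negSucc 0),1⟩, ⟨3,(Int.negSucc 1),1⟩, ⟨4,(Int.negSucc 1),1⟩, ⟨5,(Int.negSucc 1),1⟩, ⟨6,(Int.negSucc 0),1⟩, ⟨40,(Int.negSucc 0),2⟩] .nil .nil) .nil) (.node 124 [⟨102,(Int.ofNat 1),1⟩] .nil .nil)) (.node 130 [⟨110,(Int.ofNat 1),1⟩] (.node 129 [⟨107,(Int.ofNat 1),1⟩] (.node 128 [⟨106,(Int.ofNat 1),1⟩] .nil .nil) .nil) (.node 131 [⟨116,(Int.ofNat 1),1⟩] .nil .nil)))))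
noncomputable def col34 : Tr Cl := (.node 79 [⟨48,(Int.negSucc 0),1⟩] (.node 33 [⟨12,(Int.negSucc 0),1⟩] (.node 5 [⟨41,(Int.negSucc 0),1⟩] (.node 2 [⟨41,(Int.ofNat 0),1⟩] (.node 1 [⟨41,(Int.ofNat 0),1⟩] (.node 0 [⟨41,(Int.negSucc 0),1⟩] .nil .nil) .nil) (.node 4 [⟨41,(Int.ofNat 1),1⟩] (.node 3 [⟨41,(Int.ofNat 0),1⟩] .nil .nil) .nil)) (.node 28 [⟨9,(Int.ofNat 1),1⟩] (.node 22 [⟨8,(Int.ofNat 1),1⟩] (.node 6 [⟨41,(Int.ofNat 1),1⟩] .nil .nil) .nil) (.node 31 [⟨10,(Int.ofNat 1),1⟩] .nil .nil))) (.node 68 [⟨40,(Int.ofNat 1),1⟩] (.node 38 [⟨19,(Int.negSucc 0),1⟩] (.node 37 [⟨16,(Int.negSucc 0),1⟩] (.node 35 [⟨14,(Int.ofNat 1),1⟩] .nil .nil) .nil) (.node 39 [⟨25,(Int.negSucc 0),1⟩] .nil .nil)) (.node 75 [⟨45,(Int.negSucc 0),1⟩] (.node 73 [⟨43,(Int.ofNat 1),1⟩] (.node 70 [⟨42,(Int.ofNat 1),1⟩] .nil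 .nil) .nil) (.node 77 [⟨46,(Int.ofNat 1),1⟩] .nil .nil)))) (.node 98 [⟨0,(Int.ofNat 0),1⟩, ⟨1,(Int.negSucc 0),1⟩, ⟨2,(Int.negSucc 0),1⟩, ⟨3,(Int.negSucc 1),1⟩, ⟨4,(Int.negSucc 1),1⟩, ⟨5,(Int.negSucc 0),1⟩, ⟨6,(Int.negSucc 0),1⟩, ⟨41,(Int.negSucc 0),2⟩] (.node 91 [⟨60,(Int.ofNat 1),1⟩] (.node 87 [⟨55,(Int.ofNat 1),1⟩] (.node 84 [⟨52,(Int.negSucc 0),1⟩] (.node 82 [⟨50,(Int.ofNat 1),1⟩] .nil .nil) .nil) (.node 89 [⟨57,(Int.negSucc 0),1⟩] .nil .nil)) (.node 96 [⟨66,(Int.negSucc 0),1⟩] (.node 94 [⟨64,(Int.ofNat 1),1⟩] (.node 93 [⟨62,(Int.negSucc 0),1⟩] .nil .nil) .nil) (.node 97 [⟨69,(Int.negSucc 0),1⟩] .nil .nil))) (.node 125 [⟨104,(Int.negSucc 0),1⟩] (.node 120 [⟨101,(Int.ofNat 1),1⟩] (.node 114 [⟨100,(Int.ofNat 1),1⟩] (.node 99 [⟨71,(Int.negSucc 0),1⟩] .nil .nil) .nil) (.node 123 [⟨102,(Int.ofNat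 1),1⟩] .nil .nil)) (.node 130 [⟨111,(Int.negSucc 0),1⟩] (.node 129 [⟨108,(Int.negSucc 0),1⟩] (.node 127 [⟨106,(Int.ofNat 1),1⟩] .nil .nil) .nil) (.node 131 [⟨117,(Int.negSucc 0),1⟩] .nil .nil)))))
noncomputable def col35 : Tr Cl := (.node 78 [⟨48,(Int.negSucc 0),1⟩] (.node 33 [⟨13,(Int.negSucc 0),1⟩] (.node 5 [⟨42,(Int.ofNat 0),1⟩] (.node 2 [⟨42,(Int.ofNat 0),1⟩] (.node 1 [⟨42,(Int.ofNat 0),1⟩] (.node 0 [⟨42,(Int.negSucc 0),1⟩] .nil .nil) .nil) (.node 4 [⟨42,(Int.ofNat 1),1⟩] (.node 3 [⟨42,(Int.ofNat 0),1⟩] .nil .nil) .nil)) (.node 27 [⟨9,(Int.negSucc 0),1⟩] (.node 21 [⟨8,(Int.negSucc 0),1⟩] (.node 6 [⟨42,(Int.negSucc 0),1⟩] .nil .nil) .nil) (.node 30 [⟨10,(Int.negSucc 0),1⟩] .nil .nil))) (.node 67 [⟨40,(Int.negSucc 0),1⟩] (.node 38 [⟨20,(Int.negSucc 0),1⟩] (.node 37 [⟨17,(Int.negSucc 0),1⟩]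 (.node 34 [⟨14,(Int.negSucc 0),1⟩] .nil .nil) .nil) (.node 39 [⟨26,(Int.negSucc 0),1⟩] .nil .nil)) (.node 74 [⟨45,(Int.negSucc 0),1⟩] (.node 73 [⟨44,(Int.ofNat 1),1⟩] (.node 69 [⟨41,(Int.ofNat 1),1⟩] .nil .nil) .nil) (.node 77 [⟨47,(Int.ofNat 1),1⟩] .nil .nil)))) (.node 98 [⟨70,(Int.negSucc 0),1⟩] (.node 91 [⟨61,(Int.ofNat 1),1⟩] (.node 87 [⟨56,(Int.ofNat 1),1⟩] (.node 83 [⟨52,(Int.negSucc 0),1⟩] (.node 82 [⟨51,(Int.ofNat 1),1⟩] .nil .nil) .nil) (.node 88 [⟨57,(Int.negSucc 0),1⟩] .nil .nil)) (.node 95 [⟨66,(Int.negSucc 0),1⟩] (.node 94 [⟨65,(Int.ofNat 1),1⟩] (.node 92 [⟨62,(Int.negSucc 0),1⟩] .nil .nil) .nil) (.node 97 [⟨0,(Int.ofNat 0),1⟩, ⟨1,(Int.negSucc 0),1⟩, ⟨2,(Int.negSucc 0),1⟩, ⟨3,(Int.negSucc 1),1⟩, ⟨4,(Int.negSucc 1),1⟩, ⟨5,(Int.negSucc 0),1⟩, ⟨6,(Int.ofNat 0),1⟩, ⟨42,(Int.negSucc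 0),2⟩] .nil .nil))) (.node 125 [⟨105,(Int.ofNat 1),1⟩] (.node 119 [⟨101,(Int.ofNat 1),1⟩] (.node 113 [⟨100,(Int.ofNat 1),1⟩] (.node 99 [⟨72,(Int.ofNat 1),1⟩] .nil .nil) .nil) (.node 122 [⟨102,(Int.ofNat 1),1⟩] .nil .nil)) (.node 130 [⟨112,(Int.ofNat 1),1⟩] (.node 129 [⟨109,(Int.ofNat 1),1⟩] (.node 126 [⟨106,(Int.ofNat 1),1⟩] .nil .nil) .nil) (.node 131 [⟨118,(Int.ofNat 1),1⟩] .nil .nil)))))
noncomputable def col36 : Tr Cl := (.node 79 [⟨49,(Int.negSucc 0),1⟩] (.node 32 [⟨12,(Int.ofNat 1),1⟩] (.node 5 [⟨43,(Int.ofNat 0),1⟩] (.node 2 [⟨43,(Int.ofNat 0),1⟩] (.node 1 [⟨43,(Int.ofNat 0),1⟩] (.node 0 [⟨43,(Int.negSucc 0),1⟩] .nil .nil) .nil) (.node 4 [⟨43,(Int.negSucc 0),1⟩] (.node 3 [⟨43,(Int.ofNat 1),1⟩] .nil .nil) .nil)) (.node 26 [⟨9,(Int.negSucc 0),1⟩] (.node 20 [⟨8,(Int.negSucc 0),1⟩] (.node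 6 [⟨43,(Int.ofNat 1),1⟩] .nil .nil) .nil) (.node 31 [⟨11,(Int.ofNat 1),1⟩] .nil .nil))) (.node 65 [⟨40,(Int.ofNat 1),1⟩] (.node 38 [⟨21,(Int.negSucc 0),1⟩] (.node 36 [⟨16,(Int.ofNat 1),1⟩] (.node 35 [⟨15,(Int.ofNat 1),1⟩] .nil .nil) .nil) (.node 39 [⟨27,(Int.negSucc 0),1⟩] .nil .nil)) (.node 72 [⟨45,(Int.ofNat 1),1⟩] (.node 70 [⟨44,(Int.ofNat 1),1⟩] (.node 66 [⟨41,(Int.ofNat 1),1⟩] .nil .nil) .nil) (.node 76 [⟨46,(Int.ofNat 1),1⟩] .nil .nil)))) (.node 98 [⟨73,(Int.negSucc 0),1⟩] (.node 90 [⟨60,(Int.ofNat 1),1⟩] (.node 86 [⟨55,(Int.ofNat 1),1⟩] (.node 84 [⟨53,(Int.negSucc 0),1⟩] (.node 81 [⟨50,(Int.ofNat 1),1⟩] .nil .nil) .nil) (.node 89 [⟨58,(Int.negSucc 0),1⟩] .nil .nil)) (.node 95 [⟨69,(Int.negSucc 0),1⟩] (.node 94 [⟨67,(Int.negSucc 0),1⟩] (.node 93 [⟨63,(Int.negSucc 0),1⟩] .nil .nil) .nil)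 (.node 96 [⟨0,(Int.ofNat 0),1⟩, ⟨1,(Int.negSucc 0),1⟩, ⟨2,(Int.negSucc 0),1⟩, ⟨3,(Int.negSucc 1),1⟩, ⟨4,(Int.negSucc 0),1⟩, ⟨5,(Int.negSucc 0),1⟩, ⟨6,(Int.negSucc 0),1⟩, ⟨43,(Int.negSucc 0),2⟩] .nil .nil))) (.node 124 [⟨104,(Int.negSucc 0),1⟩] (.node 118 [⟨101,(Int.ofNat 1),1⟩] (.node 112 [⟨100,(Int.ofNat 1),1⟩] (.node 99 [⟨74,(Int.negSucc 0),1⟩] .nil .nil) .nil) (.node 123 [⟨103,(Int.negSucc 0),1⟩] .nil .nil)) (.node 130 [⟨113,(Int.ofNat 1),1⟩] (.node 128 [⟨108,(Int.negSucc 0),1⟩] (.node 127 [⟨107,(Int.negSucc 0),1⟩] .nil .nil) .nil) (.node 131 [⟨119,(Int.ofNat 1),1⟩] .nil .nil)))))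
noncomputable def col37 : Tr Cl := (.node 78 [⟨49,(Int.negSucc 0),1⟩] (.node 32 [⟨13,(Int.ofNat 1),1⟩] (.node 5 [⟨44,(Int.ofNat 1),1⟩] (.node 2 [⟨44,(Int.ofNat 0),1⟩] (.node 1 [⟨44,(Int.ofNat 0),1⟩] (.node 0 [⟨44,(Int.negSucc 0),1⟩] .nil .nil) .nil) (.node 4 [⟨44,(Int.negSucc 0),1⟩] (.node 3 [⟨44,(Int.ofNat 1),1⟩] .nil .nil) .nil)) (.node 25 [⟨9,(Int.ofNat 1),1⟩] (.node 19 [⟨8,(Int.ofNat 1),1⟩] (.node 6 [⟨44,(Int.negSucc 0),1⟩] .nil .nil) .nil) (.node 30 [⟨11,(Int.negSucc 0),1⟩] .nil .nil))) (.node 64 [⟨40,(Int.negSucc 0),1⟩] (.node 38 [⟨22,(Int.negSucc 0),1⟩] (.node 36 [⟨17,(Int.ofNat 1),1⟩] (.node 34 [⟨15,(Int.negSucc 0),1⟩] .nil .nil) .nil) (.node 39 [⟨28,(Int.negSucc 0),1⟩] .nil .nil)) (.node 71 [⟨45,(Int.ofNat 1),1⟩] (.node 69 [⟨43,(Int.ofNat 1),1⟩] (.node 66 [⟨42,(Int.ofNat 1),1⟩] .nil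 .nil) .nil) (.node 76 [⟨47,(Int.ofNat 1),1⟩] .nil .nil)))) (.node 97 [⟨73,(Int.negSucc 0),1⟩] (.node 90 [⟨61,(Int.ofNat 1),1⟩] (.node 86 [⟨56,(Int.ofNat 1),1⟩] (.node 83 [⟨53,(Int.negSucc 0),1⟩] (.node 81 [⟨51,(Int.ofNat 1),1⟩] .nil .nil) .nil) (.node 88 [⟨58,(Int.negSucc 0),1⟩] .nil .nil)) (.node 95 [⟨0,(Int.ofNat 0),1⟩, ⟨1,(Int.negSucc 0),1⟩, ⟨2,(Int.negSucc 0),1⟩, ⟨3,(Int.negSucc 1),1⟩, ⟨4,(Int.negSucc 0),1⟩, ⟨5,(Int.negSucc 0),1⟩, ⟨6,(Int.ofNat 0),1⟩, ⟨44,(Int.negSucc 0),2⟩] (.node 94 [⟨68,(Int.negSucc 0),1⟩] (.node 92 [⟨63,(Int.negSucc 0),1⟩] .nil .nil) .nil) (.node 96 [⟨70,(Int.negSucc 0),1⟩] .nil .nil))) (.node 124 [⟨105,(Int.ofNat 1),1⟩] (.node 117 [⟨101,(Int.ofNat 1),1⟩] (.node 111 [⟨100,(Int.ofNat 1),1⟩] (.node 99 [⟨75,(Int.ofNat 1),1⟩] .nil .nil) .nil) (.node 122 [⟨103,(Int.negSucc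 0),1⟩] .nil .nil)) (.node 130 [⟨114,(Int.negSucc 0),1⟩] (.node 128 [⟨109,(Int.ofNat 1),1⟩] (.node 126 [⟨107,(Int.negSucc 0),1⟩] .nil .nil) .nil) (.node 131 [⟨120,(Int.negSucc 0),1⟩] .nil .nil)))))
noncomputable def col38 : Tr Cl := (.node 77 [⟨49,(Int.negSucc 0),1⟩] (.node 31 [⟨13,(Int.negSucc 0),1⟩] (.node 5 [⟨45,(Int.negSucc 0),1⟩] (.node 2 [⟨45,(Int.ofNat 0),1⟩] (.node 1 [⟨45,(Int.ofNat 0),1⟩] (.node 0 [⟨45,(Int.negSucc 0),1⟩] .nil .nil) .nil) (.node 4 [⟨45,(Int.ofNat 0),1⟩] (.node 3 [⟨45,(Int.ofNat 1),1⟩] .nil .nil) .nil)) (.node 24 [⟨9,(Int.negSucc 0),1⟩] (.node 18 [⟨8,(Int.negSucc 0),1⟩] (.node 6 [⟨45,(Int.ofNat 0),1⟩] .nil .nil) .nil) (.node 30 [⟨12,(Int.negSucc 0),1⟩] .nil .nil))) (.node 64 [⟨41,(Int.negSucc 0),1⟩] (.node 38 [⟨23,(Int.negSucc 0),1⟩] (.node 35 [⟨17,(Int.negSucc 0),1⟩]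 (.node 34 [⟨16,(Int.negSucc 0),1⟩] .nil .nil) .nil) (.node 39 [⟨29,(Int.negSucc 0),1⟩] .nil .nil)) (.node 68 [⟨44,(Int.ofNat 1),1⟩] (.node 67 [⟨43,(Int.ofNat 1),1⟩] (.node 65 [⟨42,(Int.negSucc 0),1⟩] .nil .nil) .nil) (.node 76 [⟨48,(Int.ofNat 1),1⟩] .nil .nil)))) (.node 97 [⟨74,(Int.ofNat 1),1⟩] (.node 90 [⟨62,(Int.ofNat 1),1⟩] (.node 86 [⟨57,(Int.ofNat 1),1⟩] (.node 82 [⟨53,(Int.negSucc 0),1⟩] (.node 81 [⟨52,(Int.ofNat 1),1⟩] .nil .nil) .nil) (.node 87 [⟨58,(Int.negSucc 0),1⟩] .nil .nil)) (.node 95 [⟨71,(Int.negSucc 0),1⟩] (.node 94 [⟨0,(Int.ofNat 0),1⟩, ⟨1,(Int.negSucc 0),1⟩, ⟨2,(Int.negSucc 0),1⟩, ⟨3,(Int.negSucc 1),1⟩, ⟨4,(Int.negSucc 0),1⟩, ⟨5,(Int.ofNat 0),1⟩, ⟨6,(Int.ofNat 0),1⟩, ⟨45,(Int.negSucc 0),2⟩] (.node 91 [⟨63,(Int.negSucc 0),1⟩] .nil .nil) .nil) (.node 96 [⟨72,(Int.negSucc 0),1⟩]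 .nil .nil))) (.node 123 [⟨105,(Int.ofNat 1),1⟩] (.node 116 [⟨101,(Int.ofNat 1),1⟩] (.node 110 [⟨100,(Int.ofNat 1),1⟩] (.node 98 [⟨75,(Int.ofNat 1),1⟩] .nil .nil) .nil) (.node 122 [⟨104,(Int.ofNat 1),1⟩] .nil .nil)) (.node 130 [⟨115,(Int.ofNat 1),1⟩] (.node 127 [⟨109,(Int.ofNat 1),1⟩] (.node 126 [⟨108,(Int.ofNat 1),1⟩] .nil .nil) .nil) (.node 131 [⟨121,(Int.ofNat 1),1⟩] .nil .nil)))))
noncomputable def col39 : Tr Cl := (.node 75 [⟨49,(Int.ofNat 1),1⟩] (.node 29 [⟨12,(Int.negSucc 0),1⟩] (.node 5 [⟨46,(Int.ofNat 0),1⟩] (.node 2 [⟨46,(Int.ofNat 1),1⟩] (.node 1 [⟨46,(Int.ofNat 1),1⟩] (.node 0 [⟨46,(Int.negSucc 0),1⟩] .nil .nil) .nil) (.node 4 [⟨46,(Int.ofNat 0),1⟩] (.node 3 [⟨46,(Int.negSucc 0),1⟩] .nil .nil) .nil)) (.node 26 [⟨10,(Int.negSucc 0),1⟩] (.node 17 [⟨8,(Int.ofNat 1),1⟩] (.node 6 [⟨46,(Int.ofNat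 1),1⟩] .nil .nil) .nil) (.node 28 [⟨11,(Int.negSucc 0),1⟩] .nil .nil))) (.node 61 [⟨40,(Int.ofNat 1),1⟩] (.node 37 [⟨21,(Int.ofNat 1),1⟩] (.node 36 [⟨19,(Int.ofNat 1),1⟩] (.node 35 [⟨18,(Int.ofNat 1),1⟩] .nil .nil) .nil) (.node 39 [⟨30,(Int.negSucc 0),1⟩] .nil .nil)) (.node 70 [⟨47,(Int.ofNat 1),1⟩] (.node 63 [⟨43,(Int.ofNat 1),1⟩] (.node 62 [⟨41,(Int.ofNat 1),1⟩] .nil .nil) .nil) (.node 72 [⟨48,(Int.ofNat 1),1⟩] .nil .nil)))) (.node 98 [⟨77,(Int.negSucc 0),1⟩] (.node 90 [⟨64,(Int.negSucc 0),1⟩] (.node 85 [⟨55,(Int.ofNat 1),1⟩] (.node 84 [⟨54,(Int.negSucc 0),1⟩] (.node 80 [⟨50,(Int.ofNat 1),1⟩] .nil .nil) .nil) (.node 89 [⟨59,(Int.negSucc 0),1⟩] .nil .nil)) (.node 93 [⟨0,(Int.ofNat 0),1⟩, ⟨1,(Int.negSucc 0),1⟩, ⟨2,(Int.negSucc 0),1⟩, ⟨3,(Int.negSucc 0),1⟩, ⟨4,(Int.negSucc 0),1⟩, ⟨5,(Int.negSucc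 0),1⟩, ⟨6,(Int.negSucc 0),1⟩, ⟨46,(Int.negSucc 0),2⟩] (.node 92 [⟨69,(Int.negSucc 0),1⟩] (.node 91 [⟨67,(Int.negSucc 0),1⟩] .nil .nil) .nil) (.node 96 [⟨76,(Int.negSucc 0),1⟩] .nil .nil))) (.node 121 [⟨104,(Int.negSucc 0),1⟩] (.node 118 [⟨102,(Int.negSucc 0),1⟩] (.node 109 [⟨100,(Int.ofNat 1),1⟩] (.node 99 [⟨78,(Int.negSucc 0),1⟩] .nil .nil) .nil) (.node 120 [⟨103,(Int.negSucc 0),1⟩] .nil .nil)) (.node 129 [⟨113,(Int.ofNat 1),1⟩] (.node 128 [⟨111,(Int.ofNat 1),1⟩] (.node 127 [⟨110,(Int.ofNat 1),1⟩] .nil .nil) .nil) (.node 131 [⟨122,(Int.negSucc 0),1⟩] .nil .nil)))))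
noncomputable def col40 : Tr Cl := (.node 74 [⟨49,(Int.ofNat 1),1⟩] (.node 29 [⟨13,(Int.negSucc 0),1⟩] (.node 5 [⟨47,(Int.ofNat 1),1⟩] (.node 2 [⟨47,(Int.ofNat 1),1⟩] (.node 1 [⟨47,(Int.ofNat 1),1⟩] (.node 0 [⟨47,(Int.negSucc 0),1⟩] .nil .nil) .nil) (.node 4 [⟨47,(Int.ofNat 0),1⟩] (.node 3 [⟨47,(Int.negSucc 0),1⟩] .nil .nil) .nil)) (.node 25 [⟨10,(Int.ofNat 1),1⟩] (.node 16 [⟨8,(Int.negSucc 0),1⟩] (.node 6 [⟨47,(Int.negSucc 0),1⟩] .nil .nil) .nil) (.node 27 [⟨11,(Int.ofNat 1),1⟩] .nil .nil))) (.node 60 [⟨40,(Int.negSucc 0),1⟩] (.node 37 [⟨22,(Int.ofNat 1),1⟩] (.node 36 [⟨20,(Int.ofNat 1),1⟩] (.node 34 [⟨18,(Int.negSucc 0),1⟩] .nil .nil) .nil) (.node 39 [⟨31,(Int.negSucc 0),1⟩] .nil .nil)) (.node 69 [⟨46,(Int.ofNat 1),1⟩] (.node 63 [⟨44,(Int.ofNat 1),1⟩] (.node 62 [⟨42,(Int.ofNat 1),1⟩] .nil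 .nil) .nil) (.node 71 [⟨48,(Int.ofNat 1),1⟩] .nil .nil)))) (.node 97 [⟨77,(Int.negSucc 0),1⟩] (.node 90 [⟨65,(Int.negSucc 0),1⟩] (.node 85 [⟨56,(Int.ofNat 1),1⟩] (.node 83 [⟨54,(Int.negSucc 0),1⟩] (.node 80 [⟨51,(Int.ofNat 1),1⟩] .nil .nil) .nil) (.node 88 [⟨59,(Int.negSucc 0),1⟩] .nil .nil)) (.node 93 [⟨70,(Int.negSucc 0),1⟩] (.node 92 [⟨0,(Int.ofNat 0),1⟩, ⟨1,(Int.negSucc 0),1⟩, ⟨2,(Int.negSucc 0),1⟩, ⟨3,(Int.negSucc 0),1⟩, ⟨4,(Int.negSucc 0),1⟩, ⟨5,(Int.negSucc 0),1⟩, ⟨6,(Int.ofNat 0),1⟩, ⟨47,(Int.negSucc 0),2⟩] (.node 91 [⟨68,(Int.negSucc 0),1⟩] .nil .nil) .nil) (.node 95 [⟨76,(Int.negSucc 0),1⟩] .nil .nil))) (.node 121 [⟨105,(Int.ofNat 1),1⟩] (.node 117 [⟨102,(Int.negSucc 0),1⟩] (.node 108 [⟨100,(Int.ofNat 1),1⟩] (.node 99 [⟨79,(Int.ofNat 1),1⟩] .nil .nil) .nil) (.node 119 [⟨103,(Int.negSucc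 0),1⟩] .nil .nil)) (.node 129 [⟨114,(Int.negSucc 0),1⟩] (.node 128 [⟨112,(Int.negSucc 0),1⟩] (.node 126 [⟨110,(Int.ofNat 1),1⟩] .nil .nil) .nil) (.node 131 [⟨123,(Int.ofNat 1),1⟩] .nil .nil)))))
noncomputable def col41 : Tr Cl := (.node 73 [⟨49,(Int.ofNat 1),1⟩] (.node 28 [⟨13,(Int.ofNat 1),1⟩] (.node 5 [⟨48,(Int.negSucc 0),1⟩] (.node 2 [⟨48,(Int.ofNat 1),1⟩] (.node 1 [⟨48,(Int.ofNat 1),1⟩] (.node 0 [⟨48,(Int.negSucc 0),1⟩] .nil .nil) .nil) (.node 4 [⟨48,(Int.ofNat 1),1⟩] (.node 3 [⟨48,(Int.negSucc 0),1⟩] .nil .nil) .nil)) (.node 24 [⟨10,(Int.negSucc 0),1⟩] (.node 15 [⟨8,(Int.ofNat 1),1⟩] (.node 6 [⟨48,(Int.ofNat 0),1⟩] .nil .nil) .nil) (.node 27 [⟨12,(Int.ofNat 1),1⟩] .nil .nil))) (.node 60 [⟨41,(Int.negSucc 0),1⟩] (.node 37 [⟨23,(Int.ofNat 1),1⟩] (.node 35 [⟨20,(Int.negSucc 0),1⟩] (.node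 34 [⟨19,(Int.negSucc 0),1⟩] .nil .nil) .nil) (.node 39 [⟨32,(Int.negSucc 0),1⟩] .nil .nil)) (.node 67 [⟨46,(Int.ofNat 1),1⟩] (.node 63 [⟨45,(Int.ofNat 1),1⟩] (.node 61 [⟨42,(Int.negSucc 0),1⟩] .nil .nil) .nil) (.node 68 [⟨47,(Int.ofNat 1),1⟩] .nil .nil)))) (.node 97 [⟨78,(Int.ofNat 1),1⟩] (.node 90 [⟨66,(Int.negSucc 0),1⟩] (.node 85 [⟨57,(Int.ofNat 1),1⟩] (.node 82 [⟨54,(Int.negSucc 0),1⟩] (.node 80 [⟨52,(Int.ofNat 1),1⟩] .nil .nil) .nil) (.node 87 [⟨59,(Int.negSucc 0),1⟩] .nil .nil)) (.node 93 [⟨72,(Int.negSucc 0),1⟩] (.node 92 [⟨71,(Int.negSucc 0),1⟩] (.node 91 [⟨0,(Int.ofNat 0),1⟩, ⟨1,(Int.negSucc 0),1⟩, ⟨2,(Int.negSucc 0),1⟩, ⟨3,(Int.negSucc 0),1⟩, ⟨4,(Int.negSucc 0),1⟩, ⟨5,(Int.ofNat 0),1⟩, ⟨6,(Int.ofNat 0),1⟩, ⟨48,(Int.negSucc 0),2⟩] .nil .nil) .nil) (.node 94 [⟨76,(Int.negSucc 0),1⟩]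 .nil .nil))) (.node 120 [⟨105,(Int.ofNat 1),1⟩] (.node 116 [⟨102,(Int.negSucc 0),1⟩] (.node 107 [⟨100,(Int.ofNat 1),1⟩] (.node 98 [⟨79,(Int.ofNat 1),1⟩] .nil .nil) .nil) (.node 119 [⟨104,(Int.ofNat 1),1⟩] .nil .nil)) (.node 129 [⟨115,(Int.ofNat 1),1⟩] (.node 127 [⟨112,(Int.negSucc 0),1⟩] (.node 126 [⟨111,(Int.negSucc 0),1⟩] .nil .nil) .nil) (.node 131 [⟨124,(Int.negSucc 0),1⟩] .nil .nil)))))
noncomputable def col42 : Tr Cl := (.node 66 [⟨48,(Int.ofNat 1),1⟩] (.node 26 [⟨13,(Int.negSucc 0),1⟩] (.node 5 [⟨49,(Int.ofNat 0),1⟩] (.node 2 [⟨49,(Int.ofNat 1),1⟩] (.node 1 [⟨49,(Int.ofNat 1),1⟩] (.node 0 [⟨49,(Int.negSucc 0),1⟩] .nil .nil) .nil) (.node 4 [⟨49,(Int.negSucc 0),1⟩] (.node 3 [⟨49,(Int.ofNat 0),1⟩] .nil .nil) .nil)) (.node 24 [⟨11,(Int.negSucc 0),1⟩] (.node 14 [⟨8,(Int.negSucc 0),1⟩] (.node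 6 [⟨49,(Int.ofNat 0),1⟩] .nil .nil) .nil) (.node 25 [⟨12,(Int.negSucc 0),1⟩] .nil .nil))) (.node 60 [⟨43,(Int.negSucc 0),1⟩] (.node 36 [⟨23,(Int.negSucc 0),1⟩] (.node 35 [⟨22,(Int.negSucc 0),1⟩] (.node 34 [⟨21,(Int.negSucc 0),1⟩] .nil .nil) .nil) (.node 39 [⟨33,(Int.negSucc 0),1⟩] .nil .nil)) (.node 64 [⟨46,(Int.ofNat 1),1⟩] (.node 62 [⟨45,(Int.negSucc 0),1⟩] (.node 61 [⟨44,(Int.negSucc 0),1⟩] .nil .nil) .nil) (.node 65 [⟨47,(Int.ofNat 1),1⟩] .nil .nil)))) (.node 95 [⟨78,(Int.ofNat 1),1⟩] (.node 90 [⟨0,(Int.ofNat 0),1⟩, ⟨1,(Int.negSucc 0),1⟩, ⟨2,(Int.negSucc 0),1⟩, ⟨3,(Int.negSucc 0),1⟩, ⟨4,(Int.ofNat 0),1⟩, ⟨5,(Int.ofNat 0),1⟩, ⟨6,(Int.ofNat 0),1⟩, ⟨49,(Int.negSucc 0),2⟩] (.node 85 [⟨58,(Int.ofNat 1),1⟩] (.node 81 [⟨54,(Int.negSucc 0),1⟩] (.node 80 [⟨53,(Int.ofNat 1),1⟩] .nil .nil) .nil) (.node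 86 [⟨59,(Int.negSucc 0),1⟩] .nil .nil)) (.node 93 [⟨75,(Int.negSucc 0),1⟩] (.node 92 [⟨74,(Int.negSucc 0),1⟩] (.node 91 [⟨73,(Int.negSucc 0),1⟩] .nil .nil) .nil) (.node 94 [⟨77,(Int.ofNat 1),1⟩] .nil .nil))) (.node 118 [⟨105,(Int.ofNat 1),1⟩] (.node 116 [⟨103,(Int.ofNat 1),1⟩] (.node 106 [⟨100,(Int.ofNat 1),1⟩] (.node 96 [⟨79,(Int.ofNat 1),1⟩] .nil .nil) .nil) (.node 117 [⟨104,(Int.ofNat 1),1⟩] .nil .nil)) (.node 128 [⟨115,(Int.ofNat 1),1⟩] (.node 127 [⟨114,(Int.ofNat 1),1⟩] (.node 126 [⟨113,(Int.ofNat 1),1⟩] .nil .nil) .nil) (.node 131 [⟨125,(Int.ofNat 1),1⟩] .nil .nil)))))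
noncomputable def col43 : Tr Cl := (.node 72 [⟨52,(Int.ofNat 1),1⟩] (.node 23 [⟨12,(Int.ofNat 1),1⟩] (.node 5 [⟨50,(Int.ofNat 0),1⟩] (.node 2 [⟨50,(Int.negSucc 0),1⟩] (.node 1 [⟨50,(Int.ofNat 1),1⟩] (.node 0 [⟨50,(Int.ofNat 0),1⟩] .nil .nil) .nil) (.node 4 [⟨50,(Int.ofNat 0),1⟩] (.node 3 [⟨50,(Int.ofNat 0),1⟩] .nil .nil) .nil)) (.node 20 [⟨10,(Int.ofNat 1),1⟩] (.node 17 [⟨9,(Int.ofNat 1),1⟩] (.node 6 [⟨50,(Int.ofNat 1),1⟩] .nil .nil) .nil) (.node 22 [⟨11,(Int.ofNat 1),1⟩] .nil .nil))) (.node 56 [⟨40,(Int.ofNat 1),1⟩] (.node 37 [⟨27,(Int.ofNat 1),1⟩] (.node 36 [⟨25,(Int.ofNat 1),1⟩] (.node 35 [⟨24,(Int.ofNat 1),1⟩] .nil .nil) .nil) (.node 38 [⟨30,(Int.ofNat 1),1⟩] .nil .nil)) (.node 59 [⟨46,(Int.ofNat 1),1⟩] (.node 58 [⟨43,(Int.ofNat 1),1⟩] (.node 57 [⟨41,(Int.ofNat 1),1⟩] .nil .nil) .nil) (.node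 70 [⟨51,(Int.ofNat 1),1⟩] .nil .nil)))) (.node 98 [⟨82,(Int.negSucc 0),1⟩] (.node 87 [⟨67,(Int.negSucc 0),1⟩] (.node 85 [⟨60,(Int.negSucc 0),1⟩] (.node 79 [⟨54,(Int.ofNat 1),1⟩] (.node 75 [⟨53,(Int.ofNat 1),1⟩] .nil .nil) .nil) (.node 86 [⟨64,(Int.negSucc 0),1⟩] .nil .nil)) (.node 93 [⟨80,(Int.negSucc 0),1⟩] (.node 89 [⟨0,(Int.ofNat 0),1⟩, ⟨1,(Int.negSucc 0),1⟩, ⟨2,(Int.ofNat 0),1⟩, ⟨3,(Int.negSucc 0),1⟩, ⟨4,(Int.negSucc 0),1⟩, ⟨5,(Int.negSucc 0),1⟩, ⟨6,(Int.negSucc 0),1⟩, ⟨50,(Int.negSucc 0),2⟩] (.node 88 [⟨69,(Int.negSucc 0),1⟩] .nil .nil) .nil) (.node 96 [⟨81,(Int.negSucc 0),1⟩] .nil .nil))) (.node 115 [⟨104,(Int.negSucc 0),1⟩] (.node 112 [⟨102,(Int.negSucc 0),1⟩] (.node 109 [⟨101,(Int.negSucc 0),1⟩] (.node 99 [⟨83,(Int.negSucc 0),1⟩] .nil .nil) .nil) (.node 114 [⟨103,(Int.negSucc 0),1⟩]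 .nil .nil)) (.node 129 [⟨119,(Int.negSucc 0),1⟩] (.node 128 [⟨117,(Int.negSucc 0),1⟩] (.node 127 [⟨116,(Int.negSucc 0),1⟩] .nil .nil) .nil) (.node 130 [⟨122,(Int.negSucc 0),1⟩] .nil .nil)))))
noncomputable def col44 : Tr Cl := (.node 71 [⟨52,(Int.ofNat 1),1⟩] (.node 23 [⟨13,(Int.ofNat 1),1⟩] (.node 5 [⟨51,(Int.ofNat 1),1⟩] (.node 2 [⟨51,(Int.negSucc 0),1⟩] (.node 1 [⟨51,(Int.ofNat 1),1⟩] (.node 0 [⟨51,(Int.ofNat 0),1⟩] .nil .nil) .nil) (.node 4 [⟨51,(Int.ofNat 0),1⟩] (.node 3 [⟨51,(Int.ofNat 0),1⟩] .nil .nil) .nil)) (.node 19 [⟨10,(Int.negSucc 0),1⟩] (.node 16 [⟨9,(Int.negSucc 0),1⟩] (.node 6 [⟨51,(Int.negSucc 0),1⟩] .nil .nil) .nil) (.node 21 [⟨11,(Int.negSucc 0),1⟩] .nil .nil))) (.node 55 [⟨40,(Int.negSucc 0),1⟩] (.node 37 [⟨28,(Int.ofNat 1),1⟩] (.node 36 [⟨26,(Int.ofNat 1),1⟩] (.node 34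 [⟨24,(Int.negSucc 0),1⟩] .nil .nil) .nil) (.node 38 [⟨31,(Int.ofNat 1),1⟩] .nil .nil)) (.node 59 [⟨47,(Int.ofNat 1),1⟩] (.node 58 [⟨44,(Int.ofNat 1),1⟩] (.node 57 [⟨42,(Int.ofNat 1),1⟩] .nil .nil) .nil) (.node 69 [⟨50,(Int.ofNat 1),1⟩] .nil .nil)))) (.node 97 [⟨82,(Int.negSucc 0),1⟩] (.node 87 [⟨68,(Int.negSucc 0),1⟩] (.node 85 [⟨61,(Int.negSucc 0),1⟩] (.node 78 [⟨54,(Int.ofNat 1),1⟩] (.node 74 [⟨53,(Int.ofNat 1),1⟩] .nil .nil) .nil) (.node 86 [⟨65,(Int.negSucc 0),1⟩] .nil .nil)) (.node 92 [⟨80,(Int.negSucc 0),1⟩] (.node 89 [⟨70,(Int.negSucc 0),1⟩] (.node 88 [⟨0,(Int.ofNat 0),1⟩, ⟨1,(Int.negSucc 0),1⟩, ⟨2,(Int.ofNat 0),1⟩, ⟨3,(Int.negSucc 0),1⟩, ⟨4,(Int.negSucc 0),1⟩, ⟨5,(Int.negSucc 0),1⟩, ⟨6,(Int.ofNat 0),1⟩, ⟨51,(Int.negSucc 0),2⟩] .nil .nil) .nil) (.node 95 [⟨81,(Int.negSucc 0),1⟩] .nil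 .nil))) (.node 115 [⟨105,(Int.ofNat 1),1⟩] (.node 111 [⟨102,(Int.negSucc 0),1⟩] (.node 108 [⟨101,(Int.negSucc 0),1⟩] (.node 99 [⟨84,(Int.ofNat 1),1⟩] .nil .nil) .nil) (.node 113 [⟨103,(Int.negSucc 0),1⟩] .nil .nil)) (.node 129 [⟨120,(Int.ofNat 1),1⟩] (.node 128 [⟨118,(Int.ofNat 1),1⟩] (.node 126 [⟨116,(Int.negSucc 0),1⟩] .nil .nil) .nil) (.node 130 [⟨123,(Int.ofNat 1),1⟩] .nil .nil)))))
noncomputable def col45 : Tr Cl := (.node 68 [⟨51,(Int.ofNat 1),1⟩] (.node 22 [⟨13,(Int.negSucc 0),1⟩] (.node 5 [⟨52,(Int.negSucc 0),1⟩] (.node 2 [⟨52,(Int.negSucc 0),1⟩] (.node 1 [⟨52,(Int.ofNat 1),1⟩] (.node 0 [⟨52,(Int.ofNat 0),1⟩] .nil .nil) .nil) (.node 4 [⟨52,(Int.ofNat 1),1⟩] (.node 3 [⟨52,(Int.ofNat 0),1⟩] .nil .nil) .nil)) (.node 18 [⟨10,(Int.ofNat 1),1⟩] (.node 15 [⟨9,(Int.ofNat 1),1⟩] (.node 6 [⟨52,(Int.ofNat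 0),1⟩] .nil .nil) .nil) (.node 21 [⟨12,(Int.negSucc 0),1⟩] .nil .nil))) (.node 55 [⟨41,(Int.negSucc 0),1⟩] (.node 37 [⟨29,(Int.ofNat 1),1⟩] (.node 35 [⟨26,(Int.negSucc 0),1⟩] (.node 34 [⟨25,(Int.negSucc 0),1⟩] .nil .nil) .nil) (.node 38 [⟨32,(Int.ofNat 1),1⟩] .nil .nil)) (.node 59 [⟨48,(Int.ofNat 1),1⟩] (.node 58 [⟨45,(Int.ofNat 1),1⟩] (.node 56 [⟨42,(Int.negSucc 0),1⟩] .nil .nil) .nil) (.node 67 [⟨50,(Int.ofNat 1),1⟩] .nil .nil)))) (.node 97 [⟨83,(Int.ofNat 1),1⟩] (.node 87 [⟨0,(Int.ofNat 0),1⟩, ⟨1,(Int.negSucc 0),1⟩, ⟨2,(Int.ofNat 0),1⟩, ⟨3,(Int.negSucc 0),1⟩, ⟨4,(Int.negSucc 0),1⟩, ⟨5,(Int.ofNat 0),1⟩, ⟨6,(Int.ofNat 0),1⟩, ⟨52,(Int.negSucc 0),2⟩] (.node 85 [⟨62,(Int.negSucc 0),1⟩] (.node 77 [⟨54,(Int.ofNat 1),1⟩] (.node 73 [⟨53,(Int.ofNat 1),1⟩] .nil .nil) .nil) (.node 86 [⟨66,(Int.negSucc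 0),1⟩] .nil .nil)) (.node 91 [⟨80,(Int.negSucc 0),1⟩] (.node 89 [⟨72,(Int.negSucc 0),1⟩] (.node 88 [⟨71,(Int.negSucc 0),1⟩] .nil .nil) .nil) (.node 94 [⟨81,(Int.negSucc 0),1⟩] .nil .nil))) (.node 114 [⟨105,(Int.ofNat 1),1⟩] (.node 110 [⟨102,(Int.negSucc 0),1⟩] (.node 107 [⟨101,(Int.negSucc 0),1⟩] (.node 98 [⟨84,(Int.ofNat 1),1⟩] .nil .nil) .nil) (.node 113 [⟨104,(Int.ofNat 1),1⟩] .nil .nil)) (.node 129 [⟨121,(Int.negSucc 0),1⟩] (.node 127 [⟨118,(Int.ofNat 1),1⟩] (.node 126 [⟨117,(Int.ofNat 1),1⟩] .nil .nil) .nil) (.node 130 [⟨124,(Int.negSucc 0),1⟩] .nil .nil)))))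
noncomputable def col46 : Tr Cl := (.node 65 [⟨51,(Int.ofNat 1),1⟩] (.node 20 [⟨13,(Int.ofNat 1),1⟩] (.node 5 [⟨53,(Int.ofNat 0),1⟩] (.node 2 [⟨53,(Int.negSucc 0),1⟩] (.node 1 [⟨53,(Int.ofNat 1),1⟩] (.node 0 [⟨53,(Int.ofNat 0),1⟩] .nil .nil) .nil) (.node 4 [⟨53,(Int.negSucc 0),1⟩] (.node 3 [⟨53,(Int.ofNat 1),1⟩] .nil .nil) .nil)) (.node 18 [⟨11,(Int.ofNat 1),1⟩] (.node 14 [⟨9,(Int.negSucc 0),1⟩] (.node 6 [⟨53,(Int.ofNat 0),1⟩] .nil .nil) .nil) (.node 19 [⟨12,(Int.ofNat 1),1⟩] .nil .nil))) (.node 55 [⟨43,(Int.negSucc 0),1⟩] (.node 36 [⟨29,(Int.negSucc 0),1⟩] (.node 35 [⟨28,(Int.negSucc 0),1⟩] (.node 34 [⟨27,(Int.negSucc 0),1⟩] .nil .nil) .nil) (.node 38 [⟨33,(Int.ofNat 1),1⟩] .nil .nil)) (.node 59 [⟨49,(Int.ofNat 1),1⟩] (.node 57 [⟨45,(Int.negSucc 0),1⟩] (.node 56 [⟨44,(Int.negSucc 0),1⟩] .nil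 .nil) .nil) (.node 64 [⟨50,(Int.ofNat 1),1⟩] .nil .nil)))) (.node 95 [⟨83,(Int.ofNat 1),1⟩] (.node 87 [⟨73,(Int.negSucc 0),1⟩] (.node 85 [⟨63,(Int.negSucc 0),1⟩] (.node 76 [⟨54,(Int.ofNat 1),1⟩] (.node 66 [⟨52,(Int.ofNat 1),1⟩] .nil .nil) .nil) (.node 86 [⟨0,(Int.ofNat 0),1⟩, ⟨1,(Int.negSucc 0),1⟩, ⟨2,(Int.ofNat 0),1⟩, ⟨3,(Int.negSucc 0),1⟩, ⟨4,(Int.ofNat 0),1⟩, ⟨5,(Int.ofNat 0),1⟩, ⟨6,(Int.ofNat 0),1⟩, ⟨53,(Int.negSucc 0),2⟩] .nil .nil)) (.node 90 [⟨80,(Int.negSucc 0),1⟩] (.node 89 [⟨75,(Int.negSucc 0),1⟩] (.node 88 [⟨74,(Int.negSucc 0),1⟩] .nil .nil) .nil) (.node 94 [⟨82,(Int.ofNat 1),1⟩] .nil .nil))) (.node 112 [⟨105,(Int.ofNat 1),1⟩] (.node 110 [⟨103,(Int.ofNat 1),1⟩] (.node 106 [⟨101,(Int.negSucc 0),1⟩] (.node 96 [⟨84,(Int.ofNat 1),1⟩] .nil .nil) .nil) (.node 111 [⟨104,(Int.ofNat 1),1⟩]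 .nil .nil)) (.node 128 [⟨121,(Int.negSucc 0),1⟩] (.node 127 [⟨120,(Int.negSucc 0),1⟩] (.node 126 [⟨119,(Int.negSucc 0),1⟩] .nil .nil) .nil) (.node 130 [⟨125,(Int.ofNat 1),1⟩] .nil .nil)))))
noncomputable def col47 : Tr Cl := (.node 61 [⟨51,(Int.ofNat 1),1⟩] (.node 17 [⟨13,(Int.negSucc 0),1⟩] (.node 5 [⟨54,(Int.ofNat 0),1⟩] (.node 2 [⟨54,(Int.ofNat 0),1⟩] (.node 1 [⟨54,(Int.ofNat 2),1⟩] (.node 0 [⟨54,(Int.ofNat 0),1⟩] .nil .nil) .nil) (.node 4 [⟨54,(Int.ofNat 0),1⟩] (.node 3 [⟨54,(Int.negSucc 0),1⟩] .nil .nil) .nil)) (.node 15 [⟨11,(Int.negSucc 0),1⟩] (.node 14 [⟨10,(Int.negSucc 0),1⟩] (.node 6 [⟨54,(Int.ofNat 0),1⟩] .nil .nil) .nil) (.node 16 [⟨12,(Int.negSucc 0),1⟩] .nil .nil))) (.node 55 [⟨46,(Int.negSucc 0),1⟩] (.node 36 [⟨32,(Int.negSucc 0),1⟩] (.node 35 [⟨31,(Int.negSucc 0),1⟩] (.node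 34 [⟨30,(Int.negSucc 0),1⟩] .nil .nil) .nil) (.node 37 [⟨33,(Int.negSucc 0),1⟩] .nil .nil)) (.node 58 [⟨49,(Int.negSucc 0),1⟩] (.node 57 [⟨48,(Int.negSucc 0),1⟩] (.node 56 [⟨47,(Int.negSucc 0),1⟩] .nil .nil) .nil) (.node 60 [⟨50,(Int.ofNat 1),1⟩] .nil .nil)))) (.node 92 [⟨83,(Int.ofNat 1),1⟩] (.node 87 [⟨77,(Int.negSucc 0),1⟩] (.node 85 [⟨0,(Int.ofNat 0),1⟩, ⟨1,(Int.negSucc 0),1⟩, ⟨2,(Int.ofNat 0),1⟩, ⟨3,(Int.ofNat 0),1⟩, ⟨4,(Int.ofNat 0),1⟩, ⟨5,(Int.ofNat 0),1⟩, ⟨6,(Int.ofNat 0),1⟩, ⟨54,(Int.negSucc 0),2⟩] (.node 63 [⟨53,(Int.ofNat 1),1⟩] (.node 62 [⟨52,(Int.ofNat 1),1⟩] .nil .nil) .nil) (.node 86 [⟨76,(Int.negSucc 0),1⟩] .nil .nil)) (.node 90 [⟨81,(Int.ofNat 1),1⟩] (.node 89 [⟨79,(Int.negSucc 0),1⟩] (.node 88 [⟨78,(Int.negSucc 0),1⟩] .nil .nil) .nil) (.node 91 [⟨82,(Int.ofNat 1),1⟩] .nil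 .nil))) (.node 109 [⟨105,(Int.ofNat 1),1⟩] (.node 107 [⟨103,(Int.ofNat 1),1⟩] (.node 106 [⟨102,(Int.ofNat 1),1⟩] (.node 93 [⟨84,(Int.ofNat 1),1⟩] .nil .nil) .nil) (.node 108 [⟨104,(Int.ofNat 1),1⟩] .nil .nil)) (.node 128 [⟨124,(Int.ofNat 1),1⟩] (.node 127 [⟨123,(Int.ofNat 1),1⟩] (.node 126 [⟨122,(Int.ofNat 1),1⟩] .nil .nil) .nil) (.node 129 [⟨125,(Int.ofNat 1),1⟩] .nil .nil)))))
noncomputable def col48 : Tr Cl := (.node 72 [⟨57,(Int.ofNat 1),1⟩] (.node 29 [⟨16,(Int.negSucc 0),1⟩] (.node 5 [⟨55,(Int.ofNat 0),1⟩] (.node 2 [⟨55,(Int.ofNat 1),1⟩] (.node 1 [⟨55,(Int.negSucc 0),1⟩] (.node 0 [⟨55,(Int.negSucc 0),1⟩] .nil .nil) .nil) (.node 4 [⟨55,(Int.ofNat 0),1⟩] (.node 3 [⟨55,(Int.ofNat 0),1⟩] .nil .nil) .nil)) (.node 26 [⟨14,(Int.negSucc 0),1⟩] (.node 13 [⟨8,(Int.negSucc 0),1⟩] (.node 6 [⟨55,(Int.ofNat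 1),1⟩] .nil .nil) .nil) (.node 28 [⟨15,(Int.negSucc 0),1⟩] .nil .nil))) (.node 51 [⟨40,(Int.ofNat 1),1⟩] (.node 33 [⟨21,(Int.negSucc 0),1⟩] (.node 32 [⟨19,(Int.negSucc 0),1⟩] (.node 31 [⟨18,(Int.negSucc 0),1⟩] .nil .nil) .nil) (.node 39 [⟨34,(Int.negSucc 0),1⟩] .nil .nil)) (.node 54 [⟨46,(Int.ofNat 1),1⟩] (.node 53 [⟨43,(Int.ofNat 1),1⟩] (.node 52 [⟨41,(Int.ofNat 1),1⟩] .nil .nil) .nil) (.node 70 [⟨56,(Int.ofNat 1),1⟩] .nil .nil)))) (.node 98 [⟨87,(Int.negSucc 0),1⟩] (.node 82 [⟨67,(Int.negSucc 0),1⟩] (.node 80 [⟨60,(Int.negSucc 0),1⟩] (.node 79 [⟨59,(Int.ofNat 1),1⟩] (.node 75 [⟨58,(Int.ofNat 1),1⟩] .nil .nil) .nil) (.node 81 [⟨64,(Int.negSucc 0),1⟩] .nil .nil)) (.node 93 [⟨85,(Int.negSucc 0),1⟩] (.node 84 [⟨0,(Int.ofNat 0),1⟩, ⟨1,(Int.ofNat 0),1⟩, ⟨2,(Int.negSucc 0),1⟩, ⟨3,(Int.negSucc 0),1⟩,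 ⟨4,(Int.negSucc 0),1⟩, ⟨5,(Int.negSucc 0),1⟩, ⟨6,(Int.negSucc 0),1⟩, ⟨55,(Int.negSucc 0),2⟩] (.node 83 [⟨69,(Int.negSucc 0),1⟩] .nil .nil) .nil) (.node 96 [⟨86,(Int.negSucc 0),1⟩] .nil .nil))) (.node 121 [⟨108,(Int.ofNat 1),1⟩] (.node 118 [⟨106,(Int.ofNat 1),1⟩] (.node 105 [⟨100,(Int.ofNat 1),1⟩] (.node 99 [⟨88,(Int.negSucc 0),1⟩] .nil .nil) .nil) (.node 120 [⟨107,(Int.ofNat 1),1⟩] .nil .nil)) (.node 125 [⟨113,(Int.ofNat 1),1⟩] (.node 124 [⟨111,(Int.ofNat 1),1⟩] (.node 123 [⟨110,(Int.ofNat 1),1⟩] .nil .nil) .nil) (.node 131 [⟨126,(Int.ofNat 1),1⟩] .nil .nil)))))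
noncomputable def col49 : Tr Cl := (.node 71 [⟨57,(Int.ofNat 1),1⟩] (.node 29 [⟨17,(Int.negSucc 0),1⟩] (.node 5 [⟨56,(Int.ofNat 1),1⟩] (.node 2 [⟨56,(Int.ofNat 1),1⟩] (.node 1 [⟨56,(Int.negSucc 0),1⟩] (.node 0 [⟨56,(Int.negSucc 0),1⟩] .nil .nil) .nil) (.node 4 [⟨56,(Int.ofNat 0),1⟩] (.node 3 [⟨56,(Int.ofNat 0),1⟩] .nil .nil) .nil)) (.node 25 [⟨14,(Int.ofNat 1),1⟩] (.node 12 [⟨8,(Int.ofNat 1),1⟩] (.node 6 [⟨56,(Int.negSucc 0),1⟩] .nil .nil) .nil) (.node 27 [⟨15,(Int.ofNat 1),1⟩] .nil .nil))) (.node 50 [⟨40,(Int.negSucc 0),1⟩] (.node 33 [⟨22,(Int.negSucc 0),1⟩] (.node 32 [⟨20,(Int.negSucc 0),1⟩] (.node 30 [⟨18,(Int.ofNat 1),1⟩] .nil .nil) .nil) (.node 39 [⟨35,(Int.negSucc 0),1⟩] .nil .nil)) (.node 54 [⟨47,(Int.ofNat 1),1⟩] (.node 53 [⟨44,(Int.ofNat 1),1⟩] (.node 52 [⟨42,(Int.ofNat 1),1⟩] .nil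 .nil) .nil) (.node 69 [⟨55,(Int.ofNat 1),1⟩] .nil .nil)))) (.node 97 [⟨87,(Int.negSucc 0),1⟩] (.node 82 [⟨68,(Int.negSucc 0),1⟩] (.node 80 [⟨61,(Int.negSucc 0),1⟩] (.node 78 [⟨59,(Int.ofNat 1),1⟩] (.node 74 [⟨58,(Int.ofNat 1),1⟩] .nil .nil) .nil) (.node 81 [⟨65,(Int.negSucc 0),1⟩] .nil .nil)) (.node 92 [⟨85,(Int.negSucc 0),1⟩] (.node 84 [⟨70,(Int.negSucc 0),1⟩] (.node 83 [⟨0,(Int.ofNat 0),1⟩, ⟨1,(Int.ofNat 0),1⟩, ⟨2,(Int.negSucc 0),1⟩, ⟨3,(Int.negSucc 0),1⟩, ⟨4,(Int.negSucc 0),1⟩, ⟨5,(Int.negSucc 0),1⟩, ⟨6,(Int.ofNat 0),1⟩, ⟨56,(Int.negSucc 0),2⟩] .nil .nil) .nil) (.node 95 [⟨86,(Int.negSucc 0),1⟩] .nil .nil))) (.node 121 [⟨109,(Int.negSucc 0),1⟩] (.node 117 [⟨106,(Int.ofNat 1),1⟩] (.node 104 [⟨100,(Int.ofNat 1),1⟩] (.node 99 [⟨89,(Int.ofNat 1),1⟩] .nil .nil) .nil) (.node 119 [⟨107,(Int.ofNat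 1),1⟩] .nil .nil)) (.node 125 [⟨114,(Int.negSucc 0),1⟩] (.node 124 [⟨112,(Int.negSucc 0),1⟩] (.node 122 [⟨110,(Int.ofNat 1),1⟩] .nil .nil) .nil) (.node 131 [⟨127,(Int.negSucc 0),1⟩] .nil .nil)))))
noncomputable def col50 : Tr Cl := (.node 68 [⟨56,(Int.ofNat 1),1⟩] (.node 28 [⟨17,(Int.ofNat 1),1⟩] (.node 5 [⟨57,(Int.negSucc 0),1⟩] (.node 2 [⟨57,(Int.ofNat 1),1⟩] (.node 1 [⟨57,(Int.negSucc 0),1⟩] (.node 0 [⟨57,(Int.negSucc 0),1⟩] .nil .nil) .nil) (.node 4 [⟨57,(Int.ofNat 1),1⟩] (.node 3 [⟨57,(Int.ofNat 0),1⟩] .nil .nil) .nil)) (.node 24 [⟨14,(Int.negSucc 0),1⟩] (.node 11 [⟨8,(Int.negSucc 0),1⟩] (.node 6 [⟨57,(Int.ofNat 0),1⟩] .nil .nil) .nil) (.node 27 [⟨16,(Int.ofNat 1),1⟩] .nil .nil))) (.node 50 [⟨41,(Int.negSucc 0),1⟩] (.node 33 [⟨23,(Int.negSucc 0),1⟩] (.node 31 [⟨20,(Int.ofNat 1),1⟩] (.node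 30 [⟨19,(Int.ofNat 1),1⟩] .nil .nil) .nil) (.node 39 [⟨36,(Int.negSucc 0),1⟩] .nil .nil)) (.node 54 [⟨48,(Int.ofNat 1),1⟩] (.node 53 [⟨45,(Int.ofNat 1),1⟩] (.node 51 [⟨42,(Int.negSucc 0),1⟩] .nil .nil) .nil) (.node 67 [⟨55,(Int.ofNat 1),1⟩] .nil .nil)))) (.node 97 [⟨88,(Int.ofNat 1),1⟩] (.node 82 [⟨0,(Int.ofNat 0),1⟩, ⟨1,(Int.ofNat 0),1⟩, ⟨2,(Int.negSucc 0),1⟩, ⟨3,(Int.negSucc 0),1⟩, ⟨4,(Int.negSucc 0),1⟩, ⟨5,(Int.ofNat 0),1⟩, ⟨6,(Int.ofNat 0),1⟩, ⟨57,(Int.negSucc 0),2⟩] (.node 80 [⟨62,(Int.negSucc 0),1⟩] (.node 77 [⟨59,(Int.ofNat 1),1⟩] (.node 73 [⟨58,(Int.ofNat 1),1⟩] .nil .nil) .nil) (.node 81 [⟨66,(Int.negSucc 0),1⟩] .nil .nil)) (.node 91 [⟨85,(Int.negSucc 0),1⟩] (.node 84 [⟨72,(Int.negSucc 0),1⟩] (.node 83 [⟨71,(Int.negSucc 0),1⟩] .nil .nil) .nil) (.node 94 [⟨86,(Int.negSucc 0),1⟩] .nil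 .nil))) (.node 120 [⟨109,(Int.negSucc 0),1⟩] (.node 116 [⟨106,(Int.ofNat 1),1⟩] (.node 103 [⟨100,(Int.ofNat 1),1⟩] (.node 98 [⟨89,(Int.ofNat 1),1⟩] .nil .nil) .nil) (.node 119 [⟨108,(Int.negSucc 0),1⟩] .nil .nil)) (.node 125 [⟨115,(Int.ofNat 1),1⟩] (.node 123 [⟨112,(Int.negSucc 0),1⟩] (.node 122 [⟨111,(Int.negSucc 0),1⟩] .nil .nil) .nil) (.node 131 [⟨128,(Int.ofNat 1),1⟩] .nil .nil)))))
noncomputable def col51 : Tr Cl := (.node 65 [⟨56,(Int.ofNat 1),1⟩] (.node 26 [⟨17,(Int.negSucc 0),1⟩] (.node 5 [⟨58,(Int.ofNat 0),1⟩] (.node 2 [⟨58,(Int.ofNat 1),1⟩] (.node 1 [⟨58,(Int.negSucc 0),1⟩] (.node 0 [⟨58,(Int.negSucc 0),1⟩] .nil .nil) .nil) (.node 4 [⟨58,(Int.negSucc 0),1⟩] (.node 3 [⟨58,(Int.ofNat 1),1⟩] .nil .nil) .nil)) (.node 24 [⟨15,(Int.negSucc 0),1⟩] (.node 10 [⟨8,(Int.ofNat 1),1⟩] (.node 6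 [⟨58,(Int.ofNat 0),1⟩] .nil .nil) .nil) (.node 25 [⟨16,(Int.negSucc 0),1⟩] .nil .nil))) (.node 50 [⟨43,(Int.negSucc 0),1⟩] (.node 32 [⟨23,(Int.ofNat 1),1⟩] (.node 31 [⟨22,(Int.ofNat 1),1⟩] (.node 30 [⟨21,(Int.ofNat 1),1⟩] .nil .nil) .nil) (.node 39 [⟨37,(Int.negSucc 0),1⟩] .nil .nil)) (.node 54 [⟨49,(Int.ofNat 1),1⟩] (.node 52 [⟨45,(Int.negSucc 0),1⟩] (.node 51 [⟨44,(Int.negSucc 0),1⟩] .nil .nil) .nil) (.node 64 [⟨55,(Int.ofNat 1),1⟩] .nil .nil)))) (.node 95 [⟨88,(Int.ofNat 1),1⟩] (.node 82 [⟨73,(Int.negSucc 0),1⟩] (.node 80 [⟨63,(Int.negSucc 0),1⟩] (.node 76 [⟨59,(Int.ofNat 1),1⟩] (.node 66 [⟨57,(Int.ofNat 1),1⟩] .nil .nil) .nil) (.node 81 [⟨0,(Int.ofNat 0),1⟩, ⟨1,(Int.ofNat 0),1⟩, ⟨2,(Int.negSucc 0),1⟩, ⟨3,(Int.negSucc 0),1⟩, ⟨4,(Int.ofNat 0),1⟩, ⟨5,(Int.ofNat 0),1⟩, ⟨6,(Int.ofNat 0),1⟩,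 ⟨58,(Int.negSucc 0),2⟩] .nil .nil)) (.node 90 [⟨85,(Int.negSucc 0),1⟩] (.node 84 [⟨75,(Int.negSucc 0),1⟩] (.node 83 [⟨74,(Int.negSucc 0),1⟩] .nil .nil) .nil) (.node 94 [⟨87,(Int.ofNat 1),1⟩] .nil .nil))) (.node 118 [⟨109,(Int.negSucc 0),1⟩] (.node 116 [⟨107,(Int.negSucc 0),1⟩] (.node 102 [⟨100,(Int.ofNat 1),1⟩] (.node 96 [⟨89,(Int.ofNat 1),1⟩] .nil .nil) .nil) (.node 117 [⟨108,(Int.negSucc 0),1⟩] .nil .nil)) (.node 124 [⟨115,(Int.ofNat 1),1⟩] (.node 123 [⟨114,(Int.ofNat 1),1⟩] (.node 122 [⟨113,(Int.ofNat 1),1⟩] .nil .nil) .nil) (.node 131 [⟨129,(Int.negSucc 0),1⟩] .nil .nil)))))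
noncomputable def col52 : Tr Cl := (.node 61 [⟨56,(Int.ofNat 1),1⟩] (.node 26 [⟨20,(Int.negSucc 0),1⟩] (.node 5 [⟨59,(Int.ofNat 0),1⟩] (.node 2 [⟨59,(Int.ofNat 2),1⟩] (.node 1 [⟨59,(Int.ofNat 0),1⟩] (.node 0 [⟨59,(Int.negSucc 0),1⟩] .nil .nil) .nil) (.node 4 [⟨59,(Int.ofNat 0),1⟩] (.node 3 [⟨59,(Int.negSucc 0),1⟩] .nil .nil) .nil)) (.node 24 [⟨18,(Int.negSucc 0),1⟩] (.node 9 [⟨8,(Int.negSucc 0),1⟩] (.node 6 [⟨59,(Int.ofNat 0),1⟩] .nil .nil) .nil) (.node 25 [⟨19,(Int.negSucc 0),1⟩] .nil .nil))) (.node 50 [⟨46,(Int.negSucc 0),1⟩] (.node 29 [⟨23,(Int.negSucc 0),1⟩] (.node 28 [⟨22,(Int.negSucc 0),1⟩] (.node 27 [⟨21,(Int.negSucc 0),1⟩] .nil .nil) .nil) (.node 39 [⟨38,(Int.negSucc 0),1⟩] .nil .nil)) (.node 53 [⟨49,(Int.negSucc 0),1⟩] (.node 52 [⟨48,(Int.negSucc 0),1⟩] (.node 51 [⟨47,(Int.negSucc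 0),1⟩] .nil .nil) .nil) (.node 60 [⟨55,(Int.ofNat 1),1⟩] .nil .nil)))) (.node 92 [⟨88,(Int.ofNat 1),1⟩] (.node 82 [⟨77,(Int.negSucc 0),1⟩] (.node 80 [⟨0,(Int.ofNat 0),1⟩, ⟨1,(Int.ofNat 0),1⟩, ⟨2,(Int.negSucc 0),1⟩, ⟨3,(Int.ofNat 0),1⟩, ⟨4,(Int.ofNat 0),1⟩, ⟨5,(Int.ofNat 0),1⟩, ⟨6,(Int.ofNat 0),1⟩, ⟨59,(Int.negSucc 0),2⟩] (.node 63 [⟨58,(Int.ofNat 1),1⟩] (.node 62 [⟨57,(Int.ofNat 1),1⟩] .nil .nil) .nil) (.node 81 [⟨76,(Int.negSucc 0),1⟩] .nil .nil)) (.node 90 [⟨86,(Int.ofNat 1),1⟩] (.node 84 [⟨79,(Int.negSucc 0),1⟩] (.node 83 [⟨78,(Int.negSucc 0),1⟩] .nil .nil) .nil) (.node 91 [⟨87,(Int.ofNat 1),1⟩] .nil .nil))) (.node 118 [⟨112,(Int.ofNat 1),1⟩] (.node 116 [⟨110,(Int.ofNat 1),1⟩] (.node 101 [⟨100,(Int.ofNat 1),1⟩] (.node 93 [⟨89,(Int.ofNat 1),1⟩] .nil .nil) .nil) (.node 117 [⟨111,(Int.ofNat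 1),1⟩] .nil .nil)) (.node 121 [⟨115,(Int.ofNat 1),1⟩] (.node 120 [⟨114,(Int.ofNat 1),1⟩] (.node 119 [⟨113,(Int.ofNat 1),1⟩] .nil .nil) .nil) (.node 131 [⟨130,(Int.ofNat 1),1⟩] .nil .nil)))))
noncomputable def col53 : Tr Cl := (.node 70 [⟨61,(Int.ofNat 1),1⟩] (.node 23 [⟨16,(Int.negSucc 0),1⟩] (.node 5 [⟨60,(Int.ofNat 0),1⟩] (.node 2 [⟨60,(Int.negSucc 0),1⟩] (.node 1 [⟨60,(Int.negSucc 0),1⟩] (.node 0 [⟨60,(Int.ofNat 0),1⟩] .nil .nil) .nil) (.node 4 [⟨60,(Int.ofNat 0),1⟩] (.node 3 [⟨60,(Int.ofNat 1),1⟩] .nil .nil) .nil)) (.node 20 [⟨14,(Int.negSucc 0),1⟩] (.node 13 [⟨9,(Int.ofNat 1),1⟩] (.node 6 [⟨60,(Int.ofNat 1),1⟩] .nil .nil) .nil) (.node 22 [⟨15,(Int.negSucc 0),1⟩] .nil .nil))) (.node 47 [⟨40,(Int.ofNat 1),1⟩] (.node 33 [⟨27,(Int.ofNat 1),1⟩] (.node 32 [⟨25,(Int.ofNat 1),1⟩] (.node 31 [⟨24,(Int.ofNat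 1),1⟩] .nil .nil) .nil) (.node 38 [⟨34,(Int.negSucc 0),1⟩] .nil .nil)) (.node 54 [⟨50,(Int.negSucc 0),1⟩] (.node 49 [⟨43,(Int.ofNat 1),1⟩] (.node 48 [⟨41,(Int.ofNat 1),1⟩] .nil .nil) .nil) (.node 59 [⟨55,(Int.negSucc 0),1⟩] .nil .nil)))) (.node 98 [⟨91,(Int.negSucc 0),1⟩] (.node 78 [⟨69,(Int.negSucc 0),1⟩] (.node 76 [⟨64,(Int.negSucc 0),1⟩] (.node 75 [⟨63,(Int.ofNat 1),1⟩] (.node 72 [⟨62,(Int.ofNat 1),1⟩] .nil .nil) .nil) (.node 77 [⟨67,(Int.negSucc 0),1⟩] .nil .nil)) (.node 89 [⟨85,(Int.ofNat 1),1⟩] (.node 84 [⟨80,(Int.ofNat 1),1⟩] (.node 79 [⟨0,(Int.ofNat 0),1⟩, ⟨1,(Int.ofNat 0),1⟩, ⟨2,(Int.ofNat 0),1⟩, ⟨3,(Int.negSucc 0),1⟩, ⟨4,(Int.negSucc 0),1⟩, ⟨5,(Int.negSucc 0),1⟩, ⟨6,(Int.negSucc 0),1⟩, ⟨60,(Int.negSucc 0),2⟩] .nil .nil) .nil) (.node 96 [⟨90,(Int.negSucc 0),1⟩] .nil .nil))) (.node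 115 [⟨108,(Int.negSucc 0),1⟩] (.node 112 [⟨106,(Int.negSucc 0),1⟩] (.node 105 [⟨101,(Int.ofNat 1),1⟩] (.node 99 [⟨92,(Int.negSucc 0),1⟩] .nil .nil) .nil) (.node 114 [⟨107,(Int.negSucc 0),1⟩] .nil .nil)) (.node 125 [⟨119,(Int.ofNat 1),1⟩] (.node 124 [⟨117,(Int.ofNat 1),1⟩] (.node 123 [⟨116,(Int.ofNat 1),1⟩] .nil .nil) .nil) (.node 130 [⟨126,(Int.negSucc 0),1⟩] .nil .nil)))))
noncomputable def col54 : Tr Cl := (.node 69 [⟨60,(Int.ofNat 1),1⟩] (.node 23 [⟨17,(Int.negSucc 0),1⟩] (.node 5 [⟨61,(Int.ofNat 1),1⟩] (.node 2 [⟨61,(Int.negSucc 0),1⟩] (.node 1 [⟨61,(Int.negSucc 0),1⟩] (.node 0 [⟨61,(Int.ofNat 0),1⟩] .nil .nil) .nil) (.node 4 [⟨61,(Int.ofNat 0),1⟩] (.node 3 [⟨61,(Int.ofNat 1),1⟩] .nil .nil) .nil)) (.node 19 [⟨14,(Int.ofNat 1),1⟩] (.node 12 [⟨9,(Int.negSucc 0),1⟩] (.node 6 [⟨61,(Int.negSucc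 0),1⟩] .nil .nil) .nil) (.node 21 [⟨15,(Int.ofNat 1),1⟩] .nil .nil))) (.node 46 [⟨40,(Int.negSucc 0),1⟩] (.node 33 [⟨28,(Int.ofNat 1),1⟩] (.node 32 [⟨26,(Int.ofNat 1),1⟩] (.node 30 [⟨24,(Int.negSucc 0),1⟩] .nil .nil) .nil) (.node 38 [⟨35,(Int.negSucc 0),1⟩] .nil .nil)) (.node 54 [⟨51,(Int.negSucc 0),1⟩] (.node 49 [⟨44,(Int.ofNat 1),1⟩] (.node 48 [⟨42,(Int.ofNat 1),1⟩] .nil .nil) .nil) (.node 59 [⟨56,(Int.negSucc 0),1⟩] .nil .nil)))) (.node 97 [⟨91,(Int.negSucc 0),1⟩] (.node 78 [⟨0,(Int.ofNat 0),1⟩, ⟨1,(Int.ofNat 0),1⟩, ⟨2,(Int.ofNat 0),1⟩, ⟨3,(Int.negSucc 0),1⟩, ⟨4,(Int.negSucc 0),1⟩, ⟨5,(Int.negSucc 0),1⟩, ⟨6,(Int.ofNat 0),1⟩, ⟨61,(Int.negSucc 0),2⟩] (.node 76 [⟨65,(Int.negSucc 0),1⟩] (.node 74 [⟨63,(Int.ofNat 1),1⟩] (.node 71 [⟨62,(Int.ofNat 1),1⟩] .nil .nil) .nil) (.node 77 [⟨68,(Int.negSucc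 0),1⟩] .nil .nil)) (.node 88 [⟨85,(Int.ofNat 1),1⟩] (.node 83 [⟨80,(Int.ofNat 1),1⟩] (.node 79 [⟨70,(Int.negSucc 0),1⟩] .nil .nil) .nil) (.node 95 [⟨90,(Int.negSucc 0),1⟩] .nil .nil))) (.node 115 [⟨109,(Int.ofNat 1),1⟩] (.node 111 [⟨106,(Int.negSucc 0),1⟩] (.node 104 [⟨101,(Int.ofNat 1),1⟩] (.node 99 [⟨93,(Int.ofNat 1),1⟩] .nil .nil) .nil) (.node 113 [⟨107,(Int.negSucc 0),1⟩] .nil .nil)) (.node 125 [⟨120,(Int.negSucc 0),1⟩] (.node 124 [⟨118,(Int.negSucc 0),1⟩] (.node 122 [⟨116,(Int.ofNat 1),1⟩] .nil .nil) .nil) (.node 130 [⟨127,(Int.ofNat 1),1⟩] .nil .nil)))))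
noncomputable def col55 : Tr Cl := (.node 67 [⟨60,(Int.ofNat 1),1⟩] (.node 22 [⟨17,(Int.ofNat 1),1⟩] (.node 5 [⟨62,(Int.negSucc 0),1⟩] (.node 2 [⟨62,(Int.negSucc 0),1⟩] (.node 1 [⟨62,(Int.negSucc 0),1⟩] (.node 0 [⟨62,(Int.ofNat 0),1⟩] .nil .nil) .nil) (.node 4 [⟨62,(Int.ofNat 1),1⟩] (.node 3 [⟨62,(Int.ofNat 1),1⟩] .nil .nil) .nil)) (.node 18 [⟨14,(Int.negSucc 0),1⟩] (.node 11 [⟨9,(Int.ofNat 1),1⟩] (.node 6 [⟨62,(Int.ofNat 0),1⟩] .nil .nil) .nil) (.node 21 [⟨16,(Int.ofNat 1),1⟩] .nil .nil))) (.node 46 [⟨41,(Int.negSucc 0),1⟩] (.node 33 [⟨29,(Int.ofNat 1),1⟩] (.node 31 [⟨26,(Int.negSucc 0),1⟩] (.node 30 [⟨25,(Int.negSucc 0),1⟩] .nil .nil) .nil) (.node 38 [⟨36,(Int.negSucc 0),1⟩] .nil .nil)) (.node 54 [⟨52,(Int.negSucc 0),1⟩] (.node 49 [⟨45,(Int.ofNat 1),1⟩] (.node 47 [⟨42,(Int.negSucc 0),1⟩]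 .nil .nil) .nil) (.node 59 [⟨57,(Int.negSucc 0),1⟩] .nil .nil)))) (.node 97 [⟨92,(Int.ofNat 1),1⟩] (.node 78 [⟨71,(Int.negSucc 0),1⟩] (.node 76 [⟨66,(Int.negSucc 0),1⟩] (.node 73 [⟨63,(Int.ofNat 1),1⟩] (.node 68 [⟨61,(Int.ofNat 1),1⟩] .nil .nil) .nil) (.node 77 [⟨0,(Int.ofNat 0),1⟩, ⟨1,(Int.ofNat 0),1⟩, ⟨2,(Int.ofNat 0),1⟩, ⟨3,(Int.negSucc 0),1⟩, ⟨4,(Int.negSucc 0),1⟩, ⟨5,(Int.ofNat 0),1⟩, ⟨6,(Int.ofNat 0),1⟩, ⟨62,(Int.negSucc 0),2⟩] .nil .nil)) (.node 87 [⟨85,(Int.ofNat 1),1⟩] (.node 82 [⟨80,(Int.ofNat 1),1⟩] (.node 79 [⟨72,(Int.negSucc 0),1⟩] .nil .nil) .nil) (.node 94 [⟨90,(Int.negSucc 0),1⟩] .nil .nil))) (.node 114 [⟨109,(Int.ofNat 1),1⟩] (.node 110 [⟨106,(Int.negSucc 0),1⟩] (.node 103 [⟨101,(Int.ofNat 1),1⟩] (.node 98 [⟨93,(Int.ofNat 1),1⟩] .nil .nil) .nil) (.node 113 [⟨108,(Int.ofNat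 1),1⟩] .nil .nil)) (.node 125 [⟨121,(Int.ofNat 1),1⟩] (.node 123 [⟨118,(Int.negSucc 0),1⟩] (.node 122 [⟨117,(Int.negSucc 0),1⟩] .nil .nil) .nil) (.node 130 [⟨128,(Int.negSucc 0),1⟩] .nil .nil)))))
noncomputable def col56 : Tr Cl := (.node 64 [⟨60,(Int.ofNat 1),1⟩] (.node 20 [⟨17,(Int.negSucc 0),1⟩] (.node 5 [⟨63,(Int.ofNat 0),1⟩] (.node 2 [⟨63,(Int.negSucc 0),1⟩] (.node 1 [⟨63,(Int.negSucc 0),1⟩] (.node 0 [⟨63,(Int.ofNat 0),1⟩] .nil .nil) .nil) (.node 4 [⟨63,(Int.negSucc 0),1⟩] (.node 3 [⟨63,(Int.ofNat 2),1⟩] .nil .nil) .nil)) (.node 18 [⟨15,(Int.negSucc 0),1⟩] (.node 10 [⟨9,(Int.negSucc 0),1⟩] (.node 6 [⟨63,(Int.ofNat 0),1⟩] .nil .nil) .nil) (.node 19 [⟨16,(Int.negSucc 0),1⟩] .nil .nil))) (.node 46 [⟨43,(Int.negSucc 0),1⟩] (.node 32 [⟨29,(Int.negSucc 0),1⟩] (.node 31 [⟨28,(Int.negSucc 0),1⟩]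 (.node 30 [⟨27,(Int.negSucc 0),1⟩] .nil .nil) .nil) (.node 38 [⟨37,(Int.negSucc 0),1⟩] .nil .nil)) (.node 54 [⟨53,(Int.negSucc 0),1⟩] (.node 48 [⟨45,(Int.negSucc 0),1⟩] (.node 47 [⟨44,(Int.negSucc 0),1⟩] .nil .nil) .nil) (.node 59 [⟨58,(Int.negSucc 0),1⟩] .nil .nil)))) (.node 95 [⟨92,(Int.ofNat 1),1⟩] (.node 78 [⟨74,(Int.negSucc 0),1⟩] (.node 76 [⟨0,(Int.ofNat 0),1⟩, ⟨1,(Int.ofNat 0),1⟩, ⟨2,(Int.ofNat 0),1⟩, ⟨3,(Int.negSucc 0),1⟩, ⟨4,(Int.ofNat 0),1⟩, ⟨5,(Int.ofNat 0),1⟩, ⟨6,(Int.ofNat 0),1⟩, ⟨63,(Int.negSucc 0),2⟩] (.node 66 [⟨62,(Int.ofNat 1),1⟩] (.node 65 [⟨61,(Int.ofNat 1),1⟩] .nil .nil) .nil) (.node 77 [⟨73,(Int.negSucc 0),1⟩] .nil .nil)) (.node 86 [⟨85,(Int.ofNat 1),1⟩] (.node 81 [⟨80,(Int.ofNat 1),1⟩] (.node 79 [⟨75,(Int.negSucc 0),1⟩] .nil .nil) .nil) (.node 94 [⟨91,(Int.ofNat 1),1⟩]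 .nil .nil))) (.node 112 [⟨109,(Int.ofNat 1),1⟩] (.node 110 [⟨107,(Int.ofNat 1),1⟩] (.node 102 [⟨101,(Int.ofNat 1),1⟩] (.node 96 [⟨93,(Int.ofNat 1),1⟩] .nil .nil) .nil) (.node 111 [⟨108,(Int.ofNat 1),1⟩] .nil .nil)) (.node 124 [⟨121,(Int.ofNat 1),1⟩] (.node 123 [⟨120,(Int.ofNat 1),1⟩] (.node 122 [⟨119,(Int.ofNat 1),1⟩] .nil .nil) .nil) (.node 130 [⟨129,(Int.ofNat 1),1⟩] .nil .nil)))))
noncomputable def col57 : Tr Cl := (.node 63 [⟨60,(Int.negSucc 0),1⟩] (.node 23 [⟨19,(Int.ofNat 1),1⟩] (.node 5 [⟨64,(Int.ofNat 0),1⟩] (.node 2 [⟨64,(Int.ofNat 0),1⟩] (.node 1 [⟨64,(Int.ofNat 0),1⟩] (.node 0 [⟨64,(Int.ofNat 0),1⟩] .nil .nil) .nil) (.node 4 [⟨64,(Int.ofNat 1),1⟩] (.node 3 [⟨64,(Int.negSucc 0),1⟩] .nil .nil) .nil)) (.node 17 [⟨14,(Int.negSucc 0),1⟩] (.node 13 [⟨10,(Int.negSucc 0),1⟩] (.node 6 [⟨64,(Int.ofNat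 1),1⟩] .nil .nil) .nil) (.node 22 [⟨18,(Int.ofNat 1),1⟩] .nil .nil))) (.node 44 [⟨40,(Int.ofNat 1),1⟩] (.node 33 [⟨30,(Int.negSucc 0),1⟩] (.node 29 [⟨25,(Int.ofNat 1),1⟩] (.node 28 [⟨24,(Int.ofNat 1),1⟩] .nil .nil) .nil) (.node 37 [⟨34,(Int.negSucc 0),1⟩] .nil .nil)) (.node 53 [⟨50,(Int.negSucc 0),1⟩] (.node 49 [⟨46,(Int.negSucc 0),1⟩] (.node 45 [⟨41,(Int.ofNat 1),1⟩] .nil .nil) .nil) (.node 58 [⟨55,(Int.negSucc 0),1⟩] .nil .nil)))) (.node 98 [⟨94,(Int.negSucc 0),1⟩] (.node 75 [⟨0,(Int.ofNat 0),1⟩, ⟨1,(Int.ofNat 0),1⟩, ⟨2,(Int.ofNat 0),1⟩, ⟨3,(Int.ofNat 0),1⟩, ⟨4,(Int.negSucc 0),1⟩, ⟨5,(Int.negSucc 0),1⟩, ⟨6,(Int.negSucc 0),1⟩, ⟨64,(Int.negSucc 0),2⟩] (.node 73 [⟨67,(Int.negSucc 0),1⟩] (.node 72 [⟨66,(Int.ofNat 1),1⟩] (.node 70 [⟨65,(Int.ofNat 1),1⟩] .nil .nil) .nil) (.node 74 [⟨69,(Int.negSucc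 0),1⟩] .nil .nil)) (.node 89 [⟨86,(Int.ofNat 1),1⟩] (.node 84 [⟨81,(Int.ofNat 1),1⟩] (.node 79 [⟨76,(Int.ofNat 1),1⟩] .nil .nil) .nil) (.node 93 [⟨90,(Int.ofNat 1),1⟩] .nil .nil))) (.node 115 [⟨111,(Int.negSucc 0),1⟩] (.node 109 [⟨106,(Int.ofNat 1),1⟩] (.node 105 [⟨102,(Int.ofNat 1),1⟩] (.node 99 [⟨95,(Int.negSucc 0),1⟩] .nil .nil) .nil) (.node 114 [⟨110,(Int.negSucc 0),1⟩] .nil .nil)) (.node 125 [⟨122,(Int.ofNat 1),1⟩] (.node 121 [⟨117,(Int.negSucc 0),1⟩] (.node 120 [⟨116,(Int.negSucc 0),1⟩] .nil .nil) .nil) (.node 129 [⟨126,(Int.ofNat 1),1⟩] .nil .nil)))))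
noncomputable def col58 : Tr Cl := (.node 63 [⟨61,(Int.negSucc 0),1⟩] (.node 23 [⟨20,(Int.ofNat 1),1⟩] (.node 5 [⟨65,(Int.ofNat 1),1⟩] (.node 2 [⟨65,(Int.ofNat 0),1⟩] (.node 1 [⟨65,(Int.ofNat 0),1⟩] (.node 0 [⟨65,(Int.ofNat 0),1⟩] .nil .nil) .nil) (.node 4 [⟨65,(Int.ofNat 1),1⟩] (.node 3 [⟨65,(Int.negSucc 0),1⟩] .nil .nil) .nil)) (.node 16 [⟨14,(Int.ofNat 1),1⟩] (.node 12 [⟨10,(Int.ofNat 1),1⟩] (.node 6 [⟨65,(Int.negSucc 0),1⟩] .nil .nil) .nil) (.node 21 [⟨18,(Int.negSucc 0),1⟩] .nil .nil))) (.node 43 [⟨40,(Int.negSucc 0),1⟩] (.node 33 [⟨31,(Int.negSucc 0),1⟩] (.node 29 [⟨26,(Int.ofNat 1),1⟩] (.node 27 [⟨24,(Int.negSucc 0),1⟩] .nil .nil) .nil) (.node 37 [⟨35,(Int.negSucc 0),1⟩] .nil .nil)) (.node 53 [⟨51,(Int.negSucc 0),1⟩] (.node 49 [⟨47,(Int.negSucc 0),1⟩] (.node 45 [⟨42,(Int.ofNat 1),1⟩]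 .nil .nil) .nil) (.node 58 [⟨56,(Int.negSucc 0),1⟩] .nil .nil)))) (.node 97 [⟨94,(Int.negSucc 0),1⟩] (.node 75 [⟨70,(Int.negSucc 0),1⟩] (.node 73 [⟨68,(Int.negSucc 0),1⟩] (.node 71 [⟨66,(Int.ofNat 1),1⟩] (.node 69 [⟨64,(Int.ofNat 1),1⟩] .nil .nil) .nil) (.node 74 [⟨0,(Int.ofNat 0),1⟩, ⟨1,(Int.ofNat 0),1⟩, ⟨2,(Int.ofNat 0),1⟩, ⟨3,(Int.ofNat 0),1⟩, ⟨4,(Int.negSucc 0),1⟩, ⟨5,(Int.negSucc 0),1⟩, ⟨6,(Int.ofNat 0),1⟩, ⟨65,(Int.negSucc 0),2⟩] .nil .nil)) (.node 88 [⟨86,(Int.ofNat 1),1⟩] (.node 83 [⟨81,(Int.ofNat 1),1⟩] (.node 78 [⟨76,(Int.ofNat 1),1⟩] .nil .nil) .nil) (.node 92 [⟨90,(Int.ofNat 1),1⟩] .nil .nil))) (.node 115 [⟨112,(Int.ofNat 1),1⟩] (.node 108 [⟨106,(Int.ofNat 1),1⟩] (.node 104 [⟨102,(Int.ofNat 1),1⟩] (.node 99 [⟨96,(Int.ofNat 1),1⟩] .nil .nil) .nil) (.node 113 [⟨110,(Int.negSucc 0),1⟩]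 .nil .nil)) (.node 125 [⟨123,(Int.negSucc 0),1⟩] (.node 121 [⟨118,(Int.ofNat 1),1⟩] (.node 119 [⟨116,(Int.negSucc 0),1⟩] .nil .nil) .nil) (.node 129 [⟨127,(Int.negSucc 0),1⟩] .nil .nil)))))
noncomputable def col59 : Tr Cl := (.node 63 [⟨62,(Int.negSucc 0),1⟩] (.node 22 [⟨20,(Int.negSucc 0),1⟩] (.node 5 [⟨66,(Int.negSucc 0),1⟩] (.node 2 [⟨66,(Int.ofNat 0),1⟩] (.node 1 [⟨66,(Int.ofNat 0),1⟩] (.node 0 [⟨66,(Int.ofNat 0),1⟩] .nil .nil) .nil) (.node 4 [⟨66,(Int.ofNat 2),1⟩] (.node 3 [⟨66,(Int.negSucc 0),1⟩] .nil .nil) .nil)) (.node 15 [⟨14,(Int.negSucc 0),1⟩] (.node 11 [⟨10,(Int.negSucc 0),1⟩] (.node 6 [⟨66,(Int.ofNat 0),1⟩] .nil .nil) .nil) (.node 21 [⟨19,(Int.negSucc 0),1⟩] .nil .nil))) (.node 43 [⟨41,(Int.negSucc 0),1⟩] (.node 33 [⟨32,(Int.negSucc 0),1⟩] (.node 28 [⟨26,(Int.negSucc 0),1⟩] (.node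 27 [⟨25,(Int.negSucc 0),1⟩] .nil .nil) .nil) (.node 37 [⟨36,(Int.negSucc 0),1⟩] .nil .nil)) (.node 53 [⟨52,(Int.negSucc 0),1⟩] (.node 49 [⟨48,(Int.negSucc 0),1⟩] (.node 44 [⟨42,(Int.negSucc 0),1⟩] .nil .nil) .nil) (.node 58 [⟨57,(Int.negSucc 0),1⟩] .nil .nil)))) (.node 97 [⟨95,(Int.ofNat 1),1⟩] (.node 75 [⟨72,(Int.negSucc 0),1⟩] (.node 73 [⟨0,(Int.ofNat 0),1⟩, ⟨1,(Int.ofNat 0),1⟩, ⟨2,(Int.ofNat 0),1⟩, ⟨3,(Int.ofNat 0),1⟩, ⟨4,(Int.negSucc 0),1⟩, ⟨5,(Int.ofNat 0),1⟩, ⟨6,(Int.ofNat 0),1⟩, ⟨66,(Int.negSucc 0),2⟩] (.node 68 [⟨65,(Int.ofNat 1),1⟩] (.node 67 [⟨64,(Int.ofNat 1),1⟩] .nil .nil) .nil) (.node 74 [⟨71,(Int.negSucc 0),1⟩] .nil .nil)) (.node 87 [⟨86,(Int.ofNat 1),1⟩] (.node 82 [⟨81,(Int.ofNat 1),1⟩] (.node 77 [⟨76,(Int.ofNat 1),1⟩] .nil .nil) .nil) (.node 91 [⟨90,(Int.ofNat 1),1⟩] .nil .nil)))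 (.node 114 [⟨112,(Int.ofNat 1),1⟩] (.node 107 [⟨106,(Int.ofNat 1),1⟩] (.node 103 [⟨102,(Int.ofNat 1),1⟩] (.node 98 [⟨96,(Int.ofNat 1),1⟩] .nil .nil) .nil) (.node 113 [⟨111,(Int.ofNat 1),1⟩] .nil .nil)) (.node 125 [⟨124,(Int.ofNat 1),1⟩] (.node 120 [⟨118,(Int.ofNat 1),1⟩] (.node 119 [⟨117,(Int.ofNat 1),1⟩] .nil .nil) .nil) (.node 129 [⟨128,(Int.ofNat 1),1⟩] .nil .nil)))))
noncomputable def col60 : Tr Cl := (.node 62 [⟨60,(Int.negSucc 0),1⟩] (.node 23 [⟨21,(Int.negSucc 0),1⟩] (.node 5 [⟨67,(Int.ofNat 1),1⟩] (.node 2 [⟨67,(Int.ofNat 0),1⟩] (.node 1 [⟨67,(Int.ofNat 0),1⟩] (.node 0 [⟨67,(Int.ofNat 0),1⟩] .nil .nil) .nil) (.node 4 [⟨67,(Int.negSucc 0),1⟩] (.node 3 [⟨67,(Int.ofNat 0),1⟩] .nil .nil) .nil)) (.node 17 [⟨15,(Int.ofNat 1),1⟩] (.node 13 [⟨11,(Int.ofNat 1),1⟩] (.node 6 [⟨67,(Int.ofNat 1),1⟩]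 .nil .nil) .nil) (.node 20 [⟨18,(Int.ofNat 1),1⟩] .nil .nil))) (.node 42 [⟨40,(Int.ofNat 1),1⟩] (.node 32 [⟨30,(Int.negSucc 0),1⟩] (.node 29 [⟨27,(Int.negSucc 0),1⟩] (.node 26 [⟨24,(Int.ofNat 1),1⟩] .nil .nil) .nil) (.node 36 [⟨34,(Int.negSucc 0),1⟩] .nil .nil)) (.node 52 [⟨50,(Int.negSucc 0),1⟩] (.node 48 [⟨46,(Int.negSucc 0),1⟩] (.node 45 [⟨43,(Int.negSucc 0),1⟩] .nil .nil) .nil) (.node 57 [⟨55,(Int.negSucc 0),1⟩] .nil .nil)))) (.node 96 [⟨94,(Int.ofNat 1),1⟩] (.node 75 [⟨73,(Int.ofNat 1),1⟩] (.node 71 [⟨69,(Int.negSucc 0),1⟩] (.node 70 [⟨68,(Int.ofNat 1),1⟩] (.node 66 [⟨64,(Int.negSucc 0),1⟩] .nil .nil) .nil) (.node 72 [⟨0,(Int.ofNat 0),1⟩, ⟨1,(Int.ofNat 0),1⟩, ⟨2,(Int.ofNat 0),1⟩, ⟨3,(Int.ofNat 0),1⟩, ⟨4,(Int.ofNat 0),1⟩, ⟨5,(Int.negSucc 0),1⟩, ⟨6,(Int.negSucc 0),1⟩, ⟨67,(Int.negSucc 0),2⟩]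 .nil .nil)) (.node 89 [⟨87,(Int.ofNat 1),1⟩] (.node 84 [⟨82,(Int.ofNat 1),1⟩] (.node 79 [⟨77,(Int.ofNat 1),1⟩] .nil .nil) .nil) (.node 93 [⟨91,(Int.ofNat 1),1⟩] .nil .nil))) (.node 115 [⟨113,(Int.negSucc 0),1⟩] (.node 109 [⟨107,(Int.ofNat 1),1⟩] (.node 105 [⟨103,(Int.ofNat 1),1⟩] (.node 99 [⟨97,(Int.negSucc 0),1⟩] .nil .nil) .nil) (.node 112 [⟨110,(Int.ofNat 1),1⟩] .nil .nil)) (.node 124 [⟨122,(Int.negSucc 0),1⟩] (.node 121 [⟨119,(Int.negSucc 0),1⟩] (.node 118 [⟨116,(Int.ofNat 1),1⟩] .nil .nil) .nil) (.node 128 [⟨126,(Int.negSucc 0),1⟩] .nil .nil)))))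
noncomputable def col61 : Tr Cl := (.node 62 [⟨61,(Int.negSucc 0),1⟩] (.node 23 [⟨22,(Int.negSucc 0),1⟩] (.node 5 [⟨68,(Int.ofNat 2),1⟩] (.node 2 [⟨68,(Int.ofNat 0),1⟩] (.node 1 [⟨68,(Int.ofNat 0),1⟩] (.node 0 [⟨68,(Int.ofNat 0),1⟩] .nil .nil) .nil) (.node 4 [⟨68,(Int.negSucc 0),1⟩] (.node 3 [⟨68,(Int.ofNat 0),1⟩] .nil .nil) .nil)) (.node 16 [⟨15,(Int.negSucc 0),1⟩] (.node 12 [⟨11,(Int.negSucc 0),1⟩] (.node 6 [⟨68,(Int.negSucc 0),1⟩] .nil .nil) .nil) (.node 19 [⟨18,(Int.negSucc 0),1⟩] .nil .nil))) (.node 41 [⟨40,(Int.negSucc 0),1⟩] (.node 32 [⟨31,(Int.negSucc 0),1⟩] (.node 29 [⟨28,(Int.negSucc 0),1⟩] (.node 25 [⟨24,(Int.negSucc 0),1⟩] .nil .nil) .nil) (.node 36 [⟨35,(Int.negSucc 0),1⟩] .nil .nil)) (.node 52 [⟨51,(Int.negSucc 0),1⟩] (.node 48 [⟨47,(Int.negSucc 0),1⟩] (.node 45 [⟨44,(Int.negSucc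 0),1⟩] .nil .nil) .nil) (.node 57 [⟨56,(Int.negSucc 0),1⟩] .nil .nil)))) (.node 95 [⟨94,(Int.ofNat 1),1⟩] (.node 74 [⟨73,(Int.ofNat 1),1⟩] (.node 71 [⟨0,(Int.ofNat 0),1⟩, ⟨1,(Int.ofNat 0),1⟩, ⟨2,(Int.ofNat 0),1⟩, ⟨3,(Int.ofNat 0),1⟩, ⟨4,(Int.ofNat 0),1⟩, ⟨5,(Int.negSucc 0),1⟩, ⟨6,(Int.ofNat 0),1⟩, ⟨68,(Int.negSucc 0),2⟩] (.node 69 [⟨67,(Int.ofNat 1),1⟩] (.node 66 [⟨65,(Int.negSucc 0),1⟩] .nil .nil) .nil) (.node 72 [⟨70,(Int.negSucc 0),1⟩] .nil .nil)) (.node 88 [⟨87,(Int.ofNat 1),1⟩] (.node 83 [⟨82,(Int.ofNat 1),1⟩] (.node 78 [⟨77,(Int.ofNat 1),1⟩] .nil .nil) .nil) (.node 92 [⟨91,(Int.ofNat 1),1⟩] .nil .nil))) (.node 115 [⟨114,(Int.ofNat 1),1⟩] (.node 108 [⟨107,(Int.ofNat 1),1⟩] (.node 104 [⟨103,(Int.ofNat 1),1⟩] (.node 99 [⟨98,(Int.ofNat 1),1⟩] .nil .nil) .nil) (.node 111 [⟨110,(Int.ofNat 1),1⟩]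 .nil .nil)) (.node 124 [⟨123,(Int.ofNat 1),1⟩] (.node 121 [⟨120,(Int.ofNat 1),1⟩] (.node 117 [⟨116,(Int.ofNat 1),1⟩] .nil .nil) .nil) (.node 128 [⟨127,(Int.ofNat 1),1⟩] .nil .nil)))))
noncomputable def col62 : Tr Cl := (.node 61 [⟨60,(Int.negSucc 0),1⟩] (.node 22 [⟨21,(Int.negSucc 0),1⟩] (.node 5 [⟨69,(Int.negSucc 0),1⟩] (.node 2 [⟨69,(Int.ofNat 0),1⟩] (.node 1 [⟨69,(Int.ofNat 0),1⟩] (.node 0 [⟨69,(Int.ofNat 0),1⟩] .nil .nil) .nil) (.node 4 [⟨69,(Int.ofNat 0),1⟩] (.node 3 [⟨69,(Int.ofNat 0),1⟩] .nil .nil) .nil)) (.node 17 [⟨16,(Int.negSucc 0),1⟩] (.node 13 [⟨12,(Int.negSucc 0),1⟩] (.node 6 [⟨69,(Int.ofNat 2),1⟩] .nil .nil) .nil) (.node 20 [⟨19,(Int.negSucc 0),1⟩] .nil .nil))) (.node 42 [⟨41,(Int.negSucc 0),1⟩] (.node 31 [⟨30,(Int.negSucc 0),1⟩] (.node 28 [⟨27,(Int.negSucc 0),1⟩] (.node 26 [⟨25,(Int.negSucc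 0),1⟩] .nil .nil) .nil) (.node 35 [⟨34,(Int.negSucc 0),1⟩] .nil .nil)) (.node 51 [⟨50,(Int.negSucc 0),1⟩] (.node 47 [⟨46,(Int.negSucc 0),1⟩] (.node 44 [⟨43,(Int.negSucc 0),1⟩] .nil .nil) .nil) (.node 56 [⟨55,(Int.negSucc 0),1⟩] .nil .nil)))) (.node 96 [⟨95,(Int.ofNat 1),1⟩] (.node 75 [⟨74,(Int.ofNat 1),1⟩] (.node 70 [⟨0,(Int.ofNat 0),1⟩, ⟨1,(Int.ofNat 0),1⟩, ⟨2,(Int.ofNat 0),1⟩, ⟨3,(Int.ofNat 0),1⟩, ⟨4,(Int.ofNat 0),1⟩, ⟨5,(Int.ofNat 0),1⟩, ⟨6,(Int.negSucc 0),1⟩, ⟨69,(Int.negSucc 0),2⟩] (.node 68 [⟨67,(Int.negSucc 0),1⟩] (.node 65 [⟨64,(Int.negSucc 0),1⟩] .nil .nil) .nil) (.node 72 [⟨71,(Int.ofNat 1),1⟩] .nil .nil)) (.node 89 [⟨88,(Int.ofNat 1),1⟩] (.node 84 [⟨83,(Int.ofNat 1),1⟩] (.node 79 [⟨78,(Int.ofNat 1),1⟩] .nil .nil) .nil) (.node 93 [⟨92,(Int.ofNat 1),1⟩] .nil .nil))) (.node 114 [⟨113,(Int.ofNat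 1),1⟩] (.node 109 [⟨108,(Int.ofNat 1),1⟩] (.node 105 [⟨104,(Int.ofNat 1),1⟩] (.node 98 [⟨97,(Int.ofNat 1),1⟩] .nil .nil) .nil) (.node 112 [⟨111,(Int.ofNat 1),1⟩] .nil .nil)) (.node 123 [⟨122,(Int.ofNat 1),1⟩] (.node 120 [⟨119,(Int.ofNat 1),1⟩] (.node 118 [⟨117,(Int.ofNat 1),1⟩] .nil .nil) .nil) (.node 127 [⟨126,(Int.ofNat 1),1⟩] .nil .nil)))))
noncomputable def col63 : Tr Cl := (.node 60 [⟨61,(Int.negSucc 0),1⟩] (.node 21 [⟨22,(Int.negSucc 0),1⟩] (.node 5 [⟨70,(Int.ofNat 1),1⟩] (.node 2 [⟨70,(Int.ofNat 0),1⟩] (.node 1 [⟨70,(Int.ofNat 0),1⟩] (.node 0 [⟨70,(Int.ofNat 0),1⟩] .nil .nil) .nil) (.node 4 [⟨70,(Int.ofNat 0),1⟩] (.node 3 [⟨70,(Int.ofNat 0),1⟩] .nil .nil) .nil)) (.node 16 [⟨17,(Int.negSucc 0),1⟩] (.node 12 [⟨13,(Int.negSucc 0),1⟩] (.node 6 [⟨70,(Int.negSucc 1),1⟩] .nil .nil) .nil) (.node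 19 [⟨20,(Int.negSucc 0),1⟩] .nil .nil))) (.node 41 [⟨42,(Int.negSucc 0),1⟩] (.node 30 [⟨31,(Int.negSucc 0),1⟩] (.node 27 [⟨28,(Int.negSucc 0),1⟩] (.node 25 [⟨26,(Int.negSucc 0),1⟩] .nil .nil) .nil) (.node 34 [⟨35,(Int.negSucc 0),1⟩] .nil .nil)) (.node 50 [⟨51,(Int.negSucc 0),1⟩] (.node 46 [⟨47,(Int.negSucc 0),1⟩] (.node 43 [⟨44,(Int.negSucc 0),1⟩] .nil .nil) .nil) (.node 55 [⟨56,(Int.negSucc 0),1⟩] .nil .nil)))) (.node 95 [⟨96,(Int.ofNat 1),1⟩] (.node 74 [⟨75,(Int.ofNat 1),1⟩] (.node 69 [⟨0,(Int.ofNat 0),1⟩, ⟨1,(Int.ofNat 0),1⟩, ⟨2,(Int.ofNat 0),1⟩, ⟨3,(Int.ofNat 0),1⟩, ⟨4,(Int.ofNat 0),1⟩, ⟨5,(Int.ofNat 0),1⟩, ⟨6,(Int.ofNat 1),1⟩, ⟨70,(Int.negSucc 0),2⟩] (.node 67 [⟨68,(Int.negSucc 0),1⟩] (.node 64 [⟨65,(Int.negSucc 0),1⟩] .nil .nil) .nil) (.node 71 [⟨72,(Int.ofNat 1),1⟩] .nil .nil)) (.node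 88 [⟨89,(Int.ofNat 1),1⟩] (.node 83 [⟨84,(Int.ofNat 1),1⟩] (.node 78 [⟨79,(Int.ofNat 1),1⟩] .nil .nil) .nil) (.node 92 [⟨93,(Int.ofNat 1),1⟩] .nil .nil))) (.node 113 [⟨114,(Int.ofNat 1),1⟩] (.node 108 [⟨109,(Int.ofNat 1),1⟩] (.node 104 [⟨105,(Int.ofNat 1),1⟩] (.node 97 [⟨98,(Int.ofNat 1),1⟩] .nil .nil) .nil) (.node 111 [⟨112,(Int.ofNat 1),1⟩] .nil .nil)) (.node 122 [⟨123,(Int.ofNat 1),1⟩] (.node 119 [⟨120,(Int.ofNat 1),1⟩] (.node 117 [⟨118,(Int.ofNat 1),1⟩] .nil .nil) .nil) (.node 126 [⟨127,(Int.ofNat 1),1⟩] .nil .nil)))))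
noncomputable def col64 : Tr Cl := (.node 61 [⟨62,(Int.negSucc 0),1⟩] (.node 22 [⟨23,(Int.negSucc 0),1⟩] (.node 5 [⟨71,(Int.negSucc 1),1⟩] (.node 2 [⟨71,(Int.ofNat 0),1⟩] (.node 1 [⟨71,(Int.ofNat 0),1⟩] (.node 0 [⟨71,(Int.ofNat 0),1⟩] .nil .nil) .nil) (.node 4 [⟨71,(Int.ofNat 1),1⟩] (.node 3 [⟨71,(Int.ofNat 0),1⟩] .nil .nil) .nil)) (.node 15 [⟨16,(Int.negSucc 0),1⟩] (.node 11 [⟨12,(Int.negSucc 0),1⟩] (.node 6 [⟨71,(Int.ofNat 1),1⟩] .nil .nil) .nil) (.node 18 [⟨19,(Int.negSucc 0),1⟩] .nil .nil))) (.node 40 [⟨41,(Int.negSucc 0),1⟩] (.node 31 [⟨32,(Int.negSucc 0),1⟩] (.node 28 [⟨29,(Int.negSucc 0),1⟩] (.node 24 [⟨25,(Int.negSucc 0),1⟩] .nil .nil) .nil) (.node 35 [⟨36,(Int.negSucc 0),1⟩] .nil .nil)) (.node 51 [⟨52,(Int.negSucc 0),1⟩] (.node 47 [⟨48,(Int.negSucc 0),1⟩] (.node 44 [⟨45,(Int.negSucc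 0),1⟩] .nil .nil) .nil) (.node 56 [⟨57,(Int.negSucc 0),1⟩] .nil .nil)))) (.node 94 [⟨95,(Int.ofNat 1),1⟩] (.node 73 [⟨74,(Int.ofNat 1),1⟩] (.node 68 [⟨0,(Int.ofNat 0),1⟩, ⟨1,(Int.ofNat 0),1⟩, ⟨2,(Int.ofNat 0),1⟩, ⟨3,(Int.ofNat 0),1⟩, ⟨4,(Int.ofNat 0),1⟩, ⟨5,(Int.ofNat 1),1⟩, ⟨6,(Int.ofNat 0),1⟩, ⟨71,(Int.negSucc 0),2⟩] (.node 67 [⟨69,(Int.ofNat 1),1⟩] (.node 65 [⟨66,(Int.negSucc 0),1⟩] .nil .nil) .nil) (.node 70 [⟨72,(Int.negSucc 0),1⟩] .nil .nil)) (.node 87 [⟨88,(Int.ofNat 1),1⟩] (.node 82 [⟨83,(Int.ofNat 1),1⟩] (.node 77 [⟨78,(Int.ofNat 1),1⟩] .nil .nil) .nil) (.node 91 [⟨92,(Int.ofNat 1),1⟩] .nil .nil))) (.node 114 [⟨115,(Int.ofNat 1),1⟩] (.node 107 [⟨108,(Int.ofNat 1),1⟩] (.node 103 [⟨104,(Int.ofNat 1),1⟩] (.node 98 [⟨99,(Int.ofNat 1),1⟩] .nil .nil) .nil) (.node 110 [⟨111,(Int.ofNat 1),1⟩]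 .nil .nil)) (.node 123 [⟨124,(Int.ofNat 1),1⟩] (.node 120 [⟨121,(Int.ofNat 1),1⟩] (.node 116 [⟨117,(Int.ofNat 1),1⟩] .nil .nil) .nil) (.node 127 [⟨128,(Int.ofNat 1),1⟩] .nil .nil)))))
noncomputable def col65 : Tr Cl := (.node 60 [⟨62,(Int.negSucc 0),1⟩] (.node 21 [⟨23,(Int.negSucc 0),1⟩] (.node 5 [⟨72,(Int.negSucc 0),1⟩] (.node 2 [⟨72,(Int.ofNat 0),1⟩] (.node 1 [⟨72,(Int.ofNat 0),1⟩] (.node 0 [⟨72,(Int.ofNat 0),1⟩] .nil .nil) .nil) (.node 4 [⟨72,(Int.ofNat 1),1⟩] (.node 3 [⟨72,(Int.ofNat 0),1⟩] .nil .nil) .nil)) (.node 15 [⟨17,(Int.ofNat 1),1⟩] (.node 11 [⟨13,(Int.ofNat 1),1⟩] (.node 6 [⟨72,(Int.negSucc 0),1⟩] .nil .nil) .nil) (.node 18 [⟨20,(Int.ofNat 1),1⟩] .nil .nil))) (.node 40 [⟨42,(Int.ofNat 1),1⟩] (.node 30 [⟨32,(Int.negSucc 0),1⟩] (.node 27 [⟨29,(Int.negSucc 0),1⟩] (.node 24 [⟨26,(Int.ofNat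 1),1⟩] .nil .nil) .nil) (.node 34 [⟨36,(Int.negSucc 0),1⟩] .nil .nil)) (.node 50 [⟨52,(Int.negSucc 0),1⟩] (.node 46 [⟨48,(Int.negSucc 0),1⟩] (.node 43 [⟨45,(Int.negSucc 0),1⟩] .nil .nil) .nil) (.node 55 [⟨57,(Int.negSucc 0),1⟩] .nil .nil)))) (.node 94 [⟨96,(Int.ofNat 1),1⟩] (.node 73 [⟨75,(Int.ofNat 1),1⟩] (.node 68 [⟨70,(Int.ofNat 1),1⟩] (.node 67 [⟨0,(Int.ofNat 0),1⟩, ⟨1,(Int.ofNat 0),1⟩, ⟨2,(Int.ofNat 0),1⟩, ⟨3,(Int.ofNat 0),1⟩, ⟨4,(Int.ofNat 0),1⟩, ⟨5,(Int.ofNat 1),1⟩, ⟨6,(Int.ofNat 1),1⟩, ⟨72,(Int.negSucc 0),2⟩] (.node 64 [⟨66,(Int.negSucc 0),1⟩] .nil .nil) .nil) (.node 69 [⟨71,(Int.negSucc 0),1⟩] .nil .nil)) (.node 87 [⟨89,(Int.ofNat 1),1⟩] (.node 82 [⟨84,(Int.ofNat 1),1⟩] (.node 77 [⟨79,(Int.ofNat 1),1⟩] .nil .nil) .nil) (.node 91 [⟨93,(Int.ofNat 1),1⟩] .nil .nil))) (.node 113 [⟨115,(Int.negSucc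 0),1⟩] (.node 107 [⟨109,(Int.ofNat 1),1⟩] (.node 103 [⟨105,(Int.ofNat 1),1⟩] (.node 97 [⟨99,(Int.negSucc 0),1⟩] .nil .nil) .nil) (.node 110 [⟨112,(Int.ofNat 1),1⟩] .nil .nil)) (.node 122 [⟨124,(Int.negSucc 0),1⟩] (.node 119 [⟨121,(Int.negSucc 0),1⟩] (.node 116 [⟨118,(Int.ofNat 1),1⟩] .nil .nil) .nil) (.node 126 [⟨128,(Int.negSucc 0),1⟩] .nil .nil)))))
noncomputable def col66 : Tr Cl := (.node 62 [⟨63,(Int.negSucc 0),1⟩] (.node 20 [⟨22,(Int.negSucc 0),1⟩] (.node 5 [⟨73,(Int.ofNat 1),1⟩] (.node 2 [⟨73,(Int.ofNat 0),1⟩] (.node 1 [⟨73,(Int.ofNat 0),1⟩] (.node 0 [⟨73,(Int.ofNat 0),1⟩] .nil .nil) .nil) (.node 4 [⟨73,(Int.negSucc 1),1⟩] (.node 3 [⟨73,(Int.ofNat 1),1⟩] .nil .nil) .nil)) (.node 14 [⟨15,(Int.negSucc 0),1⟩] (.node 10 [⟨11,(Int.negSucc 0),1⟩] (.node 6 [⟨73,(Int.ofNat 0),1⟩] .nil .nil)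 .nil) (.node 19 [⟨21,(Int.negSucc 0),1⟩] .nil .nil))) (.node 41 [⟨43,(Int.negSucc 0),1⟩] (.node 32 [⟨33,(Int.negSucc 0),1⟩] (.node 26 [⟨28,(Int.negSucc 0),1⟩] (.node 25 [⟨27,(Int.negSucc 0),1⟩] .nil .nil) .nil) (.node 36 [⟨37,(Int.negSucc 0),1⟩] .nil .nil)) (.node 52 [⟨53,(Int.negSucc 0),1⟩] (.node 48 [⟨49,(Int.negSucc 0),1⟩] (.node 42 [⟨44,(Int.negSucc 0),1⟩] .nil .nil) .nil) (.node 57 [⟨58,(Int.negSucc 0),1⟩] .nil .nil)))) (.node 95 [⟨97,(Int.ofNat 1),1⟩] (.node 72 [⟨75,(Int.negSucc 0),1⟩] (.node 66 [⟨0,(Int.ofNat 0),1⟩, ⟨1,(Int.ofNat 0),1⟩, ⟨2,(Int.ofNat 0),1⟩, ⟨3,(Int.ofNat 0),1⟩, ⟨4,(Int.ofNat 1),1⟩, ⟨5,(Int.ofNat 0),1⟩, ⟨6,(Int.ofNat 0),1⟩, ⟨73,(Int.negSucc 0),2⟩] (.node 65 [⟨68,(Int.ofNat 1),1⟩] (.node 64 [⟨67,(Int.ofNat 1),1⟩] .nil .nil) .nil) (.node 71 [⟨74,(Int.negSucc 0),1⟩] .nil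 .nil)) (.node 86 [⟨87,(Int.ofNat 1),1⟩] (.node 81 [⟨82,(Int.ofNat 1),1⟩] (.node 76 [⟨77,(Int.ofNat 1),1⟩] .nil .nil) .nil) (.node 90 [⟨91,(Int.ofNat 1),1⟩] .nil .nil))) (.node 112 [⟨114,(Int.ofNat 1),1⟩] (.node 106 [⟨107,(Int.ofNat 1),1⟩] (.node 102 [⟨103,(Int.ofNat 1),1⟩] (.node 96 [⟨98,(Int.ofNat 1),1⟩] .nil .nil) .nil) (.node 111 [⟨113,(Int.ofNat 1),1⟩] .nil .nil)) (.node 124 [⟨125,(Int.ofNat 1),1⟩] (.node 118 [⟨120,(Int.ofNat 1),1⟩] (.node 117 [⟨119,(Int.ofNat 1),1⟩] .nil .nil) .nil) (.node 128 [⟨129,(Int.ofNat 1),1⟩] .nil .nil)))))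
noncomputable def col67 : Tr Cl := (.node 61 [⟨63,(Int.negSucc 0),1⟩] (.node 20 [⟨23,(Int.ofNat 1),1⟩] (.node 5 [⟨74,(Int.negSucc 0),1⟩] (.node 2 [⟨74,(Int.ofNat 0),1⟩] (.node 1 [⟨74,(Int.ofNat 0),1⟩] (.node 0 [⟨74,(Int.ofNat 0),1⟩] .nil .nil) .nil) (.node 4 [⟨74,(Int.negSucc 0),1⟩] (.node 3 [⟨74,(Int.ofNat 1),1⟩] .nil .nil) .nil)) (.node 14 [⟨16,(Int.ofNat 1),1⟩] (.node 10 [⟨12,(Int.ofNat 1),1⟩] (.node 6 [⟨74,(Int.ofNat 1),1⟩] .nil .nil) .nil) (.node 18 [⟨21,(Int.negSucc 0),1⟩] .nil .nil))) (.node 40 [⟨43,(Int.negSucc 0),1⟩] (.node 31 [⟨33,(Int.negSucc 0),1⟩] (.node 26 [⟨29,(Int.ofNat 1),1⟩] (.node 24 [⟨27,(Int.negSucc 0),1⟩] .nil .nil) .nil) (.node 35 [⟨37,(Int.negSucc 0),1⟩] .nil .nil)) (.node 51 [⟨53,(Int.negSucc 0),1⟩] (.node 47 [⟨49,(Int.negSucc 0),1⟩] (.node 42 [⟨45,(Int.ofNat 1),1⟩]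 .nil .nil) .nil) (.node 56 [⟨58,(Int.negSucc 0),1⟩] .nil .nil)))) (.node 94 [⟨97,(Int.negSucc 0),1⟩] (.node 70 [⟨75,(Int.negSucc 0),1⟩] (.node 66 [⟨71,(Int.ofNat 1),1⟩] (.node 65 [⟨0,(Int.ofNat 0),1⟩, ⟨1,(Int.ofNat 0),1⟩, ⟨2,(Int.ofNat 0),1⟩, ⟨3,(Int.ofNat 0),1⟩, ⟨4,(Int.ofNat 1),1⟩, ⟨5,(Int.ofNat 1),1⟩, ⟨6,(Int.ofNat 0),1⟩, ⟨74,(Int.negSucc 0),2⟩] (.node 64 [⟨69,(Int.ofNat 1),1⟩] .nil .nil) .nil) (.node 68 [⟨73,(Int.negSucc 0),1⟩] .nil .nil)) (.node 86 [⟨88,(Int.ofNat 1),1⟩] (.node 81 [⟨83,(Int.ofNat 1),1⟩] (.node 76 [⟨78,(Int.ofNat 1),1⟩] .nil .nil) .nil) (.node 90 [⟨92,(Int.ofNat 1),1⟩] .nil .nil))) (.node 112 [⟨115,(Int.ofNat 1),1⟩] (.node 106 [⟨108,(Int.ofNat 1),1⟩] (.node 102 [⟨104,(Int.ofNat 1),1⟩] (.node 96 [⟨99,(Int.ofNat 1),1⟩] .nil .nil) .nil) (.node 110 [⟨113,(Int.negSucc 0),1⟩]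 .nil .nil)) (.node 123 [⟨125,(Int.negSucc 0),1⟩] (.node 118 [⟨121,(Int.ofNat 1),1⟩] (.node 116 [⟨119,(Int.negSucc 0),1⟩] .nil .nil) .nil) (.node 127 [⟨129,(Int.negSucc 0),1⟩] .nil .nil)))))
noncomputable def col68 : Tr Cl := (.node 60 [⟨63,(Int.negSucc 0),1⟩] (.node 19 [⟨23,(Int.ofNat 1),1⟩] (.node 5 [⟨75,(Int.ofNat 0),1⟩] (.node 2 [⟨75,(Int.ofNat 0),1⟩] (.node 1 [⟨75,(Int.ofNat 0),1⟩] (.node 0 [⟨75,(Int.ofNat 0),1⟩] .nil .nil) .nil) (.node 4 [⟨75,(Int.negSucc 0),1⟩] (.node 3 [⟨75,(Int.ofNat 1),1⟩] .nil .nil) .nil)) (.node 14 [⟨17,(Int.negSucc 0),1⟩] (.node 10 [⟨13,(Int.negSucc 0),1⟩] (.node 6 [⟨75,(Int.negSucc 0),1⟩] .nil .nil) .nil) (.node 18 [⟨22,(Int.ofNat 1),1⟩] .nil .nil))) (.node 40 [⟨44,(Int.ofNat 1),1⟩] (.node 30 [⟨33,(Int.negSucc 0),1⟩] (.node 25 [⟨29,(Int.ofNat 1),1⟩] (.node 24 [⟨28,(Int.ofNat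 1),1⟩] .nil .nil) .nil) (.node 34 [⟨37,(Int.negSucc 0),1⟩] .nil .nil)) (.node 50 [⟨53,(Int.negSucc 0),1⟩] (.node 46 [⟨49,(Int.negSucc 0),1⟩] (.node 41 [⟨45,(Int.ofNat 1),1⟩] .nil .nil) .nil) (.node 55 [⟨58,(Int.negSucc 0),1⟩] .nil .nil)))) (.node 94 [⟨98,(Int.negSucc 0),1⟩] (.node 69 [⟨74,(Int.negSucc 0),1⟩] (.node 66 [⟨72,(Int.ofNat 1),1⟩] (.node 65 [⟨70,(Int.ofNat 1),1⟩] (.node 64 [⟨0,(Int.ofNat 0),1⟩, ⟨1,(Int.ofNat 0),1⟩, ⟨2,(Int.ofNat 0),1⟩, ⟨3,(Int.ofNat 0),1⟩, ⟨4,(Int.ofNat 1),1⟩, ⟨5,(Int.ofNat 1),1⟩, ⟨6,(Int.ofNat 1),1⟩, ⟨75,(Int.negSucc 0),2⟩] .nil .nil) .nil) (.node 67 [⟨73,(Int.negSucc 0),1⟩] .nil .nil)) (.node 86 [⟨89,(Int.ofNat 1),1⟩] (.node 81 [⟨84,(Int.ofNat 1),1⟩] (.node 76 [⟨79,(Int.ofNat 1),1⟩] .nil .nil) .nil) (.node 90 [⟨93,(Int.ofNat 1),1⟩] .nil .nil))) (.node 111 [⟨115,(Int.negSucc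 0),1⟩] (.node 106 [⟨109,(Int.ofNat 1),1⟩] (.node 102 [⟨105,(Int.ofNat 1),1⟩] (.node 95 [⟨99,(Int.negSucc 0),1⟩] .nil .nil) .nil) (.node 110 [⟨114,(Int.negSucc 0),1⟩] .nil .nil)) (.node 122 [⟨125,(Int.ofNat 1),1⟩] (.node 117 [⟨121,(Int.negSucc 0),1⟩] (.node 116 [⟨120,(Int.negSucc 0),1⟩] .nil .nil) .nil) (.node 126 [⟨129,(Int.ofNat 1),1⟩] .nil .nil)))))
noncomputable def col69 : Tr Cl := (.node 60 [⟨64,(Int.ofNat 1),1⟩] (.node 17 [⟨20,(Int.negSucc 0),1⟩] (.node 5 [⟨76,(Int.ofNat 0),1⟩] (.node 2 [⟨76,(Int.ofNat 1),1⟩] (.node 1 [⟨76,(Int.ofNat 1),1⟩] (.node 0 [⟨76,(Int.ofNat 0),1⟩] .nil .nil) .nil) (.node 4 [⟨76,(Int.ofNat 1),1⟩] (.node 3 [⟨76,(Int.negSucc 1),1⟩] .nil .nil) .nil)) (.node 15 [⟨18,(Int.negSucc 0),1⟩] (.node 9 [⟨10,(Int.negSucc 0),1⟩] (.node 6 [⟨76,(Int.ofNat 0),1⟩] .nil .nil) .nil)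 (.node 16 [⟨19,(Int.negSucc 0),1⟩] .nil .nil))) (.node 43 [⟨46,(Int.negSucc 0),1⟩] (.node 29 [⟨32,(Int.negSucc 0),1⟩] (.node 28 [⟨31,(Int.negSucc 0),1⟩] (.node 27 [⟨30,(Int.negSucc 0),1⟩] .nil .nil) .nil) (.node 37 [⟨38,(Int.negSucc 0),1⟩] .nil .nil)) (.node 53 [⟨54,(Int.negSucc 0),1⟩] (.node 45 [⟨48,(Int.negSucc 0),1⟩] (.node 44 [⟨47,(Int.negSucc 0),1⟩] .nil .nil) .nil) (.node 58 [⟨59,(Int.negSucc 0),1⟩] .nil .nil)))) (.node 92 [⟨95,(Int.ofNat 1),1⟩] (.node 74 [⟨78,(Int.negSucc 0),1⟩] (.node 63 [⟨0,(Int.ofNat 0),1⟩, ⟨1,(Int.ofNat 0),1⟩, ⟨2,(Int.ofNat 0),1⟩, ⟨3,(Int.ofNat 1),1⟩, ⟨4,(Int.ofNat 0),1⟩, ⟨5,(Int.ofNat 0),1⟩, ⟨6,(Int.ofNat 0),1⟩, ⟨76,(Int.negSucc 0),2⟩] (.node 62 [⟨66,(Int.ofNat 1),1⟩] (.node 61 [⟨65,(Int.ofNat 1),1⟩] .nil .nil) .nil) (.node 73 [⟨77,(Int.negSucc 0),1⟩] .nil .nil))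 (.node 85 [⟨86,(Int.ofNat 1),1⟩] (.node 80 [⟨81,(Int.ofNat 1),1⟩] (.node 75 [⟨79,(Int.negSucc 0),1⟩] .nil .nil) .nil) (.node 91 [⟨94,(Int.ofNat 1),1⟩] .nil .nil))) (.node 109 [⟨112,(Int.ofNat 1),1⟩] (.node 107 [⟨110,(Int.ofNat 1),1⟩] (.node 101 [⟨102,(Int.ofNat 1),1⟩] (.node 93 [⟨96,(Int.ofNat 1),1⟩] .nil .nil) .nil) (.node 108 [⟨111,(Int.ofNat 1),1⟩] .nil .nil)) (.node 121 [⟨124,(Int.ofNat 1),1⟩] (.node 120 [⟨123,(Int.ofNat 1),1⟩] (.node 119 [⟨122,(Int.ofNat 1),1⟩] .nil .nil) .nil) (.node 129 [⟨130,(Int.ofNat 1),1⟩] .nil .nil)))))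
noncomputable def col70 : Tr Cl := (.node 60 [⟨67,(Int.ofNat 1),1⟩] (.node 17 [⟨22,(Int.ofNat 1),1⟩] (.node 5 [⟨77,(Int.ofNat 1),1⟩] (.node 2 [⟨77,(Int.ofNat 1),1⟩] (.node 1 [⟨77,(Int.ofNat 1),1⟩] (.node 0 [⟨77,(Int.ofNat 0),1⟩] .nil .nil) .nil) (.node 4 [⟨77,(Int.negSucc 0),1⟩] (.node 3 [⟨77,(Int.negSucc 0),1⟩] .nil .nil) .nil)) (.node 14 [⟨18,(Int.negSucc 0),1⟩] (.node 9 [⟨11,(Int.ofNat 1),1⟩] (.node 6 [⟨77,(Int.ofNat 0),1⟩] .nil .nil) .nil) (.node 16 [⟨21,(Int.ofNat 1),1⟩] .nil .nil))) (.node 41 [⟨46,(Int.negSucc 0),1⟩] (.node 29 [⟨33,(Int.ofNat 1),1⟩] (.node 26 [⟨31,(Int.negSucc 0),1⟩] (.node 25 [⟨30,(Int.negSucc 0),1⟩] .nil .nil) .nil) (.node 36 [⟨38,(Int.negSucc 0),1⟩] .nil .nil)) (.node 52 [⟨54,(Int.negSucc 0),1⟩] (.node 45 [⟨49,(Int.ofNat 1),1⟩] (.node 42 [⟨47,(Int.negSucc 0),1⟩] .nil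 .nil) .nil) (.node 57 [⟨59,(Int.negSucc 0),1⟩] .nil .nil)))) (.node 92 [⟨97,(Int.ofNat 1),1⟩] (.node 71 [⟨78,(Int.negSucc 0),1⟩] (.node 63 [⟨73,(Int.ofNat 1),1⟩] (.node 62 [⟨0,(Int.ofNat 0),1⟩, ⟨1,(Int.ofNat 0),1⟩, ⟨2,(Int.ofNat 0),1⟩, ⟨3,(Int.ofNat 1),1⟩, ⟨4,(Int.ofNat 1),1⟩, ⟨5,(Int.ofNat 0),1⟩, ⟨6,(Int.ofNat 0),1⟩, ⟨77,(Int.negSucc 0),2⟩] (.node 61 [⟨68,(Int.ofNat 1),1⟩] .nil .nil) .nil) (.node 66 [⟨76,(Int.negSucc 0),1⟩] .nil .nil)) (.node 85 [⟨87,(Int.ofNat 1),1⟩] (.node 80 [⟨82,(Int.ofNat 1),1⟩] (.node 72 [⟨79,(Int.negSucc 0),1⟩] .nil .nil) .nil) (.node 90 [⟨94,(Int.negSucc 0),1⟩] .nil .nil))) (.node 109 [⟨114,(Int.ofNat 1),1⟩] (.node 106 [⟨110,(Int.negSucc 0),1⟩] (.node 101 [⟨103,(Int.ofNat 1),1⟩] (.node 93 [⟨98,(Int.ofNat 1),1⟩] .nil .nil) .nil) (.node 108 [⟨113,(Int.ofNat 1),1⟩] .nil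 .nil)) (.node 121 [⟨125,(Int.ofNat 1),1⟩] (.node 118 [⟨123,(Int.negSucc 0),1⟩] (.node 117 [⟨122,(Int.negSucc 0),1⟩] .nil .nil) .nil) (.node 128 [⟨130,(Int.negSucc 0),1⟩] .nil .nil)))))
noncomputable def col71 : Tr Cl := (.node 60 [⟨69,(Int.ofNat 1),1⟩] (.node 17 [⟨23,(Int.negSucc 0),1⟩] (.node 5 [⟨78,(Int.negSucc 0),1⟩] (.node 2 [⟨78,(Int.ofNat 1),1⟩] (.node 1 [⟨78,(Int.ofNat 1),1⟩] (.node 0 [⟨78,(Int.ofNat 0),1⟩] .nil .nil) .nil) (.node 4 [⟨78,(Int.ofNat 0),1⟩] (.node 3 [⟨78,(Int.negSucc 0),1⟩] .nil .nil) .nil)) (.node 14 [⟨19,(Int.ofNat 1),1⟩] (.node 9 [⟨12,(Int.negSucc 0),1⟩] (.node 6 [⟨78,(Int.ofNat 1),1⟩] .nil .nil) .nil) (.node 15 [⟨21,(Int.ofNat 1),1⟩] .nil .nil))) (.node 40 [⟨46,(Int.negSucc 0),1⟩] (.node 28 [⟨33,(Int.ofNat 1),1⟩] (.node 26 [⟨32,(Int.ofNat 1),1⟩] (.node 24 [⟨30,(Int.negSucc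 0),1⟩] .nil .nil) .nil) (.node 35 [⟨38,(Int.negSucc 0),1⟩] .nil .nil)) (.node 51 [⟨54,(Int.negSucc 0),1⟩] (.node 44 [⟨49,(Int.ofNat 1),1⟩] (.node 42 [⟨48,(Int.ofNat 1),1⟩] .nil .nil) .nil) (.node 56 [⟨59,(Int.negSucc 0),1⟩] .nil .nil)))) (.node 91 [⟨97,(Int.negSucc 0),1⟩] (.node 68 [⟨77,(Int.negSucc 0),1⟩] (.node 63 [⟨74,(Int.ofNat 1),1⟩] (.node 62 [⟨71,(Int.ofNat 1),1⟩] (.node 61 [⟨0,(Int.ofNat 0),1⟩, ⟨1,(Int.ofNat 0),1⟩, ⟨2,(Int.ofNat 0),1⟩, ⟨3,(Int.ofNat 1),1⟩, ⟨4,(Int.ofNat 1),1⟩, ⟨5,(Int.ofNat 1),1⟩, ⟨6,(Int.ofNat 0),1⟩, ⟨78,(Int.negSucc 0),2⟩] .nil .nil) .nil) (.node 65 [⟨76,(Int.negSucc 0),1⟩] .nil .nil)) (.node 85 [⟨88,(Int.ofNat 1),1⟩] (.node 80 [⟨83,(Int.ofNat 1),1⟩] (.node 70 [⟨79,(Int.negSucc 0),1⟩] .nil .nil) .nil) (.node 90 [⟨95,(Int.negSucc 0),1⟩] .nil .nil))) (.node 109 [⟨115,(Int.ofNat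 1),1⟩] (.node 106 [⟨111,(Int.negSucc 0),1⟩] (.node 101 [⟨104,(Int.ofNat 1),1⟩] (.node 93 [⟨99,(Int.ofNat 1),1⟩] .nil .nil) .nil) (.node 107 [⟨113,(Int.negSucc 0),1⟩] .nil .nil)) (.node 120 [⟨125,(Int.negSucc 0),1⟩] (.node 118 [⟨124,(Int.negSucc 0),1⟩] (.node 116 [⟨122,(Int.ofNat 1),1⟩] .nil .nil) .nil) (.node 127 [⟨130,(Int.ofNat 1),1⟩] .nil .nil)))))
noncomputable def col72 : Tr Cl := (.node 60 [⟨0,(Int.ofNat 0),1⟩, ⟨1,(Int.ofNat 0),1⟩, ⟨2,(Int.ofNat 0),1⟩, ⟨3,(Int.ofNat 1),1⟩, ⟨4,(Int.ofNat 1),1⟩, ⟨5,(Int.ofNat 1),1⟩, ⟨6,(Int.ofNat 1),1⟩, ⟨79,(Int.negSucc 0),2⟩] (.node 16 [⟨23,(Int.negSucc 0),1⟩] (.node 5 [⟨79,(Int.ofNat 0),1⟩] (.node 2 [⟨79,(Int.ofNat 1),1⟩] (.node 1 [⟨79,(Int.ofNat 1),1⟩] (.node 0 [⟨79,(Int.ofNat 0),1⟩] .nil .nil) .nil) (.node 4 [⟨79,(Int.ofNat 0),1⟩] (.node 3 [⟨79,(Int.negSucc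 0),1⟩] .nil .nil) .nil)) (.node 14 [⟨20,(Int.negSucc 0),1⟩] (.node 9 [⟨13,(Int.ofNat 1),1⟩] (.node 6 [⟨79,(Int.negSucc 0),1⟩] .nil .nil) .nil) (.node 15 [⟨22,(Int.negSucc 0),1⟩] .nil .nil))) (.node 40 [⟨47,(Int.ofNat 1),1⟩] (.node 27 [⟨33,(Int.ofNat 1),1⟩] (.node 25 [⟨32,(Int.ofNat 1),1⟩] (.node 24 [⟨31,(Int.ofNat 1),1⟩] .nil .nil) .nil) (.node 34 [⟨38,(Int.negSucc 0),1⟩] .nil .nil)) (.node 50 [⟨54,(Int.negSucc 0),1⟩] (.node 43 [⟨49,(Int.ofNat 1),1⟩] (.node 41 [⟨48,(Int.ofNat 1),1⟩] .nil .nil) .nil) (.node 55 [⟨59,(Int.negSucc 0),1⟩] .nil .nil)))) (.node 91 [⟨98,(Int.negSucc 0),1⟩] (.node 67 [⟨77,(Int.negSucc 0),1⟩] (.node 63 [⟨75,(Int.ofNat 1),1⟩] (.node 62 [⟨72,(Int.ofNat 1),1⟩] (.node 61 [⟨70,(Int.ofNat 1),1⟩] .nil .nil) .nil) (.node 64 [⟨76,(Int.negSucc 0),1⟩] .nil .nil)) (.node 85 [⟨89,(Int.ofNat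 1),1⟩] (.node 80 [⟨84,(Int.ofNat 1),1⟩] (.node 69 [⟨78,(Int.negSucc 0),1⟩] .nil .nil) .nil) (.node 90 [⟨96,(Int.negSucc 0),1⟩] .nil .nil))) (.node 108 [⟨115,(Int.negSucc 0),1⟩] (.node 106 [⟨112,(Int.negSucc 0),1⟩] (.node 101 [⟨105,(Int.ofNat 1),1⟩] (.node 92 [⟨99,(Int.negSucc 0),1⟩] .nil .nil) .nil) (.node 107 [⟨114,(Int.negSucc 0),1⟩] .nil .nil)) (.node 119 [⟨125,(Int.ofNat 1),1⟩] (.node 117 [⟨124,(Int.ofNat 1),1⟩] (.node 116 [⟨123,(Int.ofNat 1),1⟩] .nil .nil) .nil) (.node 126 [⟨130,(Int.negSucc 0),1⟩] .nil .nil)))))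
noncomputable def col73 : Tr Cl := (.node 56 [⟨61,(Int.ofNat 1),1⟩] (.node 20 [⟨26,(Int.negSucc 0),1⟩] (.node 5 [⟨80,(Int.ofNat 0),1⟩] (.node 2 [⟨80,(Int.negSucc 1),1⟩] (.node 1 [⟨80,(Int.ofNat 0),1⟩] (.node 0 [⟨80,(Int.ofNat 1),1⟩] .nil .nil) .nil) (.node 4 [⟨80,(Int.ofNat 0),1⟩] (.node 3 [⟨80,(Int.ofNat 1),1⟩] .nil .nil) .nil)) (.node 18 [⟨24,(Int.negSucc 0),1⟩] (.node 8 [⟨9,(Int.negSucc 0),1⟩] (.node 6 [⟨80,(Int.ofNat 0),1⟩] .nil .nil) .nil) (.node 19 [⟨25,(Int.negSucc 0),1⟩] .nil .nil))) (.node 46 [⟨50,(Int.negSucc 0),1⟩] (.node 23 [⟨29,(Int.negSucc 0),1⟩] (.node 22 [⟨28,(Int.negSucc 0),1⟩] (.node 21 [⟨27,(Int.negSucc 0),1⟩] .nil .nil) .nil) (.node 38 [⟨39,(Int.negSucc 0),1⟩] .nil .nil)) (.node 49 [⟨53,(Int.negSucc 0),1⟩] (.node 48 [⟨52,(Int.negSucc 0),1⟩] (.node 47 [⟨51,(Int.negSucc 0),1⟩]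 .nil .nil) .nil) (.node 55 [⟨60,(Int.ofNat 1),1⟩] .nil .nil)))) (.node 88 [⟨92,(Int.ofNat 1),1⟩] (.node 77 [⟨82,(Int.negSucc 0),1⟩] (.node 59 [⟨0,(Int.ofNat 0),1⟩, ⟨1,(Int.ofNat 0),1⟩, ⟨2,(Int.ofNat 1),1⟩, ⟨3,(Int.ofNat 0),1⟩, ⟨4,(Int.ofNat 0),1⟩, ⟨5,(Int.ofNat 0),1⟩, ⟨6,(Int.ofNat 0),1⟩, ⟨80,(Int.negSucc 0),2⟩] (.node 58 [⟨63,(Int.ofNat 1),1⟩] (.node 57 [⟨62,(Int.ofNat 1),1⟩] .nil .nil) .nil) (.node 76 [⟨81,(Int.negSucc 0),1⟩] .nil .nil)) (.node 86 [⟨90,(Int.ofNat 1),1⟩] (.node 79 [⟨84,(Int.negSucc 0),1⟩] (.node 78 [⟨83,(Int.negSucc 0),1⟩] .nil .nil) .nil) (.node 87 [⟨91,(Int.ofNat 1),1⟩] .nil .nil))) (.node 112 [⟨118,(Int.ofNat 1),1⟩] (.node 110 [⟨116,(Int.ofNat 1),1⟩] (.node 100 [⟨101,(Int.ofNat 1),1⟩] (.node 89 [⟨93,(Int.ofNat 1),1⟩] .nil .nil) .nil) (.node 111 [⟨117,(Int.ofNat 1),1⟩] .nil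 .nil)) (.node 115 [⟨121,(Int.ofNat 1),1⟩] (.node 114 [⟨120,(Int.ofNat 1),1⟩] (.node 113 [⟨119,(Int.ofNat 1),1⟩] .nil .nil) .nil) (.node 130 [⟨131,(Int.ofNat 1),1⟩] .nil .nil)))))
noncomputable def col74 : Tr Cl := (.node 56 [⟨65,(Int.ofNat 1),1⟩] (.node 17 [⟨26,(Int.negSucc 0),1⟩] (.node 5 [⟨81,(Int.ofNat 0),1⟩] (.node 2 [⟨81,(Int.negSucc 0),1⟩] (.node 1 [⟨81,(Int.ofNat 1),1⟩] (.node 0 [⟨81,(Int.ofNat 1),1⟩] .nil .nil) .nil) (.node 4 [⟨81,(Int.ofNat 1),1⟩] (.node 3 [⟨81,(Int.negSucc 0),1⟩] .nil .nil) .nil)) (.node 15 [⟨24,(Int.negSucc 0),1⟩] (.node 8 [⟨10,(Int.ofNat 1),1⟩] (.node 6 [⟨81,(Int.ofNat 0),1⟩] .nil .nil) .nil) (.node 16 [⟨25,(Int.negSucc 0),1⟩] .nil .nil))) (.node 43 [⟨50,(Int.negSucc 0),1⟩] (.node 23 [⟨32,(Int.ofNat 1),1⟩] (.node 22 [⟨31,(Int.ofNat 1),1⟩] (.node 21 [⟨30,(Int.ofNat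 1),1⟩] .nil .nil) .nil) (.node 37 [⟨39,(Int.negSucc 0),1⟩] .nil .nil)) (.node 49 [⟨54,(Int.ofNat 1),1⟩] (.node 45 [⟨52,(Int.negSucc 0),1⟩] (.node 44 [⟨51,(Int.negSucc 0),1⟩] .nil .nil) .nil) (.node 55 [⟨64,(Int.ofNat 1),1⟩] .nil .nil)))) (.node 88 [⟨95,(Int.ofNat 1),1⟩] (.node 73 [⟨82,(Int.negSucc 0),1⟩] (.node 59 [⟨76,(Int.ofNat 1),1⟩] (.node 58 [⟨0,(Int.ofNat 0),1⟩, ⟨1,(Int.ofNat 0),1⟩, ⟨2,(Int.ofNat 1),1⟩, ⟨3,(Int.ofNat 1),1⟩, ⟨4,(Int.ofNat 0),1⟩, ⟨5,(Int.ofNat 0),1⟩, ⟨6,(Int.ofNat 0),1⟩, ⟨81,(Int.negSucc 0),2⟩] (.node 57 [⟨66,(Int.ofNat 1),1⟩] .nil .nil) .nil) (.node 63 [⟨80,(Int.negSucc 0),1⟩] .nil .nil)) (.node 85 [⟨90,(Int.negSucc 0),1⟩] (.node 75 [⟨84,(Int.negSucc 0),1⟩] (.node 74 [⟨83,(Int.negSucc 0),1⟩] .nil .nil) .nil) (.node 87 [⟨94,(Int.ofNat 1),1⟩] .nil .nil))) (.node 109 [⟨118,(Int.negSucc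 0),1⟩] (.node 107 [⟨116,(Int.negSucc 0),1⟩] (.node 100 [⟨102,(Int.ofNat 1),1⟩] (.node 89 [⟨96,(Int.ofNat 1),1⟩] .nil .nil) .nil) (.node 108 [⟨117,(Int.negSucc 0),1⟩] .nil .nil)) (.node 115 [⟨124,(Int.ofNat 1),1⟩] (.node 114 [⟨123,(Int.ofNat 1),1⟩] (.node 113 [⟨122,(Int.ofNat 1),1⟩] .nil .nil) .nil) (.node 129 [⟨131,(Int.negSucc 0),1⟩] .nil .nil)))))
noncomputable def col75 : Tr Cl := (.node 56 [⟨68,(Int.ofNat 1),1⟩] (.node 17 [⟨28,(Int.ofNat 1),1⟩] (.node 5 [⟨82,(Int.ofNat 1),1⟩] (.node 2 [⟨82,(Int.negSucc 0),1⟩] (.node 1 [⟨82,(Int.ofNat 1),1⟩] (.node 0 [⟨82,(Int.ofNat 1),1⟩] .nil .nil) .nil) (.node 4 [⟨82,(Int.negSucc 0),1⟩] (.node 3 [⟨82,(Int.ofNat 0),1⟩] .nil .nil) .nil)) (.node 14 [⟨24,(Int.negSucc 0),1⟩] (.node 8 [⟨11,(Int.negSucc 0),1⟩] (.node 6 [⟨82,(Int.ofNat 0),1⟩] .nil .nil) .nil)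 (.node 16 [⟨27,(Int.ofNat 1),1⟩] .nil .nil))) (.node 41 [⟨50,(Int.negSucc 0),1⟩] (.node 23 [⟨33,(Int.negSucc 0),1⟩] (.node 20 [⟨31,(Int.ofNat 1),1⟩] (.node 19 [⟨30,(Int.ofNat 1),1⟩] .nil .nil) .nil) (.node 36 [⟨39,(Int.negSucc 0),1⟩] .nil .nil)) (.node 48 [⟨54,(Int.ofNat 1),1⟩] (.node 45 [⟨53,(Int.ofNat 1),1⟩] (.node 42 [⟨51,(Int.negSucc 0),1⟩] .nil .nil) .nil) (.node 55 [⟨67,(Int.ofNat 1),1⟩] .nil .nil)))) (.node 88 [⟨97,(Int.ofNat 1),1⟩] (.node 66 [⟨81,(Int.negSucc 0),1⟩] (.node 59 [⟨77,(Int.ofNat 1),1⟩] (.node 58 [⟨73,(Int.ofNat 1),1⟩] (.node 57 [⟨0,(Int.ofNat 0),1⟩, ⟨1,(Int.ofNat 0),1⟩, ⟨2,(Int.ofNat 1),1⟩, ⟨3,(Int.ofNat 1),1⟩, ⟨4,(Int.ofNat 1),1⟩, ⟨5,(Int.ofNat 0),1⟩, ⟨6,(Int.ofNat 0),1⟩, ⟨82,(Int.negSucc 0),2⟩] .nil .nil) .nil) (.node 62 [⟨80,(Int.negSucc 0),1⟩] .nil .nil)) (.node 85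 [⟨91,(Int.negSucc 0),1⟩] (.node 72 [⟨84,(Int.negSucc 0),1⟩] (.node 71 [⟨83,(Int.negSucc 0),1⟩] .nil .nil) .nil) (.node 86 [⟨94,(Int.negSucc 0),1⟩] .nil .nil))) (.node 109 [⟨120,(Int.negSucc 0),1⟩] (.node 106 [⟨116,(Int.ofNat 1),1⟩] (.node 100 [⟨103,(Int.ofNat 1),1⟩] (.node 89 [⟨98,(Int.ofNat 1),1⟩] .nil .nil) .nil) (.node 108 [⟨119,(Int.negSucc 0),1⟩] .nil .nil)) (.node 115 [⟨125,(Int.ofNat 1),1⟩] (.node 112 [⟨123,(Int.negSucc 0),1⟩] (.node 111 [⟨122,(Int.negSucc 0),1⟩] .nil .nil) .nil) (.node 128 [⟨131,(Int.ofNat 1),1⟩] .nil .nil)))))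
noncomputable def col76 : Tr Cl := (.node 56 [⟨0,(Int.ofNat 0),1⟩, ⟨1,(Int.ofNat 0),1⟩, ⟨2,(Int.ofNat 1),1⟩, ⟨3,(Int.ofNat 1),1⟩, ⟨4,(Int.ofNat 1),1⟩, ⟨5,(Int.ofNat 1),1⟩, ⟨6,(Int.ofNat 0),1⟩, ⟨83,(Int.negSucc 0),2⟩] (.node 17 [⟨29,(Int.negSucc 0),1⟩] (.node 5 [⟨83,(Int.negSucc 0),1⟩] (.node 2 [⟨83,(Int.negSucc 0),1⟩] (.node 1 [⟨83,(Int.ofNat 1),1⟩] (.node 0 [⟨83,(Int.ofNat 1),1⟩] .nil .nil) .nil) (.node 4 [⟨83,(Int.ofNat 0),1⟩] (.node 3 [⟨83,(Int.ofNat 0),1⟩] .nil .nil) .nil)) (.node 14 [⟨25,(Int.ofNat 1),1⟩] (.node 8 [⟨12,(Int.ofNat 1),1⟩] (.node 6 [⟨83,(Int.ofNat 1),1⟩] .nil .nil) .nil) (.node 15 [⟨27,(Int.ofNat 1),1⟩] .nil .nil))) (.node 40 [⟨50,(Int.negSucc 0),1⟩] (.node 22 [⟨33,(Int.negSucc 0),1⟩] (.node 20 [⟨32,(Int.negSucc 0),1⟩] (.node 18 [⟨30,(Int.ofNat 1),1⟩] .nil .nil) .nil) (.node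 35 [⟨39,(Int.negSucc 0),1⟩] .nil .nil)) (.node 47 [⟨54,(Int.ofNat 1),1⟩] (.node 44 [⟨53,(Int.ofNat 1),1⟩] (.node 42 [⟨52,(Int.ofNat 1),1⟩] .nil .nil) .nil) (.node 55 [⟨69,(Int.ofNat 1),1⟩] .nil .nil)))) (.node 87 [⟨97,(Int.negSucc 0),1⟩] (.node 65 [⟨81,(Int.negSucc 0),1⟩] (.node 59 [⟨78,(Int.ofNat 1),1⟩] (.node 58 [⟨74,(Int.ofNat 1),1⟩] (.node 57 [⟨71,(Int.ofNat 1),1⟩] .nil .nil) .nil) (.node 61 [⟨80,(Int.negSucc 0),1⟩] .nil .nil)) (.node 85 [⟨92,(Int.negSucc 0),1⟩] (.node 70 [⟨84,(Int.negSucc 0),1⟩] (.node 68 [⟨82,(Int.negSucc 0),1⟩] .nil .nil) .nil) (.node 86 [⟨95,(Int.negSucc 0),1⟩] .nil .nil))) (.node 109 [⟨121,(Int.negSucc 0),1⟩] (.node 106 [⟨117,(Int.ofNat 1),1⟩] (.node 100 [⟨104,(Int.ofNat 1),1⟩] (.node 89 [⟨99,(Int.ofNat 1),1⟩] .nil .nil) .nil) (.node 107 [⟨119,(Int.ofNat 1),1⟩] .nil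 .nil)) (.node 114 [⟨125,(Int.negSucc 0),1⟩] (.node 112 [⟨124,(Int.negSucc 0),1⟩] (.node 110 [⟨122,(Int.ofNat 1),1⟩] .nil .nil) .nil) (.node 127 [⟨131,(Int.negSucc 0),1⟩] .nil .nil)))))
noncomputable def col77 : Tr Cl := (.node 56 [⟨70,(Int.ofNat 1),1⟩] (.node 16 [⟨29,(Int.negSucc 0),1⟩] (.node 5 [⟨84,(Int.ofNat 0),1⟩] (.node 2 [⟨84,(Int.negSucc 0),1⟩] (.node 1 [⟨84,(Int.ofNat 1),1⟩] (.node 0 [⟨84,(Int.ofNat 1),1⟩] .nil .nil) .nil) (.node 4 [⟨84,(Int.ofNat 0),1⟩] (.node 3 [⟨84,(Int.ofNat 0),1⟩] .nil .nil) .nil)) (.node 14 [⟨26,(Int.negSucc 0),1⟩] (.node 8 [⟨13,(Int.negSucc 0),1⟩] (.node 6 [⟨84,(Int.negSucc 0),1⟩] .nil .nil) .nil) (.node 15 [⟨28,(Int.negSucc 0),1⟩] .nil .nil))) (.node 40 [⟨51,(Int.ofNat 1),1⟩] (.node 21 [⟨33,(Int.negSucc 0),1⟩] (.node 19 [⟨32,(Int.negSucc 0),1⟩] (.node 18 [⟨31,(Int.negSucc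 0),1⟩] .nil .nil) .nil) (.node 34 [⟨39,(Int.negSucc 0),1⟩] .nil .nil)) (.node 46 [⟨54,(Int.ofNat 1),1⟩] (.node 43 [⟨53,(Int.ofNat 1),1⟩] (.node 41 [⟨52,(Int.ofNat 1),1⟩] .nil .nil) .nil) (.node 55 [⟨0,(Int.ofNat 0),1⟩, ⟨1,(Int.ofNat 0),1⟩, ⟨2,(Int.ofNat 1),1⟩, ⟨3,(Int.ofNat 1),1⟩, ⟨4,(Int.ofNat 1),1⟩, ⟨5,(Int.ofNat 1),1⟩, ⟨6,(Int.ofNat 1),1⟩, ⟨84,(Int.negSucc 0),2⟩] .nil .nil)))) (.node 87 [⟨98,(Int.negSucc 0),1⟩] (.node 64 [⟨81,(Int.negSucc 0),1⟩] (.node 59 [⟨79,(Int.ofNat 1),1⟩] (.node 58 [⟨75,(Int.ofNat 1),1⟩] (.node 57 [⟨72,(Int.ofNat 1),1⟩] .nil .nil) .nil) (.node 60 [⟨80,(Int.negSucc 0),1⟩] .nil .nil)) (.node 85 [⟨93,(Int.negSucc 0),1⟩] (.node 69 [⟨83,(Int.negSucc 0),1⟩] (.node 67 [⟨82,(Int.negSucc 0),1⟩] .nil .nil) .nil) (.node 86 [⟨96,(Int.negSucc 0),1⟩] .nil .nil))) (.node 108 [⟨121,(Int.ofNat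 1),1⟩] (.node 106 [⟨118,(Int.ofNat 1),1⟩] (.node 100 [⟨105,(Int.ofNat 1),1⟩] (.node 88 [⟨99,(Int.negSucc 0),1⟩] .nil .nil) .nil) (.node 107 [⟨120,(Int.ofNat 1),1⟩] .nil .nil)) (.node 113 [⟨125,(Int.ofNat 1),1⟩] (.node 111 [⟨124,(Int.ofNat 1),1⟩] (.node 110 [⟨123,(Int.ofNat 1),1⟩] .nil .nil) .nil) (.node 126 [⟨131,(Int.ofNat 1),1⟩] .nil .nil)))))
noncomputable def col78 : Tr Cl := (.node 51 [⟨61,(Int.ofNat 1),1⟩] (.node 13 [⟨17,(Int.negSucc 0),1⟩] (.node 5 [⟨85,(Int.ofNat 0),1⟩] (.node 2 [⟨85,(Int.ofNat 0),1⟩] (.node 1 [⟨85,(Int.negSucc 1),1⟩] (.node 0 [⟨85,(Int.ofNat 0),1⟩] .nil .nil) .nil) (.node 4 [⟨85,(Int.ofNat 0),1⟩] (.node 3 [⟨85,(Int.ofNat 1),1⟩] .nil .nil) .nil)) (.node 11 [⟨15,(Int.negSucc 0),1⟩] (.node 10 [⟨14,(Int.negSucc 0),1⟩] (.node 6 [⟨85,(Int.ofNat 0),1⟩] .nil .nil) .nil) (.node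 12 [⟨16,(Int.negSucc 0),1⟩] .nil .nil))) (.node 46 [⟨55,(Int.negSucc 0),1⟩] (.node 32 [⟨36,(Int.negSucc 0),1⟩] (.node 31 [⟨35,(Int.negSucc 0),1⟩] (.node 30 [⟨34,(Int.negSucc 0),1⟩] .nil .nil) .nil) (.node 33 [⟨37,(Int.negSucc 0),1⟩] .nil .nil)) (.node 49 [⟨58,(Int.negSucc 0),1⟩] (.node 48 [⟨57,(Int.negSucc 0),1⟩] (.node 47 [⟨56,(Int.negSucc 0),1⟩] .nil .nil) .nil) (.node 50 [⟨60,(Int.ofNat 1),1⟩] .nil .nil)))) (.node 83 [⟨92,(Int.ofNat 1),1⟩] (.node 77 [⟨87,(Int.negSucc 0),1⟩] (.node 54 [⟨0,(Int.ofNat 0),1⟩, ⟨1,(Int.ofNat 1),1⟩, ⟨2,(Int.ofNat 0),1⟩, ⟨3,(Int.ofNat 0),1⟩, ⟨4,(Int.ofNat 0),1⟩, ⟨5,(Int.ofNat 0),1⟩, ⟨6,(Int.ofNat 0),1⟩, ⟨85,(Int.negSucc 0),2⟩] (.node 53 [⟨63,(Int.ofNat 1),1⟩] (.node 52 [⟨62,(Int.ofNat 1),1⟩] .nil .nil) .nil) (.node 76 [⟨86,(Int.negSucc 0),1⟩] .nil .nil)) (.node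 81 [⟨90,(Int.ofNat 1),1⟩] (.node 79 [⟨89,(Int.negSucc 0),1⟩] (.node 78 [⟨88,(Int.negSucc 0),1⟩] .nil .nil) .nil) (.node 82 [⟨91,(Int.ofNat 1),1⟩] .nil .nil))) (.node 105 [⟨109,(Int.ofNat 1),1⟩] (.node 103 [⟨107,(Int.ofNat 1),1⟩] (.node 102 [⟨106,(Int.ofNat 1),1⟩] (.node 84 [⟨93,(Int.ofNat 1),1⟩] .nil .nil) .nil) (.node 104 [⟨108,(Int.ofNat 1),1⟩] .nil .nil)) (.node 124 [⟨128,(Int.ofNat 1),1⟩] (.node 123 [⟨127,(Int.ofNat 1),1⟩] (.node 122 [⟨126,(Int.ofNat 1),1⟩] .nil .nil) .nil) (.node 125 [⟨129,(Int.ofNat 1),1⟩] .nil .nil)))))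
noncomputable def col79 : Tr Cl := (.node 51 [⟨65,(Int.ofNat 1),1⟩] (.node 13 [⟨20,(Int.ofNat 1),1⟩] (.node 5 [⟨86,(Int.ofNat 0),1⟩] (.node 2 [⟨86,(Int.ofNat 1),1⟩] (.node 1 [⟨86,(Int.negSucc 0),1⟩] (.node 0 [⟨86,(Int.ofNat 0),1⟩] .nil .nil) .nil) (.node 4 [⟨86,(Int.ofNat 1),1⟩] (.node 3 [⟨86,(Int.negSucc 0),1⟩] .nil .nil) .nil)) (.node 11 [⟨18,(Int.ofNat 1),1⟩] (.node 9 [⟨14,(Int.negSucc 0),1⟩] (.node 6 [⟨86,(Int.ofNat 0),1⟩] .nil .nil) .nil) (.node 12 [⟨19,(Int.ofNat 1),1⟩] .nil .nil))) (.node 43 [⟨55,(Int.negSucc 0),1⟩] (.node 29 [⟨36,(Int.negSucc 0),1⟩] (.node 28 [⟨35,(Int.negSucc 0),1⟩] (.node 27 [⟨34,(Int.negSucc 0),1⟩] .nil .nil) .nil) (.node 33 [⟨38,(Int.ofNat 1),1⟩] .nil .nil)) (.node 49 [⟨59,(Int.ofNat 1),1⟩] (.node 45 [⟨57,(Int.negSucc 0),1⟩] (.node 44 [⟨56,(Int.negSucc 0),1⟩] .nil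 .nil) .nil) (.node 50 [⟨64,(Int.ofNat 1),1⟩] .nil .nil)))) (.node 83 [⟨95,(Int.ofNat 1),1⟩] (.node 73 [⟨87,(Int.negSucc 0),1⟩] (.node 54 [⟨76,(Int.ofNat 1),1⟩] (.node 53 [⟨0,(Int.ofNat 0),1⟩, ⟨1,(Int.ofNat 1),1⟩, ⟨2,(Int.ofNat 0),1⟩, ⟨3,(Int.ofNat 1),1⟩, ⟨4,(Int.ofNat 0),1⟩, ⟨5,(Int.ofNat 0),1⟩, ⟨6,(Int.ofNat 0),1⟩, ⟨86,(Int.negSucc 0),2⟩] (.node 52 [⟨66,(Int.ofNat 1),1⟩] .nil .nil) .nil) (.node 63 [⟨85,(Int.negSucc 0),1⟩] .nil .nil)) (.node 80 [⟨90,(Int.negSucc 0),1⟩] (.node 75 [⟨89,(Int.negSucc 0),1⟩] (.node 74 [⟨88,(Int.negSucc 0),1⟩] .nil .nil) .nil) (.node 82 [⟨94,(Int.ofNat 1),1⟩] .nil .nil))) (.node 105 [⟨112,(Int.ofNat 1),1⟩] (.node 103 [⟨110,(Int.ofNat 1),1⟩] (.node 101 [⟨106,(Int.negSucc 0),1⟩] (.node 84 [⟨96,(Int.ofNat 1),1⟩] .nil .nil) .nil) (.node 104 [⟨111,(Int.ofNat 1),1⟩] .nil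 .nil)) (.node 121 [⟨128,(Int.negSucc 0),1⟩] (.node 120 [⟨127,(Int.negSucc 0),1⟩] (.node 119 [⟨126,(Int.negSucc 0),1⟩] .nil .nil) .nil) (.node 125 [⟨130,(Int.ofNat 1),1⟩] .nil .nil)))))
noncomputable def col80 : Tr Cl := (.node 51 [⟨68,(Int.ofNat 1),1⟩] (.node 13 [⟨22,(Int.negSucc 0),1⟩] (.node 5 [⟨87,(Int.ofNat 1),1⟩] (.node 2 [⟨87,(Int.ofNat 1),1⟩] (.node 1 [⟨87,(Int.negSucc 0),1⟩] (.node 0 [⟨87,(Int.ofNat 0),1⟩] .nil .nil) .nil) (.node 4 [⟨87,(Int.negSucc 0),1⟩] (.node 3 [⟨87,(Int.ofNat 0),1⟩] .nil .nil) .nil)) (.node 10 [⟨18,(Int.ofNat 1),1⟩] (.node 9 [⟨15,(Int.ofNat 1),1⟩] (.node 6 [⟨87,(Int.ofNat 0),1⟩] .nil .nil) .nil) (.node 12 [⟨21,(Int.negSucc 0),1⟩] .nil .nil))) (.node 41 [⟨55,(Int.negSucc 0),1⟩] (.node 29 [⟨37,(Int.ofNat 1),1⟩] (.node 26 [⟨35,(Int.negSucc 0),1⟩] (.node 25 [⟨34,(Int.negSucc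 0),1⟩] .nil .nil) .nil) (.node 32 [⟨38,(Int.ofNat 1),1⟩] .nil .nil)) (.node 48 [⟨59,(Int.ofNat 1),1⟩] (.node 45 [⟨58,(Int.ofNat 1),1⟩] (.node 42 [⟨56,(Int.negSucc 0),1⟩] .nil .nil) .nil) (.node 50 [⟨67,(Int.ofNat 1),1⟩] .nil .nil)))) (.node 83 [⟨97,(Int.ofNat 1),1⟩] (.node 66 [⟨86,(Int.negSucc 0),1⟩] (.node 54 [⟨77,(Int.ofNat 1),1⟩] (.node 53 [⟨73,(Int.ofNat 1),1⟩] (.node 52 [⟨0,(Int.ofNat 0),1⟩, ⟨1,(Int.ofNat 1),1⟩, ⟨2,(Int.ofNat 0),1⟩, ⟨3,(Int.ofNat 1),1⟩, ⟨4,(Int.ofNat 1),1⟩, ⟨5,(Int.ofNat 0),1⟩, ⟨6,(Int.ofNat 0),1⟩, ⟨87,(Int.negSucc 0),2⟩] .nil .nil) .nil) (.node 62 [⟨85,(Int.negSucc 0),1⟩] .nil .nil)) (.node 80 [⟨91,(Int.negSucc 0),1⟩] (.node 72 [⟨89,(Int.negSucc 0),1⟩] (.node 71 [⟨88,(Int.negSucc 0),1⟩] .nil .nil) .nil) (.node 81 [⟨94,(Int.negSucc 0),1⟩] .nil .nil))) (.node 105 [⟨114,(Int.ofNat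 1),1⟩] (.node 102 [⟨110,(Int.negSucc 0),1⟩] (.node 101 [⟨107,(Int.negSucc 0),1⟩] (.node 84 [⟨98,(Int.ofNat 1),1⟩] .nil .nil) .nil) (.node 104 [⟨113,(Int.ofNat 1),1⟩] .nil .nil)) (.node 121 [⟨129,(Int.negSucc 0),1⟩] (.node 118 [⟨127,(Int.ofNat 1),1⟩] (.node 117 [⟨126,(Int.ofNat 1),1⟩] .nil .nil) .nil) (.node 124 [⟨130,(Int.negSucc 0),1⟩] .nil .nil)))))
noncomputable def col81 : Tr Cl := (.node 51 [⟨0,(Int.ofNat 0),1⟩, ⟨1,(Int.ofNat 1),1⟩, ⟨2,(Int.ofNat 0),1⟩, ⟨3,(Int.ofNat 1),1⟩, ⟨4,(Int.ofNat 1),1⟩, ⟨5,(Int.ofNat 1),1⟩, ⟨6,(Int.ofNat 0),1⟩, ⟨88,(Int.negSucc 0),2⟩] (.node 13 [⟨23,(Int.ofNat 1),1⟩] (.node 5 [⟨88,(Int.negSucc 0),1⟩] (.node 2 [⟨88,(Int.ofNat 1),1⟩] (.node 1 [⟨88,(Int.negSucc 0),1⟩] (.node 0 [⟨88,(Int.ofNat 0),1⟩] .nil .nil) .nil) (.node 4 [⟨88,(Int.ofNat 0),1⟩] (.node 3 [⟨88,(Int.ofNat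 0),1⟩] .nil .nil) .nil)) (.node 10 [⟨19,(Int.negSucc 0),1⟩] (.node 9 [⟨16,(Int.negSucc 0),1⟩] (.node 6 [⟨88,(Int.ofNat 1),1⟩] .nil .nil) .nil) (.node 11 [⟨21,(Int.negSucc 0),1⟩] .nil .nil))) (.node 40 [⟨55,(Int.negSucc 0),1⟩] (.node 28 [⟨37,(Int.ofNat 1),1⟩] (.node 26 [⟨36,(Int.ofNat 1),1⟩] (.node 24 [⟨34,(Int.negSucc 0),1⟩] .nil .nil) .nil) (.node 31 [⟨38,(Int.ofNat 1),1⟩] .nil .nil)) (.node 47 [⟨59,(Int.ofNat 1),1⟩] (.node 44 [⟨58,(Int.ofNat 1),1⟩] (.node 42 [⟨57,(Int.ofNat 1),1⟩] .nil .nil) .nil) (.node 50 [⟨69,(Int.ofNat 1),1⟩] .nil .nil)))) (.node 82 [⟨97,(Int.negSucc 0),1⟩] (.node 65 [⟨86,(Int.negSucc 0),1⟩] (.node 54 [⟨78,(Int.ofNat 1),1⟩] (.node 53 [⟨74,(Int.ofNat 1),1⟩] (.node 52 [⟨71,(Int.ofNat 1),1⟩] .nil .nil) .nil) (.node 61 [⟨85,(Int.negSucc 0),1⟩] .nil .nil)) (.node 80 [⟨92,(Int.negSucc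 0),1⟩] (.node 70 [⟨89,(Int.negSucc 0),1⟩] (.node 68 [⟨87,(Int.negSucc 0),1⟩] .nil .nil) .nil) (.node 81 [⟨95,(Int.negSucc 0),1⟩] .nil .nil))) (.node 105 [⟨115,(Int.ofNat 1),1⟩] (.node 102 [⟨111,(Int.negSucc 0),1⟩] (.node 101 [⟨108,(Int.negSucc 0),1⟩] (.node 84 [⟨99,(Int.ofNat 1),1⟩] .nil .nil) .nil) (.node 103 [⟨113,(Int.negSucc 0),1⟩] .nil .nil)) (.node 120 [⟨129,(Int.ofNat 1),1⟩] (.node 118 [⟨128,(Int.ofNat 1),1⟩] (.node 116 [⟨126,(Int.negSucc 0),1⟩] .nil .nil) .nil) (.node 123 [⟨130,(Int.ofNat 1),1⟩] .nil .nil)))))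
noncomputable def col82 : Tr Cl := (.node 51 [⟨70,(Int.ofNat 1),1⟩] (.node 12 [⟨23,(Int.ofNat 1),1⟩] (.node 5 [⟨89,(Int.ofNat 0),1⟩] (.node 2 [⟨89,(Int.ofNat 1),1⟩] (.node 1 [⟨89,(Int.negSucc 0),1⟩] (.node 0 [⟨89,(Int.ofNat 0),1⟩] .nil .nil) .nil) (.node 4 [⟨89,(Int.ofNat 0),1⟩] (.node 3 [⟨89,(Int.ofNat 0),1⟩] .nil .nil) .nil)) (.node 10 [⟨20,(Int.ofNat 1),1⟩] (.node 9 [⟨17,(Int.ofNat 1),1⟩] (.node 6 [⟨89,(Int.negSucc 0),1⟩] .nil .nil) .nil) (.node 11 [⟨22,(Int.ofNat 1),1⟩] .nil .nil))) (.node 40 [⟨56,(Int.ofNat 1),1⟩] (.node 27 [⟨37,(Int.ofNat 1),1⟩] (.node 25 [⟨36,(Int.ofNat 1),1⟩] (.node 24 [⟨35,(Int.ofNat 1),1⟩] .nil .nil) .nil) (.node 30 [⟨38,(Int.ofNat 1),1⟩] .nil .nil)) (.node 46 [⟨59,(Int.ofNat 1),1⟩] (.node 43 [⟨58,(Int.ofNat 1),1⟩] (.node 41 [⟨57,(Int.ofNat 1),1⟩] .nil .nil) .nil)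 (.node 50 [⟨0,(Int.ofNat 0),1⟩, ⟨1,(Int.ofNat 1),1⟩, ⟨2,(Int.ofNat 0),1⟩, ⟨3,(Int.ofNat 1),1⟩, ⟨4,(Int.ofNat 1),1⟩, ⟨5,(Int.ofNat 1),1⟩, ⟨6,(Int.ofNat 1),1⟩, ⟨89,(Int.negSucc 0),2⟩] .nil .nil)))) (.node 82 [⟨98,(Int.negSucc 0),1⟩] (.node 64 [⟨86,(Int.negSucc 0),1⟩] (.node 54 [⟨79,(Int.ofNat 1),1⟩] (.node 53 [⟨75,(Int.ofNat 1),1⟩] (.node 52 [⟨72,(Int.ofNat 1),1⟩] .nil .nil) .nil) (.node 60 [⟨85,(Int.negSucc 0),1⟩] .nil .nil)) (.node 80 [⟨93,(Int.negSucc 0),1⟩] (.node 69 [⟨88,(Int.negSucc 0),1⟩] (.node 67 [⟨87,(Int.negSucc 0),1⟩] .nil .nil) .nil) (.node 81 [⟨96,(Int.negSucc 0),1⟩] .nil .nil))) (.node 104 [⟨115,(Int.negSucc 0),1⟩] (.node 102 [⟨112,(Int.negSucc 0),1⟩] (.node 101 [⟨109,(Int.negSucc 0),1⟩] (.node 83 [⟨99,(Int.negSucc 0),1⟩] .nil .nil) .nil) (.node 103 [⟨114,(Int.negSucc 0),1⟩] .nil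 .nil)) (.node 119 [⟨129,(Int.negSucc 0),1⟩] (.node 117 [⟨128,(Int.negSucc 0),1⟩] (.node 116 [⟨127,(Int.negSucc 0),1⟩] .nil .nil) .nil) (.node 122 [⟨130,(Int.negSucc 0),1⟩] .nil .nil)))))
noncomputable def col83 : Tr Cl := (.node 48 [⟨66,(Int.ofNat 1),1⟩] (.node 13 [⟨26,(Int.negSucc 0),1⟩] (.node 5 [⟨90,(Int.ofNat 0),1⟩] (.node 2 [⟨90,(Int.negSucc 0),1⟩] (.node 1 [⟨90,(Int.negSucc 0),1⟩] (.node 0 [⟨90,(Int.ofNat 1),1⟩] .nil .nil) .nil) (.node 4 [⟨90,(Int.ofNat 1),1⟩] (.node 3 [⟨90,(Int.ofNat 0),1⟩] .nil .nil) .nil)) (.node 11 [⟨24,(Int.negSucc 0),1⟩] (.node 8 [⟨14,(Int.negSucc 0),1⟩] (.node 6 [⟨90,(Int.ofNat 0),1⟩] .nil .nil) .nil) (.node 12 [⟨25,(Int.negSucc 0),1⟩] .nil .nil))) (.node 43 [⟨60,(Int.negSucc 0),1⟩] (.node 23 [⟨36,(Int.negSucc 0),1⟩] (.node 22 [⟨35,(Int.negSucc 0),1⟩] (.node 21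 [⟨34,(Int.negSucc 0),1⟩] .nil .nil) .nil) (.node 33 [⟨39,(Int.negSucc 0),1⟩] .nil .nil)) (.node 46 [⟨64,(Int.ofNat 1),1⟩] (.node 45 [⟨62,(Int.negSucc 0),1⟩] (.node 44 [⟨61,(Int.negSucc 0),1⟩] .nil .nil) .nil) (.node 47 [⟨65,(Int.ofNat 1),1⟩] .nil .nil)))) (.node 78 [⟨95,(Int.ofNat 1),1⟩] (.node 59 [⟨86,(Int.negSucc 0),1⟩] (.node 54 [⟨81,(Int.negSucc 0),1⟩] (.node 53 [⟨80,(Int.ofNat 1),1⟩] (.node 49 [⟨0,(Int.ofNat 0),1⟩, ⟨1,(Int.ofNat 1),1⟩, ⟨2,(Int.ofNat 1),1⟩, ⟨3,(Int.ofNat 1),1⟩, ⟨4,(Int.ofNat 0),1⟩, ⟨5,(Int.ofNat 0),1⟩, ⟨6,(Int.ofNat 0),1⟩, ⟨90,(Int.negSucc 0),2⟩] .nil .nil) .nil) (.node 58 [⟨85,(Int.ofNat 1),1⟩] .nil .nil)) (.node 75 [⟨93,(Int.negSucc 0),1⟩] (.node 74 [⟨92,(Int.negSucc 0),1⟩] (.node 73 [⟨91,(Int.negSucc 0),1⟩] .nil .nil) .nil) (.node 77 [⟨94,(Int.ofNat 1),1⟩] .nil .nil)))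 (.node 105 [⟨118,(Int.ofNat 1),1⟩] (.node 103 [⟨116,(Int.ofNat 1),1⟩] (.node 100 [⟨106,(Int.ofNat 1),1⟩] (.node 79 [⟨96,(Int.ofNat 1),1⟩] .nil .nil) .nil) (.node 104 [⟨117,(Int.ofNat 1),1⟩] .nil .nil)) (.node 115 [⟨128,(Int.ofNat 1),1⟩] (.node 114 [⟨127,(Int.ofNat 1),1⟩] (.node 113 [⟨126,(Int.ofNat 1),1⟩] .nil .nil) .nil) (.node 125 [⟨131,(Int.ofNat 1),1⟩] .nil .nil)))))
noncomputable def col84 : Tr Cl := (.node 48 [⟨0,(Int.ofNat 0),1⟩, ⟨1,(Int.ofNat 1),1⟩, ⟨2,(Int.ofNat 1),1⟩, ⟨3,(Int.ofNat 1),1⟩, ⟨4,(Int.ofNat 1),1⟩, ⟨5,(Int.ofNat 0),1⟩, ⟨6,(Int.ofNat 0),1⟩, ⟨91,(Int.negSucc 0),2⟩] (.node 13 [⟨28,(Int.ofNat 1),1⟩] (.node 5 [⟨91,(Int.ofNat 1),1⟩] (.node 2 [⟨91,(Int.negSucc 0),1⟩] (.node 1 [⟨91,(Int.negSucc 0),1⟩] (.node 0 [⟨91,(Int.ofNat 1),1⟩] .nil .nil) .nil) (.node 4 [⟨91,(Int.negSucc 0),1⟩]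 (.node 3 [⟨91,(Int.ofNat 1),1⟩] .nil .nil) .nil)) (.node 10 [⟨24,(Int.negSucc 0),1⟩] (.node 8 [⟨15,(Int.ofNat 1),1⟩] (.node 6 [⟨91,(Int.ofNat 0),1⟩] .nil .nil) .nil) (.node 12 [⟨27,(Int.ofNat 1),1⟩] .nil .nil))) (.node 41 [⟨60,(Int.negSucc 0),1⟩] (.node 23 [⟨37,(Int.ofNat 1),1⟩] (.node 20 [⟨35,(Int.negSucc 0),1⟩] (.node 19 [⟨34,(Int.negSucc 0),1⟩] .nil .nil) .nil) (.node 32 [⟨39,(Int.negSucc 0),1⟩] .nil .nil)) (.node 46 [⟨67,(Int.ofNat 1),1⟩] (.node 45 [⟨63,(Int.ofNat 1),1⟩] (.node 42 [⟨61,(Int.negSucc 0),1⟩] .nil .nil) .nil) (.node 47 [⟨68,(Int.ofNat 1),1⟩] .nil .nil)))) (.node 78 [⟨97,(Int.ofNat 1),1⟩] (.node 59 [⟨87,(Int.negSucc 0),1⟩] (.node 54 [⟨82,(Int.negSucc 0),1⟩] (.node 52 [⟨80,(Int.ofNat 1),1⟩] (.node 49 [⟨73,(Int.ofNat 1),1⟩] .nil .nil) .nil) (.node 57 [⟨85,(Int.ofNat 1),1⟩] .nil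 .nil)) (.node 72 [⟨93,(Int.negSucc 0),1⟩] (.node 71 [⟨92,(Int.negSucc 0),1⟩] (.node 66 [⟨90,(Int.negSucc 0),1⟩] .nil .nil) .nil) (.node 76 [⟨94,(Int.negSucc 0),1⟩] .nil .nil))) (.node 105 [⟨120,(Int.ofNat 1),1⟩] (.node 102 [⟨116,(Int.negSucc 0),1⟩] (.node 100 [⟨107,(Int.ofNat 1),1⟩] (.node 79 [⟨98,(Int.ofNat 1),1⟩] .nil .nil) .nil) (.node 104 [⟨119,(Int.ofNat 1),1⟩] .nil .nil)) (.node 115 [⟨129,(Int.ofNat 1),1⟩] (.node 112 [⟨127,(Int.negSucc 0),1⟩] (.node 111 [⟨126,(Int.negSucc 0),1⟩] .nil .nil) .nil) (.node 124 [⟨131,(Int.negSucc 0),1⟩] .nil .nil)))))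
noncomputable def col85 : Tr Cl := (.node 48 [⟨71,(Int.ofNat 1),1⟩] (.node 13 [⟨29,(Int.negSucc 0),1⟩] (.node 5 [⟨92,(Int.negSucc 0),1⟩] (.node 2 [⟨92,(Int.negSucc 0),1⟩] (.node 1 [⟨92,(Int.negSucc 0),1⟩] (.node 0 [⟨92,(Int.ofNat 1),1⟩] .nil .nil) .nil) (.node 4 [⟨92,(Int.ofNat 0),1⟩] (.node 3 [⟨92,(Int.ofNat 1),1⟩] .nil .nil) .nil)) (.node 10 [⟨25,(Int.ofNat 1),1⟩] (.node 8 [⟨16,(Int.negSucc 0),1⟩] (.node 6 [⟨92,(Int.ofNat 1),1⟩] .nil .nil) .nil) (.node 11 [⟨27,(Int.ofNat 1),1⟩] .nil .nil))) (.node 40 [⟨60,(Int.negSucc 0),1⟩] (.node 22 [⟨37,(Int.ofNat 1),1⟩] (.node 20 [⟨36,(Int.ofNat 1),1⟩] (.node 18 [⟨34,(Int.negSucc 0),1⟩] .nil .nil) .nil) (.node 31 [⟨39,(Int.negSucc 0),1⟩] .nil .nil)) (.node 46 [⟨69,(Int.ofNat 1),1⟩] (.node 44 [⟨63,(Int.ofNat 1),1⟩] (.node 42 [⟨62,(Int.ofNat 1),1⟩] .nil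 .nil) .nil) (.node 47 [⟨0,(Int.ofNat 0),1⟩, ⟨1,(Int.ofNat 1),1⟩, ⟨2,(Int.ofNat 1),1⟩, ⟨3,(Int.ofNat 1),1⟩, ⟨4,(Int.ofNat 1),1⟩, ⟨5,(Int.ofNat 1),1⟩, ⟨6,(Int.ofNat 0),1⟩, ⟨92,(Int.negSucc 0),2⟩] .nil .nil)))) (.node 77 [⟨97,(Int.negSucc 0),1⟩] (.node 59 [⟨88,(Int.negSucc 0),1⟩] (.node 54 [⟨83,(Int.negSucc 0),1⟩] (.node 51 [⟨80,(Int.ofNat 1),1⟩] (.node 49 [⟨74,(Int.ofNat 1),1⟩] .nil .nil) .nil) (.node 56 [⟨85,(Int.ofNat 1),1⟩] .nil .nil)) (.node 70 [⟨93,(Int.negSucc 0),1⟩] (.node 68 [⟨91,(Int.negSucc 0),1⟩] (.node 65 [⟨90,(Int.negSucc 0),1⟩] .nil .nil) .nil) (.node 76 [⟨95,(Int.negSucc 0),1⟩] .nil .nil))) (.node 105 [⟨121,(Int.ofNat 1),1⟩] (.node 102 [⟨117,(Int.negSucc 0),1⟩] (.node 100 [⟨108,(Int.ofNat 1),1⟩] (.node 79 [⟨99,(Int.ofNat 1),1⟩] .nil .nil) .nil) (.node 103 [⟨119,(Int.negSucc 0),1⟩]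 .nil .nil)) (.node 114 [⟨129,(Int.negSucc 0),1⟩] (.node 112 [⟨128,(Int.negSucc 0),1⟩] (.node 110 [⟨126,(Int.ofNat 1),1⟩] .nil .nil) .nil) (.node 123 [⟨131,(Int.ofNat 1),1⟩] .nil .nil)))))
noncomputable def col86 : Tr Cl := (.node 48 [⟨72,(Int.ofNat 1),1⟩] (.node 12 [⟨29,(Int.negSucc 0),1⟩] (.node 5 [⟨93,(Int.ofNat 0),1⟩] (.node 2 [⟨93,(Int.negSucc 0),1⟩] (.node 1 [⟨93,(Int.negSucc 0),1⟩] (.node 0 [⟨93,(Int.ofNat 1),1⟩] .nil .nil) .nil) (.node 4 [⟨93,(Int.ofNat 0),1⟩] (.node 3 [⟨93,(Int.ofNat 1),1⟩] .nil .nil) .nil)) (.node 10 [⟨26,(Int.negSucc 0),1⟩] (.node 8 [⟨17,(Int.ofNat 1),1⟩] (.node 6 [⟨93,(Int.negSucc 0),1⟩] .nil .nil) .nil) (.node 11 [⟨28,(Int.negSucc 0),1⟩] .nil .nil))) (.node 40 [⟨61,(Int.ofNat 1),1⟩] (.node 21 [⟨37,(Int.ofNat 1),1⟩] (.node 19 [⟨36,(Int.ofNat 1),1⟩] (.node 18 [⟨35,(Int.ofNat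 1),1⟩] .nil .nil) .nil) (.node 30 [⟨39,(Int.negSucc 0),1⟩] .nil .nil)) (.node 46 [⟨0,(Int.ofNat 0),1⟩, ⟨1,(Int.ofNat 1),1⟩, ⟨2,(Int.ofNat 1),1⟩, ⟨3,(Int.ofNat 1),1⟩, ⟨4,(Int.ofNat 1),1⟩, ⟨5,(Int.ofNat 1),1⟩, ⟨6,(Int.ofNat 1),1⟩, ⟨93,(Int.negSucc 0),2⟩] (.node 43 [⟨63,(Int.ofNat 1),1⟩] (.node 41 [⟨62,(Int.ofNat 1),1⟩] .nil .nil) .nil) (.node 47 [⟨70,(Int.ofNat 1),1⟩] .nil .nil)))) (.node 77 [⟨98,(Int.negSucc 0),1⟩] (.node 59 [⟨89,(Int.negSucc 0),1⟩] (.node 54 [⟨84,(Int.negSucc 0),1⟩] (.node 50 [⟨80,(Int.ofNat 1),1⟩] (.node 49 [⟨75,(Int.ofNat 1),1⟩] .nil .nil) .nil) (.node 55 [⟨85,(Int.ofNat 1),1⟩] .nil .nil)) (.node 69 [⟨92,(Int.negSucc 0),1⟩] (.node 67 [⟨91,(Int.negSucc 0),1⟩] (.node 64 [⟨90,(Int.negSucc 0),1⟩] .nil .nil) .nil) (.node 76 [⟨96,(Int.negSucc 0),1⟩] .nil .nil))) (.node 104 [⟨121,(Int.negSucc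 0),1⟩] (.node 102 [⟨118,(Int.negSucc 0),1⟩] (.node 100 [⟨109,(Int.ofNat 1),1⟩] (.node 78 [⟨99,(Int.negSucc 0),1⟩] .nil .nil) .nil) (.node 103 [⟨120,(Int.negSucc 0),1⟩] .nil .nil)) (.node 113 [⟨129,(Int.ofNat 1),1⟩] (.node 111 [⟨128,(Int.ofNat 1),1⟩] (.node 110 [⟨127,(Int.ofNat 1),1⟩] .nil .nil) .nil) (.node 122 [⟨131,(Int.negSucc 0),1⟩] .nil .nil)))))
noncomputable def col87 : Tr Cl := (.node 48 [⟨76,(Int.ofNat 1),1⟩] (.node 13 [⟨31,(Int.negSucc 0),1⟩] (.node 5 [⟨94,(Int.ofNat 1),1⟩] (.node 2 [⟨94,(Int.ofNat 0),1⟩] (.node 1 [⟨94,(Int.ofNat 0),1⟩] (.node 0 [⟨94,(Int.ofNat 1),1⟩] .nil .nil) .nil) (.node 4 [⟨94,(Int.ofNat 0),1⟩] (.node 3 [⟨94,(Int.negSucc 0),1⟩] .nil .nil) .nil)) (.node 9 [⟨24,(Int.negSucc 0),1⟩] (.node 8 [⟨18,(Int.negSucc 0),1⟩] (.node 6 [⟨94,(Int.ofNat 0),1⟩] .nil .nil) .nil)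 (.node 12 [⟨30,(Int.negSucc 0),1⟩] .nil .nil))) (.node 41 [⟨64,(Int.negSucc 0),1⟩] (.node 23 [⟨38,(Int.negSucc 0),1⟩] (.node 17 [⟨35,(Int.negSucc 0),1⟩] (.node 16 [⟨34,(Int.negSucc 0),1⟩] .nil .nil) .nil) (.node 29 [⟨39,(Int.negSucc 0),1⟩] .nil .nil)) (.node 44 [⟨68,(Int.ofNat 1),1⟩] (.node 43 [⟨67,(Int.ofNat 1),1⟩] (.node 42 [⟨65,(Int.negSucc 0),1⟩] .nil .nil) .nil) (.node 45 [⟨0,(Int.ofNat 0),1⟩, ⟨1,(Int.ofNat 1),1⟩, ⟨2,(Int.ofNat 1),1⟩, ⟨3,(Int.ofNat 2),1⟩, ⟨4,(Int.ofNat 1),1⟩, ⟨5,(Int.ofNat 0),1⟩, ⟨6,(Int.ofNat 0),1⟩, ⟨94,(Int.negSucc 0),2⟩] .nil .nil)))) (.node 74 [⟨97,(Int.ofNat 1),1⟩] (.node 58 [⟨87,(Int.negSucc 0),1⟩] (.node 53 [⟨82,(Int.negSucc 0),1⟩] (.node 52 [⟨81,(Int.ofNat 1),1⟩] (.node 49 [⟨77,(Int.negSucc 0),1⟩] .nil .nil) .nil) (.node 57 [⟨86,(Int.ofNat 1),1⟩] .nil .nil)) (.node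 71 [⟨95,(Int.negSucc 0),1⟩] (.node 63 [⟨91,(Int.negSucc 0),1⟩] (.node 62 [⟨90,(Int.ofNat 1),1⟩] .nil .nil) .nil) (.node 72 [⟨96,(Int.negSucc 0),1⟩] .nil .nil))) (.node 105 [⟨123,(Int.ofNat 1),1⟩] (.node 101 [⟨116,(Int.ofNat 1),1⟩] (.node 100 [⟨110,(Int.ofNat 1),1⟩] (.node 75 [⟨98,(Int.ofNat 1),1⟩] .nil .nil) .nil) (.node 104 [⟨122,(Int.ofNat 1),1⟩] .nil .nil)) (.node 115 [⟨130,(Int.ofNat 1),1⟩] (.node 109 [⟨127,(Int.ofNat 1),1⟩] (.node 108 [⟨126,(Int.ofNat 1),1⟩] .nil .nil) .nil) (.node 121 [⟨131,(Int.ofNat 1),1⟩] .nil .nil)))))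
noncomputable def col88 : Tr Cl := (.node 47 [⟨76,(Int.ofNat 1),1⟩] (.node 13 [⟨32,(Int.ofNat 1),1⟩] (.node 5 [⟨95,(Int.negSucc 0),1⟩] (.node 2 [⟨95,(Int.ofNat 0),1⟩] (.node 1 [⟨95,(Int.ofNat 0),1⟩] (.node 0 [⟨95,(Int.ofNat 1),1⟩] .nil .nil) .nil) (.node 4 [⟨95,(Int.ofNat 1),1⟩] (.node 3 [⟨95,(Int.negSucc 0),1⟩] .nil .nil) .nil)) (.node 9 [⟨25,(Int.ofNat 1),1⟩] (.node 8 [⟨19,(Int.ofNat 1),1⟩] (.node 6 [⟨95,(Int.ofNat 1),1⟩] .nil .nil) .nil) (.node 11 [⟨30,(Int.negSucc 0),1⟩] .nil .nil))) (.node 40 [⟨64,(Int.negSucc 0),1⟩] (.node 22 [⟨38,(Int.negSucc 0),1⟩] (.node 17 [⟨36,(Int.ofNat 1),1⟩] (.node 15 [⟨34,(Int.negSucc 0),1⟩] .nil .nil) .nil) (.node 28 [⟨39,(Int.negSucc 0),1⟩] .nil .nil)) (.node 44 [⟨0,(Int.ofNat 0),1⟩, ⟨1,(Int.ofNat 1),1⟩, ⟨2,(Int.ofNat 1),1⟩, ⟨3,(Int.ofNat 2),1⟩, ⟨4,(Int.ofNat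 1),1⟩, ⟨5,(Int.ofNat 1),1⟩, ⟨6,(Int.ofNat 0),1⟩, ⟨95,(Int.negSucc 0),2⟩] (.node 43 [⟨69,(Int.ofNat 1),1⟩] (.node 42 [⟨66,(Int.ofNat 1),1⟩] .nil .nil) .nil) (.node 45 [⟨71,(Int.ofNat 1),1⟩] .nil .nil)))) (.node 73 [⟨97,(Int.negSucc 0),1⟩] (.node 58 [⟨88,(Int.negSucc 0),1⟩] (.node 53 [⟨83,(Int.negSucc 0),1⟩] (.node 51 [⟨81,(Int.ofNat 1),1⟩] (.node 49 [⟨78,(Int.negSucc 0),1⟩] .nil .nil) .nil) (.node 56 [⟨86,(Int.ofNat 1),1⟩] .nil .nil)) (.node 68 [⟨94,(Int.negSucc 0),1⟩] (.node 63 [⟨92,(Int.negSucc 0),1⟩] (.node 61 [⟨90,(Int.ofNat 1),1⟩] .nil .nil) .nil) (.node 70 [⟨96,(Int.negSucc 0),1⟩] .nil .nil))) (.node 105 [⟨124,(Int.ofNat 1),1⟩] (.node 101 [⟨117,(Int.ofNat 1),1⟩] (.node 100 [⟨111,(Int.ofNat 1),1⟩] (.node 75 [⟨99,(Int.ofNat 1),1⟩] .nil .nil) .nil) (.node 103 [⟨122,(Int.negSucc 0),1⟩] .nil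 .nil)) (.node 114 [⟨130,(Int.negSucc 0),1⟩] (.node 109 [⟨128,(Int.ofNat 1),1⟩] (.node 107 [⟨126,(Int.negSucc 0),1⟩] .nil .nil) .nil) (.node 120 [⟨131,(Int.negSucc 0),1⟩] .nil .nil)))))
noncomputable def col89 : Tr Cl := (.node 46 [⟨76,(Int.ofNat 1),1⟩] (.node 12 [⟨32,(Int.ofNat 1),1⟩] (.node 5 [⟨96,(Int.ofNat 0),1⟩] (.node 2 [⟨96,(Int.ofNat 0),1⟩] (.node 1 [⟨96,(Int.ofNat 0),1⟩] (.node 0 [⟨96,(Int.ofNat 1),1⟩] .nil .nil) .nil) (.node 4 [⟨96,(Int.ofNat 1),1⟩] (.node 3 [⟨96,(Int.negSucc 0),1⟩] .nil .nil) .nil)) (.node 9 [⟨26,(Int.negSucc 0),1⟩] (.node 8 [⟨20,(Int.negSucc 0),1⟩] (.node 6 [⟨96,(Int.negSucc 0),1⟩] .nil .nil) .nil) (.node 11 [⟨31,(Int.ofNat 1),1⟩] .nil .nil))) (.node 40 [⟨65,(Int.ofNat 1),1⟩] (.node 21 [⟨38,(Int.negSucc 0),1⟩] (.node 16 [⟨36,(Int.ofNat 1),1⟩] (.node 15 [⟨35,(Int.ofNat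 1),1⟩] .nil .nil) .nil) (.node 27 [⟨39,(Int.negSucc 0),1⟩] .nil .nil)) (.node 44 [⟨70,(Int.ofNat 1),1⟩] (.node 43 [⟨0,(Int.ofNat 0),1⟩, ⟨1,(Int.ofNat 1),1⟩, ⟨2,(Int.ofNat 1),1⟩, ⟨3,(Int.ofNat 2),1⟩, ⟨4,(Int.ofNat 1),1⟩, ⟨5,(Int.ofNat 1),1⟩, ⟨6,(Int.ofNat 1),1⟩, ⟨96,(Int.negSucc 0),2⟩] (.node 41 [⟨66,(Int.ofNat 1),1⟩] .nil .nil) .nil) (.node 45 [⟨72,(Int.ofNat 1),1⟩] .nil .nil)))) (.node 73 [⟨98,(Int.negSucc 0),1⟩] (.node 58 [⟨89,(Int.negSucc 0),1⟩] (.node 53 [⟨84,(Int.negSucc 0),1⟩] (.node 50 [⟨81,(Int.ofNat 1),1⟩] (.node 49 [⟨79,(Int.negSucc 0),1⟩] .nil .nil) .nil) (.node 55 [⟨86,(Int.ofNat 1),1⟩] .nil .nil)) (.node 67 [⟨94,(Int.negSucc 0),1⟩] (.node 63 [⟨93,(Int.negSucc 0),1⟩] (.node 60 [⟨90,(Int.ofNat 1),1⟩] .nil .nil) .nil) (.node 69 [⟨95,(Int.negSucc 0),1⟩] .nil .nil))) (.node 104 [⟨124,(Int.negSucc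 0),1⟩] (.node 101 [⟨118,(Int.ofNat 1),1⟩] (.node 100 [⟨112,(Int.ofNat 1),1⟩] (.node 74 [⟨99,(Int.negSucc 0),1⟩] .nil .nil) .nil) (.node 103 [⟨123,(Int.negSucc 0),1⟩] .nil .nil)) (.node 113 [⟨130,(Int.ofNat 1),1⟩] (.node 108 [⟨128,(Int.negSucc 0),1⟩] (.node 107 [⟨127,(Int.negSucc 0),1⟩] .nil .nil) .nil) (.node 119 [⟨131,(Int.ofNat 1),1⟩] .nil .nil)))))
noncomputable def col90 : Tr Cl := (.node 47 [⟨77,(Int.ofNat 1),1⟩] (.node 13 [⟨33,(Int.negSucc 0),1⟩] (.node 5 [⟨97,(Int.ofNat 0),1⟩] (.node 2 [⟨97,(Int.ofNat 0),1⟩] (.node 1 [⟨97,(Int.ofNat 0),1⟩] (.node 0 [⟨97,(Int.ofNat 1),1⟩] .nil .nil) .nil) (.node 4 [⟨97,(Int.negSucc 0),1⟩] (.node 3 [⟨97,(Int.ofNat 0),1⟩] .nil .nil) .nil)) (.node 9 [⟨27,(Int.negSucc 0),1⟩] (.node 8 [⟨21,(Int.negSucc 0),1⟩] (.node 6 [⟨97,(Int.ofNat 1),1⟩] .nil .nil) .nil)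 (.node 10 [⟨30,(Int.negSucc 0),1⟩] .nil .nil))) (.node 40 [⟨67,(Int.negSucc 0),1⟩] (.node 20 [⟨38,(Int.negSucc 0),1⟩] (.node 17 [⟨37,(Int.negSucc 0),1⟩] (.node 14 [⟨34,(Int.negSucc 0),1⟩] .nil .nil) .nil) (.node 26 [⟨39,(Int.negSucc 0),1⟩] .nil .nil)) (.node 44 [⟨73,(Int.ofNat 1),1⟩] (.node 42 [⟨0,(Int.ofNat 0),1⟩, ⟨1,(Int.ofNat 1),1⟩, ⟨2,(Int.ofNat 1),1⟩, ⟨3,(Int.ofNat 2),1⟩, ⟨4,(Int.ofNat 2),1⟩, ⟨5,(Int.ofNat 1),1⟩, ⟨6,(Int.ofNat 0),1⟩, ⟨97,(Int.negSucc 0),2⟩] (.node 41 [⟨69,(Int.ofNat 1),1⟩] .nil .nil) .nil) (.node 45 [⟨74,(Int.negSucc 0),1⟩] .nil .nil)))) (.node 70 [⟨98,(Int.negSucc 0),1⟩] (.node 57 [⟨88,(Int.negSucc 0),1⟩] (.node 52 [⟨83,(Int.negSucc 0),1⟩] (.node 51 [⟨82,(Int.ofNat 1),1⟩] (.node 48 [⟨78,(Int.negSucc 0),1⟩] .nil .nil) .nil) (.node 56 [⟨87,(Int.ofNat 1),1⟩] .nil .nil))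 (.node 65 [⟨94,(Int.ofNat 1),1⟩] (.node 62 [⟨92,(Int.negSucc 0),1⟩] (.node 61 [⟨91,(Int.ofNat 1),1⟩] .nil .nil) .nil) (.node 66 [⟨95,(Int.negSucc 0),1⟩] .nil .nil))) (.node 105 [⟨125,(Int.ofNat 1),1⟩] (.node 101 [⟨119,(Int.ofNat 1),1⟩] (.node 100 [⟨113,(Int.ofNat 1),1⟩] (.node 72 [⟨99,(Int.ofNat 1),1⟩] .nil .nil) .nil) (.node 102 [⟨122,(Int.ofNat 1),1⟩] .nil .nil)) (.node 112 [⟨130,(Int.ofNat 1),1⟩] (.node 109 [⟨129,(Int.ofNat 1),1⟩] (.node 106 [⟨126,(Int.ofNat 1),1⟩] .nil .nil) .nil) (.node 118 [⟨131,(Int.ofNat 1),1⟩] .nil .nil)))))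
noncomputable def col91 : Tr Cl := (.node 46 [⟨77,(Int.ofNat 1),1⟩] (.node 12 [⟨33,(Int.negSucc 0),1⟩] (.node 5 [⟨98,(Int.ofNat 1),1⟩] (.node 2 [⟨98,(Int.ofNat 0),1⟩] (.node 1 [⟨98,(Int.ofNat 0),1⟩] (.node 0 [⟨98,(Int.ofNat 1),1⟩] .nil .nil) .nil) (.node 4 [⟨98,(Int.negSucc 0),1⟩] (.node 3 [⟨98,(Int.ofNat 0),1⟩] .nil .nil) .nil)) (.node 9 [⟨28,(Int.ofNat 1),1⟩] (.node 8 [⟨22,(Int.ofNat 1),1⟩] (.node 6 [⟨98,(Int.negSucc 0),1⟩] .nil .nil) .nil) (.node 10 [⟨31,(Int.ofNat 1),1⟩] .nil .nil))) (.node 40 [⟨68,(Int.ofNat 1),1⟩] (.node 19 [⟨38,(Int.negSucc 0),1⟩] (.node 16 [⟨37,(Int.negSucc 0),1⟩] (.node 14 [⟨35,(Int.ofNat 1),1⟩] .nil .nil) .nil) (.node 25 [⟨39,(Int.negSucc 0),1⟩] .nil .nil)) (.node 43 [⟨73,(Int.ofNat 1),1⟩] (.node 42 [⟨70,(Int.ofNat 1),1⟩] (.node 41 [⟨0,(Int.ofNat 0),1⟩, ⟨1,(Int.ofNat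 1),1⟩, ⟨2,(Int.ofNat 1),1⟩, ⟨3,(Int.ofNat 2),1⟩, ⟨4,(Int.ofNat 2),1⟩, ⟨5,(Int.ofNat 1),1⟩, ⟨6,(Int.ofNat 1),1⟩, ⟨98,(Int.negSucc 0),2⟩] .nil .nil) .nil) (.node 45 [⟨75,(Int.negSucc 0),1⟩] .nil .nil)))) (.node 69 [⟨97,(Int.negSucc 0),1⟩] (.node 57 [⟨89,(Int.negSucc 0),1⟩] (.node 52 [⟨84,(Int.negSucc 0),1⟩] (.node 50 [⟨82,(Int.ofNat 1),1⟩] (.node 48 [⟨79,(Int.negSucc 0),1⟩] .nil .nil) .nil) (.node 55 [⟨87,(Int.ofNat 1),1⟩] .nil .nil)) (.node 64 [⟨94,(Int.ofNat 1),1⟩] (.node 62 [⟨93,(Int.negSucc 0),1⟩] (.node 60 [⟨91,(Int.ofNat 1),1⟩] .nil .nil) .nil) (.node 66 [⟨96,(Int.negSucc 0),1⟩] .nil .nil))) (.node 104 [⟨125,(Int.negSucc 0),1⟩] (.node 101 [⟨120,(Int.ofNat 1),1⟩] (.node 100 [⟨114,(Int.ofNat 1),1⟩] (.node 71 [⟨99,(Int.negSucc 0),1⟩] .nil .nil) .nil) (.node 102 [⟨123,(Int.ofNat 1),1⟩] .nil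 .nil)) (.node 111 [⟨130,(Int.negSucc 0),1⟩] (.node 108 [⟨129,(Int.negSucc 0),1⟩] (.node 106 [⟨127,(Int.ofNat 1),1⟩] .nil .nil) .nil) (.node 117 [⟨131,(Int.negSucc 0),1⟩] .nil .nil)))))
noncomputable def col92 : Tr Cl := (.node 46 [⟨78,(Int.ofNat 1),1⟩] (.node 11 [⟨33,(Int.negSucc 0),1⟩] (.node 5 [⟨99,(Int.negSucc 0),1⟩] (.node 2 [⟨99,(Int.ofNat 0),1⟩] (.node 1 [⟨99,(Int.ofNat 0),1⟩] (.node 0 [⟨99,(Int.ofNat 1),1⟩] .nil .nil) .nil) (.node 4 [⟨99,(Int.ofNat 0),1⟩] (.node 3 [⟨99,(Int.ofNat 0),1⟩] .nil .nil) .nil)) (.node 9 [⟨29,(Int.negSucc 0),1⟩] (.node 8 [⟨23,(Int.negSucc 0),1⟩] (.node 6 [⟨99,(Int.ofNat 0),1⟩] .nil .nil) .nil) (.node 10 [⟨32,(Int.negSucc 0),1⟩] .nil .nil))) (.node 40 [⟨0,(Int.ofNat 0),1⟩, ⟨1,(Int.ofNat 1),1⟩, ⟨2,(Int.ofNat 1),1⟩, ⟨3,(Int.ofNat 2),1⟩, ⟨4,(Int.ofNat 2),1⟩, ⟨5,(Int.ofNat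 2),1⟩, ⟨6,(Int.ofNat 1),1⟩, ⟨99,(Int.negSucc 0),2⟩] (.node 18 [⟨38,(Int.negSucc 0),1⟩] (.node 15 [⟨37,(Int.negSucc 0),1⟩] (.node 14 [⟨36,(Int.negSucc 0),1⟩] .nil .nil) .nil) (.node 24 [⟨39,(Int.negSucc 0),1⟩] .nil .nil)) (.node 43 [⟨74,(Int.ofNat 1),1⟩] (.node 42 [⟨72,(Int.negSucc 0),1⟩] (.node 41 [⟨71,(Int.ofNat 1),1⟩] .nil .nil) .nil) (.node 44 [⟨75,(Int.negSucc 0),1⟩] .nil .nil)))) (.node 67 [⟨97,(Int.ofNat 1),1⟩] (.node 56 [⟨89,(Int.negSucc 0),1⟩] (.node 51 [⟨84,(Int.negSucc 0),1⟩] (.node 50 [⟨83,(Int.ofNat 1),1⟩] (.node 47 [⟨79,(Int.negSucc 0),1⟩] .nil .nil) .nil) (.node 55 [⟨88,(Int.ofNat 1),1⟩] .nil .nil)) (.node 64 [⟨95,(Int.ofNat 1),1⟩] (.node 61 [⟨93,(Int.negSucc 0),1⟩] (.node 60 [⟨92,(Int.ofNat 1),1⟩] .nil .nil) .nil) (.node 65 [⟨96,(Int.negSucc 0),1⟩] .nil .nil))) (.node 103 [⟨125,(Int.ofNat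 1),1⟩] (.node 101 [⟨121,(Int.ofNat 1),1⟩] (.node 100 [⟨115,(Int.ofNat 1),1⟩] (.node 68 [⟨98,(Int.negSucc 0),1⟩] .nil .nil) .nil) (.node 102 [⟨124,(Int.ofNat 1),1⟩] .nil .nil)) (.node 110 [⟨130,(Int.ofNat 1),1⟩] (.node 107 [⟨129,(Int.ofNat 1),1⟩] (.node 106 [⟨128,(Int.ofNat 1),1⟩] .nil .nil) .nil) (.node 116 [⟨131,(Int.ofNat 1),1⟩] .nil .nil)))))
noncomputable def col93 : Tr Cl := (.node 36 [⟨57,(Int.ofNat 1),1⟩] (.node 26 [⟨42,(Int.ofNat 1),1⟩] (.node 5 [⟨100,(Int.ofNat 0),1⟩] (.node 2 [⟨100,(Int.ofNat 1),1⟩] (.node 1 [⟨100,(Int.ofNat 0),1⟩] (.node 0 [⟨100,(Int.negSucc 1),1⟩] .nil .nil) .nil) (.node 4 [⟨100,(Int.ofNat 0),1⟩] (.node 3 [⟨100,(Int.ofNat 0),1⟩] .nil .nil) .nil)) (.node 24 [⟨40,(Int.ofNat 1),1⟩] (.node 7 [⟨8,(Int.negSucc 0),1⟩] (.node 6 [⟨100,(Int.ofNat 0),1⟩] .nil .nil) .nil) (.node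 25 [⟨41,(Int.ofNat 1),1⟩] .nil .nil))) (.node 31 [⟨47,(Int.ofNat 1),1⟩] (.node 29 [⟨45,(Int.ofNat 1),1⟩] (.node 28 [⟨44,(Int.ofNat 1),1⟩] (.node 27 [⟨43,(Int.ofNat 1),1⟩] .nil .nil) .nil) (.node 30 [⟨46,(Int.ofNat 1),1⟩] .nil .nil)) (.node 34 [⟨55,(Int.ofNat 1),1⟩] (.node 33 [⟨49,(Int.ofNat 1),1⟩] (.node 32 [⟨48,(Int.ofNat 1),1⟩] .nil .nil) .nil) (.node 35 [⟨56,(Int.ofNat 1),1⟩] .nil .nil)))) (.node 91 [⟨107,(Int.negSucc 0),1⟩] (.node 81 [⟨102,(Int.negSucc 0),1⟩] (.node 39 [⟨0,(Int.ofNat 1),1⟩, ⟨1,(Int.ofNat 0),1⟩, ⟨2,(Int.ofNat 0),1⟩, ⟨3,(Int.ofNat 0),1⟩, ⟨4,(Int.ofNat 0),1⟩, ⟨5,(Int.ofNat 0),1⟩, ⟨6,(Int.ofNat 0),1⟩, ⟨100,(Int.negSucc 0),2⟩] (.node 38 [⟨59,(Int.ofNat 1),1⟩] (.node 37 [⟨58,(Int.ofNat 1),1⟩] .nil .nil) .nil) (.node 80 [⟨101,(Int.negSucc 0),1⟩] .nil .nil)) (.node 84 [⟨105,(Int.negSucc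 0),1⟩] (.node 83 [⟨104,(Int.negSucc 0),1⟩] (.node 82 [⟨103,(Int.negSucc 0),1⟩] .nil .nil) .nil) (.node 90 [⟨106,(Int.negSucc 0),1⟩] .nil .nil))) (.node 96 [⟨112,(Int.negSucc 0),1⟩] (.node 94 [⟨110,(Int.negSucc 0),1⟩] (.node 93 [⟨109,(Int.negSucc 0),1⟩] (.node 92 [⟨108,(Int.negSucc 0),1⟩] .nil .nil) .nil) (.node 95 [⟨111,(Int.negSucc 0),1⟩] .nil .nil)) (.node 99 [⟨115,(Int.negSucc 0),1⟩] (.node 98 [⟨114,(Int.negSucc 0),1⟩] (.node 97 [⟨113,(Int.negSucc 0),1⟩] .nil .nil) .nil) (.node 131 [⟨132,(Int.ofNat 1),1⟩] .nil .nil)))))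
noncomputable def col94 : Tr Cl := (.node 36 [⟨62,(Int.ofNat 1),1⟩] (.node 20 [⟨42,(Int.ofNat 1),1⟩] (.node 5 [⟨101,(Int.ofNat 0),1⟩] (.node 2 [⟨101,(Int.negSucc 0),1⟩] (.node 1 [⟨101,(Int.ofNat 0),1⟩] (.node 0 [⟨101,(Int.negSucc 0),1⟩] .nil .nil) .nil) (.node 4 [⟨101,(Int.ofNat 0),1⟩] (.node 3 [⟨101,(Int.ofNat 1),1⟩] .nil .nil) .nil)) (.node 18 [⟨40,(Int.ofNat 1),1⟩] (.node 7 [⟨9,(Int.ofNat 1),1⟩] (.node 6 [⟨101,(Int.ofNat 0),1⟩] .nil .nil) .nil) (.node 19 [⟨41,(Int.ofNat 1),1⟩] .nil .nil))) (.node 31 [⟨51,(Int.negSucc 0),1⟩] (.node 23 [⟨45,(Int.ofNat 1),1⟩] (.node 22 [⟨44,(Int.ofNat 1),1⟩] (.node 21 [⟨43,(Int.ofNat 1),1⟩] .nil .nil) .nil) (.node 30 [⟨50,(Int.negSucc 0),1⟩] .nil .nil)) (.node 34 [⟨60,(Int.ofNat 1),1⟩] (.node 33 [⟨53,(Int.negSucc 0),1⟩] (.node 32 [⟨52,(Int.negSucc 0),1⟩] .nil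 .nil) .nil) (.node 35 [⟨61,(Int.ofNat 1),1⟩] .nil .nil)))) (.node 87 [⟨107,(Int.ofNat 1),1⟩] (.node 76 [⟨102,(Int.negSucc 0),1⟩] (.node 39 [⟨80,(Int.ofNat 1),1⟩] (.node 38 [⟨0,(Int.ofNat 1),1⟩, ⟨1,(Int.ofNat 0),1⟩, ⟨2,(Int.ofNat 1),1⟩, ⟨3,(Int.ofNat 0),1⟩, ⟨4,(Int.ofNat 0),1⟩, ⟨5,(Int.ofNat 0),1⟩, ⟨6,(Int.ofNat 0),1⟩, ⟨101,(Int.negSucc 0),2⟩] (.node 37 [⟨63,(Int.ofNat 1),1⟩] .nil .nil) .nil) (.node 59 [⟨100,(Int.negSucc 0),1⟩] .nil .nil)) (.node 79 [⟨105,(Int.negSucc 0),1⟩] (.node 78 [⟨104,(Int.negSucc 0),1⟩] (.node 77 [⟨103,(Int.negSucc 0),1⟩] .nil .nil) .nil) (.node 86 [⟨106,(Int.ofNat 1),1⟩] .nil .nil))) (.node 96 [⟨118,(Int.negSucc 0),1⟩] (.node 94 [⟨116,(Int.negSucc 0),1⟩] (.node 89 [⟨109,(Int.ofNat 1),1⟩] (.node 88 [⟨108,(Int.ofNat 1),1⟩] .nil .nil) .nil) (.node 95 [⟨117,(Int.negSucc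 0),1⟩] .nil .nil)) (.node 99 [⟨121,(Int.negSucc 0),1⟩] (.node 98 [⟨120,(Int.negSucc 0),1⟩] (.node 97 [⟨119,(Int.negSucc 0),1⟩] .nil .nil) .nil) (.node 130 [⟨132,(Int.negSucc 0),1⟩] .nil .nil)))))
noncomputable def col95 : Tr Cl := (.node 36 [⟨66,(Int.ofNat 1),1⟩] (.node 17 [⟨42,(Int.ofNat 1),1⟩] (.node 5 [⟨102,(Int.ofNat 0),1⟩] (.node 2 [⟨102,(Int.ofNat 0),1⟩] (.node 1 [⟨102,(Int.ofNat 1),1⟩] (.node 0 [⟨102,(Int.negSucc 0),1⟩] .nil .nil) .nil) (.node 4 [⟨102,(Int.ofNat 1),1⟩] (.node 3 [⟨102,(Int.negSucc 0),1⟩] .nil .nil) .nil)) (.node 15 [⟨40,(Int.ofNat 1),1⟩] (.node 7 [⟨10,(Int.negSucc 0),1⟩] (.node 6 [⟨102,(Int.ofNat 0),1⟩] .nil .nil) .nil) (.node 16 [⟨41,(Int.ofNat 1),1⟩] .nil .nil))) (.node 28 [⟨51,(Int.negSucc 0),1⟩] (.node 23 [⟨48,(Int.negSucc 0),1⟩] (.node 22 [⟨47,(Int.negSucc 0),1⟩]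 (.node 21 [⟨46,(Int.negSucc 0),1⟩] .nil .nil) .nil) (.node 27 [⟨50,(Int.negSucc 0),1⟩] .nil .nil)) (.node 34 [⟨64,(Int.ofNat 1),1⟩] (.node 33 [⟨54,(Int.ofNat 1),1⟩] (.node 29 [⟨52,(Int.negSucc 0),1⟩] .nil .nil) .nil) (.node 35 [⟨65,(Int.ofNat 1),1⟩] .nil .nil)))) (.node 87 [⟨110,(Int.ofNat 1),1⟩] (.node 63 [⟨101,(Int.negSucc 0),1⟩] (.node 39 [⟨81,(Int.ofNat 1),1⟩] (.node 38 [⟨76,(Int.ofNat 1),1⟩] (.node 37 [⟨0,(Int.ofNat 1),1⟩, ⟨1,(Int.ofNat 0),1⟩, ⟨2,(Int.ofNat 1),1⟩, ⟨3,(Int.ofNat 1),1⟩, ⟨4,(Int.ofNat 0),1⟩, ⟨5,(Int.ofNat 0),1⟩, ⟨6,(Int.ofNat 0),1⟩, ⟨102,(Int.negSucc 0),2⟩] .nil .nil) .nil) (.node 58 [⟨100,(Int.negSucc 0),1⟩] .nil .nil)) (.node 75 [⟨105,(Int.negSucc 0),1⟩] (.node 74 [⟨104,(Int.negSucc 0),1⟩] (.node 73 [⟨103,(Int.negSucc 0),1⟩] .nil .nil) .nil) (.node 85 [⟨106,(Int.negSucc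 0),1⟩] .nil .nil))) (.node 93 [⟨118,(Int.ofNat 1),1⟩] (.node 91 [⟨116,(Int.ofNat 1),1⟩] (.node 89 [⟨112,(Int.ofNat 1),1⟩] (.node 88 [⟨111,(Int.ofNat 1),1⟩] .nil .nil) .nil) (.node 92 [⟨117,(Int.ofNat 1),1⟩] .nil .nil)) (.node 99 [⟨124,(Int.negSucc 0),1⟩] (.node 98 [⟨123,(Int.negSucc 0),1⟩] (.node 97 [⟨122,(Int.negSucc 0),1⟩] .nil .nil) .nil) (.node 129 [⟨132,(Int.ofNat 1),1⟩] .nil .nil)))))
noncomputable def col96 : Tr Cl := (.node 36 [⟨0,(Int.ofNat 1),1⟩, ⟨1,(Int.ofNat 0),1⟩, ⟨2,(Int.ofNat 1),1⟩, ⟨3,(Int.ofNat 1),1⟩, ⟨4,(Int.ofNat 1),1⟩, ⟨5,(Int.ofNat 0),1⟩, ⟨6,(Int.ofNat 0),1⟩, ⟨103,(Int.negSucc 0),2⟩] (.node 17 [⟨44,(Int.negSucc 0),1⟩] (.node 5 [⟨103,(Int.ofNat 1),1⟩] (.node 2 [⟨103,(Int.ofNat 0),1⟩] (.node 1 [⟨103,(Int.ofNat 1),1⟩] (.node 0 [⟨103,(Int.negSucc 0),1⟩] .nil .nil) .nil) (.node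 4 [⟨103,(Int.negSucc 0),1⟩] (.node 3 [⟨103,(Int.ofNat 0),1⟩] .nil .nil) .nil)) (.node 14 [⟨40,(Int.ofNat 1),1⟩] (.node 7 [⟨11,(Int.ofNat 1),1⟩] (.node 6 [⟨103,(Int.ofNat 0),1⟩] .nil .nil) .nil) (.node 16 [⟨43,(Int.negSucc 0),1⟩] .nil .nil))) (.node 26 [⟨51,(Int.negSucc 0),1⟩] (.node 23 [⟨49,(Int.ofNat 1),1⟩] (.node 20 [⟨47,(Int.negSucc 0),1⟩] (.node 19 [⟨46,(Int.negSucc 0),1⟩] .nil .nil) .nil) (.node 25 [⟨50,(Int.negSucc 0),1⟩] .nil .nil)) (.node 34 [⟨67,(Int.ofNat 1),1⟩] (.node 32 [⟨54,(Int.ofNat 1),1⟩] (.node 29 [⟨53,(Int.ofNat 1),1⟩] .nil .nil) .nil) (.node 35 [⟨68,(Int.ofNat 1),1⟩] .nil .nil)))) (.node 86 [⟨110,(Int.negSucc 0),1⟩] (.node 62 [⟨101,(Int.negSucc 0),1⟩] (.node 39 [⟨82,(Int.ofNat 1),1⟩] (.node 38 [⟨77,(Int.ofNat 1),1⟩] (.node 37 [⟨73,(Int.ofNat 1),1⟩] .nil .nil) .nil) (.node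 57 [⟨100,(Int.negSucc 0),1⟩] .nil .nil)) (.node 72 [⟨105,(Int.negSucc 0),1⟩] (.node 71 [⟨104,(Int.negSucc 0),1⟩] (.node 66 [⟨102,(Int.negSucc 0),1⟩] .nil .nil) .nil) (.node 85 [⟨107,(Int.negSucc 0),1⟩] .nil .nil))) (.node 93 [⟨120,(Int.ofNat 1),1⟩] (.node 90 [⟨116,(Int.negSucc 0),1⟩] (.node 89 [⟨114,(Int.ofNat 1),1⟩] (.node 88 [⟨113,(Int.ofNat 1),1⟩] .nil .nil) .nil) (.node 92 [⟨119,(Int.ofNat 1),1⟩] .nil .nil)) (.node 99 [⟨125,(Int.negSucc 0),1⟩] (.node 96 [⟨123,(Int.ofNat 1),1⟩] (.node 95 [⟨122,(Int.ofNat 1),1⟩] .nil .nil) .nil) (.node 128 [⟨132,(Int.negSucc 0),1⟩] .nil .nil)))))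
noncomputable def col97 : Tr Cl := (.node 36 [⟨71,(Int.ofNat 1),1⟩] (.node 17 [⟨45,(Int.ofNat 1),1⟩] (.node 5 [⟨104,(Int.negSucc 0),1⟩] (.node 2 [⟨104,(Int.ofNat 0),1⟩] (.node 1 [⟨104,(Int.ofNat 1),1⟩] (.node 0 [⟨104,(Int.negSucc 0),1⟩] .nil .nil) .nil) (.node 4 [⟨104,(Int.ofNat 0),1⟩] (.node 3 [⟨104,(Int.ofNat 0),1⟩] .nil .nil) .nil)) (.node 14 [⟨41,(Int.negSucc 0),1⟩] (.node 7 [⟨12,(Int.negSucc 0),1⟩] (.node 6 [⟨104,(Int.ofNat 1),1⟩] .nil .nil) .nil) (.node 15 [⟨43,(Int.negSucc 0),1⟩] .nil .nil))) (.node 26 [⟨52,(Int.ofNat 1),1⟩] (.node 22 [⟨49,(Int.ofNat 1),1⟩] (.node 20 [⟨48,(Int.ofNat 1),1⟩] (.node 18 [⟨46,(Int.negSucc 0),1⟩] .nil .nil) .nil) (.node 24 [⟨50,(Int.negSucc 0),1⟩] .nil .nil)) (.node 34 [⟨69,(Int.ofNat 1),1⟩] (.node 31 [⟨54,(Int.ofNat 1),1⟩] (.node 28 [⟨53,(Int.ofNat 1),1⟩]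 .nil .nil) .nil) (.node 35 [⟨0,(Int.ofNat 1),1⟩, ⟨1,(Int.ofNat 0),1⟩, ⟨2,(Int.ofNat 1),1⟩, ⟨3,(Int.ofNat 1),1⟩, ⟨4,(Int.ofNat 1),1⟩, ⟨5,(Int.ofNat 1),1⟩, ⟨6,(Int.ofNat 0),1⟩, ⟨104,(Int.negSucc 0),2⟩] .nil .nil)))) (.node 86 [⟨111,(Int.negSucc 0),1⟩] (.node 61 [⟨101,(Int.negSucc 0),1⟩] (.node 39 [⟨83,(Int.ofNat 1),1⟩] (.node 38 [⟨78,(Int.ofNat 1),1⟩] (.node 37 [⟨74,(Int.ofNat 1),1⟩] .nil .nil) .nil) (.node 56 [⟨100,(Int.negSucc 0),1⟩] .nil .nil)) (.node 70 [⟨105,(Int.negSucc 0),1⟩] (.node 68 [⟨103,(Int.negSucc 0),1⟩] (.node 65 [⟨102,(Int.negSucc 0),1⟩] .nil .nil) .nil) (.node 85 [⟨108,(Int.negSucc 0),1⟩] .nil .nil))) (.node 93 [⟨121,(Int.ofNat 1),1⟩] (.node 90 [⟨117,(Int.negSucc 0),1⟩] (.node 89 [⟨115,(Int.ofNat 1),1⟩] (.node 87 [⟨113,(Int.negSucc 0),1⟩] .nil .nil) .nil) (.node 91 [⟨119,(Int.negSucc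 0),1⟩] .nil .nil)) (.node 98 [⟨125,(Int.ofNat 1),1⟩] (.node 96 [⟨124,(Int.ofNat 1),1⟩] (.node 94 [⟨122,(Int.negSucc 0),1⟩] .nil .nil) .nil) (.node 127 [⟨132,(Int.ofNat 1),1⟩] .nil .nil)))))
noncomputable def col98 : Tr Cl := (.node 36 [⟨72,(Int.ofNat 1),1⟩] (.node 16 [⟨45,(Int.ofNat 1),1⟩] (.node 5 [⟨105,(Int.ofNat 0),1⟩] (.node 2 [⟨105,(Int.ofNat 0),1⟩] (.node 1 [⟨105,(Int.ofNat 1),1⟩] (.node 0 [⟨105,(Int.negSucc 0),1⟩] .nil .nil) .nil) (.node 4 [⟨105,(Int.ofNat 0),1⟩] (.node 3 [⟨105,(Int.ofNat 0),1⟩] .nil .nil) .nil)) (.node 14 [⟨42,(Int.ofNat 1),1⟩] (.node 7 [⟨13,(Int.ofNat 1),1⟩] (.node 6 [⟨105,(Int.negSucc 0),1⟩] .nil .nil) .nil) (.node 15 [⟨44,(Int.ofNat 1),1⟩] .nil .nil))) (.node 25 [⟨52,(Int.ofNat 1),1⟩] (.node 21 [⟨49,(Int.ofNat 1),1⟩] (.node 19 [⟨48,(Int.ofNat 1),1⟩] (.node 18 [⟨47,(Int.ofNat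 1),1⟩] .nil .nil) .nil) (.node 24 [⟨51,(Int.ofNat 1),1⟩] .nil .nil)) (.node 34 [⟨0,(Int.ofNat 1),1⟩, ⟨1,(Int.ofNat 0),1⟩, ⟨2,(Int.ofNat 1),1⟩, ⟨3,(Int.ofNat 1),1⟩, ⟨4,(Int.ofNat 1),1⟩, ⟨5,(Int.ofNat 1),1⟩, ⟨6,(Int.ofNat 1),1⟩, ⟨105,(Int.negSucc 0),2⟩] (.node 30 [⟨54,(Int.ofNat 1),1⟩] (.node 27 [⟨53,(Int.ofNat 1),1⟩] .nil .nil) .nil) (.node 35 [⟨70,(Int.ofNat 1),1⟩] .nil .nil)))) (.node 86 [⟨112,(Int.negSucc 0),1⟩] (.node 60 [⟨101,(Int.negSucc 0),1⟩] (.node 39 [⟨84,(Int.ofNat 1),1⟩] (.node 38 [⟨79,(Int.ofNat 1),1⟩] (.node 37 [⟨75,(Int.ofNat 1),1⟩] .nil .nil) .nil) (.node 55 [⟨100,(Int.negSucc 0),1⟩] .nil .nil)) (.node 69 [⟨104,(Int.negSucc 0),1⟩] (.node 67 [⟨103,(Int.negSucc 0),1⟩] (.node 64 [⟨102,(Int.negSucc 0),1⟩] .nil .nil) .nil) (.node 85 [⟨109,(Int.negSucc 0),1⟩] .nil .nil))) (.node 92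 [⟨121,(Int.negSucc 0),1⟩] (.node 90 [⟨118,(Int.negSucc 0),1⟩] (.node 88 [⟨115,(Int.negSucc 0),1⟩] (.node 87 [⟨114,(Int.negSucc 0),1⟩] .nil .nil) .nil) (.node 91 [⟨120,(Int.negSucc 0),1⟩] .nil .nil)) (.node 97 [⟨125,(Int.negSucc 0),1⟩] (.node 95 [⟨124,(Int.negSucc 0),1⟩] (.node 94 [⟨123,(Int.negSucc 0),1⟩] .nil .nil) .nil) (.node 126 [⟨132,(Int.negSucc 0),1⟩] .nil .nil)))))
noncomputable def col99 : Tr Cl := (.node 33 [⟨0,(Int.ofNat 1),1⟩, ⟨1,(Int.ofNat 1),1⟩, ⟨2,(Int.ofNat 1),1⟩, ⟨3,(Int.ofNat 1),1⟩, ⟨4,(Int.ofNat 0),1⟩, ⟨5,(Int.ofNat 0),1⟩, ⟨6,(Int.ofNat 0),1⟩, ⟨106,(Int.negSucc 0),2⟩] (.node 13 [⟨42,(Int.ofNat 1),1⟩] (.node 5 [⟨106,(Int.ofNat 0),1⟩] (.node 2 [⟨106,(Int.ofNat 0),1⟩] (.node 1 [⟨106,(Int.negSucc 0),1⟩] (.node 0 [⟨106,(Int.negSucc 0),1⟩] .nil .nil) .nil) (.node 4 [⟨106,(Int.ofNat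 1),1⟩] (.node 3 [⟨106,(Int.ofNat 0),1⟩] .nil .nil) .nil)) (.node 11 [⟨40,(Int.ofNat 1),1⟩] (.node 7 [⟨14,(Int.ofNat 1),1⟩] (.node 6 [⟨106,(Int.ofNat 0),1⟩] .nil .nil) .nil) (.node 12 [⟨41,(Int.ofNat 1),1⟩] .nil .nil))) (.node 28 [⟨61,(Int.negSucc 0),1⟩] (.node 23 [⟨57,(Int.ofNat 1),1⟩] (.node 22 [⟨56,(Int.ofNat 1),1⟩] (.node 21 [⟨55,(Int.ofNat 1),1⟩] .nil .nil) .nil) (.node 27 [⟨60,(Int.negSucc 0),1⟩] .nil .nil)) (.node 31 [⟨65,(Int.ofNat 1),1⟩] (.node 30 [⟨64,(Int.ofNat 1),1⟩] (.node 29 [⟨62,(Int.negSucc 0),1⟩] .nil .nil) .nil) (.node 32 [⟨66,(Int.ofNat 1),1⟩] .nil .nil)))) (.node 77 [⟨110,(Int.ofNat 1),1⟩] (.node 53 [⟨101,(Int.ofNat 1),1⟩] (.node 39 [⟨90,(Int.ofNat 1),1⟩] (.node 38 [⟨86,(Int.negSucc 0),1⟩] (.node 37 [⟨85,(Int.ofNat 1),1⟩] .nil .nil) .nil) (.node 49 [⟨100,(Int.negSucc 0),1⟩]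 .nil .nil)) (.node 74 [⟨108,(Int.negSucc 0),1⟩] (.node 73 [⟨107,(Int.negSucc 0),1⟩] (.node 54 [⟨102,(Int.negSucc 0),1⟩] .nil .nil) .nil) (.node 75 [⟨109,(Int.negSucc 0),1⟩] .nil .nil))) (.node 84 [⟨118,(Int.negSucc 0),1⟩] (.node 82 [⟨116,(Int.negSucc 0),1⟩] (.node 79 [⟨112,(Int.ofNat 1),1⟩] (.node 78 [⟨111,(Int.ofNat 1),1⟩] .nil .nil) .nil) (.node 83 [⟨117,(Int.negSucc 0),1⟩] .nil .nil)) (.node 99 [⟨128,(Int.negSucc 0),1⟩] (.node 98 [⟨127,(Int.negSucc 0),1⟩] (.node 97 [⟨126,(Int.negSucc 0),1⟩] .nil .nil) .nil) (.node 125 [⟨132,(Int.negSucc 0),1⟩] .nil .nil)))))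
noncomputable def col100 : Tr Cl := (.node 33 [⟨73,(Int.ofNat 1),1⟩] (.node 13 [⟨44,(Int.negSucc 0),1⟩] (.node 5 [⟨107,(Int.ofNat 1),1⟩] (.node 2 [⟨107,(Int.ofNat 0),1⟩] (.node 1 [⟨107,(Int.negSucc 0),1⟩] (.node 0 [⟨107,(Int.negSucc 0),1⟩] .nil .nil) .nil) (.node 4 [⟨107,(Int.negSucc 0),1⟩] (.node 3 [⟨107,(Int.ofNat 1),1⟩] .nil .nil) .nil)) (.node 10 [⟨40,(Int.ofNat 1),1⟩] (.node 7 [⟨15,(Int.negSucc 0),1⟩] (.node 6 [⟨107,(Int.ofNat 0),1⟩] .nil .nil) .nil) (.node 12 [⟨43,(Int.negSucc 0),1⟩] .nil .nil))) (.node 26 [⟨61,(Int.negSucc 0),1⟩] (.node 23 [⟨58,(Int.negSucc 0),1⟩] (.node 20 [⟨56,(Int.ofNat 1),1⟩] (.node 19 [⟨55,(Int.ofNat 1),1⟩] .nil .nil) .nil) (.node 25 [⟨60,(Int.negSucc 0),1⟩] .nil .nil)) (.node 31 [⟨68,(Int.ofNat 1),1⟩] (.node 30 [⟨67,(Int.ofNat 1),1⟩] (.node 29 [⟨63,(Int.ofNat 1),1⟩]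 .nil .nil) .nil) (.node 32 [⟨0,(Int.ofNat 1),1⟩, ⟨1,(Int.ofNat 1),1⟩, ⟨2,(Int.ofNat 1),1⟩, ⟨3,(Int.ofNat 1),1⟩, ⟨4,(Int.ofNat 1),1⟩, ⟨5,(Int.ofNat 0),1⟩, ⟨6,(Int.ofNat 0),1⟩, ⟨107,(Int.negSucc 0),2⟩] .nil .nil)))) (.node 76 [⟨110,(Int.negSucc 0),1⟩] (.node 52 [⟨101,(Int.ofNat 1),1⟩] (.node 39 [⟨91,(Int.ofNat 1),1⟩] (.node 38 [⟨87,(Int.negSucc 0),1⟩] (.node 36 [⟨85,(Int.ofNat 1),1⟩] .nil .nil) .nil) (.node 48 [⟨100,(Int.negSucc 0),1⟩] .nil .nil)) (.node 71 [⟨108,(Int.negSucc 0),1⟩] (.node 66 [⟨106,(Int.negSucc 0),1⟩] (.node 54 [⟨103,(Int.negSucc 0),1⟩] .nil .nil) .nil) (.node 72 [⟨109,(Int.negSucc 0),1⟩] .nil .nil))) (.node 84 [⟨120,(Int.negSucc 0),1⟩] (.node 81 [⟨116,(Int.ofNat 1),1⟩] (.node 79 [⟨114,(Int.ofNat 1),1⟩] (.node 78 [⟨113,(Int.ofNat 1),1⟩] .nil .nil) .nil) (.node 83 [⟨119,(Int.negSucc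 0),1⟩] .nil .nil)) (.node 99 [⟨129,(Int.negSucc 0),1⟩] (.node 96 [⟨127,(Int.ofNat 1),1⟩] (.node 95 [⟨126,(Int.ofNat 1),1⟩] .nil .nil) .nil) (.node 124 [⟨132,(Int.ofNat 1),1⟩] .nil .nil)))))
noncomputable def col101 : Tr Cl := (.node 33 [⟨74,(Int.ofNat 1),1⟩] (.node 13 [⟨45,(Int.ofNat 1),1⟩] (.node 5 [⟨108,(Int.negSucc 0),1⟩] (.node 2 [⟨108,(Int.ofNat 0),1⟩] (.node 1 [⟨108,(Int.negSucc 0),1⟩] (.node 0 [⟨108,(Int.negSucc 0),1⟩] .nil .nil) .nil) (.node 4 [⟨108,(Int.ofNat 0),1⟩] (.node 3 [⟨108,(Int.ofNat 1),1⟩] .nil .nil) .nil)) (.node 10 [⟨41,(Int.negSucc 0),1⟩] (.node 7 [⟨16,(Int.ofNat 1),1⟩] (.node 6 [⟨108,(Int.ofNat 1),1⟩] .nil .nil) .nil) (.node 11 [⟨43,(Int.negSucc 0),1⟩] .nil .nil))) (.node 26 [⟨62,(Int.ofNat 1),1⟩] (.node 22 [⟨58,(Int.negSucc 0),1⟩] (.node 20 [⟨57,(Int.negSucc 0),1⟩] (.node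 18 [⟨55,(Int.ofNat 1),1⟩] .nil .nil) .nil) (.node 24 [⟨60,(Int.negSucc 0),1⟩] .nil .nil)) (.node 31 [⟨0,(Int.ofNat 1),1⟩, ⟨1,(Int.ofNat 1),1⟩, ⟨2,(Int.ofNat 1),1⟩, ⟨3,(Int.ofNat 1),1⟩, ⟨4,(Int.ofNat 1),1⟩, ⟨5,(Int.ofNat 1),1⟩, ⟨6,(Int.ofNat 0),1⟩, ⟨108,(Int.negSucc 0),2⟩] (.node 30 [⟨69,(Int.ofNat 1),1⟩] (.node 28 [⟨63,(Int.ofNat 1),1⟩] .nil .nil) .nil) (.node 32 [⟨71,(Int.ofNat 1),1⟩] .nil .nil)))) (.node 76 [⟨111,(Int.negSucc 0),1⟩] (.node 51 [⟨101,(Int.ofNat 1),1⟩] (.node 39 [⟨92,(Int.ofNat 1),1⟩] (.node 38 [⟨88,(Int.negSucc 0),1⟩] (.node 35 [⟨85,(Int.ofNat 1),1⟩] .nil .nil) .nil) (.node 47 [⟨100,(Int.negSucc 0),1⟩] .nil .nil)) (.node 68 [⟨107,(Int.negSucc 0),1⟩] (.node 65 [⟨106,(Int.negSucc 0),1⟩] (.node 54 [⟨104,(Int.negSucc 0),1⟩] .nil .nil) .nil) (.node 70 [⟨109,(Int.negSucc 0),1⟩] .nil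 .nil))) (.node 84 [⟨121,(Int.negSucc 0),1⟩] (.node 81 [⟨117,(Int.ofNat 1),1⟩] (.node 79 [⟨115,(Int.ofNat 1),1⟩] (.node 77 [⟨113,(Int.negSucc 0),1⟩] .nil .nil) .nil) (.node 82 [⟨119,(Int.ofNat 1),1⟩] .nil .nil)) (.node 98 [⟨129,(Int.ofNat 1),1⟩] (.node 96 [⟨128,(Int.ofNat 1),1⟩] (.node 94 [⟨126,(Int.negSucc 0),1⟩] .nil .nil) .nil) (.node 123 [⟨132,(Int.negSucc 0),1⟩] .nil .nil)))))
noncomputable def col102 : Tr Cl := (.node 33 [⟨75,(Int.ofNat 1),1⟩] (.node 12 [⟨45,(Int.ofNat 1),1⟩] (.node 5 [⟨109,(Int.ofNat 0),1⟩] (.node 2 [⟨109,(Int.ofNat 0),1⟩] (.node 1 [⟨109,(Int.negSucc 0),1⟩] (.node 0 [⟨109,(Int.negSucc 0),1⟩] .nil .nil) .nil) (.node 4 [⟨109,(Int.ofNat 0),1⟩] (.node 3 [⟨109,(Int.ofNat 1),1⟩] .nil .nil) .nil)) (.node 10 [⟨42,(Int.ofNat 1),1⟩] (.node 7 [⟨17,(Int.negSucc 0),1⟩] (.node 6 [⟨109,(Int.negSucc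 0),1⟩] .nil .nil) .nil) (.node 11 [⟨44,(Int.ofNat 1),1⟩] .nil .nil))) (.node 25 [⟨62,(Int.ofNat 1),1⟩] (.node 21 [⟨58,(Int.negSucc 0),1⟩] (.node 19 [⟨57,(Int.negSucc 0),1⟩] (.node 18 [⟨56,(Int.negSucc 0),1⟩] .nil .nil) .nil) (.node 24 [⟨61,(Int.ofNat 1),1⟩] .nil .nil)) (.node 31 [⟨70,(Int.ofNat 1),1⟩] (.node 30 [⟨0,(Int.ofNat 1),1⟩, ⟨1,(Int.ofNat 1),1⟩, ⟨2,(Int.ofNat 1),1⟩, ⟨3,(Int.ofNat 1),1⟩, ⟨4,(Int.ofNat 1),1⟩, ⟨5,(Int.ofNat 1),1⟩, ⟨6,(Int.ofNat 1),1⟩, ⟨109,(Int.negSucc 0),2⟩] (.node 27 [⟨63,(Int.ofNat 1),1⟩] .nil .nil) .nil) (.node 32 [⟨72,(Int.ofNat 1),1⟩] .nil .nil)))) (.node 76 [⟨112,(Int.negSucc 0),1⟩] (.node 50 [⟨101,(Int.ofNat 1),1⟩] (.node 39 [⟨93,(Int.ofNat 1),1⟩] (.node 38 [⟨89,(Int.negSucc 0),1⟩] (.node 34 [⟨85,(Int.ofNat 1),1⟩] .nil .nil) .nil) (.node 46 [⟨100,(Int.negSucc 0),1⟩]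 .nil .nil)) (.node 67 [⟨107,(Int.negSucc 0),1⟩] (.node 64 [⟨106,(Int.negSucc 0),1⟩] (.node 54 [⟨105,(Int.negSucc 0),1⟩] .nil .nil) .nil) (.node 69 [⟨108,(Int.negSucc 0),1⟩] .nil .nil))) (.node 83 [⟨121,(Int.ofNat 1),1⟩] (.node 81 [⟨118,(Int.ofNat 1),1⟩] (.node 78 [⟨115,(Int.negSucc 0),1⟩] (.node 77 [⟨114,(Int.negSucc 0),1⟩] .nil .nil) .nil) (.node 82 [⟨120,(Int.ofNat 1),1⟩] .nil .nil)) (.node 97 [⟨129,(Int.negSucc 0),1⟩] (.node 95 [⟨128,(Int.negSucc 0),1⟩] (.node 94 [⟨127,(Int.negSucc 0),1⟩] .nil .nil) .nil) (.node 122 [⟨132,(Int.ofNat 1),1⟩] .nil .nil)))))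
noncomputable def col103 : Tr Cl := (.node 33 [⟨77,(Int.negSucc 0),1⟩] (.node 13 [⟨47,(Int.ofNat 1),1⟩] (.node 5 [⟨110,(Int.ofNat 1),1⟩] (.node 2 [⟨110,(Int.ofNat 1),1⟩] (.node 1 [⟨110,(Int.ofNat 0),1⟩] (.node 0 [⟨110,(Int.negSucc 0),1⟩] .nil .nil) .nil) (.node 4 [⟨110,(Int.ofNat 0),1⟩] (.node 3 [⟨110,(Int.negSucc 0),1⟩] .nil .nil) .nil)) (.node 9 [⟨40,(Int.ofNat 1),1⟩] (.node 7 [⟨18,(Int.ofNat 1),1⟩] (.node 6 [⟨110,(Int.ofNat 0),1⟩] .nil .nil) .nil) (.node 12 [⟨46,(Int.ofNat 1),1⟩] .nil .nil))) (.node 26 [⟨65,(Int.negSucc 0),1⟩] (.node 23 [⟨59,(Int.ofNat 1),1⟩] (.node 17 [⟨56,(Int.ofNat 1),1⟩] (.node 16 [⟨55,(Int.ofNat 1),1⟩] .nil .nil) .nil) (.node 25 [⟨64,(Int.negSucc 0),1⟩] .nil .nil)) (.node 29 [⟨0,(Int.ofNat 1),1⟩, ⟨1,(Int.ofNat 1),1⟩, ⟨2,(Int.ofNat 1),1⟩, ⟨3,(Int.ofNat 2),1⟩, ⟨4,(Int.ofNat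 1),1⟩, ⟨5,(Int.ofNat 0),1⟩, ⟨6,(Int.ofNat 0),1⟩, ⟨110,(Int.negSucc 0),2⟩] (.node 28 [⟨68,(Int.ofNat 1),1⟩] (.node 27 [⟨67,(Int.ofNat 1),1⟩] .nil .nil) .nil) (.node 32 [⟨76,(Int.ofNat 1),1⟩] .nil .nil)))) (.node 72 [⟨112,(Int.negSucc 0),1⟩] (.node 52 [⟨102,(Int.ofNat 1),1⟩] (.node 39 [⟨94,(Int.ofNat 1),1⟩] (.node 37 [⟨87,(Int.negSucc 0),1⟩] (.node 36 [⟨86,(Int.ofNat 1),1⟩] .nil .nil) .nil) (.node 45 [⟨100,(Int.negSucc 0),1⟩] .nil .nil)) (.node 63 [⟨107,(Int.negSucc 0),1⟩] (.node 62 [⟨106,(Int.ofNat 1),1⟩] (.node 53 [⟨103,(Int.negSucc 0),1⟩] .nil .nil) .nil) (.node 71 [⟨111,(Int.negSucc 0),1⟩] .nil .nil))) (.node 84 [⟨123,(Int.negSucc 0),1⟩] (.node 80 [⟨116,(Int.negSucc 0),1⟩] (.node 75 [⟨114,(Int.ofNat 1),1⟩] (.node 74 [⟨113,(Int.ofNat 1),1⟩] .nil .nil) .nil) (.node 83 [⟨122,(Int.negSucc 0),1⟩]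 .nil .nil)) (.node 99 [⟨130,(Int.negSucc 0),1⟩] (.node 93 [⟨127,(Int.negSucc 0),1⟩] (.node 92 [⟨126,(Int.negSucc 0),1⟩] .nil .nil) .nil) (.node 121 [⟨132,(Int.negSucc 0),1⟩] .nil .nil)))))
noncomputable def col104 : Tr Cl := (.node 33 [⟨78,(Int.negSucc 0),1⟩] (.node 13 [⟨48,(Int.negSucc 0),1⟩] (.node 5 [⟨111,(Int.negSucc 0),1⟩] (.node 2 [⟨111,(Int.ofNat 1),1⟩] (.node 1 [⟨111,(Int.ofNat 0),1⟩] (.node 0 [⟨111,(Int.negSucc 0),1⟩] .nil .nil) .nil) (.node 4 [⟨111,(Int.ofNat 1),1⟩] (.node 3 [⟨111,(Int.negSucc 0),1⟩] .nil .nil) .nil)) (.node 9 [⟨41,(Int.negSucc 0),1⟩] (.node 7 [⟨19,(Int.negSucc 0),1⟩] (.node 6 [⟨111,(Int.ofNat 1),1⟩] .nil .nil) .nil) (.node 11 [⟨46,(Int.ofNat 1),1⟩] .nil .nil))) (.node 26 [⟨66,(Int.ofNat 1),1⟩] (.node 22 [⟨59,(Int.ofNat 1),1⟩] (.node 17 [⟨57,(Int.negSucc 0),1⟩] (.node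 15 [⟨55,(Int.ofNat 1),1⟩] .nil .nil) .nil) (.node 24 [⟨64,(Int.negSucc 0),1⟩] .nil .nil)) (.node 29 [⟨71,(Int.ofNat 1),1⟩] (.node 28 [⟨0,(Int.ofNat 1),1⟩, ⟨1,(Int.ofNat 1),1⟩, ⟨2,(Int.ofNat 1),1⟩, ⟨3,(Int.ofNat 2),1⟩, ⟨4,(Int.ofNat 1),1⟩, ⟨5,(Int.ofNat 1),1⟩, ⟨6,(Int.ofNat 0),1⟩, ⟨111,(Int.negSucc 0),2⟩] (.node 27 [⟨69,(Int.ofNat 1),1⟩] .nil .nil) .nil) (.node 31 [⟨76,(Int.ofNat 1),1⟩] .nil .nil)))) (.node 70 [⟨112,(Int.negSucc 0),1⟩] (.node 51 [⟨102,(Int.ofNat 1),1⟩] (.node 39 [⟨95,(Int.ofNat 1),1⟩] (.node 37 [⟨88,(Int.negSucc 0),1⟩] (.node 35 [⟨86,(Int.ofNat 1),1⟩] .nil .nil) .nil) (.node 44 [⟨100,(Int.negSucc 0),1⟩] .nil .nil)) (.node 63 [⟨108,(Int.negSucc 0),1⟩] (.node 61 [⟨106,(Int.ofNat 1),1⟩] (.node 53 [⟨104,(Int.negSucc 0),1⟩] .nil .nil) .nil) (.node 68 [⟨110,(Int.negSucc 0),1⟩] .nil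 .nil))) (.node 84 [⟨124,(Int.negSucc 0),1⟩] (.node 80 [⟨117,(Int.negSucc 0),1⟩] (.node 75 [⟨115,(Int.ofNat 1),1⟩] (.node 73 [⟨113,(Int.negSucc 0),1⟩] .nil .nil) .nil) (.node 82 [⟨122,(Int.ofNat 1),1⟩] .nil .nil)) (.node 98 [⟨130,(Int.ofNat 1),1⟩] (.node 93 [⟨128,(Int.negSucc 0),1⟩] (.node 91 [⟨126,(Int.ofNat 1),1⟩] .nil .nil) .nil) (.node 120 [⟨132,(Int.ofNat 1),1⟩] .nil .nil)))))
noncomputable def col105 : Tr Cl := (.node 33 [⟨79,(Int.negSucc 0),1⟩] (.node 12 [⟨48,(Int.negSucc 0),1⟩] (.node 5 [⟨112,(Int.ofNat 0),1⟩] (.node 2 [⟨112,(Int.ofNat 1),1⟩] (.node 1 [⟨112,(Int.ofNat 0),1⟩] (.node 0 [⟨112,(Int.negSucc 0),1⟩] .nil .nil) .nil) (.node 4 [⟨112,(Int.ofNat 1),1⟩] (.node 3 [⟨112,(Int.negSucc 0),1⟩] .nil .nil) .nil)) (.node 9 [⟨42,(Int.ofNat 1),1⟩] (.node 7 [⟨20,(Int.ofNat 1),1⟩] (.node 6 [⟨112,(Int.negSucc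 0),1⟩] .nil .nil) .nil) (.node 11 [⟨47,(Int.negSucc 0),1⟩] .nil .nil))) (.node 25 [⟨66,(Int.ofNat 1),1⟩] (.node 21 [⟨59,(Int.ofNat 1),1⟩] (.node 16 [⟨57,(Int.negSucc 0),1⟩] (.node 15 [⟨56,(Int.negSucc 0),1⟩] .nil .nil) .nil) (.node 24 [⟨65,(Int.ofNat 1),1⟩] .nil .nil)) (.node 29 [⟨72,(Int.ofNat 1),1⟩] (.node 28 [⟨70,(Int.ofNat 1),1⟩] (.node 27 [⟨0,(Int.ofNat 1),1⟩, ⟨1,(Int.ofNat 1),1⟩, ⟨2,(Int.ofNat 1),1⟩, ⟨3,(Int.ofNat 2),1⟩, ⟨4,(Int.ofNat 1),1⟩, ⟨5,(Int.ofNat 1),1⟩, ⟨6,(Int.ofNat 1),1⟩, ⟨112,(Int.negSucc 0),2⟩] .nil .nil) .nil) (.node 30 [⟨76,(Int.ofNat 1),1⟩] .nil .nil)))) (.node 69 [⟨111,(Int.negSucc 0),1⟩] (.node 50 [⟨102,(Int.ofNat 1),1⟩] (.node 39 [⟨96,(Int.ofNat 1),1⟩] (.node 37 [⟨89,(Int.negSucc 0),1⟩] (.node 34 [⟨86,(Int.ofNat 1),1⟩] .nil .nil) .nil) (.node 43 [⟨100,(Int.negSucc 0),1⟩]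 .nil .nil)) (.node 63 [⟨109,(Int.negSucc 0),1⟩] (.node 60 [⟨106,(Int.ofNat 1),1⟩] (.node 53 [⟨105,(Int.negSucc 0),1⟩] .nil .nil) .nil) (.node 67 [⟨110,(Int.negSucc 0),1⟩] .nil .nil))) (.node 83 [⟨124,(Int.ofNat 1),1⟩] (.node 80 [⟨118,(Int.negSucc 0),1⟩] (.node 74 [⟨115,(Int.negSucc 0),1⟩] (.node 73 [⟨114,(Int.negSucc 0),1⟩] .nil .nil) .nil) (.node 82 [⟨123,(Int.ofNat 1),1⟩] .nil .nil)) (.node 97 [⟨130,(Int.negSucc 0),1⟩] (.node 92 [⟨128,(Int.ofNat 1),1⟩] (.node 91 [⟨127,(Int.ofNat 1),1⟩] .nil .nil) .nil) (.node 119 [⟨132,(Int.negSucc 0),1⟩] .nil .nil)))))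
noncomputable def col106 : Tr Cl := (.node 32 [⟨78,(Int.negSucc 0),1⟩] (.node 13 [⟨49,(Int.ofNat 1),1⟩] (.node 5 [⟨113,(Int.ofNat 0),1⟩] (.node 2 [⟨113,(Int.ofNat 1),1⟩] (.node 1 [⟨113,(Int.ofNat 0),1⟩] (.node 0 [⟨113,(Int.negSucc 0),1⟩] .nil .nil) .nil) (.node 4 [⟨113,(Int.negSucc 0),1⟩] (.node 3 [⟨113,(Int.ofNat 0),1⟩] .nil .nil) .nil)) (.node 9 [⟨43,(Int.ofNat 1),1⟩] (.node 7 [⟨21,(Int.ofNat 1),1⟩] (.node 6 [⟨113,(Int.ofNat 1),1⟩] .nil .nil) .nil) (.node 10 [⟨46,(Int.ofNat 1),1⟩] .nil .nil))) (.node 25 [⟨69,(Int.ofNat 1),1⟩] (.node 20 [⟨59,(Int.ofNat 1),1⟩] (.node 17 [⟨58,(Int.ofNat 1),1⟩] (.node 14 [⟨55,(Int.ofNat 1),1⟩] .nil .nil) .nil) (.node 24 [⟨67,(Int.negSucc 0),1⟩] .nil .nil)) (.node 29 [⟨74,(Int.negSucc 0),1⟩] (.node 28 [⟨73,(Int.ofNat 1),1⟩] (.node 26 [⟨0,(Int.ofNat 1),1⟩, ⟨1,(Int.ofNat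 1),1⟩, ⟨2,(Int.ofNat 1),1⟩, ⟨3,(Int.ofNat 2),1⟩, ⟨4,(Int.ofNat 2),1⟩, ⟨5,(Int.ofNat 1),1⟩, ⟨6,(Int.ofNat 0),1⟩, ⟨113,(Int.negSucc 0),2⟩] .nil .nil) .nil) (.node 31 [⟨77,(Int.ofNat 1),1⟩] .nil .nil)))) (.node 66 [⟨111,(Int.negSucc 0),1⟩] (.node 51 [⟨103,(Int.ofNat 1),1⟩] (.node 39 [⟨97,(Int.ofNat 1),1⟩] (.node 36 [⟨88,(Int.negSucc 0),1⟩] (.node 35 [⟨87,(Int.ofNat 1),1⟩] .nil .nil) .nil) (.node 42 [⟨100,(Int.negSucc 0),1⟩] .nil .nil)) (.node 62 [⟨108,(Int.negSucc 0),1⟩] (.node 61 [⟨107,(Int.ofNat 1),1⟩] (.node 52 [⟨104,(Int.negSucc 0),1⟩] .nil .nil) .nil) (.node 65 [⟨110,(Int.ofNat 1),1⟩] .nil .nil))) (.node 84 [⟨125,(Int.negSucc 0),1⟩] (.node 80 [⟨119,(Int.negSucc 0),1⟩] (.node 72 [⟨115,(Int.ofNat 1),1⟩] (.node 70 [⟨114,(Int.negSucc 0),1⟩] .nil .nil) .nil) (.node 81 [⟨122,(Int.negSucc 0),1⟩]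 .nil .nil)) (.node 96 [⟨130,(Int.negSucc 0),1⟩] (.node 93 [⟨129,(Int.negSucc 0),1⟩] (.node 90 [⟨126,(Int.negSucc 0),1⟩] .nil .nil) .nil) (.node 118 [⟨132,(Int.negSucc 0),1⟩] .nil .nil)))))
noncomputable def col107 : Tr Cl := (.node 32 [⟨79,(Int.negSucc 0),1⟩] (.node 12 [⟨49,(Int.ofNat 1),1⟩] (.node 5 [⟨114,(Int.ofNat 1),1⟩] (.node 2 [⟨114,(Int.ofNat 1),1⟩] (.node 1 [⟨114,(Int.ofNat 0),1⟩] (.node 0 [⟨114,(Int.negSucc 0),1⟩] .nil .nil) .nil) (.node 4 [⟨114,(Int.negSucc 0),1⟩] (.node 3 [⟨114,(Int.ofNat 0),1⟩] .nil .nil) .nil)) (.node 9 [⟨44,(Int.negSucc 0),1⟩] (.node 7 [⟨22,(Int.negSucc 0),1⟩] (.node 6 [⟨114,(Int.negSucc 0),1⟩] .nil .nil) .nil) (.node 10 [⟨47,(Int.negSucc 0),1⟩] .nil .nil))) (.node 25 [⟨0,(Int.ofNat 1),1⟩, ⟨1,(Int.ofNat 1),1⟩, ⟨2,(Int.ofNat 1),1⟩, ⟨3,(Int.ofNat 2),1⟩, ⟨4,(Int.ofNat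 2),1⟩, ⟨5,(Int.ofNat 1),1⟩, ⟨6,(Int.ofNat 1),1⟩, ⟨114,(Int.negSucc 0),2⟩] (.node 19 [⟨59,(Int.ofNat 1),1⟩] (.node 16 [⟨58,(Int.ofNat 1),1⟩] (.node 14 [⟨56,(Int.negSucc 0),1⟩] .nil .nil) .nil) (.node 24 [⟨68,(Int.ofNat 1),1⟩] .nil .nil)) (.node 29 [⟨75,(Int.negSucc 0),1⟩] (.node 27 [⟨73,(Int.ofNat 1),1⟩] (.node 26 [⟨70,(Int.ofNat 1),1⟩] .nil .nil) .nil) (.node 30 [⟨77,(Int.ofNat 1),1⟩] .nil .nil)))) (.node 66 [⟨112,(Int.negSucc 0),1⟩] (.node 50 [⟨103,(Int.ofNat 1),1⟩] (.node 39 [⟨98,(Int.ofNat 1),1⟩] (.node 36 [⟨89,(Int.negSucc 0),1⟩] (.node 34 [⟨87,(Int.ofNat 1),1⟩] .nil .nil) .nil) (.node 41 [⟨100,(Int.negSucc 0),1⟩] .nil .nil)) (.node 62 [⟨109,(Int.negSucc 0),1⟩] (.node 60 [⟨107,(Int.ofNat 1),1⟩] (.node 52 [⟨105,(Int.negSucc 0),1⟩] .nil .nil) .nil) (.node 64 [⟨110,(Int.ofNat 1),1⟩] .nil .nil)))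 (.node 83 [⟨125,(Int.ofNat 1),1⟩] (.node 80 [⟨120,(Int.negSucc 0),1⟩] (.node 71 [⟨115,(Int.negSucc 0),1⟩] (.node 69 [⟨113,(Int.negSucc 0),1⟩] .nil .nil) .nil) (.node 81 [⟨123,(Int.negSucc 0),1⟩] .nil .nil)) (.node 95 [⟨130,(Int.ofNat 1),1⟩] (.node 92 [⟨129,(Int.ofNat 1),1⟩] (.node 90 [⟨127,(Int.negSucc 0),1⟩] .nil .nil) .nil) (.node 117 [⟨132,(Int.ofNat 1),1⟩] .nil .nil)))))
noncomputable def col108 : Tr Cl := (.node 31 [⟨79,(Int.negSucc 0),1⟩] (.node 11 [⟨49,(Int.ofNat 1),1⟩] (.node 5 [⟨115,(Int.negSucc 0),1⟩] (.node 2 [⟨115,(Int.ofNat 1),1⟩] (.node 1 [⟨115,(Int.ofNat 0),1⟩] (.node 0 [⟨115,(Int.negSucc 0),1⟩] .nil .nil) .nil) (.node 4 [⟨115,(Int.ofNat 0),1⟩] (.node 3 [⟨115,(Int.ofNat 0),1⟩] .nil .nil) .nil)) (.node 9 [⟨45,(Int.ofNat 1),1⟩] (.node 7 [⟨23,(Int.ofNat 1),1⟩] (.node 6 [⟨115,(Int.ofNat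 0),1⟩] .nil .nil) .nil) (.node 10 [⟨48,(Int.ofNat 1),1⟩] .nil .nil))) (.node 25 [⟨71,(Int.ofNat 1),1⟩] (.node 18 [⟨59,(Int.ofNat 1),1⟩] (.node 15 [⟨58,(Int.ofNat 1),1⟩] (.node 14 [⟨57,(Int.ofNat 1),1⟩] .nil .nil) .nil) (.node 24 [⟨0,(Int.ofNat 1),1⟩, ⟨1,(Int.ofNat 1),1⟩, ⟨2,(Int.ofNat 1),1⟩, ⟨3,(Int.ofNat 2),1⟩, ⟨4,(Int.ofNat 2),1⟩, ⟨5,(Int.ofNat 2),1⟩, ⟨6,(Int.ofNat 1),1⟩, ⟨115,(Int.negSucc 0),2⟩] .nil .nil)) (.node 28 [⟨75,(Int.negSucc 0),1⟩] (.node 27 [⟨74,(Int.ofNat 1),1⟩] (.node 26 [⟨72,(Int.negSucc 0),1⟩] .nil .nil) .nil) (.node 30 [⟨78,(Int.ofNat 1),1⟩] .nil .nil)))) (.node 65 [⟨112,(Int.negSucc 0),1⟩] (.node 50 [⟨104,(Int.ofNat 1),1⟩] (.node 39 [⟨99,(Int.ofNat 1),1⟩] (.node 35 [⟨89,(Int.negSucc 0),1⟩] (.node 34 [⟨88,(Int.ofNat 1),1⟩] .nil .nil) .nil) (.node 40 [⟨100,(Int.negSucc 0),1⟩]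 .nil .nil)) (.node 61 [⟨109,(Int.negSucc 0),1⟩] (.node 60 [⟨108,(Int.ofNat 1),1⟩] (.node 51 [⟨105,(Int.negSucc 0),1⟩] .nil .nil) .nil) (.node 64 [⟨111,(Int.ofNat 1),1⟩] .nil .nil))) (.node 82 [⟨125,(Int.negSucc 0),1⟩] (.node 80 [⟨121,(Int.negSucc 0),1⟩] (.node 68 [⟨114,(Int.negSucc 0),1⟩] (.node 67 [⟨113,(Int.ofNat 1),1⟩] .nil .nil) .nil) (.node 81 [⟨124,(Int.negSucc 0),1⟩] .nil .nil)) (.node 94 [⟨130,(Int.negSucc 0),1⟩] (.node 91 [⟨129,(Int.negSucc 0),1⟩] (.node 90 [⟨128,(Int.negSucc 0),1⟩] .nil .nil) .nil) (.node 116 [⟨132,(Int.negSucc 0),1⟩] .nil .nil)))))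
noncomputable def col109 : Tr Cl := (.node 33 [⟨82,(Int.ofNat 1),1⟩] (.node 13 [⟨51,(Int.negSucc 0),1⟩] (.node 5 [⟨116,(Int.ofNat 1),1⟩] (.node 2 [⟨116,(Int.negSucc 0),1⟩] (.node 1 [⟨116,(Int.ofNat 0),1⟩] (.node 0 [⟨116,(Int.ofNat 0),1⟩] .nil .nil) .nil) (.node 4 [⟨116,(Int.ofNat 0),1⟩] (.node 3 [⟨116,(Int.ofNat 0),1⟩] .nil .nil) .nil)) (.node 8 [⟨40,(Int.ofNat 1),1⟩] (.node 7 [⟨24,(Int.negSucc 0),1⟩] (.node 6 [⟨116,(Int.ofNat 0),1⟩] .nil .nil) .nil) (.node 12 [⟨50,(Int.negSucc 0),1⟩] .nil .nil))) (.node 21 [⟨67,(Int.ofNat 1),1⟩] (.node 19 [⟨64,(Int.negSucc 0),1⟩] (.node 17 [⟨61,(Int.ofNat 1),1⟩] (.node 16 [⟨60,(Int.ofNat 1),1⟩] .nil .nil) .nil) (.node 20 [⟨65,(Int.negSucc 0),1⟩] .nil .nil)) (.node 29 [⟨80,(Int.ofNat 1),1⟩] (.node 23 [⟨0,(Int.ofNat 1),1⟩, ⟨1,(Int.ofNat 1),1⟩, ⟨2,(Int.ofNat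 2),1⟩, ⟨3,(Int.ofNat 2),1⟩, ⟨4,(Int.ofNat 1),1⟩, ⟨5,(Int.ofNat 0),1⟩, ⟨6,(Int.ofNat 0),1⟩, ⟨116,(Int.negSucc 0),2⟩] (.node 22 [⟨68,(Int.ofNat 1),1⟩] .nil .nil) .nil) (.node 32 [⟨81,(Int.negSucc 0),1⟩] .nil .nil)))) (.node 71 [⟨117,(Int.negSucc 0),1⟩] (.node 48 [⟨102,(Int.ofNat 1),1⟩] (.node 38 [⟨94,(Int.ofNat 1),1⟩] (.node 37 [⟨91,(Int.negSucc 0),1⟩] (.node 36 [⟨90,(Int.ofNat 1),1⟩] .nil .nil) .nil) (.node 45 [⟨101,(Int.negSucc 0),1⟩] .nil .nil)) (.node 58 [⟨107,(Int.ofNat 1),1⟩] (.node 57 [⟨106,(Int.negSucc 0),1⟩] (.node 49 [⟨103,(Int.negSucc 0),1⟩] .nil .nil) .nil) (.node 59 [⟨110,(Int.negSucc 0),1⟩] .nil .nil))) (.node 79 [⟨123,(Int.negSucc 0),1⟩] (.node 75 [⟨120,(Int.ofNat 1),1⟩] (.node 74 [⟨119,(Int.ofNat 1),1⟩] (.node 72 [⟨118,(Int.negSucc 0),1⟩] .nil .nil) .nil) (.node 78 [⟨122,(Int.negSucc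 0),1⟩] .nil .nil)) (.node 99 [⟨131,(Int.negSucc 0),1⟩] (.node 89 [⟨127,(Int.ofNat 1),1⟩] (.node 88 [⟨126,(Int.ofNat 1),1⟩] .nil .nil) .nil) (.node 115 [⟨132,(Int.ofNat 1),1⟩] .nil .nil)))))
noncomputable def col110 : Tr Cl := (.node 33 [⟨83,(Int.ofNat 1),1⟩] (.node 13 [⟨52,(Int.ofNat 1),1⟩] (.node 5 [⟨117,(Int.negSucc 0),1⟩] (.node 2 [⟨117,(Int.negSucc 0),1⟩] (.node 1 [⟨117,(Int.ofNat 0),1⟩] (.node 0 [⟨117,(Int.ofNat 0),1⟩] .nil .nil) .nil) (.node 4 [⟨117,(Int.ofNat 1),1⟩] (.node 3 [⟨117,(Int.ofNat 0),1⟩] .nil .nil) .nil)) (.node 8 [⟨41,(Int.negSucc 0),1⟩] (.node 7 [⟨25,(Int.ofNat 1),1⟩] (.node 6 [⟨117,(Int.ofNat 1),1⟩] .nil .nil) .nil) (.node 11 [⟨50,(Int.negSucc 0),1⟩] .nil .nil))) (.node 21 [⟨69,(Int.ofNat 1),1⟩] (.node 18 [⟨64,(Int.negSucc 0),1⟩] (.node 17 [⟨62,(Int.negSucc 0),1⟩] (.node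 15 [⟨60,(Int.ofNat 1),1⟩] .nil .nil) .nil) (.node 20 [⟨66,(Int.ofNat 1),1⟩] .nil .nil)) (.node 28 [⟨80,(Int.ofNat 1),1⟩] (.node 23 [⟨71,(Int.ofNat 1),1⟩] (.node 22 [⟨0,(Int.ofNat 1),1⟩, ⟨1,(Int.ofNat 1),1⟩, ⟨2,(Int.ofNat 2),1⟩, ⟨3,(Int.ofNat 2),1⟩, ⟨4,(Int.ofNat 1),1⟩, ⟨5,(Int.ofNat 1),1⟩, ⟨6,(Int.ofNat 0),1⟩, ⟨117,(Int.negSucc 0),2⟩] .nil .nil) .nil) (.node 31 [⟨81,(Int.negSucc 0),1⟩] .nil .nil)))) (.node 68 [⟨116,(Int.negSucc 0),1⟩] (.node 47 [⟨102,(Int.ofNat 1),1⟩] (.node 38 [⟨95,(Int.ofNat 1),1⟩] (.node 37 [⟨92,(Int.negSucc 0),1⟩] (.node 35 [⟨90,(Int.ofNat 1),1⟩] .nil .nil) .nil) (.node 44 [⟨101,(Int.negSucc 0),1⟩] .nil .nil)) (.node 58 [⟨108,(Int.ofNat 1),1⟩] (.node 56 [⟨106,(Int.negSucc 0),1⟩] (.node 49 [⟨104,(Int.negSucc 0),1⟩] .nil .nil) .nil) (.node 59 [⟨111,(Int.negSucc 0),1⟩] .nil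 .nil))) (.node 79 [⟨124,(Int.negSucc 0),1⟩] (.node 75 [⟨121,(Int.ofNat 1),1⟩] (.node 73 [⟨119,(Int.negSucc 0),1⟩] (.node 70 [⟨118,(Int.negSucc 0),1⟩] .nil .nil) .nil) (.node 77 [⟨122,(Int.ofNat 1),1⟩] .nil .nil)) (.node 98 [⟨131,(Int.ofNat 1),1⟩] (.node 89 [⟨128,(Int.ofNat 1),1⟩] (.node 87 [⟨126,(Int.negSucc 0),1⟩] .nil .nil) .nil) (.node 114 [⟨132,(Int.negSucc 0),1⟩] .nil .nil)))))
noncomputable def col111 : Tr Cl := (.node 33 [⟨84,(Int.ofNat 1),1⟩] (.node 12 [⟨52,(Int.ofNat 1),1⟩] (.node 5 [⟨118,(Int.ofNat 0),1⟩] (.node 2 [⟨118,(Int.negSucc 0),1⟩] (.node 1 [⟨118,(Int.ofNat 0),1⟩] (.node 0 [⟨118,(Int.ofNat 0),1⟩] .nil .nil) .nil) (.node 4 [⟨118,(Int.ofNat 1),1⟩] (.node 3 [⟨118,(Int.ofNat 0),1⟩] .nil .nil) .nil)) (.node 8 [⟨42,(Int.ofNat 1),1⟩] (.node 7 [⟨26,(Int.negSucc 0),1⟩] (.node 6 [⟨118,(Int.negSucc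 0),1⟩] .nil .nil) .nil) (.node 11 [⟨51,(Int.ofNat 1),1⟩] .nil .nil))) (.node 21 [⟨0,(Int.ofNat 1),1⟩, ⟨1,(Int.ofNat 1),1⟩, ⟨2,(Int.ofNat 2),1⟩, ⟨3,(Int.ofNat 2),1⟩, ⟨4,(Int.ofNat 1),1⟩, ⟨5,(Int.ofNat 1),1⟩, ⟨6,(Int.ofNat 1),1⟩, ⟨118,(Int.negSucc 0),2⟩] (.node 18 [⟨65,(Int.ofNat 1),1⟩] (.node 16 [⟨62,(Int.negSucc 0),1⟩] (.node 15 [⟨61,(Int.negSucc 0),1⟩] .nil .nil) .nil) (.node 19 [⟨66,(Int.ofNat 1),1⟩] .nil .nil)) (.node 27 [⟨80,(Int.ofNat 1),1⟩] (.node 23 [⟨72,(Int.ofNat 1),1⟩] (.node 22 [⟨70,(Int.ofNat 1),1⟩] .nil .nil) .nil) (.node 30 [⟨81,(Int.negSucc 0),1⟩] .nil .nil)))) (.node 67 [⟨116,(Int.negSucc 0),1⟩] (.node 46 [⟨102,(Int.ofNat 1),1⟩] (.node 38 [⟨96,(Int.ofNat 1),1⟩] (.node 37 [⟨93,(Int.negSucc 0),1⟩] (.node 34 [⟨90,(Int.ofNat 1),1⟩] .nil .nil) .nil) (.node 43 [⟨101,(Int.negSucc 0),1⟩]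 .nil .nil)) (.node 58 [⟨109,(Int.ofNat 1),1⟩] (.node 55 [⟨106,(Int.negSucc 0),1⟩] (.node 49 [⟨105,(Int.negSucc 0),1⟩] .nil .nil) .nil) (.node 59 [⟨112,(Int.negSucc 0),1⟩] .nil .nil))) (.node 78 [⟨124,(Int.ofNat 1),1⟩] (.node 74 [⟨121,(Int.negSucc 0),1⟩] (.node 73 [⟨120,(Int.negSucc 0),1⟩] (.node 69 [⟨117,(Int.negSucc 0),1⟩] .nil .nil) .nil) (.node 77 [⟨123,(Int.ofNat 1),1⟩] .nil .nil)) (.node 97 [⟨131,(Int.negSucc 0),1⟩] (.node 88 [⟨128,(Int.negSucc 0),1⟩] (.node 87 [⟨127,(Int.negSucc 0),1⟩] .nil .nil) .nil) (.node 113 [⟨132,(Int.ofNat 1),1⟩] .nil .nil)))))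
noncomputable def col112 : Tr Cl := (.node 32 [⟨83,(Int.ofNat 1),1⟩] (.node 13 [⟨53,(Int.negSucc 0),1⟩] (.node 5 [⟨119,(Int.ofNat 0),1⟩] (.node 2 [⟨119,(Int.negSucc 0),1⟩] (.node 1 [⟨119,(Int.ofNat 0),1⟩] (.node 0 [⟨119,(Int.ofNat 0),1⟩] .nil .nil) .nil) (.node 4 [⟨119,(Int.negSucc 0),1⟩] (.node 3 [⟨119,(Int.ofNat 1),1⟩] .nil .nil) .nil)) (.node 8 [⟨43,(Int.ofNat 1),1⟩] (.node 7 [⟨27,(Int.negSucc 0),1⟩] (.node 6 [⟨119,(Int.ofNat 1),1⟩] .nil .nil) .nil) (.node 10 [⟨50,(Int.negSucc 0),1⟩] .nil .nil))) (.node 20 [⟨0,(Int.ofNat 1),1⟩, ⟨1,(Int.ofNat 1),1⟩, ⟨2,(Int.ofNat 2),1⟩, ⟨3,(Int.ofNat 2),1⟩, ⟨4,(Int.ofNat 2),1⟩, ⟨5,(Int.ofNat 1),1⟩, ⟨6,(Int.ofNat 0),1⟩, ⟨119,(Int.negSucc 0),2⟩] (.node 18 [⟨67,(Int.negSucc 0),1⟩] (.node 17 [⟨63,(Int.ofNat 1),1⟩] (.node 14 [⟨60,(Int.ofNat 1),1⟩] .nil .nil) .nil)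 (.node 19 [⟨69,(Int.ofNat 1),1⟩] .nil .nil)) (.node 26 [⟨80,(Int.ofNat 1),1⟩] (.node 23 [⟨74,(Int.negSucc 0),1⟩] (.node 22 [⟨73,(Int.ofNat 1),1⟩] .nil .nil) .nil) (.node 31 [⟨82,(Int.negSucc 0),1⟩] .nil .nil)))) (.node 65 [⟨116,(Int.ofNat 1),1⟩] (.node 47 [⟨103,(Int.ofNat 1),1⟩] (.node 38 [⟨97,(Int.ofNat 1),1⟩] (.node 36 [⟨92,(Int.negSucc 0),1⟩] (.node 35 [⟨91,(Int.ofNat 1),1⟩] .nil .nil) .nil) (.node 42 [⟨101,(Int.negSucc 0),1⟩] .nil .nil)) (.node 57 [⟨108,(Int.ofNat 1),1⟩] (.node 56 [⟨107,(Int.negSucc 0),1⟩] (.node 48 [⟨104,(Int.negSucc 0),1⟩] .nil .nil) .nil) (.node 59 [⟨113,(Int.negSucc 0),1⟩] .nil .nil))) (.node 79 [⟨125,(Int.negSucc 0),1⟩] (.node 72 [⟨121,(Int.ofNat 1),1⟩] (.node 70 [⟨120,(Int.negSucc 0),1⟩] (.node 66 [⟨117,(Int.negSucc 0),1⟩] .nil .nil) .nil) (.node 76 [⟨122,(Int.negSucc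 0),1⟩] .nil .nil)) (.node 96 [⟨131,(Int.negSucc 0),1⟩] (.node 89 [⟨129,(Int.ofNat 1),1⟩] (.node 86 [⟨126,(Int.ofNat 1),1⟩] .nil .nil) .nil) (.node 112 [⟨132,(Int.ofNat 1),1⟩] .nil .nil)))))
noncomputable def col113 : Tr Cl := (.node 32 [⟨84,(Int.ofNat 1),1⟩] (.node 12 [⟨53,(Int.negSucc 0),1⟩] (.node 5 [⟨120,(Int.ofNat 1),1⟩] (.node 2 [⟨120,(Int.negSucc 0),1⟩] (.node 1 [⟨120,(Int.ofNat 0),1⟩] (.node 0 [⟨120,(Int.ofNat 0),1⟩] .nil .nil) .nil) (.node 4 [⟨120,(Int.negSucc 0),1⟩] (.node 3 [⟨120,(Int.ofNat 1),1⟩] .nil .nil) .nil)) (.node 8 [⟨44,(Int.negSucc 0),1⟩] (.node 7 [⟨28,(Int.ofNat 1),1⟩] (.node 6 [⟨120,(Int.negSucc 0),1⟩] .nil .nil) .nil) (.node 10 [⟨51,(Int.ofNat 1),1⟩] .nil .nil))) (.node 20 [⟨70,(Int.ofNat 1),1⟩] (.node 18 [⟨68,(Int.ofNat 1),1⟩] (.node 16 [⟨63,(Int.ofNat 1),1⟩] (.node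 14 [⟨61,(Int.negSucc 0),1⟩] .nil .nil) .nil) (.node 19 [⟨0,(Int.ofNat 1),1⟩, ⟨1,(Int.ofNat 1),1⟩, ⟨2,(Int.ofNat 2),1⟩, ⟨3,(Int.ofNat 2),1⟩, ⟨4,(Int.ofNat 2),1⟩, ⟨5,(Int.ofNat 1),1⟩, ⟨6,(Int.ofNat 1),1⟩, ⟨120,(Int.negSucc 0),2⟩] .nil .nil)) (.node 25 [⟨80,(Int.ofNat 1),1⟩] (.node 23 [⟨75,(Int.negSucc 0),1⟩] (.node 21 [⟨73,(Int.ofNat 1),1⟩] .nil .nil) .nil) (.node 30 [⟨82,(Int.negSucc 0),1⟩] .nil .nil)))) (.node 64 [⟨116,(Int.ofNat 1),1⟩] (.node 46 [⟨103,(Int.ofNat 1),1⟩] (.node 38 [⟨98,(Int.ofNat 1),1⟩] (.node 36 [⟨93,(Int.negSucc 0),1⟩] (.node 34 [⟨91,(Int.ofNat 1),1⟩] .nil .nil) .nil) (.node 41 [⟨101,(Int.negSucc 0),1⟩] .nil .nil)) (.node 57 [⟨109,(Int.ofNat 1),1⟩] (.node 55 [⟨107,(Int.negSucc 0),1⟩] (.node 48 [⟨105,(Int.negSucc 0),1⟩] .nil .nil) .nil) (.node 59 [⟨114,(Int.negSucc 0),1⟩] .nil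 .nil))) (.node 78 [⟨125,(Int.ofNat 1),1⟩] (.node 71 [⟨121,(Int.negSucc 0),1⟩] (.node 69 [⟨119,(Int.negSucc 0),1⟩] (.node 66 [⟨118,(Int.negSucc 0),1⟩] .nil .nil) .nil) (.node 76 [⟨123,(Int.negSucc 0),1⟩] .nil .nil)) (.node 95 [⟨131,(Int.ofNat 1),1⟩] (.node 88 [⟨129,(Int.negSucc 0),1⟩] (.node 86 [⟨127,(Int.ofNat 1),1⟩] .nil .nil) .nil) (.node 111 [⟨132,(Int.negSucc 0),1⟩] .nil .nil)))))
noncomputable def col114 : Tr Cl := (.node 31 [⟨84,(Int.ofNat 1),1⟩] (.node 11 [⟨53,(Int.negSucc 0),1⟩] (.node 5 [⟨121,(Int.negSucc 0),1⟩] (.node 2 [⟨121,(Int.negSucc 0),1⟩] (.node 1 [⟨121,(Int.ofNat 0),1⟩] (.node 0 [⟨121,(Int.ofNat 0),1⟩] .nil .nil) .nil) (.node 4 [⟨121,(Int.ofNat 0),1⟩] (.node 3 [⟨121,(Int.ofNat 1),1⟩] .nil .nil) .nil)) (.node 8 [⟨45,(Int.ofNat 1),1⟩] (.node 7 [⟨29,(Int.negSucc 0),1⟩] (.node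 6 [⟨121,(Int.ofNat 0),1⟩] .nil .nil) .nil) (.node 10 [⟨52,(Int.negSucc 0),1⟩] .nil .nil))) (.node 20 [⟨72,(Int.negSucc 0),1⟩] (.node 18 [⟨0,(Int.ofNat 1),1⟩, ⟨1,(Int.ofNat 1),1⟩, ⟨2,(Int.ofNat 2),1⟩, ⟨3,(Int.ofNat 2),1⟩, ⟨4,(Int.ofNat 2),1⟩, ⟨5,(Int.ofNat 2),1⟩, ⟨6,(Int.ofNat 1),1⟩, ⟨121,(Int.negSucc 0),2⟩] (.node 15 [⟨63,(Int.ofNat 1),1⟩] (.node 14 [⟨62,(Int.ofNat 1),1⟩] .nil .nil) .nil) (.node 19 [⟨71,(Int.ofNat 1),1⟩] .nil .nil)) (.node 24 [⟨80,(Int.ofNat 1),1⟩] (.node 22 [⟨75,(Int.negSucc 0),1⟩] (.node 21 [⟨74,(Int.ofNat 1),1⟩] .nil .nil) .nil) (.node 30 [⟨83,(Int.negSucc 0),1⟩] .nil .nil)))) (.node 64 [⟨117,(Int.ofNat 1),1⟩] (.node 46 [⟨104,(Int.ofNat 1),1⟩] (.node 38 [⟨99,(Int.ofNat 1),1⟩] (.node 35 [⟨93,(Int.negSucc 0),1⟩] (.node 34 [⟨92,(Int.ofNat 1),1⟩] .nil .nil) .nil) (.node 40 [⟨101,(Int.negSucc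 0),1⟩] .nil .nil)) (.node 56 [⟨109,(Int.ofNat 1),1⟩] (.node 55 [⟨108,(Int.negSucc 0),1⟩] (.node 47 [⟨105,(Int.negSucc 0),1⟩] .nil .nil) .nil) (.node 59 [⟨115,(Int.negSucc 0),1⟩] .nil .nil))) (.node 77 [⟨125,(Int.negSucc 0),1⟩] (.node 68 [⟨120,(Int.negSucc 0),1⟩] (.node 67 [⟨119,(Int.ofNat 1),1⟩] (.node 65 [⟨118,(Int.negSucc 0),1⟩] .nil .nil) .nil) (.node 76 [⟨124,(Int.negSucc 0),1⟩] .nil .nil)) (.node 94 [⟨131,(Int.negSucc 0),1⟩] (.node 87 [⟨129,(Int.ofNat 1),1⟩] (.node 86 [⟨128,(Int.ofNat 1),1⟩] .nil .nil) .nil) (.node 110 [⟨132,(Int.ofNat 1),1⟩] .nil .nil)))))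
noncomputable def col115 : Tr Cl := (.node 29 [⟨83,(Int.ofNat 1),1⟩] (.node 13 [⟨54,(Int.ofNat 1),1⟩] (.node 5 [⟨122,(Int.ofNat 0),1⟩] (.node 2 [⟨122,(Int.ofNat 0),1⟩] (.node 1 [⟨122,(Int.ofNat 1),1⟩] (.node 0 [⟨122,(Int.ofNat 0),1⟩] .nil .nil) .nil) (.node 4 [⟨122,(Int.ofNat 0),1⟩] (.node 3 [⟨122,(Int.negSucc 0),1⟩] .nil .nil) .nil)) (.node 8 [⟨46,(Int.negSucc 0),1⟩] (.node 7 [⟨30,(Int.ofNat 1),1⟩] (.node 6 [⟨122,(Int.ofNat 1),1⟩] .nil .nil) .nil) (.node 9 [⟨50,(Int.negSucc 0),1⟩] .nil .nil))) (.node 20 [⟨76,(Int.ofNat 1),1⟩] (.node 16 [⟨69,(Int.ofNat 1),1⟩] (.node 15 [⟨67,(Int.negSucc 0),1⟩] (.node 14 [⟨64,(Int.ofNat 1),1⟩] .nil .nil) .nil) (.node 17 [⟨0,(Int.ofNat 1),1⟩, ⟨1,(Int.ofNat 1),1⟩, ⟨2,(Int.ofNat 2),1⟩, ⟨3,(Int.ofNat 3),1⟩, ⟨4,(Int.ofNat 2),1⟩, ⟨5,(Int.ofNat 1),1⟩, ⟨6,(Int.ofNat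 0),1⟩, ⟨122,(Int.negSucc 0),2⟩] .nil .nil)) (.node 26 [⟨81,(Int.ofNat 1),1⟩] (.node 23 [⟨78,(Int.ofNat 1),1⟩] (.node 22 [⟨77,(Int.negSucc 0),1⟩] .nil .nil) .nil) (.node 28 [⟨82,(Int.negSucc 0),1⟩] .nil .nil)))) (.node 61 [⟨116,(Int.negSucc 0),1⟩] (.node 44 [⟨103,(Int.ofNat 1),1⟩] (.node 37 [⟨97,(Int.ofNat 1),1⟩] (.node 36 [⟨95,(Int.negSucc 0),1⟩] (.node 35 [⟨94,(Int.ofNat 1),1⟩] .nil .nil) .nil) (.node 42 [⟨102,(Int.negSucc 0),1⟩] .nil .nil)) (.node 57 [⟨111,(Int.ofNat 1),1⟩] (.node 56 [⟨110,(Int.negSucc 0),1⟩] (.node 45 [⟨104,(Int.negSucc 0),1⟩] .nil .nil) .nil) (.node 58 [⟨113,(Int.negSucc 0),1⟩] .nil .nil))) (.node 75 [⟨125,(Int.negSucc 0),1⟩] (.node 70 [⟨123,(Int.negSucc 0),1⟩] (.node 63 [⟨119,(Int.negSucc 0),1⟩] (.node 62 [⟨117,(Int.ofNat 1),1⟩] .nil .nil) .nil) (.node 72 [⟨124,(Int.ofNat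 1),1⟩] .nil .nil)) (.node 93 [⟨131,(Int.ofNat 1),1⟩] (.node 89 [⟨130,(Int.ofNat 1),1⟩] (.node 85 [⟨126,(Int.negSucc 0),1⟩] .nil .nil) .nil) (.node 109 [⟨132,(Int.negSucc 0),1⟩] .nil .nil)))))
noncomputable def col116 : Tr Cl := (.node 29 [⟨84,(Int.ofNat 1),1⟩] (.node 12 [⟨54,(Int.ofNat 1),1⟩] (.node 5 [⟨123,(Int.ofNat 1),1⟩] (.node 2 [⟨123,(Int.ofNat 0),1⟩] (.node 1 [⟨123,(Int.ofNat 1),1⟩] (.node 0 [⟨123,(Int.ofNat 0),1⟩] .nil .nil) .nil) (.node 4 [⟨123,(Int.ofNat 0),1⟩] (.node 3 [⟨123,(Int.negSucc 0),1⟩] .nil .nil) .nil)) (.node 8 [⟨47,(Int.ofNat 1),1⟩] (.node 7 [⟨31,(Int.negSucc 0),1⟩] (.node 6 [⟨123,(Int.negSucc 0),1⟩] .nil .nil) .nil) (.node 9 [⟨51,(Int.ofNat 1),1⟩] .nil .nil))) (.node 19 [⟨76,(Int.ofNat 1),1⟩] (.node 16 [⟨0,(Int.ofNat 1),1⟩, ⟨1,(Int.ofNat 1),1⟩, ⟨2,(Int.ofNat 2),1⟩, ⟨3,(Int.ofNat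 3),1⟩, ⟨4,(Int.ofNat 2),1⟩, ⟨5,(Int.ofNat 1),1⟩, ⟨6,(Int.ofNat 1),1⟩, ⟨123,(Int.negSucc 0),2⟩] (.node 15 [⟨68,(Int.ofNat 1),1⟩] (.node 14 [⟨65,(Int.negSucc 0),1⟩] .nil .nil) .nil) (.node 17 [⟨70,(Int.ofNat 1),1⟩] .nil .nil)) (.node 25 [⟨81,(Int.ofNat 1),1⟩] (.node 23 [⟨79,(Int.ofNat 1),1⟩] (.node 21 [⟨77,(Int.negSucc 0),1⟩] .nil .nil) .nil) (.node 27 [⟨82,(Int.negSucc 0),1⟩] .nil .nil)))) (.node 60 [⟨116,(Int.negSucc 0),1⟩] (.node 43 [⟨103,(Int.ofNat 1),1⟩] (.node 37 [⟨98,(Int.ofNat 1),1⟩] (.node 36 [⟨96,(Int.negSucc 0),1⟩] (.node 34 [⟨94,(Int.ofNat 1),1⟩] .nil .nil) .nil) (.node 41 [⟨102,(Int.negSucc 0),1⟩] .nil .nil)) (.node 57 [⟨112,(Int.ofNat 1),1⟩] (.node 55 [⟨110,(Int.negSucc 0),1⟩] (.node 45 [⟨105,(Int.negSucc 0),1⟩] .nil .nil) .nil) (.node 58 [⟨114,(Int.negSucc 0),1⟩] .nil .nil))) (.node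 74 [⟨125,(Int.ofNat 1),1⟩] (.node 69 [⟨122,(Int.negSucc 0),1⟩] (.node 63 [⟨120,(Int.negSucc 0),1⟩] (.node 62 [⟨118,(Int.ofNat 1),1⟩] .nil .nil) .nil) (.node 71 [⟨124,(Int.negSucc 0),1⟩] .nil .nil)) (.node 92 [⟨131,(Int.negSucc 0),1⟩] (.node 88 [⟨130,(Int.negSucc 0),1⟩] (.node 85 [⟨127,(Int.negSucc 0),1⟩] .nil .nil) .nil) (.node 108 [⟨132,(Int.ofNat 1),1⟩] .nil .nil)))))
noncomputable def col117 : Tr Cl := (.node 28 [⟨84,(Int.ofNat 1),1⟩] (.node 11 [⟨54,(Int.ofNat 1),1⟩] (.node 5 [⟨124,(Int.negSucc 0),1⟩] (.node 2 [⟨124,(Int.ofNat 0),1⟩] (.node 1 [⟨124,(Int.ofNat 1),1⟩] (.node 0 [⟨124,(Int.ofNat 0),1⟩] .nil .nil) .nil) (.node 4 [⟨124,(Int.ofNat 1),1⟩] (.node 3 [⟨124,(Int.negSucc 0),1⟩] .nil .nil) .nil)) (.node 8 [⟨48,(Int.negSucc 0),1⟩] (.node 7 [⟨32,(Int.ofNat 1),1⟩] (.node 6 [⟨124,(Int.ofNat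 0),1⟩] .nil .nil) .nil) (.node 9 [⟨52,(Int.negSucc 0),1⟩] .nil .nil))) (.node 18 [⟨76,(Int.ofNat 1),1⟩] (.node 16 [⟨71,(Int.ofNat 1),1⟩] (.node 15 [⟨0,(Int.ofNat 1),1⟩, ⟨1,(Int.ofNat 1),1⟩, ⟨2,(Int.ofNat 2),1⟩, ⟨3,(Int.ofNat 3),1⟩, ⟨4,(Int.ofNat 2),1⟩, ⟨5,(Int.ofNat 2),1⟩, ⟨6,(Int.ofNat 1),1⟩, ⟨124,(Int.negSucc 0),2⟩] (.node 14 [⟨66,(Int.ofNat 1),1⟩] .nil .nil) .nil) (.node 17 [⟨72,(Int.negSucc 0),1⟩] .nil .nil)) (.node 24 [⟨81,(Int.ofNat 1),1⟩] (.node 22 [⟨79,(Int.ofNat 1),1⟩] (.node 21 [⟨78,(Int.negSucc 0),1⟩] .nil .nil) .nil) (.node 27 [⟨83,(Int.negSucc 0),1⟩] .nil .nil)))) (.node 60 [⟨117,(Int.negSucc 0),1⟩] (.node 43 [⟨104,(Int.ofNat 1),1⟩] (.node 37 [⟨99,(Int.ofNat 1),1⟩] (.node 35 [⟨96,(Int.negSucc 0),1⟩] (.node 34 [⟨95,(Int.ofNat 1),1⟩] .nil .nil) .nil) (.node 40 [⟨102,(Int.negSucc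 0),1⟩] .nil .nil)) (.node 56 [⟨112,(Int.ofNat 1),1⟩] (.node 55 [⟨111,(Int.negSucc 0),1⟩] (.node 44 [⟨105,(Int.negSucc 0),1⟩] .nil .nil) .nil) (.node 58 [⟨115,(Int.negSucc 0),1⟩] .nil .nil))) (.node 73 [⟨125,(Int.negSucc 0),1⟩] (.node 67 [⟨122,(Int.ofNat 1),1⟩] (.node 63 [⟨121,(Int.negSucc 0),1⟩] (.node 61 [⟨118,(Int.ofNat 1),1⟩] .nil .nil) .nil) (.node 68 [⟨123,(Int.negSucc 0),1⟩] .nil .nil)) (.node 91 [⟨131,(Int.ofNat 1),1⟩] (.node 87 [⟨130,(Int.ofNat 1),1⟩] (.node 85 [⟨128,(Int.negSucc 0),1⟩] .nil .nil) .nil) (.node 107 [⟨132,(Int.negSucc 0),1⟩] .nil .nil)))))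
noncomputable def col118 : Tr Cl := (.node 26 [⟨84,(Int.ofNat 1),1⟩] (.node 10 [⟨54,(Int.ofNat 1),1⟩] (.node 5 [⟨125,(Int.ofNat 0),1⟩] (.node 2 [⟨125,(Int.ofNat 0),1⟩] (.node 1 [⟨125,(Int.ofNat 1),1⟩] (.node 0 [⟨125,(Int.ofNat 0),1⟩] .nil .nil) .nil) (.node 4 [⟨125,(Int.negSucc 0),1⟩] (.node 3 [⟨125,(Int.ofNat 0),1⟩] .nil .nil) .nil)) (.node 8 [⟨49,(Int.ofNat 1),1⟩] (.node 7 [⟨33,(Int.negSucc 0),1⟩] (.node 6 [⟨125,(Int.ofNat 0),1⟩] .nil .nil) .nil) (.node 9 [⟨53,(Int.ofNat 1),1⟩] .nil .nil))) (.node 18 [⟨77,(Int.ofNat 1),1⟩] (.node 16 [⟨74,(Int.negSucc 0),1⟩] (.node 15 [⟨73,(Int.ofNat 1),1⟩] (.node 14 [⟨0,(Int.ofNat 1),1⟩, ⟨1,(Int.ofNat 1),1⟩, ⟨2,(Int.ofNat 2),1⟩, ⟨3,(Int.ofNat 3),1⟩, ⟨4,(Int.ofNat 3),1⟩, ⟨5,(Int.ofNat 2),1⟩, ⟨6,(Int.ofNat 1),1⟩, ⟨125,(Int.negSucc 0),2⟩] .nil .nil) .nil) (.node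 17 [⟨75,(Int.ofNat 1),1⟩] .nil .nil)) (.node 24 [⟨82,(Int.ofNat 1),1⟩] (.node 20 [⟨79,(Int.ofNat 1),1⟩] (.node 19 [⟨78,(Int.negSucc 0),1⟩] .nil .nil) .nil) (.node 25 [⟨83,(Int.negSucc 0),1⟩] .nil .nil)))) (.node 60 [⟨119,(Int.negSucc 0),1⟩] (.node 41 [⟨104,(Int.ofNat 1),1⟩] (.node 36 [⟨99,(Int.ofNat 1),1⟩] (.node 35 [⟨98,(Int.negSucc 0),1⟩] (.node 34 [⟨97,(Int.ofNat 1),1⟩] .nil .nil) .nil) (.node 40 [⟨103,(Int.negSucc 0),1⟩] .nil .nil)) (.node 56 [⟨114,(Int.ofNat 1),1⟩] (.node 55 [⟨113,(Int.negSucc 0),1⟩] (.node 42 [⟨105,(Int.negSucc 0),1⟩] .nil .nil) .nil) (.node 57 [⟨115,(Int.negSucc 0),1⟩] .nil .nil))) (.node 66 [⟨124,(Int.negSucc 0),1⟩] (.node 64 [⟨122,(Int.negSucc 0),1⟩] (.node 62 [⟨121,(Int.negSucc 0),1⟩] (.node 61 [⟨120,(Int.ofNat 1),1⟩] .nil .nil) .nil) (.node 65 [⟨123,(Int.ofNat 1),1⟩]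 .nil .nil)) (.node 90 [⟨131,(Int.negSucc 0),1⟩] (.node 86 [⟨130,(Int.negSucc 0),1⟩] (.node 85 [⟨129,(Int.negSucc 0),1⟩] .nil .nil) .nil) (.node 106 [⟨132,(Int.ofNat 1),1⟩] .nil .nil)))))
noncomputable def col119 : Tr Cl := (.node 29 [⟨92,(Int.ofNat 1),1⟩] (.node 10 [⟨64,(Int.ofNat 1),1⟩] (.node 5 [⟨126,(Int.ofNat 0),1⟩] (.node 2 [⟨126,(Int.ofNat 0),1⟩] (.node 1 [⟨126,(Int.negSucc 0),1⟩] (.node 0 [⟨126,(Int.ofNat 0),1⟩] .nil .nil) .nil) (.node 4 [⟨126,(Int.ofNat 0),1⟩] (.node 3 [⟨126,(Int.ofNat 0),1⟩] .nil .nil) .nil)) (.node 8 [⟨55,(Int.ofNat 1),1⟩] (.node 7 [⟨34,(Int.negSucc 0),1⟩] (.node 6 [⟨126,(Int.ofNat 1),1⟩] .nil .nil) .nil) (.node 9 [⟨60,(Int.negSucc 0),1⟩] .nil .nil))) (.node 20 [⟨86,(Int.negSucc 0),1⟩] (.node 13 [⟨0,(Int.ofNat 1),1⟩, ⟨1,(Int.ofNat 2),1⟩, ⟨2,(Int.ofNat 2),1⟩, ⟨3,(Int.ofNat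 3),1⟩, ⟨4,(Int.ofNat 2),1⟩, ⟨5,(Int.ofNat 1),1⟩, ⟨6,(Int.ofNat 0),1⟩, ⟨126,(Int.negSucc 0),2⟩] (.node 12 [⟨69,(Int.ofNat 1),1⟩] (.node 11 [⟨67,(Int.negSucc 0),1⟩] .nil .nil) .nil) (.node 17 [⟨85,(Int.ofNat 1),1⟩] .nil .nil)) (.node 26 [⟨90,(Int.ofNat 1),1⟩] (.node 23 [⟨88,(Int.negSucc 0),1⟩] (.node 22 [⟨87,(Int.ofNat 1),1⟩] .nil .nil) .nil) (.node 28 [⟨91,(Int.negSucc 0),1⟩] .nil .nil)))) (.node 51 [⟨116,(Int.ofNat 1),1⟩] (.node 44 [⟨107,(Int.ofNat 1),1⟩] (.node 33 [⟨97,(Int.ofNat 1),1⟩] (.node 32 [⟨95,(Int.negSucc 0),1⟩] (.node 31 [⟨94,(Int.ofNat 1),1⟩] .nil .nil) .nil) (.node 42 [⟨106,(Int.negSucc 0),1⟩] .nil .nil)) (.node 48 [⟨111,(Int.ofNat 1),1⟩] (.node 47 [⟨110,(Int.negSucc 0),1⟩] (.node 45 [⟨108,(Int.negSucc 0),1⟩] .nil .nil) .nil) (.node 49 [⟨113,(Int.negSucc 0),1⟩] .nil .nil))) (.node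 72 [⟨128,(Int.ofNat 1),1⟩] (.node 54 [⟨122,(Int.negSucc 0),1⟩] (.node 53 [⟨119,(Int.ofNat 1),1⟩] (.node 52 [⟨117,(Int.negSucc 0),1⟩] .nil .nil) .nil) (.node 70 [⟨127,(Int.negSucc 0),1⟩] .nil .nil)) (.node 84 [⟨131,(Int.negSucc 0),1⟩] (.node 79 [⟨130,(Int.ofNat 1),1⟩] (.node 75 [⟨129,(Int.negSucc 0),1⟩] .nil .nil) .nil) (.node 105 [⟨132,(Int.ofNat 1),1⟩] .nil .nil)))))
noncomputable def col120 : Tr Cl := (.node 29 [⟨93,(Int.ofNat 1),1⟩] (.node 10 [⟨65,(Int.negSucc 0),1⟩] (.node 5 [⟨127,(Int.ofNat 1),1⟩] (.node 2 [⟨127,(Int.ofNat 0),1⟩] (.node 1 [⟨127,(Int.negSucc 0),1⟩] (.node 0 [⟨127,(Int.ofNat 0),1⟩] .nil .nil) .nil) (.node 4 [⟨127,(Int.ofNat 0),1⟩] (.node 3 [⟨127,(Int.ofNat 0),1⟩] .nil .nil) .nil)) (.node 8 [⟨56,(Int.negSucc 0),1⟩] (.node 7 [⟨35,(Int.ofNat 1),1⟩] (.node 6 [⟨127,(Int.negSucc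 0),1⟩] .nil .nil) .nil) (.node 9 [⟨61,(Int.ofNat 1),1⟩] .nil .nil))) (.node 19 [⟨86,(Int.negSucc 0),1⟩] (.node 13 [⟨70,(Int.ofNat 1),1⟩] (.node 12 [⟨0,(Int.ofNat 1),1⟩, ⟨1,(Int.ofNat 2),1⟩, ⟨2,(Int.ofNat 2),1⟩, ⟨3,(Int.ofNat 3),1⟩, ⟨4,(Int.ofNat 2),1⟩, ⟨5,(Int.ofNat 1),1⟩, ⟨6,(Int.ofNat 1),1⟩, ⟨127,(Int.negSucc 0),2⟩] (.node 11 [⟨68,(Int.ofNat 1),1⟩] .nil .nil) .nil) (.node 16 [⟨85,(Int.ofNat 1),1⟩] .nil .nil)) (.node 25 [⟨90,(Int.ofNat 1),1⟩] (.node 23 [⟨89,(Int.negSucc 0),1⟩] (.node 21 [⟨87,(Int.ofNat 1),1⟩] .nil .nil) .nil) (.node 27 [⟨91,(Int.negSucc 0),1⟩] .nil .nil)))) (.node 50 [⟨116,(Int.ofNat 1),1⟩] (.node 43 [⟨107,(Int.ofNat 1),1⟩] (.node 33 [⟨98,(Int.ofNat 1),1⟩] (.node 32 [⟨96,(Int.negSucc 0),1⟩] (.node 30 [⟨94,(Int.ofNat 1),1⟩] .nil .nil) .nil) (.node 41 [⟨106,(Int.negSucc 0),1⟩]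 .nil .nil)) (.node 48 [⟨112,(Int.ofNat 1),1⟩] (.node 46 [⟨110,(Int.negSucc 0),1⟩] (.node 45 [⟨109,(Int.negSucc 0),1⟩] .nil .nil) .nil) (.node 49 [⟨114,(Int.negSucc 0),1⟩] .nil .nil))) (.node 71 [⟨128,(Int.negSucc 0),1⟩] (.node 54 [⟨123,(Int.negSucc 0),1⟩] (.node 53 [⟨120,(Int.ofNat 1),1⟩] (.node 52 [⟨118,(Int.negSucc 0),1⟩] .nil .nil) .nil) (.node 69 [⟨126,(Int.negSucc 0),1⟩] .nil .nil)) (.node 83 [⟨131,(Int.ofNat 1),1⟩] (.node 78 [⟨130,(Int.negSucc 0),1⟩] (.node 74 [⟨129,(Int.ofNat 1),1⟩] .nil .nil) .nil) (.node 104 [⟨132,(Int.negSucc 0),1⟩] .nil .nil)))))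
noncomputable def col121 : Tr Cl := (.node 28 [⟨93,(Int.ofNat 1),1⟩] (.node 10 [⟨66,(Int.ofNat 1),1⟩] (.node 5 [⟨128,(Int.negSucc 0),1⟩] (.node 2 [⟨128,(Int.ofNat 0),1⟩] (.node 1 [⟨128,(Int.negSucc 0),1⟩] (.node 0 [⟨128,(Int.ofNat 0),1⟩] .nil .nil) .nil) (.node 4 [⟨128,(Int.ofNat 1),1⟩] (.node 3 [⟨128,(Int.ofNat 0),1⟩] .nil .nil) .nil)) (.node 8 [⟨57,(Int.ofNat 1),1⟩] (.node 7 [⟨36,(Int.negSucc 0),1⟩] (.node 6 [⟨128,(Int.ofNat 0),1⟩] .nil .nil) .nil) (.node 9 [⟨62,(Int.negSucc 0),1⟩] .nil .nil))) (.node 18 [⟨86,(Int.negSucc 0),1⟩] (.node 13 [⟨72,(Int.negSucc 0),1⟩] (.node 12 [⟨71,(Int.ofNat 1),1⟩] (.node 11 [⟨0,(Int.ofNat 1),1⟩, ⟨1,(Int.ofNat 2),1⟩, ⟨2,(Int.ofNat 2),1⟩, ⟨3,(Int.ofNat 3),1⟩, ⟨4,(Int.ofNat 2),1⟩, ⟨5,(Int.ofNat 2),1⟩, ⟨6,(Int.ofNat 1),1⟩, ⟨128,(Int.negSucc 0),2⟩] .nil .nil) .nil)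 (.node 15 [⟨85,(Int.ofNat 1),1⟩] .nil .nil)) (.node 24 [⟨90,(Int.ofNat 1),1⟩] (.node 22 [⟨89,(Int.negSucc 0),1⟩] (.node 21 [⟨88,(Int.ofNat 1),1⟩] .nil .nil) .nil) (.node 27 [⟨92,(Int.negSucc 0),1⟩] .nil .nil)))) (.node 50 [⟨117,(Int.ofNat 1),1⟩] (.node 43 [⟨108,(Int.ofNat 1),1⟩] (.node 33 [⟨99,(Int.ofNat 1),1⟩] (.node 31 [⟨96,(Int.negSucc 0),1⟩] (.node 30 [⟨95,(Int.ofNat 1),1⟩] .nil .nil) .nil) (.node 40 [⟨106,(Int.negSucc 0),1⟩] .nil .nil)) (.node 47 [⟨112,(Int.ofNat 1),1⟩] (.node 46 [⟨111,(Int.negSucc 0),1⟩] (.node 44 [⟨109,(Int.negSucc 0),1⟩] .nil .nil) .nil) (.node 49 [⟨115,(Int.negSucc 0),1⟩] .nil .nil))) (.node 68 [⟨127,(Int.negSucc 0),1⟩] (.node 54 [⟨124,(Int.negSucc 0),1⟩] (.node 53 [⟨121,(Int.ofNat 1),1⟩] (.node 51 [⟨118,(Int.negSucc 0),1⟩] .nil .nil) .nil) (.node 67 [⟨126,(Int.ofNat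 1),1⟩] .nil .nil)) (.node 82 [⟨131,(Int.negSucc 0),1⟩] (.node 77 [⟨130,(Int.ofNat 1),1⟩] (.node 73 [⟨129,(Int.negSucc 0),1⟩] .nil .nil) .nil) (.node 103 [⟨132,(Int.ofNat 1),1⟩] .nil .nil)))))
noncomputable def col122 : Tr Cl := (.node 26 [⟨93,(Int.ofNat 1),1⟩] (.node 10 [⟨0,(Int.ofNat 1),1⟩, ⟨1,(Int.ofNat 2),1⟩, ⟨2,(Int.ofNat 2),1⟩, ⟨3,(Int.ofNat 3),1⟩, ⟨4,(Int.ofNat 3),1⟩, ⟨5,(Int.ofNat 2),1⟩, ⟨6,(Int.ofNat 1),1⟩, ⟨129,(Int.negSucc 0),2⟩] (.node 5 [⟨129,(Int.ofNat 0),1⟩] (.node 2 [⟨129,(Int.ofNat 0),1⟩] (.node 1 [⟨129,(Int.negSucc 0),1⟩] (.node 0 [⟨129,(Int.ofNat 0),1⟩] .nil .nil) .nil) (.node 4 [⟨129,(Int.negSucc 0),1⟩] (.node 3 [⟨129,(Int.ofNat 1),1⟩] .nil .nil) .nil)) (.node 8 [⟨58,(Int.negSucc 0),1⟩] (.node 7 [⟨37,(Int.ofNat 1),1⟩] (.node 6 [⟨129,(Int.ofNat 0),1⟩] .nil .nil) .nil) (.node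 9 [⟨63,(Int.ofNat 1),1⟩] .nil .nil))) (.node 18 [⟨87,(Int.negSucc 0),1⟩] (.node 13 [⟨75,(Int.ofNat 1),1⟩] (.node 12 [⟨74,(Int.negSucc 0),1⟩] (.node 11 [⟨73,(Int.ofNat 1),1⟩] .nil .nil) .nil) (.node 14 [⟨85,(Int.ofNat 1),1⟩] .nil .nil)) (.node 24 [⟨91,(Int.ofNat 1),1⟩] (.node 20 [⟨89,(Int.negSucc 0),1⟩] (.node 19 [⟨88,(Int.ofNat 1),1⟩] .nil .nil) .nil) (.node 25 [⟨92,(Int.negSucc 0),1⟩] .nil .nil)))) (.node 50 [⟨119,(Int.ofNat 1),1⟩] (.node 41 [⟨108,(Int.ofNat 1),1⟩] (.node 32 [⟨99,(Int.ofNat 1),1⟩] (.node 31 [⟨98,(Int.negSucc 0),1⟩] (.node 30 [⟨97,(Int.ofNat 1),1⟩] .nil .nil) .nil) (.node 40 [⟨107,(Int.negSucc 0),1⟩] .nil .nil)) (.node 47 [⟨114,(Int.ofNat 1),1⟩] (.node 46 [⟨113,(Int.negSucc 0),1⟩] (.node 42 [⟨109,(Int.negSucc 0),1⟩] .nil .nil) .nil) (.node 48 [⟨115,(Int.negSucc 0),1⟩] .nil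 .nil))) (.node 65 [⟨127,(Int.ofNat 1),1⟩] (.node 54 [⟨125,(Int.negSucc 0),1⟩] (.node 52 [⟨121,(Int.ofNat 1),1⟩] (.node 51 [⟨120,(Int.negSucc 0),1⟩] .nil .nil) .nil) (.node 64 [⟨126,(Int.negSucc 0),1⟩] .nil .nil)) (.node 81 [⟨131,(Int.ofNat 1),1⟩] (.node 76 [⟨130,(Int.negSucc 0),1⟩] (.node 66 [⟨128,(Int.negSucc 0),1⟩] .nil .nil) .nil) (.node 102 [⟨132,(Int.negSucc 0),1⟩] .nil .nil)))))
noncomputable def col123 : Tr Cl := (.node 26 [⟨96,(Int.ofNat 1),1⟩] (.node 10 [⟨76,(Int.ofNat 1),1⟩] (.node 5 [⟨130,(Int.ofNat 0),1⟩] (.node 2 [⟨130,(Int.ofNat 1),1⟩] (.node 1 [⟨130,(Int.ofNat 0),1⟩] (.node 0 [⟨130,(Int.ofNat 0),1⟩] .nil .nil) .nil) (.node 4 [⟨130,(Int.ofNat 0),1⟩] (.node 3 [⟨130,(Int.negSucc 0),1⟩] .nil .nil) .nil)) (.node 8 [⟨59,(Int.ofNat 1),1⟩] (.node 7 [⟨38,(Int.negSucc 0),1⟩] (.node 6 [⟨130,(Int.ofNat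 0),1⟩] .nil .nil) .nil) (.node 9 [⟨0,(Int.ofNat 1),1⟩, ⟨1,(Int.ofNat 2),1⟩, ⟨2,(Int.ofNat 2),1⟩, ⟨3,(Int.ofNat 4),1⟩, ⟨4,(Int.ofNat 3),1⟩, ⟨5,(Int.ofNat 2),1⟩, ⟨6,(Int.ofNat 1),1⟩, ⟨130,(Int.negSucc 0),2⟩] .nil .nil))) (.node 15 [⟨87,(Int.negSucc 0),1⟩] (.node 13 [⟨79,(Int.negSucc 0),1⟩] (.node 12 [⟨78,(Int.ofNat 1),1⟩] (.node 11 [⟨77,(Int.negSucc 0),1⟩] .nil .nil) .nil) (.node 14 [⟨86,(Int.ofNat 1),1⟩] .nil .nil)) (.node 24 [⟨94,(Int.ofNat 1),1⟩] (.node 17 [⟨89,(Int.negSucc 0),1⟩] (.node 16 [⟨88,(Int.ofNat 1),1⟩] .nil .nil) .nil) (.node 25 [⟨95,(Int.negSucc 0),1⟩] .nil .nil)))) (.node 50 [⟨122,(Int.ofNat 1),1⟩] (.node 41 [⟨111,(Int.ofNat 1),1⟩] (.node 29 [⟨99,(Int.ofNat 1),1⟩] (.node 28 [⟨98,(Int.negSucc 0),1⟩] (.node 27 [⟨97,(Int.ofNat 1),1⟩] .nil .nil) .nil) (.node 40 [⟨110,(Int.negSucc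 0),1⟩] .nil .nil)) (.node 44 [⟨114,(Int.ofNat 1),1⟩] (.node 43 [⟨113,(Int.negSucc 0),1⟩] (.node 42 [⟨112,(Int.negSucc 0),1⟩] .nil .nil) .nil) (.node 45 [⟨115,(Int.negSucc 0),1⟩] .nil .nil))) (.node 61 [⟨127,(Int.negSucc 0),1⟩] (.node 53 [⟨125,(Int.negSucc 0),1⟩] (.node 52 [⟨124,(Int.ofNat 1),1⟩] (.node 51 [⟨123,(Int.negSucc 0),1⟩] .nil .nil) .nil) (.node 60 [⟨126,(Int.ofNat 1),1⟩] .nil .nil)) (.node 80 [⟨131,(Int.negSucc 0),1⟩] (.node 63 [⟨129,(Int.negSucc 0),1⟩] (.node 62 [⟨128,(Int.ofNat 1),1⟩] .nil .nil) .nil) (.node 101 [⟨132,(Int.ofNat 1),1⟩] .nil .nil)))))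
noncomputable def col124 : Tr Cl := (.node 20 [⟨96,(Int.ofNat 1),1⟩] (.node 10 [⟨81,(Int.negSucc 0),1⟩] (.node 5 [⟨131,(Int.ofNat 0),1⟩] (.node 2 [⟨131,(Int.negSucc 0),1⟩] (.node 1 [⟨131,(Int.ofNat 0),1⟩] (.node 0 [⟨131,(Int.ofNat 1),1⟩] .nil .nil) .nil) (.node 4 [⟨131,(Int.ofNat 0),1⟩] (.node 3 [⟨131,(Int.ofNat 0),1⟩] .nil .nil) .nil)) (.node 8 [⟨0,(Int.ofNat 1),1⟩, ⟨1,(Int.ofNat 2),1⟩, ⟨2,(Int.ofNat 3),1⟩, ⟨3,(Int.ofNat 4),1⟩, ⟨4,(Int.ofNat 3),1⟩, ⟨5,(Int.ofNat 2),1⟩, ⟨6,(Int.ofNat 1),1⟩, ⟨131,(Int.negSucc 0),2⟩] (.node 7 [⟨39,(Int.ofNat 1),1⟩] (.node 6 [⟨131,(Int.ofNat 0),1⟩] .nil .nil) .nil) (.node 9 [⟨80,(Int.ofNat 1),1⟩] .nil .nil))) (.node 15 [⟨91,(Int.negSucc 0),1⟩] (.node 13 [⟨84,(Int.ofNat 1),1⟩] (.node 12 [⟨83,(Int.negSucc 0),1⟩] (.node 11 [⟨82,(Int.ofNat 1),1⟩] .nil .nil) .nil)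 (.node 14 [⟨90,(Int.ofNat 1),1⟩] .nil .nil)) (.node 18 [⟨94,(Int.ofNat 1),1⟩] (.node 17 [⟨93,(Int.negSucc 0),1⟩] (.node 16 [⟨92,(Int.ofNat 1),1⟩] .nil .nil) .nil) (.node 19 [⟨95,(Int.negSucc 0),1⟩] .nil .nil)))) (.node 46 [⟨122,(Int.ofNat 1),1⟩] (.node 41 [⟨117,(Int.ofNat 1),1⟩] (.node 23 [⟨99,(Int.ofNat 1),1⟩] (.node 22 [⟨98,(Int.negSucc 0),1⟩] (.node 21 [⟨97,(Int.ofNat 1),1⟩] .nil .nil) .nil) (.node 40 [⟨116,(Int.negSucc 0),1⟩] .nil .nil)) (.node 44 [⟨120,(Int.ofNat 1),1⟩] (.node 43 [⟨119,(Int.negSucc 0),1⟩] (.node 42 [⟨118,(Int.negSucc 0),1⟩] .nil .nil) .nil) (.node 45 [⟨121,(Int.negSucc 0),1⟩] .nil .nil))) (.node 56 [⟨127,(Int.ofNat 1),1⟩] (.node 49 [⟨125,(Int.negSucc 0),1⟩] (.node 48 [⟨124,(Int.ofNat 1),1⟩] (.node 47 [⟨123,(Int.negSucc 0),1⟩] .nil .nil) .nil) (.node 55 [⟨126,(Int.negSucc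 0),1⟩] .nil .nil)) (.node 59 [⟨130,(Int.negSucc 0),1⟩] (.node 58 [⟨129,(Int.ofNat 1),1⟩] (.node 57 [⟨128,(Int.negSucc 0),1⟩] .nil .nil) .nil) (.node 100 [⟨132,(Int.negSucc 0),1⟩] .nil .nil)))))
noncomputable def col125 : Tr Cl := (.node 20 [⟨112,(Int.negSucc 0),1⟩] (.node 10 [⟨102,(Int.ofNat 1),1⟩] (.node 5 [⟨132,(Int.ofNat 0),1⟩] (.node 2 [⟨132,(Int.ofNat 0),1⟩] (.node 1 [⟨132,(Int.ofNat 0),1⟩] (.node 0 [⟨132,(Int.negSucc 0),1⟩] .nil .nil) .nil) (.node 4 [⟨132,(Int.ofNat 0),1⟩] (.node 3 [⟨132,(Int.ofNat 0),1⟩] .nil .nil) .nil)) (.node 8 [⟨100,(Int.ofNat 1),1⟩] (.node 7 [⟨0,(Int.ofNat 2),1⟩, ⟨1,(Int.ofNat 2),1⟩, ⟨2,(Int.ofNat 3),1⟩, ⟨3,(Int.ofNat 4),1⟩, ⟨4,(Int.ofNat 3),1⟩, ⟨5,(Int.ofNat 2),1⟩, ⟨6,(Int.ofNat 1),1⟩, ⟨132,(Int.negSucc 0),2⟩] (.node 6 [⟨132,(Int.ofNat 0),1⟩] .nil .nil) .nil) (.node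 9 [⟨101,(Int.negSucc 0),1⟩] .nil .nil))) (.node 15 [⟨107,(Int.ofNat 1),1⟩] (.node 13 [⟨105,(Int.negSucc 0),1⟩] (.node 12 [⟨104,(Int.ofNat 1),1⟩] (.node 11 [⟨103,(Int.negSucc 0),1⟩] .nil .nil) .nil) (.node 14 [⟨106,(Int.negSucc 0),1⟩] .nil .nil)) (.node 18 [⟨110,(Int.negSucc 0),1⟩] (.node 17 [⟨109,(Int.ofNat 1),1⟩] (.node 16 [⟨108,(Int.negSucc 0),1⟩] .nil .nil) .nil) (.node 19 [⟨111,(Int.ofNat 1),1⟩] .nil .nil)))) (.node 30 [⟨122,(Int.negSucc 0),1⟩] (.node 25 [⟨117,(Int.negSucc 0),1⟩] (.node 23 [⟨115,(Int.negSucc 0),1⟩] (.node 22 [⟨114,(Int.ofNat 1),1⟩] (.node 21 [⟨113,(Int.negSucc 0),1⟩] .nil .nil) .nil) (.node 24 [⟨116,(Int.ofNat 1),1⟩] .nil .nil)) (.node 28 [⟨120,(Int.negSucc 0),1⟩] (.node 27 [⟨119,(Int.ofNat 1),1⟩] (.node 26 [⟨118,(Int.ofNat 1),1⟩] .nil .nil) .nil) (.node 29 [⟨121,(Int.ofNat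 1),1⟩] .nil .nil))) (.node 35 [⟨127,(Int.negSucc 0),1⟩] (.node 33 [⟨125,(Int.ofNat 1),1⟩] (.node 32 [⟨124,(Int.negSucc 0),1⟩] (.node 31 [⟨123,(Int.ofNat 1),1⟩] .nil .nil) .nil) (.node 34 [⟨126,(Int.ofNat 1),1⟩] .nil .nil)) (.node 38 [⟨130,(Int.ofNat 1),1⟩] (.node 37 [⟨129,(Int.negSucc 0),1⟩] (.node 36 [⟨128,(Int.ofNat 1),1⟩] .nil .nil) .nil) (.node 39 [⟨131,(Int.negSucc 0),1⟩] .nil .nil)))))
noncomputable def cols : Tr (Tr Cl) := (.node 63 col63 (.node 31 col31 (.node 15 col15 (.node 7 col7 (.node 3 col3 (.node 1 col1 (.node 0 col0 .nil .nil) (.node 2 col2 .nil .nil)) (.node 5 col5 (.node 4 col4 .nil .nil) (.node 6 col6 .nil .nil))) (.node 11 col11 (.node 9 col9 (.node 8 col8 .nil .nil) (.node 10 col10 .nil .nil)) (.node 13 col13 (.node 12 col12 .nil .nil) (.node 14 col14 .nil .nil)))) (.node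 23 col23 (.node 19 col19 (.node 17 col17 (.node 16 col16 .nil .nil) (.node 18 col18 .nil .nil)) (.node 21 col21 (.node 20 col20 .nil .nil) (.node 22 col22 .nil .nil))) (.node 27 col27 (.node 25 col25 (.node 24 col24 .nil .nil) (.node 26 col26 .nil .nil)) (.node 29 col29 (.node 28 col28 .nil .nil) (.node 30 col30 .nil .nil))))) (.node 47 col47 (.node 39 col39 (.node 35 col35 (.node 33 col33 (.node 32 col32 .nil .nil) (.node 34 col34 .nil .nil)) (.node 37 col37 (.node 36 col36 .nil .nil) (.node 38 col38 .nil .nil))) (.node 43 col43 (.node 41 col41 (.node 40 col40 .nil .nil) (.node 42 col42 .nil .nil)) (.node 45 col45 (.node 44 col44 .nil .nil) (.node 46 col46 .nil .nil)))) (.node 55 col55 (.node 51 col51 (.node 49 col49 (.node 48 col48 .nil .nil) (.node 50 col50 .nil .nil)) (.node 53 col53 (.node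 52 col52 .nil .nil) (.node 54 col54 .nil .nil))) (.node 59 col59 (.node 57 col57 (.node 56 col56 .nil .nil) (.node 58 col58 .nil .nil)) (.node 61 col61 (.node 60 col60 .nil .nil) (.node 62 col62 .nil .nil)))))) (.node 95 col95 (.node 79 col79 (.node 71 col71 (.node 67 col67 (.node 65 col65 (.node 64 col64 .nil .nil) (.node 66 col66 .nil .nil)) (.node 69 col69 (.node 68 col68 .nil .nil) (.node 70 col70 .nil .nil))) (.node 75 col75 (.node 73 col73 (.node 72 col72 .nil .nil) (.node 74 col74 .nil .nil)) (.node 77 col77 (.node 76 col76 .nil .nil) (.node 78 col78 .nil .nil)))) (.node 87 col87 (.node 83 col83 (.node 81 col81 (.node 80 col80 .nil .nil) (.node 82 col82 .nil .nil)) (.node 85 col85 (.node 84 col84 .nil .nil) (.node 86 col86 .nil .nil))) (.node 91 col91 (.node 89 col89 (.node 88 col88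 .nil .nil) (.node 90 col90 .nil .nil)) (.node 93 col93 (.node 92 col92 .nil .nil) (.node 94 col94 .nil .nil))))) (.node 111 col111 (.node 103 col103 (.node 99 col99 (.node 97 col97 (.node 96 col96 .nil .nil) (.node 98 col98 .nil .nil)) (.node 101 col101 (.node 100 col100 .nil .nil) (.node 102 col102 .nil .nil))) (.node 107 col107 (.node 105 col105 (.node 104 col104 .nil .nil) (.node 106 col106 .nil .nil)) (.node 109 col109 (.node 108 col108 .nil .nil) (.node 110 col110 .nil .nil)))) (.node 119 col119 (.node 115 col115 (.node 113 col113 (.node 112 col112 .nil .nil) (.node 114 col114 .nil .nil)) (.node 117 col117 (.node 116 col116 .nil .nil) (.node 118 col118 .nil .nil))) (.node 123 col123 (.node 121 col121 (.node 120 col120 .nil .nil) (.node 122 col122 .nil .nil)) (.node 125 col125 (.node 124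 col124 .nil .nil) .nil))))))
noncomputable def ch0 : Tr (List (ℕ × ℤ)) := (.node 109 [(17,(Int.ofNat 1))] (.node 101 [(9,(Int.negSucc 0))] (.node 97 [(5,(Int.ofNat 1))] (.node 95 [(3,(Int.ofNat 1))] (.node 94 [(2,(Int.negSucc 0))] (.node 93 [(1,(Int.ofNat 1))] .nil .nil) .nil) (.node 96 [(4,(Int.negSucc 0))] .nil .nil)) (.node 99 [(7,(Int.negSucc 0))] (.node 98 [(6,(Int.negSucc 0))] .nil .nil) (.node 100 [(8,(Int.ofNat 1))] .nil .nil))) (.node 105 [(13,(Int.negSucc 0))] (.node 103 [(11,(Int.negSucc 0))] (.node 102 [(10,(Int.ofNat 1))] .nil .nil) (.node 104 [(12,(Int.ofNat 1))] .nil .nil)) (.node 107 [(15,(Int.ofNat 1))] (.node 106 [(14,(Int.negSucc 0))] .nil .nil) (.node 108 [(16,(Int.negSucc 0))] .nil .nil)))) (.node 117 [(25,(Int.negSucc 0))] (.node 113 [(21,(Int.negSucc 0))] (.node 111 [(19,(Int.ofNat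 1))] (.node 110 [(18,(Int.negSucc 0))] .nil .nil) (.node 112 [(20,(Int.ofNat 1))] .nil .nil)) (.node 115 [(23,(Int.negSucc 0))] (.node 114 [(22,(Int.ofNat 1))] .nil .nil) (.node 116 [(24,(Int.ofNat 1))] .nil .nil))) (.node 121 [(29,(Int.ofNat 1))] (.node 119 [(27,(Int.ofNat 1))] (.node 118 [(26,(Int.ofNat 1))] .nil .nil) (.node 120 [(28,(Int.negSucc 0))] .nil .nil)) (.node 123 [(31,(Int.ofNat 1))] (.node 122 [(30,(Int.negSucc 0))] .nil .nil) (.node 124 [(32,(Int.negSucc 0))] .nil .nil)))))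
noncomputable def ch1 : Tr (List (ℕ × ℤ)) := (.node 109 [(33,(Int.negSucc 0))] (.node 85 [(9,(Int.ofNat 1))] (.node 76 [(5,(Int.negSucc 0))] (.node 74 [(3,(Int.negSucc 0))] (.node 73 [(2,(Int.ofNat 1))] (.node 32 [(0,(Int.ofNat 1))] .nil .nil) .nil) (.node 75 [(4,(Int.ofNat 1))] .nil .nil)) (.node 83 [(7,(Int.ofNat 1))] (.node 77 [(6,(Int.ofNat 1))] .nil .nil) (.node 84 [(8,(Int.negSucc 0))] .nil .nil))) (.node 89 [(13,(Int.ofNat 1))] (.node 87 [(11,(Int.ofNat 1))] (.node 86 [(10,(Int.negSucc 0))] .nil .nil) (.node 88 [(12,(Int.negSucc 0))] .nil .nil)) (.node 91 [(15,(Int.negSucc 0))] (.node 90 [(14,(Int.ofNat 1))] .nil .nil) (.node 92 [(16,(Int.ofNat 1))] .nil .nil)))) (.node 117 [(41,(Int.ofNat 1))] (.node 113 [(37,(Int.ofNat 1))] (.node 111 [(35,(Int.negSucc 0))] (.node 110 [(34,(Int.ofNat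 1))] .nil .nil) (.node 112 [(36,(Int.negSucc 0))] .nil .nil)) (.node 115 [(39,(Int.ofNat 1))] (.node 114 [(38,(Int.negSucc 0))] .nil .nil) (.node 116 [(40,(Int.negSucc 0))] .nil .nil))) (.node 121 [(50,(Int.negSucc 0))] (.node 119 [(48,(Int.negSucc 0))] (.node 118 [(42,(Int.negSucc 0))] .nil .nil) (.node 120 [(49,(Int.ofNat 1))] .nil .nil)) (.node 123 [(52,(Int.negSucc 0))] (.node 122 [(51,(Int.ofNat 1))] .nil .nil) (.node 125 [(93,(Int.negSucc 0))] .nil .nil)))))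
noncomputable def ch2 : Tr (List (ℕ × ℤ)) := (.node 103 [(33,(Int.negSucc 0))] (.node 81 [(9,(Int.ofNat 1))] (.node 71 [(5,(Int.ofNat 1))] (.node 69 [(3,(Int.ofNat 1))] (.node 52 [(1,(Int.ofNat 1))] (.node 31 [(0,(Int.negSucc 0))] .nil .nil) .nil) (.node 70 [(4,(Int.negSucc 0))] .nil .nil)) (.node 79 [(7,(Int.ofNat 1))] (.node 72 [(6,(Int.negSucc 0))] .nil .nil) (.node 80 [(8,(Int.negSucc 0))] .nil .nil))) (.node 89 [(19,(Int.ofNat 1))] (.node 87 [(17,(Int.ofNat 1))] (.node 82 [(10,(Int.negSucc 0))] .nil .nil) (.node 88 [(18,(Int.negSucc 0))] .nil .nil)) (.node 91 [(21,(Int.negSucc 0))] (.node 90 [(20,(Int.ofNat 1))] .nil .nil) (.node 92 [(22,(Int.ofNat 1))] .nil .nil)))) (.node 117 [(45,(Int.ofNat 1))] (.node 107 [(37,(Int.ofNat 1))] (.node 105 [(35,(Int.negSucc 0))] (.node 104 [(34,(Int.ofNat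 1))] .nil .nil) (.node 106 [(36,(Int.negSucc 0))] .nil .nil)) (.node 115 [(43,(Int.ofNat 1))] (.node 108 [(38,(Int.negSucc 0))] .nil .nil) (.node 116 [(44,(Int.negSucc 0))] .nil .nil))) (.node 121 [(55,(Int.ofNat 1))] (.node 119 [(53,(Int.ofNat 1))] (.node 118 [(46,(Int.negSucc 0))] .nil .nil) (.node 120 [(54,(Int.negSucc 0))] .nil .nil)) (.node 124 [(73,(Int.negSucc 0))] (.node 122 [(56,(Int.negSucc 0))] .nil .nil) (.node 125 [(94,(Int.ofNat 1))] .nil .nil)))))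
noncomputable def ch3 : Tr (List (ℕ × ℤ)) := (.node 100 [(33,(Int.negSucc 0))] (.node 81 [(12,(Int.ofNat 1))] (.node 67 [(5,(Int.negSucc 0))] (.node 56 [(2,(Int.ofNat 1))] (.node 51 [(1,(Int.negSucc 0))] (.node 30 [(0,(Int.ofNat 1))] .nil .nil) .nil) (.node 66 [(4,(Int.ofNat 1))] .nil .nil)) (.node 78 [(7,(Int.ofNat 1))] (.node 68 [(6,(Int.ofNat 1))] .nil .nil) (.node 80 [(11,(Int.negSucc 0))] .nil .nil))) (.node 86 [(19,(Int.ofNat 1))] (.node 84 [(17,(Int.ofNat 1))] (.node 82 [(13,(Int.negSucc 0))] .nil .nil) (.node 85 [(18,(Int.negSucc 0))] .nil .nil)) (.node 91 [(24,(Int.negSucc 0))] (.node 90 [(23,(Int.ofNat 1))] .nil .nil) (.node 92 [(25,(Int.ofNat 1))] .nil .nil)))) (.node 114 [(45,(Int.ofNat 1))] (.node 107 [(40,(Int.ofNat 1))] (.node 102 [(35,(Int.negSucc 0))] (.node 101 [(34,(Int.ofNat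 1))] .nil .nil) (.node 106 [(39,(Int.negSucc 0))] .nil .nil)) (.node 112 [(43,(Int.ofNat 1))] (.node 108 [(41,(Int.negSucc 0))] .nil .nil) (.node 113 [(44,(Int.negSucc 0))] .nil .nil))) (.node 121 [(59,(Int.negSucc 0))] (.node 119 [(57,(Int.negSucc 0))] (.node 118 [(47,(Int.negSucc 0))] .nil .nil) (.node 120 [(58,(Int.ofNat 1))] .nil .nil)) (.node 124 [(74,(Int.ofNat 1))] (.node 123 [(69,(Int.negSucc 0))] .nil .nil) (.node 125 [(95,(Int.negSucc 0))] .nil .nil)))))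
noncomputable def ch4 : Tr (List (ℕ × ℤ)) := (.node 99 [(33,(Int.negSucc 0))] (.node 81 [(14,(Int.ofNat 1))] (.node 64 [(5,(Int.ofNat 1))] (.node 55 [(2,(Int.negSucc 0))] (.node 50 [(1,(Int.ofNat 1))] (.node 29 [(0,(Int.negSucc 0))] .nil .nil) .nil) (.node 59 [(3,(Int.ofNat 1))] .nil .nil)) (.node 78 [(8,(Int.ofNat 1))] (.node 65 [(6,(Int.negSucc 0))] .nil .nil) (.node 79 [(11,(Int.negSucc 0))] .nil .nil))) (.node 86 [(21,(Int.ofNat 1))] (.node 83 [(17,(Int.ofNat 1))] (.node 82 [(15,(Int.negSucc 0))] .nil .nil) (.node 85 [(20,(Int.negSucc 0))] .nil .nil)) (.node 89 [(24,(Int.negSucc 0))] (.node 88 [(23,(Int.ofNat 1))] .nil .nil) (.node 92 [(26,(Int.ofNat 1))] .nil .nil)))) (.node 114 [(46,(Int.ofNat 1))] (.node 105 [(40,(Int.ofNat 1))] (.node 102 [(37,(Int.negSucc 0))] (.node 101 [(36,(Int.ofNat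 1))] .nil .nil) (.node 104 [(39,(Int.negSucc 0))] .nil .nil)) (.node 110 [(43,(Int.ofNat 1))] (.node 108 [(42,(Int.negSucc 0))] .nil .nil) (.node 111 [(44,(Int.negSucc 0))] .nil .nil))) (.node 122 [(66,(Int.negSucc 0))] (.node 119 [(60,(Int.ofNat 1))] (.node 117 [(47,(Int.negSucc 0))] .nil .nil) (.node 120 [(61,(Int.negSucc 0))] .nil .nil)) (.node 124 [(75,(Int.negSucc 0))] (.node 123 [(70,(Int.ofNat 1))] .nil .nil) (.node 125 [(96,(Int.ofNat 1))] .nil .nil)))))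
noncomputable def ch5 : Tr (List (ℕ × ℤ)) := (.node 99 [(34,(Int.negSucc 0))] (.node 80 [(14,(Int.ofNat 1))] (.node 61 [(4,(Int.ofNat 1))] (.node 54 [(2,(Int.ofNat 1))] (.node 49 [(1,(Int.negSucc 0))] (.node 28 [(0,(Int.ofNat 1))] .nil .nil) .nil) (.node 58 [(3,(Int.negSucc 0))] .nil .nil)) (.node 78 [(9,(Int.ofNat 1))] (.node 63 [(6,(Int.ofNat 1))] .nil .nil) (.node 79 [(12,(Int.negSucc 0))] .nil .nil))) (.node 86 [(22,(Int.ofNat 1))] (.node 83 [(18,(Int.ofNat 1))] (.node 82 [(16,(Int.negSucc 0))] .nil .nil) (.node 84 [(20,(Int.negSucc 0))] .nil .nil)) (.node 89 [(25,(Int.negSucc 0))] (.node 87 [(23,(Int.ofNat 1))] .nil .nil) (.node 91 [(26,(Int.ofNat 1))] .nil .nil)))) (.node 113 [(46,(Int.ofNat 1))] (.node 105 [(41,(Int.ofNat 1))] (.node 102 [(38,(Int.negSucc 0))] (.node 100 [(36,(Int.ofNat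 1))] .nil .nil) (.node 103 [(39,(Int.negSucc 0))] .nil .nil)) (.node 109 [(43,(Int.ofNat 1))] (.node 107 [(42,(Int.negSucc 0))] .nil .nil) (.node 111 [(45,(Int.negSucc 0))] .nil .nil))) (.node 122 [(67,(Int.ofNat 1))] (.node 119 [(62,(Int.negSucc 0))] (.node 116 [(47,(Int.negSucc 0))] .nil .nil) (.node 121 [(64,(Int.negSucc 0))] .nil .nil)) (.node 124 [(76,(Int.ofNat 1))] (.node 123 [(71,(Int.negSucc 0))] .nil .nil) (.node 125 [(97,(Int.negSucc 0))] .nil .nil)))))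
noncomputable def ch6 : Tr (List (ℕ × ℤ)) := (.node 99 [(35,(Int.negSucc 0))] (.node 80 [(15,(Int.ofNat 1))] (.node 60 [(4,(Int.negSucc 0))] (.node 53 [(2,(Int.negSucc 0))] (.node 48 [(1,(Int.ofNat 1))] (.node 27 [(0,(Int.negSucc 0))] .nil .nil) .nil) (.node 57 [(3,(Int.ofNat 1))] .nil .nil)) (.node 78 [(10,(Int.ofNat 1))] (.node 62 [(5,(Int.ofNat 1))] .nil .nil) (.node 79 [(13,(Int.negSucc 0))] .nil .nil))) (.node 85 [(22,(Int.ofNat 1))] (.node 83 [(19,(Int.ofNat 1))] (.node 81 [(16,(Int.negSucc 0))] .nil .nil) (.node 84 [(21,(Int.negSucc 0))] .nil .nil)) (.node 88 [(25,(Int.negSucc 0))] (.node 87 [(24,(Int.ofNat 1))] .nil .nil) (.node 90 [(26,(Int.ofNat 1))] .nil .nil)))) (.node 112 [(46,(Int.ofNat 1))] (.node 104 [(41,(Int.ofNat 1))] (.node 101 [(38,(Int.negSucc 0))] (.node 100 [(37,(Int.ofNat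 1))] .nil .nil) (.node 103 [(40,(Int.negSucc 0))] .nil .nil)) (.node 109 [(44,(Int.ofNat 1))] (.node 106 [(42,(Int.negSucc 0))] .nil .nil) (.node 110 [(45,(Int.negSucc 0))] .nil .nil))) (.node 122 [(68,(Int.negSucc 0))] (.node 120 [(63,(Int.negSucc 0))] (.node 115 [(47,(Int.negSucc 0))] .nil .nil) (.node 121 [(65,(Int.ofNat 1))] .nil .nil)) (.node 124 [(77,(Int.negSucc 0))] (.node 123 [(72,(Int.ofNat 1))] .nil .nil) (.node 125 [(98,(Int.ofNat 1))] .nil .nil)))))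
noncomputable def ch7 : Tr (List (ℕ × ℤ)) := (.node 96 [(33,(Int.negSucc 0))] (.node 71 [(12,(Int.negSucc 0))] (.node 66 [(8,(Int.ofNat 1))] (.node 46 [(2,(Int.ofNat 1))] (.node 42 [(1,(Int.ofNat 1))] (.node 26 [(0,(Int.negSucc 0))] .nil .nil) .nil) (.node 47 [(3,(Int.ofNat 1))] .nil .nil)) (.node 68 [(10,(Int.ofNat 1))] (.node 67 [(9,(Int.negSucc 0))] .nil .nil) (.node 70 [(11,(Int.ofNat 1))] .nil .nil))) (.node 77 [(19,(Int.ofNat 1))] (.node 75 [(17,(Int.ofNat 1))] (.node 72 [(13,(Int.ofNat 1))] .nil .nil) (.node 76 [(18,(Int.negSucc 0))] .nil .nil)) (.node 91 [(28,(Int.negSucc 0))] (.node 90 [(27,(Int.ofNat 1))] .nil .nil) (.node 92 [(29,(Int.ofNat 1))] .nil .nil)))) (.node 114 [(55,(Int.negSucc 0))] (.node 107 [(49,(Int.ofNat 1))] (.node 98 [(35,(Int.negSucc 0))] (.node 97 [(34,(Int.ofNat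 1))] .nil .nil) (.node 106 [(48,(Int.negSucc 0))] .nil .nil)) (.node 112 [(53,(Int.negSucc 0))] (.node 108 [(50,(Int.negSucc 0))] .nil .nil) (.node 113 [(54,(Int.ofNat 1))] .nil .nil))) (.node 122 [(78,(Int.negSucc 0))] (.node 116 [(58,(Int.ofNat 1))] (.node 115 [(57,(Int.negSucc 0))] .nil .nil) (.node 117 [(59,(Int.negSucc 0))] .nil .nil)) (.node 124 [(83,(Int.negSucc 0))] (.node 123 [(79,(Int.negSucc 0))] .nil .nil) (.node 125 [(99,(Int.ofNat 1))] .nil .nil)))))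
noncomputable def ch8 : Tr (List (ℕ × ℤ)) := (.node 95 [(33,(Int.negSucc 0))] (.node 71 [(14,(Int.negSucc 0))] (.node 59 [(7,(Int.ofNat 1))] (.node 45 [(2,(Int.negSucc 0))] (.node 41 [(1,(Int.negSucc 0))] (.node 25 [(0,(Int.ofNat 1))] .nil .nil) .nil) (.node 47 [(4,(Int.ofNat 1))] .nil .nil)) (.node 65 [(10,(Int.negSucc 0))] (.node 64 [(9,(Int.ofNat 1))] .nil .nil) (.node 69 [(11,(Int.ofNat 1))] .nil .nil))) (.node 77 [(21,(Int.ofNat 1))] (.node 74 [(17,(Int.ofNat 1))] (.node 72 [(15,(Int.ofNat 1))] .nil .nil) (.node 76 [(20,(Int.negSucc 0))] .nil .nil)) (.node 89 [(28,(Int.negSucc 0))] (.node 88 [(27,(Int.ofNat 1))] .nil .nil) (.node 92 [(30,(Int.ofNat 1))] .nil .nil)))) (.node 114 [(56,(Int.negSucc 0))] (.node 105 [(49,(Int.ofNat 1))] (.node 98 [(37,(Int.negSucc 0))] (.node 97 [(36,(Int.ofNat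 1))] .nil .nil) (.node 104 [(48,(Int.negSucc 0))] .nil .nil)) (.node 110 [(53,(Int.negSucc 0))] (.node 108 [(51,(Int.negSucc 0))] .nil .nil) (.node 111 [(54,(Int.ofNat 1))] .nil .nil))) (.node 121 [(78,(Int.negSucc 0))] (.node 116 [(61,(Int.negSucc 0))] (.node 115 [(60,(Int.ofNat 1))] .nil .nil) (.node 118 [(66,(Int.negSucc 0))] .nil .nil)) (.node 124 [(84,(Int.ofNat 1))] (.node 123 [(80,(Int.ofNat 1))] .nil .nil) (.node 125 [(100,(Int.negSucc 0))] .nil .nil)))))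
noncomputable def ch9 : Tr (List (ℕ × ℤ)) := (.node 95 [(34,(Int.negSucc 0))] (.node 70 [(14,(Int.negSucc 0))] (.node 58 [(7,(Int.negSucc 0))] (.node 44 [(2,(Int.ofNat 1))] (.node 40 [(1,(Int.ofNat 1))] (.node 24 [(0,(Int.negSucc 0))] .nil .nil) .nil) (.node 47 [(5,(Int.ofNat 1))] .nil .nil)) (.node 63 [(10,(Int.ofNat 1))] (.node 61 [(8,(Int.ofNat 1))] .nil .nil) (.node 69 [(12,(Int.ofNat 1))] .nil .nil))) (.node 77 [(22,(Int.ofNat 1))] (.node 74 [(18,(Int.ofNat 1))] (.node 72 [(16,(Int.ofNat 1))] .nil .nil) (.node 75 [(20,(Int.negSucc 0))] .nil .nil)) (.node 89 [(29,(Int.negSucc 0))] (.node 87 [(27,(Int.ofNat 1))] .nil .nil) (.node 91 [(30,(Int.ofNat 1))] .nil .nil)))) (.node 113 [(56,(Int.negSucc 0))] (.node 105 [(50,(Int.ofNat 1))] (.node 98 [(38,(Int.negSucc 0))] (.node 96 [(36,(Int.ofNat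 1))] .nil .nil) (.node 103 [(48,(Int.negSucc 0))] .nil .nil)) (.node 109 [(53,(Int.negSucc 0))] (.node 107 [(51,(Int.negSucc 0))] .nil .nil) (.node 111 [(55,(Int.ofNat 1))] .nil .nil))) (.node 120 [(78,(Int.negSucc 0))] (.node 117 [(64,(Int.negSucc 0))] (.node 115 [(62,(Int.negSucc 0))] .nil .nil) (.node 118 [(67,(Int.ofNat 1))] .nil .nil)) (.node 124 [(85,(Int.negSucc 0))] (.node 123 [(81,(Int.negSucc 0))] .nil .nil) (.node 125 [(101,(Int.ofNat 1))] .nil .nil)))))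
noncomputable def ch10 : Tr (List (ℕ × ℤ)) := (.node 95 [(35,(Int.negSucc 0))] (.node 70 [(15,(Int.negSucc 0))] (.node 57 [(7,(Int.ofNat 1))] (.node 43 [(2,(Int.negSucc 0))] (.node 39 [(1,(Int.negSucc 0))] (.node 23 [(0,(Int.ofNat 1))] .nil .nil) .nil) (.node 47 [(6,(Int.ofNat 1))] .nil .nil)) (.node 62 [(9,(Int.ofNat 1))] (.node 60 [(8,(Int.negSucc 0))] .nil .nil) (.node 69 [(13,(Int.ofNat 1))] .nil .nil))) (.node 76 [(22,(Int.ofNat 1))] (.node 74 [(19,(Int.ofNat 1))] (.node 71 [(16,(Int.ofNat 1))] .nil .nil) (.node 75 [(21,(Int.negSucc 0))] .nil .nil)) (.node 88 [(29,(Int.negSucc 0))] (.node 87 [(28,(Int.ofNat 1))] .nil .nil) (.node 90 [(30,(Int.ofNat 1))] .nil .nil)))) (.node 112 [(56,(Int.negSucc 0))] (.node 104 [(50,(Int.ofNat 1))] (.node 97 [(38,(Int.negSucc 0))] (.node 96 [(37,(Int.ofNat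 1))] .nil .nil) (.node 103 [(49,(Int.negSucc 0))] .nil .nil)) (.node 109 [(54,(Int.negSucc 0))] (.node 106 [(51,(Int.negSucc 0))] .nil .nil) (.node 110 [(55,(Int.ofNat 1))] .nil .nil))) (.node 119 [(78,(Int.negSucc 0))] (.node 117 [(65,(Int.ofNat 1))] (.node 116 [(63,(Int.negSucc 0))] .nil .nil) (.node 118 [(68,(Int.negSucc 0))] .nil .nil)) (.node 124 [(86,(Int.ofNat 1))] (.node 123 [(82,(Int.ofNat 1))] .nil .nil) (.node 125 [(102,(Int.negSucc 0))] .nil .nil)))))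
noncomputable def ch11 : Tr (List (ℕ × ℤ)) := (.node 94 [(33,(Int.negSucc 0))] (.node 67 [(14,(Int.ofNat 1))] (.node 55 [(7,(Int.ofNat 1))] (.node 45 [(3,(Int.negSucc 0))] (.node 38 [(1,(Int.ofNat 1))] (.node 22 [(0,(Int.negSucc 0))] .nil .nil) .nil) (.node 46 [(4,(Int.negSucc 0))] .nil .nil)) (.node 64 [(12,(Int.ofNat 1))] (.node 56 [(8,(Int.ofNat 1))] .nil .nil) (.node 65 [(13,(Int.negSucc 0))] .nil .nil))) (.node 77 [(24,(Int.ofNat 1))] (.node 73 [(17,(Int.ofNat 1))] (.node 68 [(15,(Int.negSucc 0))] .nil .nil) (.node 76 [(23,(Int.negSucc 0))] .nil .nil)) (.node 86 [(28,(Int.negSucc 0))] (.node 85 [(27,(Int.ofNat 1))] .nil .nil) (.node 92 [(31,(Int.ofNat 1))] .nil .nil)))) (.node 112 [(60,(Int.ofNat 1))] (.node 102 [(49,(Int.ofNat 1))] (.node 98 [(40,(Int.negSucc 0))] (.node 97 [(39,(Int.ofNat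 1))] .nil .nil) (.node 101 [(48,(Int.negSucc 0))] .nil .nil)) (.node 110 [(57,(Int.ofNat 1))] (.node 108 [(52,(Int.negSucc 0))] .nil .nil) (.node 111 [(58,(Int.negSucc 0))] .nil .nil))) (.node 121 [(79,(Int.ofNat 1))] (.node 117 [(69,(Int.negSucc 0))] (.node 113 [(61,(Int.negSucc 0))] .nil .nil) (.node 118 [(70,(Int.negSucc 0))] .nil .nil)) (.node 124 [(87,(Int.negSucc 0))] (.node 122 [(80,(Int.ofNat 1))] .nil .nil) (.node 125 [(103,(Int.ofNat 1))] .nil .nil)))))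
noncomputable def ch12 : Tr (List (ℕ × ℤ)) := (.node 94 [(34,(Int.negSucc 0))] (.node 66 [(14,(Int.ofNat 1))] (.node 54 [(7,(Int.negSucc 0))] (.node 44 [(3,(Int.ofNat 1))] (.node 37 [(1,(Int.negSucc 0))] (.node 21 [(0,(Int.ofNat 1))] .nil .nil) .nil) (.node 46 [(5,(Int.negSucc 0))] .nil .nil)) (.node 61 [(11,(Int.ofNat 1))] (.node 56 [(9,(Int.ofNat 1))] .nil .nil) (.node 63 [(13,(Int.ofNat 1))] .nil .nil))) (.node 77 [(25,(Int.ofNat 1))] (.node 73 [(18,(Int.ofNat 1))] (.node 68 [(16,(Int.negSucc 0))] .nil .nil) (.node 75 [(23,(Int.negSucc 0))] .nil .nil)) (.node 86 [(29,(Int.negSucc 0))] (.node 84 [(27,(Int.ofNat 1))] .nil .nil) (.node 91 [(31,(Int.ofNat 1))] .nil .nil)))) (.node 112 [(62,(Int.negSucc 0))] (.node 102 [(50,(Int.ofNat 1))] (.node 98 [(41,(Int.negSucc 0))] (.node 96 [(39,(Int.ofNat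 1))] .nil .nil) (.node 100 [(48,(Int.negSucc 0))] .nil .nil)) (.node 109 [(57,(Int.ofNat 1))] (.node 107 [(52,(Int.negSucc 0))] .nil .nil) (.node 111 [(59,(Int.negSucc 0))] .nil .nil))) (.node 120 [(79,(Int.ofNat 1))] (.node 116 [(69,(Int.negSucc 0))] (.node 114 [(64,(Int.negSucc 0))] .nil .nil) (.node 118 [(71,(Int.ofNat 1))] .nil .nil)) (.node 124 [(88,(Int.ofNat 1))] (.node 122 [(81,(Int.negSucc 0))] .nil .nil) (.node 125 [(104,(Int.negSucc 0))] .nil .nil)))))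
noncomputable def ch13 : Tr (List (ℕ × ℤ)) := (.node 94 [(35,(Int.negSucc 0))] (.node 66 [(15,(Int.ofNat 1))] (.node 53 [(7,(Int.ofNat 1))] (.node 43 [(3,(Int.negSucc 0))] (.node 36 [(1,(Int.ofNat 1))] (.node 20 [(0,(Int.negSucc 0))] .nil .nil) .nil) (.node 46 [(6,(Int.negSucc 0))] .nil .nil)) (.node 60 [(11,(Int.negSucc 0))] (.node 56 [(10,(Int.ofNat 1))] .nil .nil) (.node 62 [(12,(Int.ofNat 1))] .nil .nil))) (.node 76 [(25,(Int.ofNat 1))] (.node 73 [(19,(Int.ofNat 1))] (.node 67 [(16,(Int.negSucc 0))] .nil .nil) (.node 75 [(24,(Int.negSucc 0))] .nil .nil)) (.node 85 [(29,(Int.negSucc 0))] (.node 84 [(28,(Int.ofNat 1))] .nil .nil) (.node 90 [(31,(Int.ofNat 1))] .nil .nil)))) (.node 113 [(63,(Int.negSucc 0))] (.node 101 [(50,(Int.ofNat 1))] (.node 97 [(41,(Int.negSucc 0))] (.node 96 [(40,(Int.ofNat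 1))] .nil .nil) (.node 100 [(49,(Int.negSucc 0))] .nil .nil)) (.node 109 [(58,(Int.ofNat 1))] (.node 106 [(52,(Int.negSucc 0))] .nil .nil) (.node 110 [(59,(Int.negSucc 0))] .nil .nil))) (.node 119 [(79,(Int.ofNat 1))] (.node 115 [(69,(Int.negSucc 0))] (.node 114 [(65,(Int.ofNat 1))] .nil .nil) (.node 118 [(72,(Int.negSucc 0))] .nil .nil)) (.node 124 [(89,(Int.negSucc 0))] (.node 122 [(82,(Int.ofNat 1))] .nil .nil) (.node 125 [(105,(Int.ofNat 1))] .nil .nil)))))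
noncomputable def ch14 : Tr (List (ℕ × ℤ)) := (.node 94 [(36,(Int.negSucc 0))] (.node 63 [(15,(Int.ofNat 1))] (.node 54 [(8,(Int.negSucc 0))] (.node 44 [(4,(Int.ofNat 1))] (.node 35 [(1,(Int.ofNat 1))] (.node 19 [(0,(Int.negSucc 0))] .nil .nil) .nil) (.node 45 [(5,(Int.ofNat 1))] .nil .nil)) (.node 58 [(11,(Int.ofNat 1))] (.node 55 [(9,(Int.negSucc 0))] .nil .nil) (.node 59 [(12,(Int.ofNat 1))] .nil .nil))) (.node 77 [(26,(Int.ofNat 1))] (.node 73 [(20,(Int.ofNat 1))] (.node 65 [(16,(Int.ofNat 1))] .nil .nil) (.node 74 [(23,(Int.negSucc 0))] .nil .nil)) (.node 86 [(30,(Int.negSucc 0))] (.node 83 [(27,(Int.ofNat 1))] .nil .nil) (.node 89 [(31,(Int.ofNat 1))] .nil .nil)))) (.node 113 [(66,(Int.negSucc 0))] (.node 102 [(51,(Int.ofNat 1))] (.node 98 [(42,(Int.negSucc 0))] (.node 95 [(39,(Int.ofNat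 1))] .nil .nil) (.node 99 [(48,(Int.negSucc 0))] .nil .nil)) (.node 109 [(60,(Int.negSucc 0))] (.node 105 [(52,(Int.negSucc 0))] .nil .nil) (.node 110 [(62,(Int.negSucc 0))] .nil .nil))) (.node 120 [(80,(Int.negSucc 0))] (.node 116 [(70,(Int.ofNat 1))] (.node 114 [(67,(Int.negSucc 0))] .nil .nil) (.node 117 [(71,(Int.ofNat 1))] .nil .nil)) (.node 124 [(90,(Int.negSucc 0))] (.node 121 [(81,(Int.negSucc 0))] .nil .nil) (.node 125 [(106,(Int.ofNat 1))] .nil .nil)))))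
noncomputable def ch15 : Tr (List (ℕ × ℤ)) := (.node 94 [(37,(Int.negSucc 0))] (.node 62 [(14,(Int.ofNat 1))] (.node 53 [(8,(Int.ofNat 1))] (.node 43 [(4,(Int.negSucc 0))] (.node 34 [(1,(Int.negSucc 0))] (.node 18 [(0,(Int.ofNat 1))] .nil .nil) .nil) (.node 45 [(6,(Int.ofNat 1))] .nil .nil)) (.node 57 [(11,(Int.negSucc 0))] (.node 55 [(10,(Int.negSucc 0))] .nil .nil) (.node 59 [(13,(Int.ofNat 1))] .nil .nil))) (.node 76 [(26,(Int.ofNat 1))] (.node 73 [(21,(Int.ofNat 1))] (.node 64 [(16,(Int.ofNat 1))] .nil .nil) (.node 74 [(24,(Int.negSucc 0))] .nil .nil)) (.node 85 [(30,(Int.negSucc 0))] (.node 83 [(28,(Int.ofNat 1))] .nil .nil) (.node 88 [(31,(Int.ofNat 1))] .nil .nil)))) (.node 112 [(66,(Int.negSucc 0))] (.node 101 [(51,(Int.ofNat 1))] (.node 97 [(42,(Int.negSucc 0))] (.node 95 [(40,(Int.ofNat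 1))] .nil .nil) (.node 99 [(49,(Int.negSucc 0))] .nil .nil)) (.node 109 [(61,(Int.negSucc 0))] (.node 104 [(52,(Int.negSucc 0))] .nil .nil) (.node 111 [(63,(Int.negSucc 0))] .nil .nil))) (.node 119 [(80,(Int.negSucc 0))] (.node 115 [(70,(Int.ofNat 1))] (.node 114 [(68,(Int.ofNat 1))] .nil .nil) (.node 117 [(72,(Int.negSucc 0))] .nil .nil)) (.node 124 [(91,(Int.ofNat 1))] (.node 121 [(82,(Int.ofNat 1))] .nil .nil) (.node 125 [(107,(Int.negSucc 0))] .nil .nil)))))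
noncomputable def ch16 : Tr (List (ℕ × ℤ)) := (.node 94 [(38,(Int.negSucc 0))] (.node 60 [(14,(Int.ofNat 1))] (.node 53 [(9,(Int.ofNat 1))] (.node 43 [(5,(Int.negSucc 0))] (.node 33 [(1,(Int.ofNat 1))] (.node 17 [(0,(Int.negSucc 0))] .nil .nil) .nil) (.node 44 [(6,(Int.negSucc 0))] .nil .nil)) (.node 57 [(12,(Int.negSucc 0))] (.node 54 [(10,(Int.ofNat 1))] .nil .nil) (.node 58 [(13,(Int.negSucc 0))] .nil .nil))) (.node 75 [(26,(Int.ofNat 1))] (.node 73 [(22,(Int.ofNat 1))] (.node 61 [(15,(Int.ofNat 1))] .nil .nil) (.node 74 [(25,(Int.negSucc 0))] .nil .nil)) (.node 84 [(30,(Int.negSucc 0))] (.node 83 [(29,(Int.ofNat 1))] .nil .nil) (.node 87 [(31,(Int.ofNat 1))] .nil .nil)))) (.node 112 [(67,(Int.ofNat 1))] (.node 100 [(51,(Int.ofNat 1))] (.node 96 [(42,(Int.negSucc 0))] (.node 95 [(41,(Int.ofNat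 1))] .nil .nil) (.node 99 [(50,(Int.negSucc 0))] .nil .nil)) (.node 110 [(64,(Int.negSucc 0))] (.node 103 [(52,(Int.negSucc 0))] .nil .nil) (.node 111 [(65,(Int.negSucc 0))] .nil .nil))) (.node 119 [(81,(Int.ofNat 1))] (.node 115 [(71,(Int.negSucc 0))] (.node 113 [(68,(Int.ofNat 1))] .nil .nil) (.node 116 [(72,(Int.negSucc 0))] .nil .nil)) (.node 124 [(92,(Int.negSucc 0))] (.node 120 [(82,(Int.ofNat 1))] .nil .nil) (.node 125 [(108,(Int.ofNat 1))] .nil .nil)))))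
noncomputable def ch17 : Tr (List (ℕ × ℤ)) := (.node 93 [(33,(Int.negSucc 0))] (.node 65 [(19,(Int.negSucc 0))] (.node 50 [(7,(Int.ofNat 1))] (.node 41 [(3,(Int.ofNat 1))] (.node 38 [(2,(Int.ofNat 1))] (.node 16 [(0,(Int.ofNat 1))] .nil .nil) .nil) (.node 42 [(4,(Int.ofNat 1))] .nil .nil)) (.node 52 [(11,(Int.ofNat 1))] (.node 51 [(8,(Int.ofNat 1))] .nil .nil) (.node 64 [(18,(Int.ofNat 1))] .nil .nil))) (.node 72 [(24,(Int.negSucc 0))] (.node 68 [(21,(Int.negSucc 0))] (.node 67 [(20,(Int.ofNat 1))] .nil .nil) (.node 71 [(23,(Int.ofNat 1))] .nil .nil)) (.node 82 [(28,(Int.negSucc 0))] (.node 81 [(27,(Int.ofNat 1))] .nil .nil) (.node 92 [(32,(Int.ofNat 1))] .nil .nil)))) (.node 107 [(61,(Int.negSucc 0))] (.node 102 [(54,(Int.negSucc 0))] (.node 98 [(44,(Int.negSucc 0))] (.node 97 [(43,(Int.ofNat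 1))] .nil .nil) (.node 101 [(53,(Int.ofNat 1))] .nil .nil)) (.node 105 [(58,(Int.negSucc 0))] (.node 104 [(57,(Int.ofNat 1))] .nil .nil) (.node 106 [(60,(Int.ofNat 1))] .nil .nil))) (.node 121 [(83,(Int.negSucc 0))] (.node 117 [(74,(Int.negSucc 0))] (.node 114 [(73,(Int.negSucc 0))] .nil .nil) (.node 118 [(75,(Int.negSucc 0))] .nil .nil)) (.node 123 [(87,(Int.negSucc 0))] (.node 122 [(84,(Int.negSucc 0))] .nil .nil) (.node 125 [(109,(Int.negSucc 0))] .nil .nil)))))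
noncomputable def ch18 : Tr (List (ℕ × ℤ)) := (.node 93 [(34,(Int.negSucc 0))] (.node 63 [(19,(Int.ofNat 1))] (.node 49 [(7,(Int.negSucc 0))] (.node 40 [(3,(Int.negSucc 0))] (.node 37 [(2,(Int.negSucc 0))] (.node 15 [(0,(Int.negSucc 0))] .nil .nil) .nil) (.node 42 [(5,(Int.ofNat 1))] .nil .nil)) (.node 52 [(12,(Int.ofNat 1))] (.node 51 [(9,(Int.ofNat 1))] .nil .nil) (.node 61 [(17,(Int.ofNat 1))] .nil .nil))) (.node 72 [(25,(Int.negSucc 0))] (.node 68 [(22,(Int.negSucc 0))] (.node 66 [(20,(Int.ofNat 1))] .nil .nil) (.node 70 [(23,(Int.ofNat 1))] .nil .nil)) (.node 82 [(29,(Int.negSucc 0))] (.node 80 [(27,(Int.ofNat 1))] .nil .nil) (.node 91 [(32,(Int.ofNat 1))] .nil .nil)))) (.node 108 [(64,(Int.negSucc 0))] (.node 102 [(55,(Int.negSucc 0))] (.node 98 [(45,(Int.negSucc 0))] (.node 96 [(43,(Int.ofNat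 1))] .nil .nil) (.node 100 [(53,(Int.ofNat 1))] .nil .nil)) (.node 105 [(59,(Int.negSucc 0))] (.node 103 [(57,(Int.ofNat 1))] .nil .nil) (.node 106 [(62,(Int.negSucc 0))] .nil .nil))) (.node 120 [(83,(Int.negSucc 0))] (.node 116 [(74,(Int.negSucc 0))] (.node 113 [(73,(Int.negSucc 0))] .nil .nil) (.node 118 [(76,(Int.ofNat 1))] .nil .nil)) (.node 123 [(88,(Int.ofNat 1))] (.node 122 [(85,(Int.ofNat 1))] .nil .nil) (.node 125 [(110,(Int.ofNat 1))] .nil .nil)))))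
noncomputable def ch19 : Tr (List (ℕ × ℤ)) := (.node 93 [(35,(Int.negSucc 0))] (.node 62 [(18,(Int.ofNat 1))] (.node 48 [(7,(Int.ofNat 1))] (.node 39 [(3,(Int.ofNat 1))] (.node 36 [(2,(Int.ofNat 1))] (.node 14 [(0,(Int.ofNat 1))] .nil .nil) .nil) (.node 42 [(6,(Int.ofNat 1))] .nil .nil)) (.node 52 [(13,(Int.ofNat 1))] (.node 51 [(10,(Int.ofNat 1))] .nil .nil) (.node 60 [(17,(Int.negSucc 0))] .nil .nil))) (.node 71 [(25,(Int.negSucc 0))] (.node 67 [(22,(Int.negSucc 0))] (.node 66 [(21,(Int.ofNat 1))] .nil .nil) (.node 70 [(24,(Int.ofNat 1))] .nil .nil)) (.node 81 [(29,(Int.negSucc 0))] (.node 80 [(28,(Int.ofNat 1))] .nil .nil) (.node 90 [(32,(Int.ofNat 1))] .nil .nil)))) (.node 108 [(65,(Int.ofNat 1))] (.node 101 [(55,(Int.negSucc 0))] (.node 97 [(45,(Int.negSucc 0))] (.node 96 [(44,(Int.ofNat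 1))] .nil .nil) (.node 100 [(54,(Int.ofNat 1))] .nil .nil)) (.node 104 [(59,(Int.negSucc 0))] (.node 103 [(58,(Int.ofNat 1))] .nil .nil) (.node 107 [(63,(Int.negSucc 0))] .nil .nil))) (.node 119 [(83,(Int.negSucc 0))] (.node 115 [(74,(Int.negSucc 0))] (.node 112 [(73,(Int.negSucc 0))] .nil .nil) (.node 118 [(77,(Int.negSucc 0))] .nil .nil)) (.node 123 [(89,(Int.negSucc 0))] (.node 122 [(86,(Int.negSucc 0))] .nil .nil) (.node 125 [(111,(Int.negSucc 0))] .nil .nil)))))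
noncomputable def ch20 : Tr (List (ℕ × ℤ)) := (.node 93 [(36,(Int.negSucc 0))] (.node 59 [(18,(Int.ofNat 1))] (.node 49 [(8,(Int.negSucc 0))] (.node 40 [(4,(Int.negSucc 0))] (.node 35 [(2,(Int.ofNat 1))] (.node 13 [(0,(Int.ofNat 1))] .nil .nil) .nil) (.node 41 [(5,(Int.negSucc 0))] .nil .nil)) (.node 52 [(14,(Int.ofNat 1))] (.node 50 [(9,(Int.negSucc 0))] .nil .nil) (.node 58 [(17,(Int.ofNat 1))] .nil .nil))) (.node 72 [(26,(Int.negSucc 0))] (.node 65 [(22,(Int.ofNat 1))] (.node 63 [(21,(Int.ofNat 1))] .nil .nil) (.node 69 [(23,(Int.ofNat 1))] .nil .nil)) (.node 82 [(30,(Int.negSucc 0))] (.node 79 [(27,(Int.ofNat 1))] .nil .nil) (.node 89 [(32,(Int.ofNat 1))] .nil .nil)))) (.node 108 [(67,(Int.negSucc 0))] (.node 102 [(56,(Int.negSucc 0))] (.node 98 [(46,(Int.negSucc 0))] (.node 95 [(43,(Int.ofNat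 1))] .nil .nil) (.node 99 [(53,(Int.ofNat 1))] .nil .nil)) (.node 104 [(62,(Int.negSucc 0))] (.node 103 [(60,(Int.negSucc 0))] .nil .nil) (.node 107 [(66,(Int.negSucc 0))] .nil .nil))) (.node 120 [(84,(Int.ofNat 1))] (.node 116 [(75,(Int.ofNat 1))] (.node 111 [(73,(Int.negSucc 0))] .nil .nil) (.node 117 [(76,(Int.ofNat 1))] .nil .nil)) (.node 123 [(90,(Int.negSucc 0))] (.node 121 [(85,(Int.ofNat 1))] .nil .nil) (.node 125 [(112,(Int.negSucc 0))] .nil .nil)))))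
noncomputable def ch21 : Tr (List (ℕ × ℤ)) := (.node 93 [(37,(Int.negSucc 0))] (.node 59 [(19,(Int.ofNat 1))] (.node 48 [(8,(Int.ofNat 1))] (.node 39 [(4,(Int.ofNat 1))] (.node 34 [(2,(Int.negSucc 0))] (.node 12 [(0,(Int.negSucc 0))] .nil .nil) .nil) (.node 41 [(6,(Int.negSucc 0))] .nil .nil)) (.node 52 [(15,(Int.ofNat 1))] (.node 50 [(10,(Int.negSucc 0))] .nil .nil) (.node 57 [(17,(Int.negSucc 0))] .nil .nil))) (.node 71 [(26,(Int.negSucc 0))] (.node 64 [(22,(Int.ofNat 1))] (.node 62 [(20,(Int.ofNat 1))] .nil .nil) (.node 69 [(24,(Int.ofNat 1))] .nil .nil)) (.node 81 [(30,(Int.negSucc 0))] (.node 79 [(28,(Int.ofNat 1))] .nil .nil) (.node 88 [(32,(Int.ofNat 1))] .nil .nil)))) (.node 108 [(68,(Int.ofNat 1))] (.node 101 [(56,(Int.negSucc 0))] (.node 97 [(46,(Int.negSucc 0))] (.node 95 [(44,(Int.ofNat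 1))] .nil .nil) (.node 99 [(54,(Int.ofNat 1))] .nil .nil)) (.node 105 [(63,(Int.negSucc 0))] (.node 103 [(61,(Int.negSucc 0))] .nil .nil) (.node 106 [(66,(Int.negSucc 0))] .nil .nil))) (.node 119 [(84,(Int.ofNat 1))] (.node 115 [(75,(Int.ofNat 1))] (.node 110 [(73,(Int.negSucc 0))] .nil .nil) (.node 117 [(77,(Int.negSucc 0))] .nil .nil)) (.node 123 [(91,(Int.ofNat 1))] (.node 121 [(86,(Int.negSucc 0))] .nil .nil) (.node 125 [(113,(Int.ofNat 1))] .nil .nil)))))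
noncomputable def ch22 : Tr (List (ℕ × ℤ)) := (.node 93 [(38,(Int.negSucc 0))] (.node 58 [(19,(Int.negSucc 0))] (.node 48 [(9,(Int.ofNat 1))] (.node 39 [(5,(Int.ofNat 1))] (.node 33 [(2,(Int.ofNat 1))] (.node 11 [(0,(Int.ofNat 1))] .nil .nil) .nil) (.node 40 [(6,(Int.ofNat 1))] .nil .nil)) (.node 52 [(16,(Int.ofNat 1))] (.node 49 [(10,(Int.ofNat 1))] .nil .nil) (.node 57 [(18,(Int.negSucc 0))] .nil .nil))) (.node 70 [(26,(Int.negSucc 0))] (.node 61 [(21,(Int.ofNat 1))] (.node 60 [(20,(Int.ofNat 1))] .nil .nil) (.node 69 [(25,(Int.ofNat 1))] .nil .nil)) (.node 80 [(30,(Int.negSucc 0))] (.node 79 [(29,(Int.ofNat 1))] .nil .nil) (.node 87 [(32,(Int.ofNat 1))] .nil .nil)))) (.node 107 [(68,(Int.ofNat 1))] (.node 100 [(56,(Int.negSucc 0))] (.node 96 [(46,(Int.negSucc 0))] (.node 95 [(45,(Int.ofNat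 1))] .nil .nil) (.node 99 [(55,(Int.ofNat 1))] .nil .nil)) (.node 105 [(65,(Int.negSucc 0))] (.node 104 [(64,(Int.negSucc 0))] .nil .nil) (.node 106 [(67,(Int.ofNat 1))] .nil .nil))) (.node 119 [(85,(Int.negSucc 0))] (.node 115 [(76,(Int.negSucc 0))] (.node 109 [(73,(Int.negSucc 0))] .nil .nil) (.node 116 [(77,(Int.negSucc 0))] .nil .nil)) (.node 123 [(92,(Int.negSucc 0))] (.node 120 [(86,(Int.negSucc 0))] .nil .nil) (.node 125 [(114,(Int.negSucc 0))] .nil .nil)))))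
noncomputable def ch23 : Tr (List (ℕ × ℤ)) := (.node 93 [(39,(Int.negSucc 0))] (.node 55 [(18,(Int.ofNat 1))] (.node 49 [(11,(Int.negSucc 0))] (.node 37 [(4,(Int.ofNat 1))] (.node 35 [(3,(Int.ofNat 1))] (.node 10 [(0,(Int.negSucc 0))] .nil .nil) .nil) (.node 38 [(5,(Int.ofNat 1))] .nil .nil)) (.node 51 [(14,(Int.negSucc 0))] (.node 50 [(12,(Int.negSucc 0))] .nil .nil) (.node 54 [(17,(Int.ofNat 1))] .nil .nil))) (.node 68 [(26,(Int.ofNat 1))] (.node 63 [(24,(Int.ofNat 1))] (.node 56 [(20,(Int.ofNat 1))] .nil .nil) (.node 65 [(25,(Int.ofNat 1))] .nil .nil)) (.node 82 [(31,(Int.negSucc 0))] (.node 78 [(27,(Int.ofNat 1))] .nil .nil) (.node 86 [(32,(Int.ofNat 1))] .nil .nil)))) (.node 108 [(71,(Int.negSucc 0))] (.node 100 [(60,(Int.negSucc 0))] (.node 98 [(47,(Int.negSucc 0))] (.node 94 [(43,(Int.ofNat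 1))] .nil .nil) (.node 99 [(57,(Int.negSucc 0))] .nil .nil)) (.node 105 [(69,(Int.negSucc 0))] (.node 101 [(62,(Int.negSucc 0))] .nil .nil) (.node 107 [(70,(Int.negSucc 0))] .nil .nil))) (.node 120 [(87,(Int.negSucc 0))] (.node 113 [(75,(Int.ofNat 1))] (.node 111 [(74,(Int.ofNat 1))] .nil .nil) (.node 114 [(76,(Int.ofNat 1))] .nil .nil)) (.node 122 [(90,(Int.negSucc 0))] (.node 121 [(88,(Int.negSucc 0))] .nil .nil) (.node 125 [(115,(Int.ofNat 1))] .nil .nil)))))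
noncomputable def ch24 : Tr (List (ℕ × ℤ)) := (.node 93 [(40,(Int.negSucc 0))] (.node 55 [(19,(Int.ofNat 1))] (.node 48 [(11,(Int.ofNat 1))] (.node 36 [(4,(Int.negSucc 0))] (.node 34 [(3,(Int.negSucc 0))] (.node 9 [(0,(Int.ofNat 1))] .nil .nil) .nil) (.node 38 [(6,(Int.ofNat 1))] .nil .nil)) (.node 51 [(15,(Int.negSucc 0))] (.node 50 [(13,(Int.negSucc 0))] .nil .nil) (.node 53 [(17,(Int.negSucc 0))] .nil .nil))) (.node 67 [(26,(Int.ofNat 1))] (.node 62 [(23,(Int.ofNat 1))] (.node 56 [(21,(Int.ofNat 1))] .nil .nil) (.node 64 [(25,(Int.ofNat 1))] .nil .nil)) (.node 81 [(31,(Int.negSucc 0))] (.node 78 [(28,(Int.ofNat 1))] .nil .nil) (.node 85 [(32,(Int.ofNat 1))] .nil .nil)))) (.node 108 [(72,(Int.ofNat 1))] (.node 100 [(61,(Int.negSucc 0))] (.node 97 [(47,(Int.negSucc 0))] (.node 94 [(44,(Int.ofNat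 1))] .nil .nil) (.node 99 [(58,(Int.negSucc 0))] .nil .nil)) (.node 104 [(69,(Int.negSucc 0))] (.node 102 [(63,(Int.negSucc 0))] .nil .nil) (.node 106 [(70,(Int.negSucc 0))] .nil .nil))) (.node 119 [(87,(Int.negSucc 0))] (.node 112 [(75,(Int.ofNat 1))] (.node 110 [(74,(Int.ofNat 1))] .nil .nil) (.node 114 [(77,(Int.negSucc 0))] .nil .nil)) (.node 122 [(91,(Int.ofNat 1))] (.node 121 [(89,(Int.ofNat 1))] .nil .nil) (.node 125 [(116,(Int.negSucc 0))] .nil .nil)))))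
noncomputable def ch25 : Tr (List (ℕ × ℤ)) := (.node 93 [(41,(Int.negSucc 0))] (.node 54 [(19,(Int.negSucc 0))] (.node 48 [(12,(Int.ofNat 1))] (.node 36 [(5,(Int.negSucc 0))] (.node 33 [(3,(Int.ofNat 1))] (.node 8 [(0,(Int.negSucc 0))] .nil .nil) .nil) (.node 37 [(6,(Int.negSucc 0))] .nil .nil)) (.node 51 [(16,(Int.negSucc 0))] (.node 49 [(13,(Int.ofNat 1))] .nil .nil) (.node 53 [(18,(Int.negSucc 0))] .nil .nil))) (.node 66 [(26,(Int.ofNat 1))] (.node 60 [(23,(Int.ofNat 1))] (.node 56 [(22,(Int.ofNat 1))] .nil .nil) (.node 61 [(24,(Int.ofNat 1))] .nil .nil)) (.node 80 [(31,(Int.negSucc 0))] (.node 78 [(29,(Int.ofNat 1))] .nil .nil) (.node 84 [(32,(Int.ofNat 1))] .nil .nil)))) (.node 107 [(72,(Int.ofNat 1))] (.node 101 [(64,(Int.negSucc 0))] (.node 96 [(47,(Int.negSucc 0))] (.node 94 [(45,(Int.ofNat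 1))] .nil .nil) (.node 99 [(59,(Int.negSucc 0))] .nil .nil)) (.node 103 [(69,(Int.negSucc 0))] (.node 102 [(65,(Int.negSucc 0))] .nil .nil) (.node 106 [(71,(Int.ofNat 1))] .nil .nil))) (.node 119 [(88,(Int.ofNat 1))] (.node 112 [(76,(Int.negSucc 0))] (.node 109 [(74,(Int.ofNat 1))] .nil .nil) (.node 113 [(77,(Int.negSucc 0))] .nil .nil)) (.node 122 [(92,(Int.negSucc 0))] (.node 120 [(89,(Int.ofNat 1))] .nil .nil) (.node 125 [(117,(Int.ofNat 1))] .nil .nil)))))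
noncomputable def ch26 : Tr (List (ℕ × ℤ)) := (.node 93 [(42,(Int.negSucc 0))] (.node 54 [(21,(Int.negSucc 0))] (.node 48 [(14,(Int.ofNat 1))] (.node 34 [(5,(Int.ofNat 1))] (.node 33 [(4,(Int.ofNat 1))] (.node 7 [(0,(Int.ofNat 1))] .nil .nil) .nil) (.node 35 [(6,(Int.ofNat 1))] .nil .nil)) (.node 50 [(16,(Int.ofNat 1))] (.node 49 [(15,(Int.ofNat 1))] .nil .nil) (.node 53 [(20,(Int.negSucc 0))] .nil .nil))) (.node 59 [(25,(Int.ofNat 1))] (.node 57 [(23,(Int.ofNat 1))] (.node 55 [(22,(Int.negSucc 0))] .nil .nil) (.node 58 [(24,(Int.ofNat 1))] .nil .nil)) (.node 79 [(31,(Int.negSucc 0))] (.node 78 [(30,(Int.ofNat 1))] .nil .nil) (.node 83 [(32,(Int.ofNat 1))] .nil .nil)))) (.node 105 [(72,(Int.ofNat 1))] (.node 101 [(67,(Int.negSucc 0))] (.node 95 [(47,(Int.negSucc 0))] (.node 94 [(46,(Int.ofNat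 1))] .nil .nil) (.node 100 [(66,(Int.negSucc 0))] .nil .nil)) (.node 103 [(70,(Int.ofNat 1))] (.node 102 [(68,(Int.negSucc 0))] .nil .nil) (.node 104 [(71,(Int.ofNat 1))] .nil .nil))) (.node 119 [(90,(Int.negSucc 0))] (.node 110 [(76,(Int.negSucc 0))] (.node 109 [(75,(Int.negSucc 0))] .nil .nil) (.node 111 [(77,(Int.negSucc 0))] .nil .nil)) (.node 121 [(92,(Int.negSucc 0))] (.node 120 [(91,(Int.negSucc 0))] .nil .nil) (.node 125 [(118,(Int.negSucc 0))] .nil .nil)))))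
noncomputable def ch27 : Tr (List (ℕ × ℤ)) := (.node 93 [(48,(Int.negSucc 0))] (.node 45 [(18,(Int.ofNat 1))] (.node 40 [(11,(Int.ofNat 1))] (.node 37 [(8,(Int.ofNat 1))] (.node 35 [(7,(Int.ofNat 1))] (.node 6 [(0,(Int.ofNat 1))] .nil .nil) .nil) (.node 38 [(9,(Int.ofNat 1))] .nil .nil)) (.node 42 [(14,(Int.ofNat 1))] (.node 41 [(12,(Int.ofNat 1))] .nil .nil) (.node 44 [(17,(Int.ofNat 1))] .nil .nil))) (.node 65 [(29,(Int.ofNat 1))] (.node 47 [(23,(Int.ofNat 1))] (.node 46 [(20,(Int.ofNat 1))] .nil .nil) (.node 63 [(28,(Int.ofNat 1))] .nil .nil)) (.node 72 [(31,(Int.ofNat 1))] (.node 68 [(30,(Int.ofNat 1))] .nil .nil) (.node 77 [(32,(Int.ofNat 1))] .nil .nil)))) (.node 108 [(81,(Int.negSucc 0))] (.node 97 [(62,(Int.negSucc 0))] (.node 95 [(57,(Int.negSucc 0))] (.node 94 [(53,(Int.negSucc 0))]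 .nil .nil) (.node 96 [(60,(Int.negSucc 0))] .nil .nil)) (.node 105 [(79,(Int.negSucc 0))] (.node 102 [(78,(Int.negSucc 0))] .nil .nil) (.node 107 [(80,(Int.negSucc 0))] .nil .nil))) (.node 116 [(87,(Int.negSucc 0))] (.node 113 [(84,(Int.negSucc 0))] (.node 111 [(83,(Int.negSucc 0))] .nil .nil) (.node 114 [(85,(Int.negSucc 0))] .nil .nil)) (.node 118 [(90,(Int.negSucc 0))] (.node 117 [(88,(Int.negSucc 0))] .nil .nil) (.node 125 [(119,(Int.negSucc 0))] .nil .nil)))))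
noncomputable def ch28 : Tr (List (ℕ × ℤ)) := (.node 93 [(49,(Int.negSucc 0))] (.node 45 [(19,(Int.ofNat 1))] (.node 39 [(11,(Int.negSucc 0))] (.node 36 [(8,(Int.negSucc 0))] (.node 34 [(7,(Int.negSucc 0))] (.node 5 [(0,(Int.negSucc 0))] .nil .nil) .nil) (.node 38 [(10,(Int.ofNat 1))] .nil .nil)) (.node 42 [(15,(Int.ofNat 1))] (.node 41 [(13,(Int.ofNat 1))] .nil .nil) (.node 43 [(17,(Int.negSucc 0))] .nil .nil))) (.node 64 [(29,(Int.ofNat 1))] (.node 47 [(24,(Int.ofNat 1))] (.node 46 [(21,(Int.ofNat 1))] .nil .nil) (.node 62 [(27,(Int.ofNat 1))] .nil .nil)) (.node 71 [(31,(Int.ofNat 1))] (.node 67 [(30,(Int.ofNat 1))] .nil .nil) (.node 76 [(32,(Int.ofNat 1))] .nil .nil)))) (.node 108 [(82,(Int.ofNat 1))] (.node 98 [(63,(Int.negSucc 0))] (.node 95 [(58,(Int.negSucc 0))] (.node 94 [(54,(Int.negSucc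 0))] .nil .nil) (.node 96 [(61,(Int.negSucc 0))] .nil .nil)) (.node 104 [(79,(Int.negSucc 0))] (.node 101 [(78,(Int.negSucc 0))] .nil .nil) (.node 106 [(80,(Int.negSucc 0))] .nil .nil))) (.node 115 [(87,(Int.negSucc 0))] (.node 112 [(84,(Int.negSucc 0))] (.node 110 [(83,(Int.negSucc 0))] .nil .nil) (.node 114 [(86,(Int.ofNat 1))] .nil .nil)) (.node 118 [(91,(Int.ofNat 1))] (.node 117 [(89,(Int.ofNat 1))] .nil .nil) (.node 125 [(120,(Int.ofNat 1))] .nil .nil)))))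
noncomputable def ch29 : Tr (List (ℕ × ℤ)) := (.node 93 [(50,(Int.negSucc 0))] (.node 44 [(19,(Int.negSucc 0))] (.node 39 [(12,(Int.negSucc 0))] (.node 36 [(9,(Int.negSucc 0))] (.node 33 [(7,(Int.ofNat 1))] (.node 4 [(0,(Int.ofNat 1))] .nil .nil) .nil) (.node 37 [(10,(Int.negSucc 0))] .nil .nil)) (.node 42 [(16,(Int.ofNat 1))] (.node 40 [(13,(Int.negSucc 0))] .nil .nil) (.node 43 [(18,(Int.negSucc 0))] .nil .nil))) (.node 61 [(28,(Int.ofNat 1))] (.node 47 [(25,(Int.ofNat 1))] (.node 46 [(22,(Int.ofNat 1))] .nil .nil) (.node 60 [(27,(Int.ofNat 1))] .nil .nil)) (.node 70 [(31,(Int.ofNat 1))] (.node 66 [(30,(Int.ofNat 1))] .nil .nil) (.node 75 [(32,(Int.ofNat 1))] .nil .nil)))) (.node 107 [(82,(Int.ofNat 1))] (.node 98 [(65,(Int.negSucc 0))] (.node 95 [(59,(Int.negSucc 0))] (.node 94 [(55,(Int.negSucc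 0))] .nil .nil) (.node 97 [(64,(Int.negSucc 0))] .nil .nil)) (.node 103 [(79,(Int.negSucc 0))] (.node 100 [(78,(Int.negSucc 0))] .nil .nil) (.node 106 [(81,(Int.ofNat 1))] .nil .nil))) (.node 115 [(88,(Int.ofNat 1))] (.node 112 [(85,(Int.ofNat 1))] (.node 109 [(83,(Int.negSucc 0))] .nil .nil) (.node 113 [(86,(Int.ofNat 1))] .nil .nil)) (.node 118 [(92,(Int.negSucc 0))] (.node 116 [(89,(Int.ofNat 1))] .nil .nil) (.node 125 [(121,(Int.negSucc 0))] .nil .nil)))))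
noncomputable def ch30 : Tr (List (ℕ × ℤ)) := (.node 93 [(51,(Int.negSucc 0))] (.node 44 [(21,(Int.negSucc 0))] (.node 39 [(14,(Int.negSucc 0))] (.node 34 [(9,(Int.ofNat 1))] (.node 33 [(8,(Int.ofNat 1))] (.node 3 [(0,(Int.negSucc 0))] .nil .nil) .nil) (.node 35 [(10,(Int.ofNat 1))] .nil .nil)) (.node 41 [(16,(Int.negSucc 0))] (.node 40 [(15,(Int.negSucc 0))] .nil .nil) (.node 43 [(20,(Int.negSucc 0))] .nil .nil))) (.node 58 [(28,(Int.ofNat 1))] (.node 47 [(26,(Int.ofNat 1))] (.node 45 [(22,(Int.negSucc 0))] .nil .nil) (.node 57 [(27,(Int.ofNat 1))] .nil .nil)) (.node 69 [(31,(Int.ofNat 1))] (.node 59 [(29,(Int.ofNat 1))] .nil .nil) (.node 74 [(32,(Int.ofNat 1))] .nil .nil)))) (.node 105 [(82,(Int.ofNat 1))] (.node 98 [(68,(Int.negSucc 0))] (.node 96 [(66,(Int.negSucc 0))] (.node 94 [(56,(Int.negSucc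 0))] .nil .nil) (.node 97 [(67,(Int.negSucc 0))] .nil .nil)) (.node 103 [(80,(Int.ofNat 1))] (.node 99 [(78,(Int.negSucc 0))] .nil .nil) (.node 104 [(81,(Int.ofNat 1))] .nil .nil))) (.node 115 [(90,(Int.negSucc 0))] (.node 110 [(85,(Int.ofNat 1))] (.node 109 [(84,(Int.ofNat 1))] .nil .nil) (.node 111 [(86,(Int.ofNat 1))] .nil .nil)) (.node 117 [(92,(Int.negSucc 0))] (.node 116 [(91,(Int.negSucc 0))] .nil .nil) (.node 125 [(122,(Int.ofNat 1))] .nil .nil)))))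
noncomputable def ch31 : Tr (List (ℕ × ℤ)) := (.node 93 [(52,(Int.negSucc 0))] (.node 44 [(24,(Int.negSucc 0))] (.node 36 [(14,(Int.ofNat 1))] (.node 34 [(12,(Int.ofNat 1))] (.node 33 [(11,(Int.ofNat 1))] (.node 2 [(0,(Int.ofNat 1))] .nil .nil) .nil) (.node 35 [(13,(Int.ofNat 1))] .nil .nil)) (.node 38 [(16,(Int.ofNat 1))] (.node 37 [(15,(Int.ofNat 1))] .nil .nil) (.node 43 [(23,(Int.negSucc 0))] .nil .nil))) (.node 54 [(28,(Int.ofNat 1))] (.node 46 [(26,(Int.negSucc 0))] (.node 45 [(25,(Int.negSucc 0))] .nil .nil) (.node 53 [(27,(Int.ofNat 1))] .nil .nil)) (.node 56 [(30,(Int.ofNat 1))] (.node 55 [(29,(Int.ofNat 1))] .nil .nil) (.node 73 [(32,(Int.ofNat 1))] .nil .nil)))) (.node 102 [(82,(Int.ofNat 1))] (.node 98 [(72,(Int.negSucc 0))] (.node 96 [(70,(Int.negSucc 0))] (.node 95 [(69,(Int.negSucc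 0))] .nil .nil) (.node 97 [(71,(Int.negSucc 0))] .nil .nil)) (.node 100 [(80,(Int.ofNat 1))] (.node 99 [(79,(Int.ofNat 1))] .nil .nil) (.node 101 [(81,(Int.ofNat 1))] .nil .nil))) (.node 112 [(90,(Int.negSucc 0))] (.node 110 [(88,(Int.negSucc 0))] (.node 109 [(87,(Int.negSucc 0))] .nil .nil) (.node 111 [(89,(Int.negSucc 0))] .nil .nil)) (.node 114 [(92,(Int.negSucc 0))] (.node 113 [(91,(Int.negSucc 0))] .nil .nil) (.node 125 [(123,(Int.negSucc 0))] .nil .nil)))))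
noncomputable def ch32 : Tr (List (ℕ × ℤ)) := (.node 94 [(73,(Int.negSucc 0))] (.node 40 [(24,(Int.ofNat 1))] (.node 36 [(20,(Int.ofNat 1))] (.node 34 [(18,(Int.ofNat 1))] (.node 33 [(17,(Int.ofNat 1))] (.node 1 [(0,(Int.negSucc 0))] .nil .nil) .nil) (.node 35 [(19,(Int.ofNat 1))] .nil .nil)) (.node 38 [(22,(Int.ofNat 1))] (.node 37 [(21,(Int.ofNat 1))] .nil .nil) (.node 39 [(23,(Int.ofNat 1))] .nil .nil))) (.node 49 [(28,(Int.ofNat 1))] (.node 42 [(26,(Int.ofNat 1))] (.node 41 [(25,(Int.ofNat 1))] .nil .nil) (.node 48 [(27,(Int.ofNat 1))] .nil .nil)) (.node 51 [(30,(Int.ofNat 1))] (.node 50 [(29,(Int.ofNat 1))] .nil .nil) (.node 52 [(31,(Int.ofNat 1))] .nil .nil)))) (.node 102 [(86,(Int.negSucc 0))] (.node 98 [(77,(Int.negSucc 0))] (.node 96 [(75,(Int.negSucc 0))] (.node 95 [(74,(Int.negSucc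 0))] .nil .nil) (.node 97 [(76,(Int.negSucc 0))] .nil .nil)) (.node 100 [(84,(Int.negSucc 0))] (.node 99 [(83,(Int.negSucc 0))] .nil .nil) (.node 101 [(85,(Int.negSucc 0))] .nil .nil))) (.node 106 [(90,(Int.negSucc 0))] (.node 104 [(88,(Int.negSucc 0))] (.node 103 [(87,(Int.negSucc 0))] .nil .nil) (.node 105 [(89,(Int.negSucc 0))] .nil .nil)) (.node 108 [(92,(Int.negSucc 0))] (.node 107 [(91,(Int.negSucc 0))] .nil .nil) (.node 125 [(124,(Int.ofNat 1))] .nil .nil)))))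
noncomputable def ch33 : Tr (List (ℕ × ℤ)) := (.node 81 [(48,(Int.ofNat 1))] (.node 64 [(34,(Int.ofNat 1))] (.node 29 [(7,(Int.negSucc 0))] (.node 25 [(3,(Int.negSucc 0))] (.node 22 [(2,(Int.negSucc 0))] (.node 16 [(1,(Int.negSucc 0))] .nil .nil) .nil) (.node 26 [(4,(Int.negSucc 0))] .nil .nil)) (.node 31 [(11,(Int.negSucc 0))] (.node 30 [(8,(Int.negSucc 0))] .nil .nil) (.node 32 [(17,(Int.negSucc 0))] .nil .nil))) (.node 71 [(39,(Int.ofNat 1))] (.node 67 [(36,(Int.ofNat 1))] (.node 65 [(35,(Int.negSucc 0))] .nil .nil) (.node 68 [(37,(Int.negSucc 0))] .nil .nil)) (.node 76 [(43,(Int.ofNat 1))] (.node 72 [(40,(Int.negSucc 0))] .nil .nil) (.node 77 [(44,(Int.negSucc 0))] .nil .nil)))) (.node 108 [(93,(Int.ofNat 1))] (.node 88 [(57,(Int.ofNat 1))] (.node 85 [(53,(Int.ofNat 1))] (.node 82 [(49,(Int.negSucc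 0))] .nil .nil) (.node 86 [(54,(Int.negSucc 0))] .nil .nil)) (.node 90 [(60,(Int.ofNat 1))] (.node 89 [(58,(Int.negSucc 0))] .nil .nil) (.node 91 [(61,(Int.negSucc 0))] .nil .nil))) (.node 121 [(99,(Int.ofNat 1))] (.node 117 [(95,(Int.ofNat 1))] (.node 114 [(94,(Int.ofNat 1))] .nil .nil) (.node 118 [(96,(Int.ofNat 1))] .nil .nil)) (.node 123 [(103,(Int.ofNat 1))] (.node 122 [(100,(Int.ofNat 1))] .nil .nil) (.node 124 [(109,(Int.ofNat 1))] .nil .nil)))))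
noncomputable def ch34 : Tr (List (ℕ × ℤ)) := (.node 80 [(48,(Int.ofNat 1))] (.node 61 [(33,(Int.ofNat 1))] (.node 28 [(7,(Int.ofNat 1))] (.node 24 [(3,(Int.ofNat 1))] (.node 21 [(2,(Int.ofNat 1))] (.node 15 [(1,(Int.ofNat 1))] .nil .nil) .nil) (.node 26 [(5,(Int.negSucc 0))] .nil .nil)) (.node 31 [(12,(Int.negSucc 0))] (.node 30 [(9,(Int.negSucc 0))] .nil .nil) (.node 32 [(18,(Int.negSucc 0))] .nil .nil))) (.node 70 [(39,(Int.ofNat 1))] (.node 66 [(36,(Int.ofNat 1))] (.node 63 [(35,(Int.ofNat 1))] .nil .nil) (.node 68 [(38,(Int.negSucc 0))] .nil .nil)) (.node 75 [(43,(Int.ofNat 1))] (.node 72 [(41,(Int.negSucc 0))] .nil .nil) (.node 77 [(45,(Int.negSucc 0))] .nil .nil)))) (.node 107 [(93,(Int.ofNat 1))] (.node 87 [(57,(Int.ofNat 1))] (.node 84 [(53,(Int.ofNat 1))] (.node 82 [(50,(Int.negSucc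 0))] .nil .nil) (.node 86 [(55,(Int.negSucc 0))] .nil .nil)) (.node 90 [(62,(Int.negSucc 0))] (.node 89 [(59,(Int.negSucc 0))] .nil .nil) (.node 92 [(64,(Int.negSucc 0))] .nil .nil))) (.node 120 [(99,(Int.ofNat 1))] (.node 116 [(95,(Int.ofNat 1))] (.node 113 [(94,(Int.ofNat 1))] .nil .nil) (.node 118 [(97,(Int.negSucc 0))] .nil .nil)) (.node 123 [(104,(Int.negSucc 0))] (.node 122 [(101,(Int.negSucc 0))] .nil .nil) (.node 124 [(110,(Int.negSucc 0))] .nil .nil)))))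
noncomputable def ch35 : Tr (List (ℕ × ℤ)) := (.node 80 [(49,(Int.ofNat 1))] (.node 60 [(33,(Int.negSucc 0))] (.node 27 [(7,(Int.negSucc 0))] (.node 23 [(3,(Int.negSucc 0))] (.node 20 [(2,(Int.negSucc 0))] (.node 14 [(1,(Int.negSucc 0))] .nil .nil) .nil) (.node 26 [(6,(Int.negSucc 0))] .nil .nil)) (.node 31 [(13,(Int.negSucc 0))] (.node 30 [(10,(Int.negSucc 0))] .nil .nil) (.node 32 [(19,(Int.negSucc 0))] .nil .nil))) (.node 70 [(40,(Int.ofNat 1))] (.node 66 [(37,(Int.ofNat 1))] (.node 62 [(34,(Int.ofNat 1))] .nil .nil) (.node 67 [(38,(Int.negSucc 0))] .nil .nil)) (.node 75 [(44,(Int.ofNat 1))] (.node 71 [(41,(Int.negSucc 0))] .nil .nil) (.node 76 [(45,(Int.negSucc 0))] .nil .nil)))) (.node 106 [(93,(Int.ofNat 1))] (.node 87 [(58,(Int.ofNat 1))] (.node 84 [(54,(Int.ofNat 1))] (.node 81 [(50,(Int.negSucc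 0))] .nil .nil) (.node 85 [(55,(Int.negSucc 0))] .nil .nil)) (.node 91 [(63,(Int.negSucc 0))] (.node 88 [(59,(Int.negSucc 0))] .nil .nil) (.node 92 [(65,(Int.ofNat 1))] .nil .nil))) (.node 119 [(99,(Int.ofNat 1))] (.node 115 [(95,(Int.ofNat 1))] (.node 112 [(94,(Int.ofNat 1))] .nil .nil) (.node 118 [(98,(Int.ofNat 1))] .nil .nil)) (.node 123 [(105,(Int.ofNat 1))] (.node 122 [(102,(Int.ofNat 1))] .nil .nil) (.node 124 [(111,(Int.ofNat 1))] .nil .nil)))))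
noncomputable def ch36 : Tr (List (ℕ × ℤ)) := (.node 79 [(48,(Int.ofNat 1))] (.node 58 [(33,(Int.ofNat 1))] (.node 28 [(8,(Int.ofNat 1))] (.node 24 [(4,(Int.ofNat 1))] (.node 19 [(2,(Int.negSucc 0))] (.node 13 [(1,(Int.negSucc 0))] .nil .nil) .nil) (.node 25 [(5,(Int.ofNat 1))] .nil .nil)) (.node 31 [(14,(Int.negSucc 0))] (.node 29 [(9,(Int.ofNat 1))] .nil .nil) (.node 32 [(20,(Int.negSucc 0))] .nil .nil))) (.node 69 [(39,(Int.ofNat 1))] (.node 63 [(37,(Int.ofNat 1))] (.node 59 [(34,(Int.ofNat 1))] .nil .nil) (.node 65 [(38,(Int.ofNat 1))] .nil .nil)) (.node 74 [(43,(Int.ofNat 1))] (.node 72 [(42,(Int.negSucc 0))] .nil .nil) (.node 77 [(46,(Int.negSucc 0))] .nil .nil)))) (.node 105 [(93,(Int.ofNat 1))] (.node 87 [(60,(Int.negSucc 0))] (.node 83 [(53,(Int.ofNat 1))] (.node 82 [(51,(Int.negSucc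 0))] .nil .nil) (.node 86 [(56,(Int.negSucc 0))] .nil .nil)) (.node 91 [(66,(Int.negSucc 0))] (.node 88 [(62,(Int.negSucc 0))] .nil .nil) (.node 92 [(67,(Int.negSucc 0))] .nil .nil))) (.node 120 [(100,(Int.negSucc 0))] (.node 116 [(96,(Int.negSucc 0))] (.node 111 [(94,(Int.ofNat 1))] .nil .nil) (.node 117 [(97,(Int.negSucc 0))] .nil .nil)) (.node 123 [(106,(Int.ofNat 1))] (.node 121 [(101,(Int.negSucc 0))] .nil .nil) (.node 124 [(112,(Int.ofNat 1))] .nil .nil)))))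
noncomputable def ch37 : Tr (List (ℕ × ℤ)) := (.node 79 [(49,(Int.ofNat 1))] (.node 57 [(33,(Int.negSucc 0))] (.node 27 [(8,(Int.negSucc 0))] (.node 23 [(4,(Int.negSucc 0))] (.node 18 [(2,(Int.ofNat 1))] (.node 12 [(1,(Int.ofNat 1))] .nil .nil) .nil) (.node 25 [(6,(Int.ofNat 1))] .nil .nil)) (.node 31 [(15,(Int.negSucc 0))] (.node 29 [(10,(Int.ofNat 1))] .nil .nil) (.node 32 [(21,(Int.negSucc 0))] .nil .nil))) (.node 69 [(40,(Int.ofNat 1))] (.node 62 [(36,(Int.ofNat 1))] (.node 59 [(35,(Int.ofNat 1))] .nil .nil) (.node 64 [(38,(Int.ofNat 1))] .nil .nil)) (.node 74 [(44,(Int.ofNat 1))] (.node 71 [(42,(Int.negSucc 0))] .nil .nil) (.node 76 [(46,(Int.negSucc 0))] .nil .nil)))) (.node 104 [(93,(Int.ofNat 1))] (.node 87 [(61,(Int.negSucc 0))] (.node 83 [(54,(Int.ofNat 1))] (.node 81 [(51,(Int.negSucc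 0))] .nil .nil) (.node 85 [(56,(Int.negSucc 0))] .nil .nil)) (.node 90 [(66,(Int.negSucc 0))] (.node 89 [(63,(Int.negSucc 0))] .nil .nil) (.node 92 [(68,(Int.ofNat 1))] .nil .nil))) (.node 119 [(100,(Int.negSucc 0))] (.node 115 [(96,(Int.negSucc 0))] (.node 110 [(94,(Int.ofNat 1))] .nil .nil) (.node 117 [(98,(Int.ofNat 1))] .nil .nil)) (.node 123 [(107,(Int.negSucc 0))] (.node 121 [(102,(Int.ofNat 1))] .nil .nil) (.node 124 [(113,(Int.negSucc 0))] .nil .nil)))))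
noncomputable def ch38 : Tr (List (ℕ × ℤ)) := (.node 79 [(50,(Int.ofNat 1))] (.node 57 [(34,(Int.negSucc 0))] (.node 27 [(9,(Int.negSucc 0))] (.node 23 [(5,(Int.negSucc 0))] (.node 17 [(2,(Int.negSucc 0))] (.node 11 [(1,(Int.negSucc 0))] .nil .nil) .nil) (.node 24 [(6,(Int.negSucc 0))] .nil .nil)) (.node 31 [(16,(Int.negSucc 0))] (.node 28 [(10,(Int.negSucc 0))] .nil .nil) (.node 32 [(22,(Int.negSucc 0))] .nil .nil))) (.node 69 [(41,(Int.ofNat 1))] (.node 60 [(36,(Int.ofNat 1))] (.node 58 [(35,(Int.negSucc 0))] .nil .nil) (.node 61 [(37,(Int.ofNat 1))] .nil .nil)) (.node 74 [(45,(Int.ofNat 1))] (.node 70 [(42,(Int.negSucc 0))] .nil .nil) (.node 75 [(46,(Int.negSucc 0))] .nil .nil)))) (.node 103 [(93,(Int.ofNat 1))] (.node 88 [(64,(Int.negSucc 0))] (.node 83 [(55,(Int.ofNat 1))] (.node 80 [(51,(Int.negSucc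 0))] .nil .nil) (.node 84 [(56,(Int.negSucc 0))] .nil .nil)) (.node 90 [(67,(Int.ofNat 1))] (.node 89 [(65,(Int.negSucc 0))] .nil .nil) (.node 91 [(68,(Int.ofNat 1))] .nil .nil))) (.node 119 [(101,(Int.ofNat 1))] (.node 115 [(97,(Int.ofNat 1))] (.node 109 [(94,(Int.ofNat 1))] .nil .nil) (.node 116 [(98,(Int.ofNat 1))] .nil .nil)) (.node 123 [(108,(Int.ofNat 1))] (.node 120 [(102,(Int.ofNat 1))] .nil .nil) (.node 124 [(114,(Int.ofNat 1))] .nil .nil)))))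
noncomputable def ch39 : Tr (List (ℕ × ℤ)) := (.node 78 [(48,(Int.ofNat 1))] (.node 54 [(33,(Int.ofNat 1))] (.node 28 [(11,(Int.ofNat 1))] (.node 21 [(4,(Int.negSucc 0))] (.node 19 [(3,(Int.negSucc 0))] (.node 10 [(1,(Int.ofNat 1))] .nil .nil) .nil) (.node 22 [(5,(Int.negSucc 0))] .nil .nil)) (.node 30 [(14,(Int.ofNat 1))] (.node 29 [(12,(Int.ofNat 1))] .nil .nil) (.node 32 [(23,(Int.negSucc 0))] .nil .nil))) (.node 65 [(41,(Int.ofNat 1))] (.node 56 [(36,(Int.ofNat 1))] (.node 55 [(34,(Int.ofNat 1))] .nil .nil) (.node 63 [(40,(Int.ofNat 1))] .nil .nil)) (.node 73 [(43,(Int.ofNat 1))] (.node 68 [(42,(Int.ofNat 1))] .nil .nil) (.node 77 [(47,(Int.negSucc 0))] .nil .nil)))) (.node 102 [(93,(Int.ofNat 1))] (.node 85 [(62,(Int.negSucc 0))] (.node 83 [(57,(Int.negSucc 0))] (.node 82 [(52,(Int.negSucc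 0))] .nil .nil) (.node 84 [(60,(Int.negSucc 0))] .nil .nil)) (.node 91 [(70,(Int.negSucc 0))] (.node 89 [(69,(Int.negSucc 0))] .nil .nil) (.node 92 [(71,(Int.negSucc 0))] .nil .nil))) (.node 120 [(103,(Int.ofNat 1))] (.node 113 [(96,(Int.negSucc 0))] (.node 111 [(95,(Int.negSucc 0))] .nil .nil) (.node 114 [(97,(Int.negSucc 0))] .nil .nil)) (.node 122 [(106,(Int.ofNat 1))] (.node 121 [(104,(Int.ofNat 1))] .nil .nil) (.node 124 [(115,(Int.negSucc 0))] .nil .nil)))))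
noncomputable def ch40 : Tr (List (ℕ × ℤ)) := (.node 78 [(49,(Int.ofNat 1))] (.node 53 [(33,(Int.negSucc 0))] (.node 27 [(11,(Int.negSucc 0))] (.node 20 [(4,(Int.ofNat 1))] (.node 18 [(3,(Int.ofNat 1))] (.node 9 [(1,(Int.negSucc 0))] .nil .nil) .nil) (.node 22 [(6,(Int.negSucc 0))] .nil .nil)) (.node 30 [(15,(Int.ofNat 1))] (.node 29 [(13,(Int.ofNat 1))] .nil .nil) (.node 32 [(24,(Int.negSucc 0))] .nil .nil))) (.node 64 [(41,(Int.ofNat 1))] (.node 56 [(37,(Int.ofNat 1))] (.node 55 [(35,(Int.ofNat 1))] .nil .nil) (.node 62 [(39,(Int.ofNat 1))] .nil .nil)) (.node 73 [(44,(Int.ofNat 1))] (.node 67 [(42,(Int.ofNat 1))] .nil .nil) (.node 76 [(47,(Int.negSucc 0))] .nil .nil)))) (.node 101 [(93,(Int.ofNat 1))] (.node 86 [(63,(Int.negSucc 0))] (.node 83 [(58,(Int.negSucc 0))] (.node 81 [(52,(Int.negSucc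 0))] .nil .nil) (.node 84 [(61,(Int.negSucc 0))] .nil .nil)) (.node 90 [(70,(Int.negSucc 0))] (.node 88 [(69,(Int.negSucc 0))] .nil .nil) (.node 92 [(72,(Int.ofNat 1))] .nil .nil))) (.node 119 [(103,(Int.ofNat 1))] (.node 112 [(96,(Int.negSucc 0))] (.node 110 [(95,(Int.negSucc 0))] .nil .nil) (.node 114 [(98,(Int.ofNat 1))] .nil .nil)) (.node 122 [(107,(Int.negSucc 0))] (.node 121 [(105,(Int.negSucc 0))] .nil .nil) (.node 124 [(116,(Int.ofNat 1))] .nil .nil)))))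
noncomputable def ch41 : Tr (List (ℕ × ℤ)) := (.node 78 [(50,(Int.ofNat 1))] (.node 53 [(34,(Int.negSucc 0))] (.node 27 [(12,(Int.negSucc 0))] (.node 20 [(5,(Int.ofNat 1))] (.node 17 [(3,(Int.negSucc 0))] (.node 8 [(1,(Int.ofNat 1))] .nil .nil) .nil) (.node 21 [(6,(Int.ofNat 1))] .nil .nil)) (.node 30 [(16,(Int.ofNat 1))] (.node 28 [(13,(Int.negSucc 0))] .nil .nil) (.node 32 [(25,(Int.negSucc 0))] .nil .nil))) (.node 61 [(40,(Int.ofNat 1))] (.node 56 [(38,(Int.ofNat 1))] (.node 54 [(35,(Int.negSucc 0))] .nil .nil) (.node 60 [(39,(Int.ofNat 1))] .nil .nil)) (.node 73 [(45,(Int.ofNat 1))] (.node 66 [(42,(Int.ofNat 1))] .nil .nil) (.node 75 [(47,(Int.negSucc 0))] .nil .nil)))) (.node 100 [(93,(Int.ofNat 1))] (.node 86 [(65,(Int.negSucc 0))] (.node 83 [(59,(Int.negSucc 0))] (.node 80 [(52,(Int.negSucc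 0))] .nil .nil) (.node 85 [(64,(Int.negSucc 0))] .nil .nil)) (.node 90 [(71,(Int.ofNat 1))] (.node 87 [(69,(Int.negSucc 0))] .nil .nil) (.node 91 [(72,(Int.ofNat 1))] .nil .nil))) (.node 119 [(104,(Int.negSucc 0))] (.node 112 [(97,(Int.ofNat 1))] (.node 109 [(95,(Int.negSucc 0))] .nil .nil) (.node 113 [(98,(Int.ofNat 1))] .nil .nil)) (.node 122 [(108,(Int.ofNat 1))] (.node 120 [(105,(Int.negSucc 0))] .nil .nil) (.node 124 [(117,(Int.negSucc 0))] .nil .nil)))))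
noncomputable def ch42 : Tr (List (ℕ × ℤ)) := (.node 78 [(51,(Int.ofNat 1))] (.node 53 [(36,(Int.negSucc 0))] (.node 27 [(14,(Int.negSucc 0))] (.node 18 [(5,(Int.negSucc 0))] (.node 17 [(4,(Int.negSucc 0))] (.node 7 [(1,(Int.negSucc 0))] .nil .nil) .nil) (.node 19 [(6,(Int.negSucc 0))] .nil .nil)) (.node 29 [(16,(Int.negSucc 0))] (.node 28 [(15,(Int.negSucc 0))] .nil .nil) (.node 32 [(26,(Int.negSucc 0))] .nil .nil))) (.node 58 [(40,(Int.ofNat 1))] (.node 55 [(38,(Int.negSucc 0))] (.node 54 [(37,(Int.negSucc 0))] .nil .nil) (.node 57 [(39,(Int.ofNat 1))] .nil .nil)) (.node 73 [(46,(Int.ofNat 1))] (.node 59 [(41,(Int.ofNat 1))] .nil .nil) (.node 74 [(47,(Int.negSucc 0))] .nil .nil)))) (.node 99 [(93,(Int.ofNat 1))] (.node 86 [(68,(Int.negSucc 0))] (.node 84 [(66,(Int.negSucc 0))] (.node 79 [(52,(Int.negSucc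 0))] .nil .nil) (.node 85 [(67,(Int.negSucc 0))] .nil .nil)) (.node 88 [(71,(Int.ofNat 1))] (.node 87 [(70,(Int.ofNat 1))] .nil .nil) (.node 89 [(72,(Int.ofNat 1))] .nil .nil))) (.node 119 [(106,(Int.ofNat 1))] (.node 110 [(97,(Int.ofNat 1))] (.node 109 [(96,(Int.ofNat 1))] .nil .nil) (.node 111 [(98,(Int.ofNat 1))] .nil .nil)) (.node 121 [(108,(Int.ofNat 1))] (.node 120 [(107,(Int.ofNat 1))] .nil .nil) (.node 124 [(118,(Int.ofNat 1))] .nil .nil)))))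
noncomputable def ch43 : Tr (List (ℕ × ℤ)) := (.node 78 [(53,(Int.negSucc 0))] (.node 49 [(33,(Int.ofNat 1))] (.node 28 [(17,(Int.ofNat 1))] (.node 15 [(4,(Int.ofNat 1))] (.node 13 [(3,(Int.ofNat 1))] (.node 10 [(2,(Int.ofNat 1))] .nil .nil) .nil) (.node 16 [(5,(Int.ofNat 1))] .nil .nil)) (.node 30 [(20,(Int.ofNat 1))] (.node 29 [(18,(Int.ofNat 1))] .nil .nil) (.node 31 [(23,(Int.ofNat 1))] .nil .nil))) (.node 63 [(44,(Int.ofNat 1))] (.node 51 [(36,(Int.ofNat 1))] (.node 50 [(34,(Int.ofNat 1))] .nil .nil) (.node 52 [(39,(Int.ofNat 1))] .nil .nil)) (.node 68 [(46,(Int.ofNat 1))] (.node 65 [(45,(Int.ofNat 1))] .nil .nil) (.node 72 [(47,(Int.ofNat 1))] .nil .nil)))) (.node 102 [(94,(Int.negSucc 0))] (.node 86 [(73,(Int.negSucc 0))] (.node 80 [(60,(Int.negSucc 0))] (.node 79 [(57,(Int.negSucc 0))]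 .nil .nil) (.node 81 [(62,(Int.negSucc 0))] .nil .nil)) (.node 91 [(75,(Int.negSucc 0))] (.node 89 [(74,(Int.negSucc 0))] .nil .nil) (.node 92 [(76,(Int.negSucc 0))] .nil .nil))) (.node 120 [(109,(Int.negSucc 0))] (.node 107 [(96,(Int.negSucc 0))] (.node 105 [(95,(Int.negSucc 0))] .nil .nil) (.node 108 [(97,(Int.negSucc 0))] .nil .nil)) (.node 122 [(112,(Int.negSucc 0))] (.node 121 [(110,(Int.negSucc 0))] .nil .nil) (.node 123 [(115,(Int.negSucc 0))] .nil .nil)))))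
noncomputable def ch44 : Tr (List (ℕ × ℤ)) := (.node 78 [(54,(Int.negSucc 0))] (.node 48 [(33,(Int.negSucc 0))] (.node 27 [(17,(Int.negSucc 0))] (.node 14 [(4,(Int.negSucc 0))] (.node 12 [(3,(Int.negSucc 0))] (.node 9 [(2,(Int.negSucc 0))] .nil .nil) .nil) (.node 16 [(6,(Int.ofNat 1))] .nil .nil)) (.node 30 [(21,(Int.ofNat 1))] (.node 29 [(19,(Int.ofNat 1))] .nil .nil) (.node 31 [(24,(Int.ofNat 1))] .nil .nil))) (.node 62 [(43,(Int.ofNat 1))] (.node 51 [(37,(Int.ofNat 1))] (.node 50 [(35,(Int.ofNat 1))] .nil .nil) (.node 52 [(40,(Int.ofNat 1))] .nil .nil)) (.node 67 [(46,(Int.ofNat 1))] (.node 64 [(45,(Int.ofNat 1))] .nil .nil) (.node 71 [(47,(Int.ofNat 1))] .nil .nil)))) (.node 101 [(94,(Int.negSucc 0))] (.node 85 [(73,(Int.negSucc 0))] (.node 80 [(61,(Int.negSucc 0))] (.node 79 [(58,(Int.negSucc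 0))] .nil .nil) (.node 82 [(63,(Int.negSucc 0))] .nil .nil)) (.node 90 [(75,(Int.negSucc 0))] (.node 88 [(74,(Int.negSucc 0))] .nil .nil) (.node 92 [(77,(Int.ofNat 1))] .nil .nil))) (.node 119 [(109,(Int.negSucc 0))] (.node 106 [(96,(Int.negSucc 0))] (.node 104 [(95,(Int.negSucc 0))] .nil .nil) (.node 108 [(98,(Int.ofNat 1))] .nil .nil)) (.node 122 [(113,(Int.ofNat 1))] (.node 121 [(111,(Int.ofNat 1))] .nil .nil) (.node 123 [(116,(Int.ofNat 1))] .nil .nil)))))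
noncomputable def ch45 : Tr (List (ℕ × ℤ)) := (.node 78 [(55,(Int.negSucc 0))] (.node 48 [(34,(Int.negSucc 0))] (.node 27 [(18,(Int.negSucc 0))] (.node 14 [(5,(Int.negSucc 0))] (.node 11 [(3,(Int.ofNat 1))] (.node 8 [(2,(Int.ofNat 1))] .nil .nil) .nil) (.node 15 [(6,(Int.negSucc 0))] .nil .nil)) (.node 30 [(22,(Int.ofNat 1))] (.node 28 [(19,(Int.negSucc 0))] .nil .nil) (.node 31 [(25,(Int.ofNat 1))] .nil .nil))) (.node 60 [(43,(Int.ofNat 1))] (.node 51 [(38,(Int.ofNat 1))] (.node 49 [(35,(Int.negSucc 0))] .nil .nil) (.node 52 [(41,(Int.ofNat 1))] .nil .nil)) (.node 66 [(46,(Int.ofNat 1))] (.node 61 [(44,(Int.ofNat 1))] .nil .nil) (.node 70 [(47,(Int.ofNat 1))] .nil .nil)))) (.node 100 [(94,(Int.negSucc 0))] (.node 84 [(73,(Int.negSucc 0))] (.node 81 [(64,(Int.negSucc 0))] (.node 79 [(59,(Int.negSucc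 0))] .nil .nil) (.node 82 [(65,(Int.negSucc 0))] .nil .nil)) (.node 90 [(76,(Int.ofNat 1))] (.node 87 [(74,(Int.negSucc 0))] .nil .nil) (.node 91 [(77,(Int.ofNat 1))] .nil .nil))) (.node 119 [(110,(Int.ofNat 1))] (.node 106 [(97,(Int.ofNat 1))] (.node 103 [(95,(Int.negSucc 0))] .nil .nil) (.node 107 [(98,(Int.ofNat 1))] .nil .nil)) (.node 122 [(114,(Int.negSucc 0))] (.node 120 [(111,(Int.ofNat 1))] .nil .nil) (.node 123 [(117,(Int.negSucc 0))] .nil .nil)))))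
noncomputable def ch46 : Tr (List (ℕ × ℤ)) := (.node 78 [(56,(Int.negSucc 0))] (.node 48 [(36,(Int.negSucc 0))] (.node 27 [(20,(Int.negSucc 0))] (.node 12 [(5,(Int.ofNat 1))] (.node 11 [(4,(Int.ofNat 1))] (.node 7 [(2,(Int.negSucc 0))] .nil .nil) .nil) (.node 13 [(6,(Int.ofNat 1))] .nil .nil)) (.node 29 [(22,(Int.negSucc 0))] (.node 28 [(21,(Int.negSucc 0))] .nil .nil) (.node 31 [(26,(Int.ofNat 1))] .nil .nil))) (.node 57 [(43,(Int.ofNat 1))] (.node 50 [(38,(Int.negSucc 0))] (.node 49 [(37,(Int.negSucc 0))] .nil .nil) (.node 52 [(42,(Int.ofNat 1))] .nil .nil)) (.node 59 [(45,(Int.ofNat 1))] (.node 58 [(44,(Int.ofNat 1))] .nil .nil) (.node 69 [(47,(Int.ofNat 1))] .nil .nil)))) (.node 99 [(94,(Int.negSucc 0))] (.node 83 [(73,(Int.negSucc 0))] (.node 81 [(67,(Int.negSucc 0))] (.node 80 [(66,(Int.negSucc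 0))] .nil .nil) (.node 82 [(68,(Int.negSucc 0))] .nil .nil)) (.node 88 [(76,(Int.ofNat 1))] (.node 87 [(75,(Int.ofNat 1))] .nil .nil) (.node 89 [(77,(Int.ofNat 1))] .nil .nil))) (.node 119 [(112,(Int.negSucc 0))] (.node 104 [(97,(Int.ofNat 1))] (.node 103 [(96,(Int.ofNat 1))] .nil .nil) (.node 105 [(98,(Int.ofNat 1))] .nil .nil)) (.node 121 [(114,(Int.negSucc 0))] (.node 120 [(113,(Int.negSucc 0))] .nil .nil) (.node 123 [(118,(Int.ofNat 1))] .nil .nil)))))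
noncomputable def ch47 : Tr (List (ℕ × ℤ)) := (.node 79 [(69,(Int.negSucc 0))] (.node 48 [(39,(Int.negSucc 0))] (.node 27 [(23,(Int.negSucc 0))] (.node 9 [(5,(Int.negSucc 0))] (.node 8 [(4,(Int.negSucc 0))] (.node 7 [(3,(Int.negSucc 0))] .nil .nil) .nil) (.node 10 [(6,(Int.negSucc 0))] .nil .nil)) (.node 29 [(25,(Int.negSucc 0))] (.node 28 [(24,(Int.negSucc 0))] .nil .nil) (.node 30 [(26,(Int.negSucc 0))] .nil .nil))) (.node 53 [(43,(Int.ofNat 1))] (.node 50 [(41,(Int.negSucc 0))] (.node 49 [(40,(Int.negSucc 0))] .nil .nil) (.node 51 [(42,(Int.negSucc 0))] .nil .nil)) (.node 55 [(45,(Int.ofNat 1))] (.node 54 [(44,(Int.ofNat 1))] .nil .nil) (.node 56 [(46,(Int.ofNat 1))] .nil .nil)))) (.node 99 [(95,(Int.ofNat 1))] (.node 83 [(74,(Int.ofNat 1))] (.node 81 [(71,(Int.negSucc 0))] (.node 80 [(70,(Int.negSucc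 0))] .nil .nil) (.node 82 [(72,(Int.negSucc 0))] .nil .nil)) (.node 85 [(76,(Int.ofNat 1))] (.node 84 [(75,(Int.ofNat 1))] .nil .nil) (.node 86 [(77,(Int.ofNat 1))] .nil .nil))) (.node 119 [(115,(Int.ofNat 1))] (.node 101 [(97,(Int.ofNat 1))] (.node 100 [(96,(Int.ofNat 1))] .nil .nil) (.node 102 [(98,(Int.ofNat 1))] .nil .nil)) (.node 121 [(117,(Int.ofNat 1))] (.node 120 [(116,(Int.ofNat 1))] .nil .nil) (.node 122 [(118,(Int.ofNat 1))] .nil .nil)))))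
noncomputable def ch48 : Tr (List (ℕ × ℤ)) := (.node 73 [(53,(Int.negSucc 0))] (.node 44 [(33,(Int.ofNat 1))] (.node 24 [(11,(Int.negSucc 0))] (.node 21 [(8,(Int.negSucc 0))] (.node 19 [(7,(Int.negSucc 0))] (.node 6 [(1,(Int.negSucc 0))] .nil .nil) .nil) (.node 22 [(9,(Int.negSucc 0))] .nil .nil)) (.node 26 [(14,(Int.negSucc 0))] (.node 25 [(12,(Int.negSucc 0))] .nil .nil) (.node 32 [(27,(Int.negSucc 0))] .nil .nil))) (.node 63 [(49,(Int.ofNat 1))] (.node 46 [(36,(Int.ofNat 1))] (.node 45 [(34,(Int.ofNat 1))] .nil .nil) (.node 47 [(39,(Int.ofNat 1))] .nil .nil)) (.node 68 [(51,(Int.ofNat 1))] (.node 65 [(50,(Int.ofNat 1))] .nil .nil) (.node 72 [(52,(Int.ofNat 1))] .nil .nil)))) (.node 98 [(93,(Int.ofNat 1))] (.node 86 [(78,(Int.negSucc 0))] (.node 75 [(60,(Int.negSucc 0))] (.node 74 [(57,(Int.negSucc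 0))] .nil .nil) (.node 76 [(62,(Int.negSucc 0))] .nil .nil)) (.node 91 [(80,(Int.negSucc 0))] (.node 89 [(79,(Int.negSucc 0))] .nil .nil) (.node 92 [(81,(Int.negSucc 0))] .nil .nil))) (.node 116 [(103,(Int.ofNat 1))] (.node 113 [(100,(Int.ofNat 1))] (.node 111 [(99,(Int.ofNat 1))] .nil .nil) (.node 114 [(101,(Int.ofNat 1))] .nil .nil)) (.node 118 [(106,(Int.ofNat 1))] (.node 117 [(104,(Int.ofNat 1))] .nil .nil) (.node 124 [(119,(Int.ofNat 1))] .nil .nil)))))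
noncomputable def ch49 : Tr (List (ℕ × ℤ)) := (.node 73 [(54,(Int.negSucc 0))] (.node 43 [(33,(Int.negSucc 0))] (.node 23 [(11,(Int.ofNat 1))] (.node 20 [(8,(Int.ofNat 1))] (.node 18 [(7,(Int.ofNat 1))] (.node 5 [(1,(Int.ofNat 1))] .nil .nil) .nil) (.node 22 [(10,(Int.negSucc 0))] .nil .nil)) (.node 26 [(15,(Int.negSucc 0))] (.node 25 [(13,(Int.negSucc 0))] .nil .nil) (.node 32 [(28,(Int.negSucc 0))] .nil .nil))) (.node 62 [(48,(Int.ofNat 1))] (.node 46 [(37,(Int.ofNat 1))] (.node 45 [(35,(Int.ofNat 1))] .nil .nil) (.node 47 [(40,(Int.ofNat 1))] .nil .nil)) (.node 67 [(51,(Int.ofNat 1))] (.node 64 [(50,(Int.ofNat 1))] .nil .nil) (.node 71 [(52,(Int.ofNat 1))] .nil .nil)))) (.node 97 [(93,(Int.ofNat 1))] (.node 85 [(78,(Int.negSucc 0))] (.node 75 [(61,(Int.negSucc 0))] (.node 74 [(58,(Int.negSucc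 0))] .nil .nil) (.node 77 [(63,(Int.negSucc 0))] .nil .nil)) (.node 90 [(80,(Int.negSucc 0))] (.node 88 [(79,(Int.negSucc 0))] .nil .nil) (.node 92 [(82,(Int.ofNat 1))] .nil .nil))) (.node 115 [(103,(Int.ofNat 1))] (.node 112 [(100,(Int.ofNat 1))] (.node 110 [(99,(Int.ofNat 1))] .nil .nil) (.node 114 [(102,(Int.negSucc 0))] .nil .nil)) (.node 118 [(107,(Int.negSucc 0))] (.node 117 [(105,(Int.negSucc 0))] .nil .nil) (.node 124 [(120,(Int.negSucc 0))] .nil .nil)))))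
noncomputable def ch50 : Tr (List (ℕ × ℤ)) := (.node 73 [(55,(Int.negSucc 0))] (.node 43 [(34,(Int.negSucc 0))] (.node 23 [(12,(Int.ofNat 1))] (.node 20 [(9,(Int.ofNat 1))] (.node 17 [(7,(Int.negSucc 0))] (.node 4 [(1,(Int.negSucc 0))] .nil .nil) .nil) (.node 21 [(10,(Int.ofNat 1))] .nil .nil)) (.node 26 [(16,(Int.negSucc 0))] (.node 24 [(13,(Int.ofNat 1))] .nil .nil) (.node 32 [(29,(Int.negSucc 0))] .nil .nil))) (.node 60 [(48,(Int.ofNat 1))] (.node 46 [(38,(Int.ofNat 1))] (.node 44 [(35,(Int.negSucc 0))] .nil .nil) (.node 47 [(41,(Int.ofNat 1))] .nil .nil)) (.node 66 [(51,(Int.ofNat 1))] (.node 61 [(49,(Int.ofNat 1))] .nil .nil) (.node 70 [(52,(Int.ofNat 1))] .nil .nil)))) (.node 96 [(93,(Int.ofNat 1))] (.node 84 [(78,(Int.negSucc 0))] (.node 76 [(64,(Int.negSucc 0))] (.node 74 [(59,(Int.negSucc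 0))] .nil .nil) (.node 77 [(65,(Int.negSucc 0))] .nil .nil)) (.node 90 [(81,(Int.ofNat 1))] (.node 87 [(79,(Int.negSucc 0))] .nil .nil) (.node 91 [(82,(Int.ofNat 1))] .nil .nil))) (.node 115 [(104,(Int.negSucc 0))] (.node 112 [(101,(Int.negSucc 0))] (.node 109 [(99,(Int.ofNat 1))] .nil .nil) (.node 113 [(102,(Int.negSucc 0))] .nil .nil)) (.node 118 [(108,(Int.ofNat 1))] (.node 116 [(105,(Int.negSucc 0))] .nil .nil) (.node 124 [(121,(Int.ofNat 1))] .nil .nil)))))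
noncomputable def ch51 : Tr (List (ℕ × ℤ)) := (.node 73 [(56,(Int.negSucc 0))] (.node 43 [(36,(Int.negSucc 0))] (.node 23 [(14,(Int.ofNat 1))] (.node 18 [(9,(Int.negSucc 0))] (.node 17 [(8,(Int.negSucc 0))] (.node 3 [(1,(Int.ofNat 1))] .nil .nil) .nil) (.node 19 [(10,(Int.negSucc 0))] .nil .nil)) (.node 25 [(16,(Int.ofNat 1))] (.node 24 [(15,(Int.ofNat 1))] .nil .nil) (.node 32 [(30,(Int.negSucc 0))] .nil .nil))) (.node 57 [(48,(Int.ofNat 1))] (.node 45 [(38,(Int.negSucc 0))] (.node 44 [(37,(Int.negSucc 0))] .nil .nil) (.node 47 [(42,(Int.ofNat 1))] .nil .nil)) (.node 59 [(50,(Int.ofNat 1))] (.node 58 [(49,(Int.ofNat 1))] .nil .nil) (.node 69 [(52,(Int.ofNat 1))] .nil .nil)))) (.node 95 [(93,(Int.ofNat 1))] (.node 83 [(78,(Int.negSucc 0))] (.node 76 [(67,(Int.negSucc 0))] (.node 75 [(66,(Int.negSucc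 0))] .nil .nil) (.node 77 [(68,(Int.negSucc 0))] .nil .nil)) (.node 88 [(81,(Int.ofNat 1))] (.node 87 [(80,(Int.ofNat 1))] .nil .nil) (.node 89 [(82,(Int.ofNat 1))] .nil .nil))) (.node 115 [(106,(Int.ofNat 1))] (.node 110 [(101,(Int.negSucc 0))] (.node 109 [(100,(Int.negSucc 0))] .nil .nil) (.node 111 [(102,(Int.negSucc 0))] .nil .nil)) (.node 117 [(108,(Int.ofNat 1))] (.node 116 [(107,(Int.ofNat 1))] .nil .nil) (.node 124 [(122,(Int.negSucc 0))] .nil .nil)))))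
noncomputable def ch52 : Tr (List (ℕ × ℤ)) := (.node 74 [(69,(Int.negSucc 0))] (.node 43 [(39,(Int.negSucc 0))] (.node 20 [(14,(Int.negSucc 0))] (.node 18 [(12,(Int.negSucc 0))] (.node 17 [(11,(Int.negSucc 0))] (.node 2 [(1,(Int.negSucc 0))] .nil .nil) .nil) (.node 19 [(13,(Int.negSucc 0))] .nil .nil)) (.node 22 [(16,(Int.negSucc 0))] (.node 21 [(15,(Int.negSucc 0))] .nil .nil) (.node 32 [(31,(Int.negSucc 0))] .nil .nil))) (.node 53 [(48,(Int.ofNat 1))] (.node 45 [(41,(Int.negSucc 0))] (.node 44 [(40,(Int.negSucc 0))] .nil .nil) (.node 46 [(42,(Int.negSucc 0))] .nil .nil)) (.node 55 [(50,(Int.ofNat 1))] (.node 54 [(49,(Int.ofNat 1))] .nil .nil) (.node 56 [(51,(Int.ofNat 1))] .nil .nil)))) (.node 94 [(93,(Int.ofNat 1))] (.node 83 [(79,(Int.ofNat 1))] (.node 76 [(71,(Int.negSucc 0))] (.node 75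 [(70,(Int.negSucc 0))] .nil .nil) (.node 77 [(72,(Int.negSucc 0))] .nil .nil)) (.node 85 [(81,(Int.ofNat 1))] (.node 84 [(80,(Int.ofNat 1))] .nil .nil) (.node 86 [(82,(Int.ofNat 1))] .nil .nil))) (.node 112 [(106,(Int.ofNat 1))] (.node 110 [(104,(Int.ofNat 1))] (.node 109 [(103,(Int.ofNat 1))] .nil .nil) (.node 111 [(105,(Int.ofNat 1))] .nil .nil)) (.node 114 [(108,(Int.ofNat 1))] (.node 113 [(107,(Int.ofNat 1))] .nil .nil) (.node 124 [(123,(Int.ofNat 1))] .nil .nil)))))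
noncomputable def ch53 : Tr (List (ℕ × ℤ)) := (.node 69 [(57,(Int.negSucc 0))] (.node 40 [(33,(Int.ofNat 1))] (.node 24 [(17,(Int.ofNat 1))] (.node 15 [(8,(Int.negSucc 0))] (.node 13 [(7,(Int.negSucc 0))] (.node 6 [(2,(Int.ofNat 1))] .nil .nil) .nil) (.node 16 [(9,(Int.negSucc 0))] .nil .nil)) (.node 26 [(20,(Int.ofNat 1))] (.node 25 [(18,(Int.ofNat 1))] .nil .nil) (.node 31 [(27,(Int.negSucc 0))] .nil .nil))) (.node 52 [(48,(Int.negSucc 0))] (.node 42 [(36,(Int.ofNat 1))] (.node 41 [(34,(Int.ofNat 1))] .nil .nil) (.node 47 [(43,(Int.negSucc 0))] .nil .nil)) (.node 65 [(55,(Int.ofNat 1))] (.node 63 [(54,(Int.ofNat 1))] .nil .nil) (.node 68 [(56,(Int.ofNat 1))] .nil .nil)))) (.node 98 [(94,(Int.ofNat 1))] (.node 82 [(78,(Int.ofNat 1))] (.node 71 [(62,(Int.negSucc 0))] (.node 70 [(60,(Int.negSucc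 0))] .nil .nil) (.node 77 [(73,(Int.ofNat 1))] .nil .nil)) (.node 91 [(84,(Int.negSucc 0))] (.node 89 [(83,(Int.negSucc 0))] .nil .nil) (.node 92 [(85,(Int.negSucc 0))] .nil .nil))) (.node 116 [(109,(Int.ofNat 1))] (.node 107 [(100,(Int.negSucc 0))] (.node 105 [(99,(Int.negSucc 0))] .nil .nil) (.node 108 [(101,(Int.negSucc 0))] .nil .nil)) (.node 118 [(112,(Int.ofNat 1))] (.node 117 [(110,(Int.ofNat 1))] .nil .nil) (.node 123 [(119,(Int.negSucc 0))] .nil .nil)))))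
noncomputable def ch54 : Tr (List (ℕ × ℤ)) := (.node 69 [(58,(Int.negSucc 0))] (.node 39 [(33,(Int.negSucc 0))] (.node 23 [(17,(Int.negSucc 0))] (.node 14 [(8,(Int.ofNat 1))] (.node 12 [(7,(Int.ofNat 1))] (.node 5 [(2,(Int.negSucc 0))] .nil .nil) .nil) (.node 16 [(10,(Int.negSucc 0))] .nil .nil)) (.node 26 [(21,(Int.ofNat 1))] (.node 25 [(19,(Int.ofNat 1))] .nil .nil) (.node 31 [(28,(Int.negSucc 0))] .nil .nil))) (.node 52 [(49,(Int.negSucc 0))] (.node 42 [(37,(Int.ofNat 1))] (.node 41 [(35,(Int.ofNat 1))] .nil .nil) (.node 47 [(44,(Int.negSucc 0))] .nil .nil)) (.node 64 [(55,(Int.ofNat 1))] (.node 62 [(53,(Int.ofNat 1))] .nil .nil) (.node 67 [(56,(Int.ofNat 1))] .nil .nil)))) (.node 97 [(94,(Int.ofNat 1))] (.node 81 [(78,(Int.ofNat 1))] (.node 72 [(63,(Int.negSucc 0))] (.node 70 [(61,(Int.negSucc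 0))] .nil .nil) (.node 76 [(73,(Int.ofNat 1))] .nil .nil)) (.node 90 [(84,(Int.negSucc 0))] (.node 88 [(83,(Int.negSucc 0))] .nil .nil) (.node 92 [(86,(Int.ofNat 1))] .nil .nil))) (.node 115 [(109,(Int.ofNat 1))] (.node 106 [(100,(Int.negSucc 0))] (.node 104 [(99,(Int.negSucc 0))] .nil .nil) (.node 108 [(102,(Int.ofNat 1))] .nil .nil)) (.node 118 [(113,(Int.negSucc 0))] (.node 117 [(111,(Int.negSucc 0))] .nil .nil) (.node 123 [(120,(Int.ofNat 1))] .nil .nil)))))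
noncomputable def ch55 : Tr (List (ℕ × ℤ)) := (.node 69 [(59,(Int.negSucc 0))] (.node 39 [(34,(Int.negSucc 0))] (.node 23 [(18,(Int.negSucc 0))] (.node 14 [(9,(Int.ofNat 1))] (.node 11 [(7,(Int.negSucc 0))] (.node 4 [(2,(Int.ofNat 1))] .nil .nil) .nil) (.node 15 [(10,(Int.ofNat 1))] .nil .nil)) (.node 26 [(22,(Int.ofNat 1))] (.node 24 [(19,(Int.negSucc 0))] .nil .nil) (.node 31 [(29,(Int.negSucc 0))] .nil .nil))) (.node 52 [(50,(Int.negSucc 0))] (.node 42 [(38,(Int.ofNat 1))] (.node 40 [(35,(Int.negSucc 0))] .nil .nil) (.node 47 [(45,(Int.negSucc 0))] .nil .nil)) (.node 61 [(54,(Int.ofNat 1))] (.node 60 [(53,(Int.ofNat 1))] .nil .nil) (.node 66 [(56,(Int.ofNat 1))] .nil .nil)))) (.node 96 [(94,(Int.ofNat 1))] (.node 80 [(78,(Int.ofNat 1))] (.node 72 [(65,(Int.negSucc 0))] (.node 71 [(64,(Int.negSucc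 0))] .nil .nil) (.node 75 [(73,(Int.ofNat 1))] .nil .nil)) (.node 90 [(85,(Int.ofNat 1))] (.node 87 [(83,(Int.negSucc 0))] .nil .nil) (.node 91 [(86,(Int.ofNat 1))] .nil .nil))) (.node 115 [(110,(Int.negSucc 0))] (.node 106 [(101,(Int.ofNat 1))] (.node 103 [(99,(Int.negSucc 0))] .nil .nil) (.node 107 [(102,(Int.ofNat 1))] .nil .nil)) (.node 118 [(114,(Int.ofNat 1))] (.node 116 [(111,(Int.negSucc 0))] .nil .nil) (.node 123 [(121,(Int.negSucc 0))] .nil .nil)))))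
noncomputable def ch56 : Tr (List (ℕ × ℤ)) := (.node 70 [(66,(Int.negSucc 0))] (.node 39 [(36,(Int.negSucc 0))] (.node 23 [(20,(Int.negSucc 0))] (.node 12 [(9,(Int.negSucc 0))] (.node 11 [(8,(Int.negSucc 0))] (.node 3 [(2,(Int.negSucc 0))] .nil .nil) .nil) (.node 13 [(10,(Int.negSucc 0))] .nil .nil)) (.node 25 [(22,(Int.negSucc 0))] (.node 24 [(21,(Int.negSucc 0))] .nil .nil) (.node 31 [(30,(Int.negSucc 0))] .nil .nil))) (.node 52 [(51,(Int.negSucc 0))] (.node 41 [(38,(Int.negSucc 0))] (.node 40 [(37,(Int.negSucc 0))] .nil .nil) (.node 47 [(46,(Int.negSucc 0))] .nil .nil)) (.node 58 [(54,(Int.ofNat 1))] (.node 57 [(53,(Int.ofNat 1))] .nil .nil) (.node 59 [(55,(Int.ofNat 1))] .nil .nil)))) (.node 95 [(94,(Int.ofNat 1))] (.node 79 [(78,(Int.ofNat 1))] (.node 72 [(68,(Int.negSucc 0))] (.node 71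 [(67,(Int.negSucc 0))] .nil .nil) (.node 74 [(73,(Int.ofNat 1))] .nil .nil)) (.node 88 [(85,(Int.ofNat 1))] (.node 87 [(84,(Int.ofNat 1))] .nil .nil) (.node 89 [(86,(Int.ofNat 1))] .nil .nil))) (.node 115 [(112,(Int.ofNat 1))] (.node 104 [(101,(Int.ofNat 1))] (.node 103 [(100,(Int.ofNat 1))] .nil .nil) (.node 105 [(102,(Int.ofNat 1))] .nil .nil)) (.node 117 [(114,(Int.ofNat 1))] (.node 116 [(113,(Int.ofNat 1))] .nil .nil) (.node 123 [(122,(Int.ofNat 1))] .nil .nil)))))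
noncomputable def ch57 : Tr (List (ℕ × ℤ)) := (.node 66 [(60,(Int.negSucc 0))] (.node 37 [(33,(Int.ofNat 1))] (.node 21 [(17,(Int.ofNat 1))] (.node 15 [(11,(Int.ofNat 1))] (.node 10 [(7,(Int.negSucc 0))] (.node 6 [(3,(Int.negSucc 0))] .nil .nil) .nil) (.node 16 [(12,(Int.ofNat 1))] .nil .nil)) (.node 26 [(23,(Int.negSucc 0))] (.node 22 [(18,(Int.ofNat 1))] .nil .nil) (.node 30 [(27,(Int.negSucc 0))] .nil .nil))) (.node 51 [(48,(Int.negSucc 0))] (.node 42 [(39,(Int.negSucc 0))] (.node 38 [(34,(Int.ofNat 1))] .nil .nil) (.node 46 [(43,(Int.negSucc 0))] .nil .nil)) (.node 63 [(58,(Int.ofNat 1))] (.node 56 [(53,(Int.negSucc 0))] .nil .nil) (.node 65 [(59,(Int.ofNat 1))] .nil .nil)))) (.node 98 [(95,(Int.ofNat 1))] (.node 82 [(79,(Int.ofNat 1))] (.node 72 [(69,(Int.ofNat 1))] (.node 67 [(62,(Int.negSucc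 0))] .nil .nil) (.node 77 [(74,(Int.ofNat 1))] .nil .nil)) (.node 91 [(87,(Int.negSucc 0))] (.node 86 [(83,(Int.ofNat 1))] .nil .nil) (.node 92 [(88,(Int.negSucc 0))] .nil .nil))) (.node 113 [(109,(Int.negSucc 0))] (.node 107 [(103,(Int.negSucc 0))] (.node 102 [(99,(Int.ofNat 1))] .nil .nil) (.node 108 [(104,(Int.negSucc 0))] .nil .nil)) (.node 118 [(115,(Int.ofNat 1))] (.node 114 [(110,(Int.negSucc 0))] .nil .nil) (.node 122 [(119,(Int.ofNat 1))] .nil .nil)))))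
noncomputable def ch58 : Tr (List (ℕ × ℤ)) := (.node 66 [(61,(Int.negSucc 0))] (.node 36 [(33,(Int.negSucc 0))] (.node 20 [(17,(Int.negSucc 0))] (.node 14 [(11,(Int.negSucc 0))] (.node 9 [(7,(Int.ofNat 1))] (.node 5 [(3,(Int.ofNat 1))] .nil .nil) .nil) (.node 16 [(13,(Int.ofNat 1))] .nil .nil)) (.node 26 [(24,(Int.negSucc 0))] (.node 22 [(19,(Int.ofNat 1))] .nil .nil) (.node 30 [(28,(Int.negSucc 0))] .nil .nil))) (.node 51 [(49,(Int.negSucc 0))] (.node 42 [(40,(Int.negSucc 0))] (.node 38 [(35,(Int.ofNat 1))] .nil .nil) (.node 46 [(44,(Int.negSucc 0))] .nil .nil)) (.node 62 [(57,(Int.ofNat 1))] (.node 56 [(54,(Int.negSucc 0))] .nil .nil) (.node 64 [(59,(Int.ofNat 1))] .nil .nil)))) (.node 97 [(95,(Int.ofNat 1))] (.node 81 [(79,(Int.ofNat 1))] (.node 71 [(69,(Int.ofNat 1))] (.node 68 [(63,(Int.negSucc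 0))] .nil .nil) (.node 76 [(74,(Int.ofNat 1))] .nil .nil)) (.node 90 [(87,(Int.negSucc 0))] (.node 85 [(83,(Int.ofNat 1))] .nil .nil) (.node 92 [(89,(Int.ofNat 1))] .nil .nil))) (.node 112 [(109,(Int.negSucc 0))] (.node 106 [(103,(Int.negSucc 0))] (.node 101 [(99,(Int.ofNat 1))] .nil .nil) (.node 108 [(105,(Int.ofNat 1))] .nil .nil)) (.node 118 [(116,(Int.negSucc 0))] (.node 114 [(111,(Int.ofNat 1))] .nil .nil) (.node 122 [(120,(Int.negSucc 0))] .nil .nil)))))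
noncomputable def ch59 : Tr (List (ℕ × ℤ)) := (.node 67 [(64,(Int.negSucc 0))] (.node 36 [(34,(Int.negSucc 0))] (.node 20 [(18,(Int.negSucc 0))] (.node 14 [(12,(Int.negSucc 0))] (.node 8 [(7,(Int.negSucc 0))] (.node 4 [(3,(Int.negSucc 0))] .nil .nil) .nil) (.node 15 [(13,(Int.negSucc 0))] .nil .nil)) (.node 26 [(25,(Int.negSucc 0))] (.node 21 [(19,(Int.negSucc 0))] .nil .nil) (.node 30 [(29,(Int.negSucc 0))] .nil .nil))) (.node 51 [(50,(Int.negSucc 0))] (.node 42 [(41,(Int.negSucc 0))] (.node 37 [(35,(Int.negSucc 0))] .nil .nil) (.node 46 [(45,(Int.negSucc 0))] .nil .nil)) (.node 60 [(57,(Int.ofNat 1))] (.node 56 [(55,(Int.negSucc 0))] .nil .nil) (.node 61 [(58,(Int.ofNat 1))] .nil .nil)))) (.node 96 [(95,(Int.ofNat 1))] (.node 80 [(79,(Int.ofNat 1))] (.node 70 [(69,(Int.ofNat 1))] (.node 68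 [(65,(Int.negSucc 0))] .nil .nil) (.node 75 [(74,(Int.ofNat 1))] .nil .nil)) (.node 90 [(88,(Int.ofNat 1))] (.node 84 [(83,(Int.ofNat 1))] .nil .nil) (.node 91 [(89,(Int.ofNat 1))] .nil .nil))) (.node 112 [(110,(Int.ofNat 1))] (.node 106 [(104,(Int.ofNat 1))] (.node 100 [(99,(Int.ofNat 1))] .nil .nil) (.node 107 [(105,(Int.ofNat 1))] .nil .nil)) (.node 118 [(117,(Int.ofNat 1))] (.node 113 [(111,(Int.ofNat 1))] .nil .nil) (.node 122 [(121,(Int.ofNat 1))] .nil .nil)))))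
noncomputable def ch60 : Tr (List (ℕ × ℤ)) := (.node 64 [(62,(Int.negSucc 0))] (.node 35 [(33,(Int.ofNat 1))] (.node 19 [(17,(Int.ofNat 1))] (.node 13 [(11,(Int.ofNat 1))] (.node 10 [(8,(Int.ofNat 1))] (.node 6 [(4,(Int.ofNat 1))] .nil .nil) .nil) (.node 16 [(14,(Int.negSucc 0))] .nil .nil)) (.node 25 [(23,(Int.negSucc 0))] (.node 22 [(20,(Int.negSucc 0))] .nil .nil) (.node 29 [(27,(Int.negSucc 0))] .nil .nil))) (.node 50 [(48,(Int.negSucc 0))] (.node 41 [(39,(Int.negSucc 0))] (.node 38 [(36,(Int.negSucc 0))] .nil .nil) (.node 45 [(43,(Int.negSucc 0))] .nil .nil)) (.node 59 [(57,(Int.negSucc 0))] (.node 55 [(53,(Int.negSucc 0))] .nil .nil) (.node 63 [(61,(Int.ofNat 1))] .nil .nil)))) (.node 98 [(96,(Int.ofNat 1))] (.node 82 [(80,(Int.ofNat 1))] (.node 72 [(70,(Int.ofNat 1))] (.node 68 [(66,(Int.ofNat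 1))] .nil .nil) (.node 77 [(75,(Int.ofNat 1))] .nil .nil)) (.node 89 [(87,(Int.ofNat 1))] (.node 86 [(84,(Int.ofNat 1))] .nil .nil) (.node 92 [(90,(Int.negSucc 0))] .nil .nil))) (.node 111 [(109,(Int.ofNat 1))] (.node 105 [(103,(Int.ofNat 1))] (.node 102 [(100,(Int.ofNat 1))] .nil .nil) (.node 108 [(106,(Int.negSucc 0))] .nil .nil)) (.node 117 [(115,(Int.negSucc 0))] (.node 114 [(112,(Int.negSucc 0))] .nil .nil) (.node 121 [(119,(Int.negSucc 0))] .nil .nil)))))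
noncomputable def ch61 : Tr (List (ℕ × ℤ)) := (.node 65 [(63,(Int.negSucc 0))] (.node 34 [(33,(Int.negSucc 0))] (.node 18 [(17,(Int.negSucc 0))] (.node 12 [(11,(Int.negSucc 0))] (.node 9 [(8,(Int.negSucc 0))] (.node 5 [(4,(Int.negSucc 0))] .nil .nil) .nil) (.node 16 [(15,(Int.negSucc 0))] .nil .nil)) (.node 25 [(24,(Int.negSucc 0))] (.node 22 [(21,(Int.negSucc 0))] .nil .nil) (.node 29 [(28,(Int.negSucc 0))] .nil .nil))) (.node 50 [(49,(Int.negSucc 0))] (.node 41 [(40,(Int.negSucc 0))] (.node 38 [(37,(Int.negSucc 0))] .nil .nil) (.node 45 [(44,(Int.negSucc 0))] .nil .nil)) (.node 59 [(58,(Int.negSucc 0))] (.node 55 [(54,(Int.negSucc 0))] .nil .nil) (.node 62 [(60,(Int.ofNat 1))] .nil .nil)))) (.node 97 [(96,(Int.ofNat 1))] (.node 81 [(80,(Int.ofNat 1))] (.node 71 [(70,(Int.ofNat 1))] (.node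 67 [(66,(Int.ofNat 1))] .nil .nil) (.node 76 [(75,(Int.ofNat 1))] .nil .nil)) (.node 88 [(87,(Int.ofNat 1))] (.node 85 [(84,(Int.ofNat 1))] .nil .nil) (.node 92 [(91,(Int.ofNat 1))] .nil .nil))) (.node 110 [(109,(Int.ofNat 1))] (.node 104 [(103,(Int.ofNat 1))] (.node 101 [(100,(Int.ofNat 1))] .nil .nil) (.node 108 [(107,(Int.ofNat 1))] .nil .nil)) (.node 117 [(116,(Int.ofNat 1))] (.node 114 [(113,(Int.ofNat 1))] .nil .nil) (.node 121 [(120,(Int.ofNat 1))] .nil .nil)))))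
noncomputable def ch62 : Tr (List (ℕ × ℤ)) := (.node 65 [(64,(Int.ofNat 1))] (.node 35 [(34,(Int.negSucc 0))] (.node 19 [(18,(Int.negSucc 0))] (.node 13 [(12,(Int.negSucc 0))] (.node 10 [(9,(Int.negSucc 0))] (.node 6 [(5,(Int.negSucc 0))] .nil .nil) .nil) (.node 15 [(14,(Int.negSucc 0))] .nil .nil)) (.node 24 [(23,(Int.negSucc 0))] (.node 21 [(20,(Int.negSucc 0))] .nil .nil) (.node 28 [(27,(Int.negSucc 0))] .nil .nil))) (.node 49 [(48,(Int.negSucc 0))] (.node 40 [(39,(Int.negSucc 0))] (.node 37 [(36,(Int.negSucc 0))] .nil .nil) (.node 44 [(43,(Int.negSucc 0))] .nil .nil)) (.node 58 [(57,(Int.negSucc 0))] (.node 54 [(53,(Int.negSucc 0))] .nil .nil) (.node 61 [(60,(Int.negSucc 0))] .nil .nil)))) (.node 98 [(97,(Int.ofNat 1))] (.node 82 [(81,(Int.ofNat 1))] (.node 72 [(71,(Int.ofNat 1))] (.node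 68 [(67,(Int.ofNat 1))] .nil .nil) (.node 77 [(76,(Int.ofNat 1))] .nil .nil)) (.node 89 [(88,(Int.ofNat 1))] (.node 86 [(85,(Int.ofNat 1))] .nil .nil) (.node 91 [(90,(Int.ofNat 1))] .nil .nil))) (.node 111 [(110,(Int.ofNat 1))] (.node 105 [(104,(Int.ofNat 1))] (.node 102 [(101,(Int.ofNat 1))] .nil .nil) (.node 107 [(106,(Int.ofNat 1))] .nil .nil)) (.node 116 [(115,(Int.ofNat 1))] (.node 113 [(112,(Int.ofNat 1))] .nil .nil) (.node 120 [(119,(Int.ofNat 1))] .nil .nil)))))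
noncomputable def ch63 : Tr (List (ℕ × ℤ)) := (.node 64 [(65,(Int.ofNat 1))] (.node 34 [(35,(Int.negSucc 0))] (.node 18 [(19,(Int.negSucc 0))] (.node 12 [(13,(Int.negSucc 0))] (.node 9 [(10,(Int.negSucc 0))] (.node 5 [(6,(Int.negSucc 0))] .nil .nil) .nil) (.node 14 [(15,(Int.negSucc 0))] .nil .nil)) (.node 23 [(24,(Int.negSucc 0))] (.node 20 [(21,(Int.negSucc 0))] .nil .nil) (.node 27 [(28,(Int.negSucc 0))] .nil .nil))) (.node 48 [(49,(Int.negSucc 0))] (.node 39 [(40,(Int.negSucc 0))] (.node 36 [(37,(Int.negSucc 0))] .nil .nil) (.node 43 [(44,(Int.negSucc 0))] .nil .nil)) (.node 57 [(58,(Int.negSucc 0))] (.node 53 [(54,(Int.negSucc 0))] .nil .nil) (.node 60 [(61,(Int.negSucc 0))] .nil .nil)))) (.node 97 [(98,(Int.ofNat 1))] (.node 81 [(82,(Int.ofNat 1))] (.node 71 [(72,(Int.ofNat 1))] (.node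 67 [(68,(Int.ofNat 1))] .nil .nil) (.node 76 [(77,(Int.ofNat 1))] .nil .nil)) (.node 88 [(89,(Int.ofNat 1))] (.node 85 [(86,(Int.ofNat 1))] .nil .nil) (.node 90 [(91,(Int.ofNat 1))] .nil .nil))) (.node 110 [(111,(Int.ofNat 1))] (.node 104 [(105,(Int.ofNat 1))] (.node 101 [(102,(Int.ofNat 1))] .nil .nil) (.node 106 [(107,(Int.ofNat 1))] .nil .nil)) (.node 115 [(116,(Int.ofNat 1))] (.node 112 [(113,(Int.ofNat 1))] .nil .nil) (.node 119 [(120,(Int.ofNat 1))] .nil .nil)))))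
noncomputable def ch64 : Tr (List (ℕ × ℤ)) := (.node 63 [(65,(Int.negSucc 0))] (.node 33 [(34,(Int.negSucc 0))] (.node 17 [(18,(Int.negSucc 0))] (.node 11 [(12,(Int.negSucc 0))] (.node 8 [(9,(Int.negSucc 0))] (.node 4 [(5,(Int.negSucc 0))] .nil .nil) .nil) (.node 15 [(16,(Int.negSucc 0))] .nil .nil)) (.node 24 [(25,(Int.negSucc 0))] (.node 21 [(22,(Int.negSucc 0))] .nil .nil) (.node 28 [(29,(Int.negSucc 0))] .nil .nil))) (.node 49 [(50,(Int.negSucc 0))] (.node 40 [(41,(Int.negSucc 0))] (.node 37 [(38,(Int.negSucc 0))] .nil .nil) (.node 44 [(45,(Int.negSucc 0))] .nil .nil)) (.node 58 [(59,(Int.negSucc 0))] (.node 54 [(55,(Int.negSucc 0))] .nil .nil) (.node 60 [(62,(Int.ofNat 1))] .nil .nil)))) (.node 96 [(97,(Int.ofNat 1))] (.node 80 [(81,(Int.ofNat 1))] (.node 70 [(71,(Int.ofNat 1))] (.node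 66 [(67,(Int.ofNat 1))] .nil .nil) (.node 75 [(76,(Int.ofNat 1))] .nil .nil)) (.node 87 [(88,(Int.ofNat 1))] (.node 84 [(85,(Int.ofNat 1))] .nil .nil) (.node 91 [(92,(Int.ofNat 1))] .nil .nil))) (.node 109 [(110,(Int.ofNat 1))] (.node 103 [(104,(Int.ofNat 1))] (.node 100 [(101,(Int.ofNat 1))] .nil .nil) (.node 107 [(108,(Int.ofNat 1))] .nil .nil)) (.node 116 [(117,(Int.ofNat 1))] (.node 113 [(114,(Int.ofNat 1))] .nil .nil) (.node 120 [(121,(Int.ofNat 1))] .nil .nil)))))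
noncomputable def ch65 : Tr (List (ℕ × ℤ)) := (.node 62 [(64,(Int.negSucc 0))] (.node 33 [(35,(Int.ofNat 1))] (.node 17 [(19,(Int.ofNat 1))] (.node 11 [(13,(Int.ofNat 1))] (.node 8 [(10,(Int.ofNat 1))] (.node 4 [(6,(Int.ofNat 1))] .nil .nil) .nil) (.node 14 [(16,(Int.negSucc 0))] .nil .nil)) (.node 23 [(25,(Int.negSucc 0))] (.node 20 [(22,(Int.negSucc 0))] .nil .nil) (.node 27 [(29,(Int.negSucc 0))] .nil .nil))) (.node 48 [(50,(Int.negSucc 0))] (.node 39 [(41,(Int.negSucc 0))] (.node 36 [(38,(Int.negSucc 0))] .nil .nil) (.node 43 [(45,(Int.negSucc 0))] .nil .nil)) (.node 57 [(59,(Int.negSucc 0))] (.node 53 [(55,(Int.negSucc 0))] .nil .nil) (.node 61 [(63,(Int.ofNat 1))] .nil .nil)))) (.node 96 [(98,(Int.ofNat 1))] (.node 80 [(82,(Int.ofNat 1))] (.node 70 [(72,(Int.ofNat 1))] (.node 66 [(68,(Int.ofNat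 1))] .nil .nil) (.node 75 [(77,(Int.ofNat 1))] .nil .nil)) (.node 87 [(89,(Int.ofNat 1))] (.node 84 [(86,(Int.ofNat 1))] .nil .nil) (.node 90 [(92,(Int.negSucc 0))] .nil .nil))) (.node 109 [(111,(Int.ofNat 1))] (.node 103 [(105,(Int.ofNat 1))] (.node 100 [(102,(Int.ofNat 1))] .nil .nil) (.node 106 [(108,(Int.negSucc 0))] .nil .nil)) (.node 115 [(117,(Int.negSucc 0))] (.node 112 [(114,(Int.negSucc 0))] .nil .nil) (.node 119 [(121,(Int.negSucc 0))] .nil .nil)))))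
noncomputable def ch66 : Tr (List (ℕ × ℤ)) := (.node 64 [(67,(Int.negSucc 0))] (.node 34 [(36,(Int.negSucc 0))] (.node 18 [(20,(Int.negSucc 0))] (.node 12 [(14,(Int.negSucc 0))] (.node 7 [(8,(Int.negSucc 0))] (.node 3 [(4,(Int.negSucc 0))] .nil .nil) .nil) (.node 13 [(15,(Int.negSucc 0))] .nil .nil)) (.node 25 [(26,(Int.negSucc 0))] (.node 19 [(21,(Int.negSucc 0))] .nil .nil) (.node 29 [(30,(Int.negSucc 0))] .nil .nil))) (.node 50 [(51,(Int.negSucc 0))] (.node 41 [(42,(Int.negSucc 0))] (.node 35 [(37,(Int.negSucc 0))] .nil .nil) (.node 45 [(46,(Int.negSucc 0))] .nil .nil)) (.node 57 [(60,(Int.ofNat 1))] (.node 55 [(56,(Int.negSucc 0))] .nil .nil) (.node 58 [(61,(Int.ofNat 1))] .nil .nil)))) (.node 95 [(96,(Int.ofNat 1))] (.node 79 [(80,(Int.ofNat 1))] (.node 69 [(70,(Int.ofNat 1))] (.node 65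 [(68,(Int.negSucc 0))] .nil .nil) (.node 74 [(75,(Int.ofNat 1))] .nil .nil)) (.node 88 [(90,(Int.ofNat 1))] (.node 83 [(84,(Int.ofNat 1))] .nil .nil) (.node 89 [(91,(Int.ofNat 1))] .nil .nil))) (.node 110 [(112,(Int.ofNat 1))] (.node 104 [(106,(Int.ofNat 1))] (.node 99 [(100,(Int.ofNat 1))] .nil .nil) (.node 105 [(107,(Int.ofNat 1))] .nil .nil)) (.node 117 [(118,(Int.ofNat 1))] (.node 111 [(113,(Int.ofNat 1))] .nil .nil) (.node 121 [(122,(Int.ofNat 1))] .nil .nil)))))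
noncomputable def ch67 : Tr (List (ℕ × ℤ)) := (.node 61 [(66,(Int.negSucc 0))] (.node 33 [(36,(Int.negSucc 0))] (.node 17 [(20,(Int.negSucc 0))] (.node 11 [(14,(Int.negSucc 0))] (.node 7 [(9,(Int.ofNat 1))] (.node 3 [(5,(Int.ofNat 1))] .nil .nil) .nil) (.node 13 [(16,(Int.ofNat 1))] .nil .nil)) (.node 24 [(26,(Int.negSucc 0))] (.node 19 [(22,(Int.ofNat 1))] .nil .nil) (.node 28 [(30,(Int.negSucc 0))] .nil .nil))) (.node 49 [(51,(Int.negSucc 0))] (.node 40 [(42,(Int.negSucc 0))] (.node 35 [(38,(Int.ofNat 1))] .nil .nil) (.node 44 [(46,(Int.negSucc 0))] .nil .nil)) (.node 57 [(62,(Int.ofNat 1))] (.node 54 [(56,(Int.negSucc 0))] .nil .nil) (.node 59 [(64,(Int.ofNat 1))] .nil .nil)))) (.node 95 [(97,(Int.ofNat 1))] (.node 79 [(81,(Int.ofNat 1))] (.node 69 [(71,(Int.ofNat 1))] (.node 63 [(68,(Int.negSucc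 0))] .nil .nil) (.node 74 [(76,(Int.ofNat 1))] .nil .nil)) (.node 87 [(90,(Int.negSucc 0))] (.node 83 [(85,(Int.ofNat 1))] .nil .nil) (.node 89 [(92,(Int.ofNat 1))] .nil .nil))) (.node 109 [(112,(Int.negSucc 0))] (.node 103 [(106,(Int.negSucc 0))] (.node 99 [(101,(Int.ofNat 1))] .nil .nil) (.node 105 [(108,(Int.ofNat 1))] .nil .nil)) (.node 116 [(118,(Int.negSucc 0))] (.node 111 [(114,(Int.ofNat 1))] .nil .nil) (.node 120 [(122,(Int.negSucc 0))] .nil .nil)))))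
noncomputable def ch68 : Tr (List (ℕ × ℤ)) := (.node 60 [(66,(Int.negSucc 0))] (.node 33 [(37,(Int.ofNat 1))] (.node 17 [(21,(Int.ofNat 1))] (.node 11 [(15,(Int.ofNat 1))] (.node 7 [(10,(Int.negSucc 0))] (.node 3 [(6,(Int.negSucc 0))] .nil .nil) .nil) (.node 12 [(16,(Int.ofNat 1))] .nil .nil)) (.node 23 [(26,(Int.negSucc 0))] (.node 18 [(22,(Int.ofNat 1))] .nil .nil) (.node 27 [(30,(Int.negSucc 0))] .nil .nil))) (.node 48 [(51,(Int.negSucc 0))] (.node 39 [(42,(Int.negSucc 0))] (.node 34 [(38,(Int.ofNat 1))] .nil .nil) (.node 43 [(46,(Int.negSucc 0))] .nil .nil)) (.node 58 [(63,(Int.ofNat 1))] (.node 53 [(56,(Int.negSucc 0))] .nil .nil) (.node 59 [(65,(Int.ofNat 1))] .nil .nil)))) (.node 95 [(98,(Int.ofNat 1))] (.node 79 [(82,(Int.ofNat 1))] (.node 69 [(72,(Int.ofNat 1))] (.node 62 [(67,(Int.negSucc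 0))] .nil .nil) (.node 74 [(77,(Int.ofNat 1))] .nil .nil)) (.node 87 [(91,(Int.negSucc 0))] (.node 83 [(86,(Int.ofNat 1))] .nil .nil) (.node 88 [(92,(Int.negSucc 0))] .nil .nil))) (.node 109 [(113,(Int.negSucc 0))] (.node 103 [(107,(Int.negSucc 0))] (.node 99 [(102,(Int.ofNat 1))] .nil .nil) (.node 104 [(108,(Int.negSucc 0))] .nil .nil)) (.node 115 [(118,(Int.ofNat 1))] (.node 110 [(114,(Int.negSucc 0))] .nil .nil) (.node 119 [(122,(Int.ofNat 1))] .nil .nil)))))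
noncomputable def ch69 : Tr (List (ℕ × ℤ)) := (.node 66 [(70,(Int.negSucc 0))] (.node 36 [(39,(Int.negSucc 0))] (.node 20 [(23,(Int.negSucc 0))] (.node 9 [(12,(Int.negSucc 0))] (.node 8 [(11,(Int.negSucc 0))] (.node 2 [(3,(Int.negSucc 0))] .nil .nil) .nil) (.node 10 [(13,(Int.negSucc 0))] .nil .nil)) (.node 22 [(25,(Int.negSucc 0))] (.node 21 [(24,(Int.negSucc 0))] .nil .nil) (.node 30 [(31,(Int.negSucc 0))] .nil .nil))) (.node 51 [(52,(Int.negSucc 0))] (.node 38 [(41,(Int.negSucc 0))] (.node 37 [(40,(Int.negSucc 0))] .nil .nil) (.node 46 [(47,(Int.negSucc 0))] .nil .nil)) (.node 54 [(58,(Int.ofNat 1))] (.node 53 [(57,(Int.ofNat 1))] .nil .nil) (.node 55 [(59,(Int.ofNat 1))] .nil .nil)))) (.node 94 [(95,(Int.ofNat 1))] (.node 78 [(79,(Int.ofNat 1))] (.node 68 [(72,(Int.negSucc 0))] (.node 67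 [(71,(Int.negSucc 0))] .nil .nil) (.node 73 [(74,(Int.ofNat 1))] .nil .nil)) (.node 85 [(88,(Int.ofNat 1))] (.node 84 [(87,(Int.ofNat 1))] .nil .nil) (.node 86 [(89,(Int.ofNat 1))] .nil .nil))) (.node 112 [(115,(Int.ofNat 1))] (.node 101 [(104,(Int.ofNat 1))] (.node 100 [(103,(Int.ofNat 1))] .nil .nil) (.node 102 [(105,(Int.ofNat 1))] .nil .nil)) (.node 114 [(117,(Int.ofNat 1))] (.node 113 [(116,(Int.ofNat 1))] .nil .nil) (.node 122 [(123,(Int.ofNat 1))] .nil .nil)))))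
noncomputable def ch70 : Tr (List (ℕ × ℤ)) := (.node 59 [(69,(Int.negSucc 0))] (.node 34 [(39,(Int.negSucc 0))] (.node 18 [(23,(Int.negSucc 0))] (.node 9 [(14,(Int.ofNat 1))] (.node 7 [(11,(Int.negSucc 0))] (.node 2 [(4,(Int.ofNat 1))] .nil .nil) .nil) (.node 10 [(15,(Int.ofNat 1))] .nil .nil)) (.node 22 [(26,(Int.ofNat 1))] (.node 19 [(24,(Int.negSucc 0))] .nil .nil) (.node 29 [(31,(Int.negSucc 0))] .nil .nil))) (.node 50 [(52,(Int.negSucc 0))] (.node 38 [(42,(Int.ofNat 1))] (.node 35 [(40,(Int.negSucc 0))] .nil .nil) (.node 45 [(47,(Int.negSucc 0))] .nil .nil)) (.node 54 [(61,(Int.ofNat 1))] (.node 53 [(60,(Int.ofNat 1))] .nil .nil) (.node 56 [(66,(Int.ofNat 1))] .nil .nil)))) (.node 94 [(96,(Int.ofNat 1))] (.node 78 [(80,(Int.ofNat 1))] (.node 65 [(72,(Int.negSucc 0))] (.node 64 [(71,(Int.negSucc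 0))] .nil .nil) (.node 73 [(75,(Int.ofNat 1))] .nil .nil)) (.node 85 [(90,(Int.ofNat 1))] (.node 83 [(87,(Int.negSucc 0))] .nil .nil) (.node 86 [(91,(Int.ofNat 1))] .nil .nil))) (.node 110 [(115,(Int.negSucc 0))] (.node 101 [(106,(Int.ofNat 1))] (.node 99 [(103,(Int.negSucc 0))] .nil .nil) (.node 102 [(107,(Int.ofNat 1))] .nil .nil)) (.node 114 [(118,(Int.ofNat 1))] (.node 111 [(116,(Int.negSucc 0))] .nil .nil) (.node 121 [(123,(Int.negSucc 0))] .nil .nil)))))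
noncomputable def ch71 : Tr (List (ℕ × ℤ)) := (.node 58 [(69,(Int.negSucc 0))] (.node 33 [(39,(Int.negSucc 0))] (.node 17 [(23,(Int.negSucc 0))] (.node 8 [(14,(Int.ofNat 1))] (.node 7 [(12,(Int.ofNat 1))] (.node 2 [(5,(Int.negSucc 0))] .nil .nil) .nil) (.node 10 [(16,(Int.negSucc 0))] .nil .nil)) (.node 21 [(26,(Int.ofNat 1))] (.node 19 [(25,(Int.ofNat 1))] .nil .nil) (.node 28 [(31,(Int.negSucc 0))] .nil .nil))) (.node 49 [(52,(Int.negSucc 0))] (.node 37 [(42,(Int.ofNat 1))] (.node 35 [(41,(Int.ofNat 1))] .nil .nil) (.node 44 [(47,(Int.negSucc 0))] .nil .nil)) (.node 55 [(64,(Int.ofNat 1))] (.node 53 [(62,(Int.ofNat 1))] .nil .nil) (.node 56 [(67,(Int.ofNat 1))] .nil .nil)))) (.node 94 [(97,(Int.ofNat 1))] (.node 78 [(81,(Int.ofNat 1))] (.node 63 [(72,(Int.negSucc 0))] (.node 61 [(70,(Int.negSucc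 0))] .nil .nil) (.node 73 [(76,(Int.ofNat 1))] .nil .nil)) (.node 84 [(90,(Int.negSucc 0))] (.node 83 [(88,(Int.negSucc 0))] .nil .nil) (.node 86 [(92,(Int.ofNat 1))] .nil .nil))) (.node 109 [(115,(Int.ofNat 1))] (.node 100 [(106,(Int.negSucc 0))] (.node 99 [(104,(Int.negSucc 0))] .nil .nil) (.node 102 [(108,(Int.ofNat 1))] .nil .nil)) (.node 113 [(118,(Int.negSucc 0))] (.node 111 [(117,(Int.negSucc 0))] .nil .nil) (.node 120 [(123,(Int.ofNat 1))] .nil .nil)))))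
noncomputable def ch72 : Tr (List (ℕ × ℤ)) := (.node 57 [(69,(Int.negSucc 0))] (.node 33 [(40,(Int.ofNat 1))] (.node 17 [(24,(Int.ofNat 1))] (.node 8 [(15,(Int.negSucc 0))] (.node 7 [(13,(Int.negSucc 0))] (.node 2 [(6,(Int.ofNat 1))] .nil .nil) .nil) (.node 9 [(16,(Int.negSucc 0))] .nil .nil)) (.node 20 [(26,(Int.ofNat 1))] (.node 18 [(25,(Int.ofNat 1))] .nil .nil) (.node 27 [(31,(Int.negSucc 0))] .nil .nil))) (.node 48 [(52,(Int.negSucc 0))] (.node 36 [(42,(Int.ofNat 1))] (.node 34 [(41,(Int.ofNat 1))] .nil .nil) (.node 43 [(47,(Int.negSucc 0))] .nil .nil)) (.node 55 [(65,(Int.ofNat 1))] (.node 54 [(63,(Int.ofNat 1))] .nil .nil) (.node 56 [(68,(Int.ofNat 1))] .nil .nil)))) (.node 94 [(98,(Int.ofNat 1))] (.node 78 [(82,(Int.ofNat 1))] (.node 62 [(71,(Int.negSucc 0))] (.node 60 [(70,(Int.negSucc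 0))] .nil .nil) (.node 73 [(77,(Int.ofNat 1))] .nil .nil)) (.node 84 [(91,(Int.negSucc 0))] (.node 83 [(89,(Int.negSucc 0))] .nil .nil) (.node 85 [(92,(Int.negSucc 0))] .nil .nil))) (.node 109 [(116,(Int.ofNat 1))] (.node 100 [(107,(Int.negSucc 0))] (.node 99 [(105,(Int.negSucc 0))] .nil .nil) (.node 101 [(108,(Int.negSucc 0))] .nil .nil)) (.node 112 [(118,(Int.ofNat 1))] (.node 110 [(117,(Int.ofNat 1))] .nil .nil) (.node 119 [(123,(Int.negSucc 0))] .nil .nil)))))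
noncomputable def ch73 : Tr (List (ℕ × ℤ)) := (.node 69 [(74,(Int.negSucc 0))] (.node 39 [(43,(Int.negSucc 0))] (.node 14 [(20,(Int.negSucc 0))] (.node 12 [(18,(Int.negSucc 0))] (.node 11 [(17,(Int.negSucc 0))] (.node 1 [(2,(Int.negSucc 0))] .nil .nil) .nil) (.node 13 [(19,(Int.negSucc 0))] .nil .nil)) (.node 16 [(22,(Int.negSucc 0))] (.node 15 [(21,(Int.negSucc 0))] .nil .nil) (.node 31 [(32,(Int.negSucc 0))] .nil .nil))) (.node 48 [(53,(Int.ofNat 1))] (.node 41 [(45,(Int.negSucc 0))] (.node 40 [(44,(Int.negSucc 0))] .nil .nil) (.node 42 [(46,(Int.negSucc 0))] .nil .nil)) (.node 50 [(55,(Int.ofNat 1))] (.node 49 [(54,(Int.ofNat 1))] .nil .nil) (.node 51 [(56,(Int.ofNat 1))] .nil .nil)))) (.node 93 [(94,(Int.ofNat 1))] (.node 79 [(83,(Int.ofNat 1))] (.node 71 [(76,(Int.negSucc 0))] (.node 70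 [(75,(Int.negSucc 0))] .nil .nil) (.node 72 [(77,(Int.negSucc 0))] .nil .nil)) (.node 81 [(85,(Int.ofNat 1))] (.node 80 [(84,(Int.ofNat 1))] .nil .nil) (.node 82 [(86,(Int.ofNat 1))] .nil .nil))) (.node 106 [(112,(Int.ofNat 1))] (.node 104 [(110,(Int.ofNat 1))] (.node 103 [(109,(Int.ofNat 1))] .nil .nil) (.node 105 [(111,(Int.ofNat 1))] .nil .nil)) (.node 108 [(114,(Int.ofNat 1))] (.node 107 [(113,(Int.ofNat 1))] .nil .nil) (.node 123 [(124,(Int.ofNat 1))] .nil .nil)))))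
noncomputable def ch74 : Tr (List (ℕ × ℤ)) := (.node 56 [(73,(Int.negSucc 0))] (.node 36 [(43,(Int.negSucc 0))] (.node 14 [(23,(Int.ofNat 1))] (.node 9 [(18,(Int.negSucc 0))] (.node 8 [(17,(Int.negSucc 0))] (.node 1 [(3,(Int.ofNat 1))] .nil .nil) .nil) (.node 10 [(19,(Int.negSucc 0))] .nil .nil)) (.node 16 [(25,(Int.ofNat 1))] (.node 15 [(24,(Int.ofNat 1))] .nil .nil) (.node 30 [(32,(Int.negSucc 0))] .nil .nil))) (.node 48 [(57,(Int.ofNat 1))] (.node 38 [(45,(Int.negSucc 0))] (.node 37 [(44,(Int.negSucc 0))] .nil .nil) (.node 42 [(47,(Int.ofNat 1))] .nil .nil)) (.node 50 [(59,(Int.ofNat 1))] (.node 49 [(58,(Int.ofNat 1))] .nil .nil) (.node 52 [(69,(Int.ofNat 1))] .nil .nil)))) (.node 93 [(95,(Int.ofNat 1))] (.node 78 [(83,(Int.negSucc 0))] (.node 67 [(76,(Int.negSucc 0))] (.node 66 [(75,(Int.negSucc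 0))] .nil .nil) (.node 68 [(77,(Int.negSucc 0))] .nil .nil)) (.node 81 [(88,(Int.ofNat 1))] (.node 80 [(87,(Int.ofNat 1))] .nil .nil) (.node 82 [(89,(Int.ofNat 1))] .nil .nil))) (.node 106 [(115,(Int.ofNat 1))] (.node 101 [(110,(Int.negSucc 0))] (.node 100 [(109,(Int.negSucc 0))] .nil .nil) (.node 102 [(111,(Int.negSucc 0))] .nil .nil)) (.node 108 [(117,(Int.ofNat 1))] (.node 107 [(116,(Int.ofNat 1))] .nil .nil) (.node 122 [(124,(Int.negSucc 0))] .nil .nil)))))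
noncomputable def ch75 : Tr (List (ℕ × ℤ)) := (.node 55 [(73,(Int.negSucc 0))] (.node 34 [(43,(Int.negSucc 0))] (.node 12 [(23,(Int.ofNat 1))] (.node 9 [(20,(Int.ofNat 1))] (.node 7 [(17,(Int.negSucc 0))] (.node 1 [(4,(Int.negSucc 0))] .nil .nil) .nil) (.node 10 [(21,(Int.ofNat 1))] .nil .nil)) (.node 16 [(26,(Int.negSucc 0))] (.node 13 [(24,(Int.ofNat 1))] .nil .nil) (.node 29 [(32,(Int.negSucc 0))] .nil .nil))) (.node 48 [(60,(Int.ofNat 1))] (.node 38 [(46,(Int.ofNat 1))] (.node 35 [(44,(Int.negSucc 0))] .nil .nil) (.node 41 [(47,(Int.ofNat 1))] .nil .nil)) (.node 51 [(66,(Int.ofNat 1))] (.node 49 [(61,(Int.ofNat 1))] .nil .nil) (.node 52 [(70,(Int.ofNat 1))] .nil .nil)))) (.node 93 [(96,(Int.ofNat 1))] (.node 78 [(84,(Int.negSucc 0))] (.node 64 [(76,(Int.negSucc 0))] (.node 59 [(74,(Int.negSucc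 0))] .nil .nil) (.node 65 [(77,(Int.negSucc 0))] .nil .nil)) (.node 81 [(90,(Int.ofNat 1))] (.node 79 [(87,(Int.negSucc 0))] .nil .nil) (.node 82 [(91,(Int.ofNat 1))] .nil .nil))) (.node 104 [(115,(Int.negSucc 0))] (.node 101 [(112,(Int.negSucc 0))] (.node 99 [(109,(Int.ofNat 1))] .nil .nil) (.node 102 [(113,(Int.negSucc 0))] .nil .nil)) (.node 108 [(118,(Int.ofNat 1))] (.node 105 [(116,(Int.negSucc 0))] .nil .nil) (.node 121 [(124,(Int.ofNat 1))] .nil .nil)))))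
noncomputable def ch76 : Tr (List (ℕ × ℤ)) := (.node 54 [(73,(Int.negSucc 0))] (.node 33 [(43,(Int.negSucc 0))] (.node 11 [(23,(Int.ofNat 1))] (.node 8 [(20,(Int.ofNat 1))] (.node 7 [(18,(Int.ofNat 1))] (.node 1 [(5,(Int.ofNat 1))] .nil .nil) .nil) (.node 10 [(22,(Int.negSucc 0))] .nil .nil)) (.node 15 [(26,(Int.negSucc 0))] (.node 13 [(25,(Int.negSucc 0))] .nil .nil) (.node 28 [(32,(Int.negSucc 0))] .nil .nil))) (.node 48 [(62,(Int.ofNat 1))] (.node 37 [(46,(Int.ofNat 1))] (.node 35 [(45,(Int.ofNat 1))] .nil .nil) (.node 40 [(47,(Int.ofNat 1))] .nil .nil)) (.node 51 [(67,(Int.ofNat 1))] (.node 50 [(64,(Int.ofNat 1))] .nil .nil) (.node 52 [(71,(Int.ofNat 1))] .nil .nil)))) (.node 93 [(97,(Int.ofNat 1))] (.node 78 [(85,(Int.negSucc 0))] (.node 61 [(75,(Int.negSucc 0))] (.node 58 [(74,(Int.negSucc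 0))] .nil .nil) (.node 63 [(77,(Int.negSucc 0))] .nil .nil)) (.node 80 [(90,(Int.negSucc 0))] (.node 79 [(88,(Int.negSucc 0))] .nil .nil) (.node 82 [(92,(Int.ofNat 1))] .nil .nil))) (.node 103 [(115,(Int.ofNat 1))] (.node 100 [(112,(Int.ofNat 1))] (.node 99 [(110,(Int.ofNat 1))] .nil .nil) (.node 102 [(114,(Int.negSucc 0))] .nil .nil)) (.node 107 [(118,(Int.negSucc 0))] (.node 105 [(117,(Int.negSucc 0))] .nil .nil) (.node 120 [(124,(Int.negSucc 0))] .nil .nil)))))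
noncomputable def ch77 : Tr (List (ℕ × ℤ)) := (.node 53 [(73,(Int.negSucc 0))] (.node 33 [(44,(Int.ofNat 1))] (.node 11 [(24,(Int.negSucc 0))] (.node 8 [(21,(Int.negSucc 0))] (.node 7 [(19,(Int.negSucc 0))] (.node 1 [(6,(Int.negSucc 0))] .nil .nil) .nil) (.node 9 [(22,(Int.negSucc 0))] .nil .nil)) (.node 14 [(26,(Int.negSucc 0))] (.node 12 [(25,(Int.negSucc 0))] .nil .nil) (.node 27 [(32,(Int.negSucc 0))] .nil .nil))) (.node 49 [(63,(Int.ofNat 1))] (.node 36 [(46,(Int.ofNat 1))] (.node 34 [(45,(Int.ofNat 1))] .nil .nil) (.node 39 [(47,(Int.ofNat 1))] .nil .nil)) (.node 51 [(68,(Int.ofNat 1))] (.node 50 [(65,(Int.ofNat 1))] .nil .nil) (.node 52 [(72,(Int.ofNat 1))] .nil .nil)))) (.node 93 [(98,(Int.ofNat 1))] (.node 78 [(86,(Int.negSucc 0))] (.node 60 [(75,(Int.negSucc 0))] (.node 57 [(74,(Int.negSucc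 0))] .nil .nil) (.node 62 [(76,(Int.negSucc 0))] .nil .nil)) (.node 80 [(91,(Int.negSucc 0))] (.node 79 [(89,(Int.negSucc 0))] .nil .nil) (.node 81 [(92,(Int.negSucc 0))] .nil .nil))) (.node 103 [(116,(Int.ofNat 1))] (.node 100 [(113,(Int.ofNat 1))] (.node 99 [(111,(Int.ofNat 1))] .nil .nil) (.node 101 [(114,(Int.ofNat 1))] .nil .nil)) (.node 106 [(118,(Int.ofNat 1))] (.node 104 [(117,(Int.ofNat 1))] .nil .nil) (.node 119 [(124,(Int.ofNat 1))] .nil .nil)))))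
noncomputable def ch78 : Tr (List (ℕ × ℤ)) := (.node 69 [(79,(Int.negSucc 0))] (.node 39 [(48,(Int.negSucc 0))] (.node 23 [(27,(Int.negSucc 0))] (.node 5 [(9,(Int.negSucc 0))] (.node 4 [(8,(Int.negSucc 0))] (.node 3 [(7,(Int.negSucc 0))] .nil .nil) .nil) (.node 6 [(10,(Int.negSucc 0))] .nil .nil)) (.node 25 [(29,(Int.negSucc 0))] (.node 24 [(28,(Int.negSucc 0))] .nil .nil) (.node 26 [(30,(Int.negSucc 0))] .nil .nil))) (.node 43 [(53,(Int.ofNat 1))] (.node 41 [(50,(Int.negSucc 0))] (.node 40 [(49,(Int.negSucc 0))] .nil .nil) (.node 42 [(51,(Int.negSucc 0))] .nil .nil)) (.node 45 [(55,(Int.ofNat 1))] (.node 44 [(54,(Int.ofNat 1))] .nil .nil) (.node 46 [(56,(Int.ofNat 1))] .nil .nil)))) (.node 95 [(99,(Int.ofNat 1))] (.node 74 [(83,(Int.ofNat 1))] (.node 71 [(81,(Int.negSucc 0))] (.node 70 [(80,(Int.negSucc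 0))] .nil .nil) (.node 72 [(82,(Int.negSucc 0))] .nil .nil)) (.node 76 [(85,(Int.ofNat 1))] (.node 75 [(84,(Int.ofNat 1))] .nil .nil) (.node 77 [(86,(Int.ofNat 1))] .nil .nil))) (.node 115 [(119,(Int.ofNat 1))] (.node 97 [(101,(Int.ofNat 1))] (.node 96 [(100,(Int.ofNat 1))] .nil .nil) (.node 98 [(102,(Int.ofNat 1))] .nil .nil)) (.node 117 [(121,(Int.ofNat 1))] (.node 116 [(120,(Int.ofNat 1))] .nil .nil) (.node 118 [(122,(Int.ofNat 1))] .nil .nil)))))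
noncomputable def ch79 : Tr (List (ℕ × ℤ)) := (.node 56 [(78,(Int.negSucc 0))] (.node 36 [(48,(Int.negSucc 0))] (.node 20 [(27,(Int.negSucc 0))] (.node 5 [(12,(Int.ofNat 1))] (.node 4 [(11,(Int.ofNat 1))] (.node 2 [(7,(Int.negSucc 0))] .nil .nil) .nil) (.node 6 [(13,(Int.ofNat 1))] .nil .nil)) (.node 22 [(29,(Int.negSucc 0))] (.node 21 [(28,(Int.negSucc 0))] .nil .nil) (.node 26 [(31,(Int.ofNat 1))] .nil .nil))) (.node 43 [(57,(Int.ofNat 1))] (.node 38 [(50,(Int.negSucc 0))] (.node 37 [(49,(Int.negSucc 0))] .nil .nil) (.node 42 [(52,(Int.ofNat 1))] .nil .nil)) (.node 45 [(59,(Int.ofNat 1))] (.node 44 [(58,(Int.ofNat 1))] .nil .nil) (.node 47 [(69,(Int.ofNat 1))] .nil .nil)))) (.node 94 [(99,(Int.negSucc 0))] (.node 73 [(83,(Int.negSucc 0))] (.node 67 [(81,(Int.negSucc 0))] (.node 66 [(80,(Int.negSucc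 0))] .nil .nil) (.node 68 [(82,(Int.negSucc 0))] .nil .nil)) (.node 76 [(88,(Int.ofNat 1))] (.node 75 [(87,(Int.ofNat 1))] .nil .nil) (.node 77 [(89,(Int.ofNat 1))] .nil .nil))) (.node 112 [(119,(Int.negSucc 0))] (.node 97 [(104,(Int.ofNat 1))] (.node 96 [(103,(Int.ofNat 1))] .nil .nil) (.node 98 [(105,(Int.ofNat 1))] .nil .nil)) (.node 114 [(121,(Int.negSucc 0))] (.node 113 [(120,(Int.negSucc 0))] .nil .nil) (.node 118 [(123,(Int.ofNat 1))] .nil .nil)))))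
noncomputable def ch80 : Tr (List (ℕ × ℤ)) := (.node 55 [(78,(Int.negSucc 0))] (.node 34 [(48,(Int.negSucc 0))] (.node 18 [(27,(Int.negSucc 0))] (.node 5 [(14,(Int.negSucc 0))] (.node 3 [(11,(Int.ofNat 1))] (.node 2 [(8,(Int.ofNat 1))] .nil .nil) .nil) (.node 6 [(15,(Int.negSucc 0))] .nil .nil)) (.node 22 [(30,(Int.ofNat 1))] (.node 19 [(28,(Int.negSucc 0))] .nil .nil) (.node 25 [(31,(Int.ofNat 1))] .nil .nil))) (.node 43 [(60,(Int.ofNat 1))] (.node 38 [(51,(Int.ofNat 1))] (.node 35 [(49,(Int.negSucc 0))] .nil .nil) (.node 41 [(52,(Int.ofNat 1))] .nil .nil)) (.node 46 [(66,(Int.ofNat 1))] (.node 44 [(61,(Int.ofNat 1))] .nil .nil) (.node 47 [(70,(Int.ofNat 1))] .nil .nil)))) (.node 94 [(100,(Int.negSucc 0))] (.node 73 [(84,(Int.negSucc 0))] (.node 64 [(81,(Int.negSucc 0))] (.node 59 [(79,(Int.negSucc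 0))] .nil .nil) (.node 65 [(82,(Int.negSucc 0))] .nil .nil)) (.node 76 [(90,(Int.ofNat 1))] (.node 74 [(87,(Int.negSucc 0))] .nil .nil) (.node 77 [(91,(Int.ofNat 1))] .nil .nil))) (.node 110 [(119,(Int.ofNat 1))] (.node 97 [(106,(Int.ofNat 1))] (.node 95 [(103,(Int.negSucc 0))] .nil .nil) (.node 98 [(107,(Int.ofNat 1))] .nil .nil)) (.node 114 [(122,(Int.negSucc 0))] (.node 111 [(120,(Int.ofNat 1))] .nil .nil) (.node 117 [(123,(Int.negSucc 0))] .nil .nil)))))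
noncomputable def ch81 : Tr (List (ℕ × ℤ)) := (.node 54 [(78,(Int.negSucc 0))] (.node 33 [(48,(Int.negSucc 0))] (.node 17 [(27,(Int.negSucc 0))] (.node 4 [(14,(Int.negSucc 0))] (.node 3 [(12,(Int.negSucc 0))] (.node 2 [(9,(Int.negSucc 0))] .nil .nil) .nil) (.node 6 [(16,(Int.ofNat 1))] .nil .nil)) (.node 21 [(30,(Int.ofNat 1))] (.node 19 [(29,(Int.ofNat 1))] .nil .nil) (.node 24 [(31,(Int.ofNat 1))] .nil .nil))) (.node 43 [(62,(Int.ofNat 1))] (.node 37 [(51,(Int.ofNat 1))] (.node 35 [(50,(Int.ofNat 1))] .nil .nil) (.node 40 [(52,(Int.ofNat 1))] .nil .nil)) (.node 46 [(67,(Int.ofNat 1))] (.node 45 [(64,(Int.ofNat 1))] .nil .nil) (.node 47 [(71,(Int.ofNat 1))] .nil .nil)))) (.node 94 [(101,(Int.negSucc 0))] (.node 73 [(85,(Int.negSucc 0))] (.node 61 [(80,(Int.negSucc 0))] (.node 58 [(79,(Int.negSucc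 0))] .nil .nil) (.node 63 [(82,(Int.negSucc 0))] .nil .nil)) (.node 75 [(90,(Int.negSucc 0))] (.node 74 [(88,(Int.negSucc 0))] .nil .nil) (.node 77 [(92,(Int.ofNat 1))] .nil .nil))) (.node 109 [(119,(Int.negSucc 0))] (.node 96 [(106,(Int.negSucc 0))] (.node 95 [(104,(Int.negSucc 0))] .nil .nil) (.node 98 [(108,(Int.ofNat 1))] .nil .nil)) (.node 113 [(122,(Int.ofNat 1))] (.node 111 [(121,(Int.ofNat 1))] .nil .nil) (.node 116 [(123,(Int.ofNat 1))] .nil .nil)))))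
noncomputable def ch82 : Tr (List (ℕ × ℤ)) := (.node 53 [(78,(Int.negSucc 0))] (.node 33 [(49,(Int.ofNat 1))] (.node 17 [(28,(Int.ofNat 1))] (.node 4 [(15,(Int.ofNat 1))] (.node 3 [(13,(Int.ofNat 1))] (.node 2 [(10,(Int.ofNat 1))] .nil .nil) .nil) (.node 5 [(16,(Int.ofNat 1))] .nil .nil)) (.node 20 [(30,(Int.ofNat 1))] (.node 18 [(29,(Int.ofNat 1))] .nil .nil) (.node 23 [(31,(Int.ofNat 1))] .nil .nil))) (.node 44 [(63,(Int.ofNat 1))] (.node 36 [(51,(Int.ofNat 1))] (.node 34 [(50,(Int.ofNat 1))] .nil .nil) (.node 39 [(52,(Int.ofNat 1))] .nil .nil)) (.node 46 [(68,(Int.ofNat 1))] (.node 45 [(65,(Int.ofNat 1))] .nil .nil) (.node 47 [(72,(Int.ofNat 1))] .nil .nil)))) (.node 94 [(102,(Int.negSucc 0))] (.node 73 [(86,(Int.negSucc 0))] (.node 60 [(80,(Int.negSucc 0))] (.node 57 [(79,(Int.negSucc 0))]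 .nil .nil) (.node 62 [(81,(Int.negSucc 0))] .nil .nil)) (.node 75 [(91,(Int.negSucc 0))] (.node 74 [(89,(Int.negSucc 0))] .nil .nil) (.node 76 [(92,(Int.negSucc 0))] .nil .nil))) (.node 109 [(120,(Int.negSucc 0))] (.node 96 [(107,(Int.negSucc 0))] (.node 95 [(105,(Int.negSucc 0))] .nil .nil) (.node 97 [(108,(Int.negSucc 0))] .nil .nil)) (.node 112 [(122,(Int.negSucc 0))] (.node 110 [(121,(Int.negSucc 0))] .nil .nil) (.node 115 [(123,(Int.negSucc 0))] .nil .nil)))))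
noncomputable def ch83 : Tr (List (ℕ × ℤ)) := (.node 51 [(78,(Int.ofNat 1))] (.node 36 [(53,(Int.negSucc 0))] (.node 14 [(27,(Int.negSucc 0))] (.node 5 [(18,(Int.negSucc 0))] (.node 4 [(17,(Int.negSucc 0))] (.node 1 [(7,(Int.negSucc 0))] .nil .nil) .nil) (.node 6 [(19,(Int.negSucc 0))] .nil .nil)) (.node 16 [(29,(Int.negSucc 0))] (.node 15 [(28,(Int.negSucc 0))] .nil .nil) (.node 26 [(32,(Int.negSucc 0))] .nil .nil))) (.node 40 [(58,(Int.ofNat 1))] (.node 38 [(55,(Int.negSucc 0))] (.node 37 [(54,(Int.negSucc 0))] .nil .nil) (.node 39 [(57,(Int.ofNat 1))] .nil .nil)) (.node 46 [(73,(Int.ofNat 1))] (.node 41 [(59,(Int.ofNat 1))] .nil .nil) (.node 47 [(74,(Int.negSucc 0))] .nil .nil)))) (.node 93 [(99,(Int.ofNat 1))] (.node 68 [(86,(Int.negSucc 0))] (.node 66 [(84,(Int.negSucc 0))] (.node 52 [(79,(Int.negSucc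 0))] .nil .nil) (.node 67 [(85,(Int.negSucc 0))] .nil .nil)) (.node 71 [(88,(Int.ofNat 1))] (.node 70 [(87,(Int.ofNat 1))] .nil .nil) (.node 72 [(89,(Int.ofNat 1))] .nil .nil))) (.node 106 [(119,(Int.ofNat 1))] (.node 97 [(110,(Int.ofNat 1))] (.node 96 [(109,(Int.ofNat 1))] .nil .nil) (.node 98 [(111,(Int.ofNat 1))] .nil .nil)) (.node 108 [(121,(Int.ofNat 1))] (.node 107 [(120,(Int.ofNat 1))] .nil .nil) (.node 118 [(124,(Int.ofNat 1))] .nil .nil)))))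
noncomputable def ch84 : Tr (List (ℕ × ℤ)) := (.node 50 [(78,(Int.ofNat 1))] (.node 34 [(53,(Int.negSucc 0))] (.node 12 [(27,(Int.negSucc 0))] (.node 5 [(20,(Int.ofNat 1))] (.node 3 [(17,(Int.negSucc 0))] (.node 1 [(8,(Int.ofNat 1))] .nil .nil) .nil) (.node 6 [(21,(Int.ofNat 1))] .nil .nil)) (.node 16 [(30,(Int.ofNat 1))] (.node 13 [(28,(Int.negSucc 0))] .nil .nil) (.node 25 [(32,(Int.negSucc 0))] .nil .nil))) (.node 40 [(61,(Int.ofNat 1))] (.node 38 [(56,(Int.ofNat 1))] (.node 35 [(54,(Int.negSucc 0))] .nil .nil) (.node 39 [(60,(Int.ofNat 1))] .nil .nil)) (.node 45 [(73,(Int.ofNat 1))] (.node 42 [(66,(Int.ofNat 1))] .nil .nil) (.node 47 [(75,(Int.negSucc 0))] .nil .nil)))) (.node 93 [(100,(Int.ofNat 1))] (.node 65 [(86,(Int.negSucc 0))] (.node 59 [(83,(Int.negSucc 0))] (.node 52 [(80,(Int.negSucc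 0))] .nil .nil) (.node 64 [(85,(Int.negSucc 0))] .nil .nil)) (.node 71 [(90,(Int.ofNat 1))] (.node 69 [(87,(Int.negSucc 0))] .nil .nil) (.node 72 [(91,(Int.ofNat 1))] .nil .nil))) (.node 104 [(119,(Int.negSucc 0))] (.node 97 [(112,(Int.ofNat 1))] (.node 95 [(109,(Int.negSucc 0))] .nil .nil) (.node 98 [(113,(Int.ofNat 1))] .nil .nil)) (.node 108 [(122,(Int.ofNat 1))] (.node 105 [(120,(Int.negSucc 0))] .nil .nil) (.node 117 [(124,(Int.negSucc 0))] .nil .nil)))))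
noncomputable def ch85 : Tr (List (ℕ × ℤ)) := (.node 49 [(78,(Int.ofNat 1))] (.node 33 [(53,(Int.negSucc 0))] (.node 11 [(27,(Int.negSucc 0))] (.node 4 [(20,(Int.ofNat 1))] (.node 3 [(18,(Int.ofNat 1))] (.node 1 [(9,(Int.negSucc 0))] .nil .nil) .nil) (.node 6 [(22,(Int.negSucc 0))] .nil .nil)) (.node 15 [(30,(Int.ofNat 1))] (.node 13 [(29,(Int.ofNat 1))] .nil .nil) (.node 24 [(32,(Int.negSucc 0))] .nil .nil))) (.node 41 [(64,(Int.ofNat 1))] (.node 37 [(56,(Int.ofNat 1))] (.node 35 [(55,(Int.ofNat 1))] .nil .nil) (.node 39 [(62,(Int.ofNat 1))] .nil .nil)) (.node 44 [(73,(Int.ofNat 1))] (.node 42 [(67,(Int.ofNat 1))] .nil .nil) (.node 47 [(76,(Int.negSucc 0))] .nil .nil)))) (.node 93 [(101,(Int.ofNat 1))] (.node 63 [(86,(Int.negSucc 0))] (.node 58 [(83,(Int.negSucc 0))] (.node 52 [(81,(Int.negSucc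 0))] .nil .nil) (.node 61 [(84,(Int.negSucc 0))] .nil .nil)) (.node 70 [(90,(Int.negSucc 0))] (.node 69 [(88,(Int.negSucc 0))] .nil .nil) (.node 72 [(92,(Int.ofNat 1))] .nil .nil))) (.node 103 [(119,(Int.ofNat 1))] (.node 96 [(112,(Int.negSucc 0))] (.node 95 [(110,(Int.negSucc 0))] .nil .nil) (.node 98 [(114,(Int.ofNat 1))] .nil .nil)) (.node 107 [(122,(Int.negSucc 0))] (.node 105 [(121,(Int.negSucc 0))] .nil .nil) (.node 116 [(124,(Int.ofNat 1))] .nil .nil)))))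
noncomputable def ch86 : Tr (List (ℕ × ℤ)) := (.node 48 [(78,(Int.ofNat 1))] (.node 33 [(54,(Int.ofNat 1))] (.node 11 [(28,(Int.ofNat 1))] (.node 4 [(21,(Int.negSucc 0))] (.node 3 [(19,(Int.negSucc 0))] (.node 1 [(10,(Int.ofNat 1))] .nil .nil) .nil) (.node 5 [(22,(Int.negSucc 0))] .nil .nil)) (.node 14 [(30,(Int.ofNat 1))] (.node 12 [(29,(Int.ofNat 1))] .nil .nil) (.node 23 [(32,(Int.negSucc 0))] .nil .nil))) (.node 41 [(65,(Int.ofNat 1))] (.node 36 [(56,(Int.ofNat 1))] (.node 34 [(55,(Int.ofNat 1))] .nil .nil) (.node 40 [(63,(Int.ofNat 1))] .nil .nil)) (.node 43 [(73,(Int.ofNat 1))] (.node 42 [(68,(Int.ofNat 1))] .nil .nil) (.node 47 [(77,(Int.negSucc 0))] .nil .nil)))) (.node 93 [(102,(Int.ofNat 1))] (.node 62 [(85,(Int.negSucc 0))] (.node 57 [(83,(Int.negSucc 0))] (.node 52 [(82,(Int.negSucc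 0))] .nil .nil) (.node 60 [(84,(Int.negSucc 0))] .nil .nil)) (.node 70 [(91,(Int.negSucc 0))] (.node 69 [(89,(Int.negSucc 0))] .nil .nil) (.node 71 [(92,(Int.negSucc 0))] .nil .nil))) (.node 103 [(120,(Int.ofNat 1))] (.node 96 [(113,(Int.negSucc 0))] (.node 95 [(111,(Int.negSucc 0))] .nil .nil) (.node 97 [(114,(Int.negSucc 0))] .nil .nil)) (.node 106 [(122,(Int.ofNat 1))] (.node 104 [(121,(Int.ofNat 1))] .nil .nil) (.node 115 [(124,(Int.negSucc 0))] .nil .nil)))))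
noncomputable def ch87 : Tr (List (ℕ × ℤ)) := (.node 50 [(79,(Int.ofNat 1))] (.node 34 [(57,(Int.negSucc 0))] (.node 9 [(27,(Int.negSucc 0))] (.node 5 [(23,(Int.negSucc 0))] (.node 2 [(17,(Int.negSucc 0))] (.node 1 [(11,(Int.negSucc 0))] .nil .nil) .nil) (.node 6 [(24,(Int.negSucc 0))] .nil .nil)) (.node 16 [(31,(Int.negSucc 0))] (.node 10 [(28,(Int.negSucc 0))] .nil .nil) (.node 22 [(32,(Int.negSucc 0))] .nil .nil))) (.node 41 [(69,(Int.ofNat 1))] (.node 36 [(60,(Int.ofNat 1))] (.node 35 [(58,(Int.negSucc 0))] .nil .nil) (.node 37 [(61,(Int.ofNat 1))] .nil .nil)) (.node 45 [(74,(Int.ofNat 1))] (.node 42 [(70,(Int.negSucc 0))] .nil .nil) (.node 46 [(75,(Int.negSucc 0))] .nil .nil)))) (.node 93 [(103,(Int.ofNat 1))] (.node 64 [(88,(Int.negSucc 0))] (.node 55 [(83,(Int.ofNat 1))] (.node 51 [(80,(Int.negSucc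 0))] .nil .nil) (.node 56 [(84,(Int.negSucc 0))] .nil .nil)) (.node 67 [(90,(Int.ofNat 1))] (.node 65 [(89,(Int.negSucc 0))] .nil .nil) (.node 68 [(91,(Int.ofNat 1))] .nil .nil))) (.node 101 [(119,(Int.ofNat 1))] (.node 97 [(115,(Int.ofNat 1))] (.node 94 [(109,(Int.ofNat 1))] .nil .nil) (.node 98 [(116,(Int.ofNat 1))] .nil .nil)) (.node 108 [(123,(Int.ofNat 1))] (.node 102 [(120,(Int.ofNat 1))] .nil .nil) (.node 114 [(124,(Int.ofNat 1))] .nil .nil)))))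
noncomputable def ch88 : Tr (List (ℕ × ℤ)) := (.node 49 [(79,(Int.ofNat 1))] (.node 33 [(57,(Int.negSucc 0))] (.node 8 [(27,(Int.negSucc 0))] (.node 4 [(23,(Int.negSucc 0))] (.node 2 [(18,(Int.ofNat 1))] (.node 1 [(12,(Int.ofNat 1))] .nil .nil) .nil) (.node 6 [(25,(Int.ofNat 1))] .nil .nil)) (.node 15 [(31,(Int.negSucc 0))] (.node 10 [(29,(Int.ofNat 1))] .nil .nil) (.node 21 [(32,(Int.negSucc 0))] .nil .nil))) (.node 40 [(69,(Int.ofNat 1))] (.node 36 [(62,(Int.ofNat 1))] (.node 35 [(59,(Int.ofNat 1))] .nil .nil) (.node 38 [(64,(Int.ofNat 1))] .nil .nil)) (.node 44 [(74,(Int.ofNat 1))] (.node 42 [(71,(Int.negSucc 0))] .nil .nil) (.node 46 [(76,(Int.negSucc 0))] .nil .nil)))) (.node 93 [(104,(Int.ofNat 1))] (.node 61 [(87,(Int.negSucc 0))] (.node 54 [(83,(Int.ofNat 1))] (.node 51 [(81,(Int.negSucc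 0))] .nil .nil) (.node 56 [(85,(Int.negSucc 0))] .nil .nil)) (.node 66 [(90,(Int.negSucc 0))] (.node 63 [(89,(Int.negSucc 0))] .nil .nil) (.node 68 [(92,(Int.ofNat 1))] .nil .nil))) (.node 100 [(119,(Int.negSucc 0))] (.node 96 [(115,(Int.negSucc 0))] (.node 94 [(110,(Int.ofNat 1))] .nil .nil) (.node 98 [(117,(Int.ofNat 1))] .nil .nil)) (.node 107 [(123,(Int.negSucc 0))] (.node 102 [(121,(Int.ofNat 1))] .nil .nil) (.node 113 [(124,(Int.negSucc 0))] .nil .nil)))))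
noncomputable def ch89 : Tr (List (ℕ × ℤ)) := (.node 48 [(79,(Int.ofNat 1))] (.node 33 [(58,(Int.ofNat 1))] (.node 8 [(28,(Int.ofNat 1))] (.node 4 [(24,(Int.ofNat 1))] (.node 2 [(19,(Int.negSucc 0))] (.node 1 [(13,(Int.negSucc 0))] .nil .nil) .nil) (.node 5 [(25,(Int.ofNat 1))] .nil .nil)) (.node 14 [(31,(Int.negSucc 0))] (.node 9 [(29,(Int.ofNat 1))] .nil .nil) (.node 20 [(32,(Int.negSucc 0))] .nil .nil))) (.node 39 [(69,(Int.ofNat 1))] (.node 37 [(63,(Int.ofNat 1))] (.node 34 [(59,(Int.ofNat 1))] .nil .nil) (.node 38 [(65,(Int.ofNat 1))] .nil .nil)) (.node 43 [(74,(Int.ofNat 1))] (.node 42 [(72,(Int.negSucc 0))] .nil .nil) (.node 46 [(77,(Int.negSucc 0))] .nil .nil)))) (.node 93 [(105,(Int.ofNat 1))] (.node 60 [(87,(Int.negSucc 0))] (.node 53 [(83,(Int.ofNat 1))] (.node 51 [(82,(Int.negSucc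 0))] .nil .nil) (.node 56 [(86,(Int.negSucc 0))] .nil .nil)) (.node 66 [(91,(Int.negSucc 0))] (.node 62 [(88,(Int.negSucc 0))] .nil .nil) (.node 67 [(92,(Int.negSucc 0))] .nil .nil))) (.node 100 [(120,(Int.negSucc 0))] (.node 96 [(116,(Int.negSucc 0))] (.node 94 [(111,(Int.ofNat 1))] .nil .nil) (.node 97 [(117,(Int.negSucc 0))] .nil .nil)) (.node 106 [(123,(Int.ofNat 1))] (.node 101 [(121,(Int.negSucc 0))] .nil .nil) (.node 112 [(124,(Int.ofNat 1))] .nil .nil)))))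
noncomputable def ch90 : Tr (List (ℕ × ℤ)) := (.node 49 [(80,(Int.ofNat 1))] (.node 33 [(60,(Int.negSucc 0))] (.node 7 [(27,(Int.negSucc 0))] (.node 3 [(23,(Int.negSucc 0))] (.node 2 [(20,(Int.negSucc 0))] (.node 1 [(14,(Int.negSucc 0))] .nil .nil) .nil) (.node 6 [(26,(Int.negSucc 0))] .nil .nil)) (.node 13 [(31,(Int.negSucc 0))] (.node 10 [(30,(Int.negSucc 0))] .nil .nil) (.node 19 [(32,(Int.negSucc 0))] .nil .nil))) (.node 40 [(70,(Int.ofNat 1))] (.node 37 [(66,(Int.ofNat 1))] (.node 34 [(62,(Int.ofNat 1))] .nil .nil) (.node 38 [(67,(Int.negSucc 0))] .nil .nil)) (.node 44 [(75,(Int.ofNat 1))] (.node 41 [(71,(Int.negSucc 0))] .nil .nil) (.node 45 [(76,(Int.negSucc 0))] .nil .nil)))) (.node 93 [(106,(Int.ofNat 1))] (.node 58 [(87,(Int.ofNat 1))] (.node 54 [(84,(Int.ofNat 1))] (.node 50 [(81,(Int.negSucc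 0))] .nil .nil) (.node 55 [(85,(Int.negSucc 0))] .nil .nil)) (.node 63 [(91,(Int.negSucc 0))] (.node 59 [(88,(Int.negSucc 0))] .nil .nil) (.node 65 [(92,(Int.ofNat 1))] .nil .nil))) (.node 99 [(119,(Int.ofNat 1))] (.node 95 [(115,(Int.ofNat 1))] (.node 94 [(112,(Int.ofNat 1))] .nil .nil) (.node 98 [(118,(Int.ofNat 1))] .nil .nil)) (.node 105 [(123,(Int.ofNat 1))] (.node 102 [(122,(Int.ofNat 1))] .nil .nil) (.node 111 [(124,(Int.ofNat 1))] .nil .nil)))))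
noncomputable def ch91 : Tr (List (ℕ × ℤ)) := (.node 48 [(80,(Int.ofNat 1))] (.node 33 [(61,(Int.ofNat 1))] (.node 7 [(28,(Int.ofNat 1))] (.node 3 [(24,(Int.ofNat 1))] (.node 2 [(21,(Int.ofNat 1))] (.node 1 [(15,(Int.ofNat 1))] .nil .nil) .nil) (.node 5 [(26,(Int.negSucc 0))] .nil .nil)) (.node 12 [(31,(Int.negSucc 0))] (.node 9 [(30,(Int.negSucc 0))] .nil .nil) (.node 18 [(32,(Int.negSucc 0))] .nil .nil))) (.node 39 [(70,(Int.ofNat 1))] (.node 36 [(66,(Int.ofNat 1))] (.node 35 [(63,(Int.ofNat 1))] .nil .nil) (.node 38 [(68,(Int.negSucc 0))] .nil .nil)) (.node 43 [(75,(Int.ofNat 1))] (.node 41 [(72,(Int.negSucc 0))] .nil .nil) (.node 45 [(77,(Int.negSucc 0))] .nil .nil)))) (.node 93 [(107,(Int.ofNat 1))] (.node 57 [(87,(Int.ofNat 1))] (.node 53 [(84,(Int.ofNat 1))] (.node 50 [(82,(Int.negSucc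 0))] .nil .nil) (.node 55 [(86,(Int.negSucc 0))] .nil .nil)) (.node 62 [(90,(Int.negSucc 0))] (.node 59 [(89,(Int.negSucc 0))] .nil .nil) (.node 64 [(92,(Int.negSucc 0))] .nil .nil))) (.node 99 [(120,(Int.ofNat 1))] (.node 95 [(116,(Int.ofNat 1))] (.node 94 [(113,(Int.ofNat 1))] .nil .nil) (.node 97 [(118,(Int.negSucc 0))] .nil .nil)) (.node 104 [(123,(Int.negSucc 0))] (.node 101 [(122,(Int.negSucc 0))] .nil .nil) (.node 110 [(124,(Int.negSucc 0))] .nil .nil)))))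
noncomputable def ch92 : Tr (List (ℕ × ℤ)) := (.node 48 [(81,(Int.ofNat 1))] (.node 34 [(64,(Int.ofNat 1))] (.node 7 [(29,(Int.negSucc 0))] (.node 3 [(25,(Int.negSucc 0))] (.node 2 [(22,(Int.negSucc 0))] (.node 1 [(16,(Int.negSucc 0))] .nil .nil) .nil) (.node 4 [(26,(Int.negSucc 0))] .nil .nil)) (.node 11 [(31,(Int.negSucc 0))] (.node 8 [(30,(Int.negSucc 0))] .nil .nil) (.node 17 [(32,(Int.negSucc 0))] .nil .nil))) (.node 39 [(71,(Int.ofNat 1))] (.node 36 [(67,(Int.ofNat 1))] (.node 35 [(65,(Int.negSucc 0))] .nil .nil) (.node 37 [(68,(Int.negSucc 0))] .nil .nil)) (.node 43 [(76,(Int.ofNat 1))] (.node 40 [(72,(Int.negSucc 0))] .nil .nil) (.node 44 [(77,(Int.negSucc 0))] .nil .nil)))) (.node 93 [(108,(Int.ofNat 1))] (.node 57 [(88,(Int.ofNat 1))] (.node 53 [(85,(Int.ofNat 1))] (.node 49 [(82,(Int.negSucc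 0))] .nil .nil) (.node 54 [(86,(Int.negSucc 0))] .nil .nil)) (.node 60 [(90,(Int.ofNat 1))] (.node 58 [(89,(Int.negSucc 0))] .nil .nil) (.node 61 [(91,(Int.negSucc 0))] .nil .nil))) (.node 99 [(121,(Int.ofNat 1))] (.node 95 [(117,(Int.ofNat 1))] (.node 94 [(114,(Int.ofNat 1))] .nil .nil) (.node 96 [(118,(Int.ofNat 1))] .nil .nil)) (.node 103 [(123,(Int.ofNat 1))] (.node 100 [(122,(Int.ofNat 1))] .nil .nil) (.node 109 [(124,(Int.ofNat 1))] .nil .nil)))))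
noncomputable def ch93 : Tr (List (ℕ × ℤ)) := (.node 73 [(94,(Int.negSucc 0))] (.node 24 [(40,(Int.ofNat 1))] (.node 20 [(36,(Int.ofNat 1))] (.node 18 [(34,(Int.ofNat 1))] (.node 17 [(33,(Int.ofNat 1))] (.node 0 [(1,(Int.negSucc 0))] .nil .nil) .nil) (.node 19 [(35,(Int.ofNat 1))] .nil .nil)) (.node 22 [(38,(Int.ofNat 1))] (.node 21 [(37,(Int.ofNat 1))] .nil .nil) (.node 23 [(39,(Int.ofNat 1))] .nil .nil))) (.node 28 [(49,(Int.ofNat 1))] (.node 26 [(42,(Int.ofNat 1))] (.node 25 [(41,(Int.ofNat 1))] .nil .nil) (.node 27 [(48,(Int.ofNat 1))] .nil .nil)) (.node 30 [(51,(Int.ofNat 1))] (.node 29 [(50,(Int.ofNat 1))] .nil .nil) (.node 31 [(52,(Int.ofNat 1))] .nil .nil)))) (.node 86 [(102,(Int.negSucc 0))] (.node 77 [(98,(Int.negSucc 0))] (.node 75 [(96,(Int.negSucc 0))] (.node 74 [(95,(Int.negSucc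 0))] .nil .nil) (.node 76 [(97,(Int.negSucc 0))] .nil .nil)) (.node 84 [(100,(Int.negSucc 0))] (.node 83 [(99,(Int.negSucc 0))] .nil .nil) (.node 85 [(101,(Int.negSucc 0))] .nil .nil))) (.node 90 [(106,(Int.negSucc 0))] (.node 88 [(104,(Int.negSucc 0))] (.node 87 [(103,(Int.negSucc 0))] .nil .nil) (.node 89 [(105,(Int.negSucc 0))] .nil .nil)) (.node 92 [(108,(Int.negSucc 0))] (.node 91 [(107,(Int.negSucc 0))] .nil .nil) (.node 124 [(125,(Int.ofNat 1))] .nil .nil)))))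
noncomputable def ch94 : Tr (List (ℕ × ℤ)) := (.node 52 [(93,(Int.negSucc 0))] (.node 24 [(44,(Int.negSucc 0))] (.node 14 [(36,(Int.ofNat 1))] (.node 12 [(34,(Int.ofNat 1))] (.node 11 [(33,(Int.ofNat 1))] (.node 0 [(2,(Int.ofNat 1))] .nil .nil) .nil) (.node 13 [(35,(Int.ofNat 1))] .nil .nil)) (.node 16 [(38,(Int.ofNat 1))] (.node 15 [(37,(Int.ofNat 1))] .nil .nil) (.node 23 [(43,(Int.negSucc 0))] .nil .nil))) (.node 28 [(54,(Int.ofNat 1))] (.node 26 [(46,(Int.negSucc 0))] (.node 25 [(45,(Int.negSucc 0))] .nil .nil) (.node 27 [(53,(Int.ofNat 1))] .nil .nil)) (.node 30 [(56,(Int.ofNat 1))] (.node 29 [(55,(Int.ofNat 1))] .nil .nil) (.node 32 [(73,(Int.ofNat 1))] .nil .nil)))) (.node 82 [(102,(Int.ofNat 1))] (.node 72 [(98,(Int.negSucc 0))] (.node 70 [(96,(Int.negSucc 0))] (.node 69 [(95,(Int.negSucc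 0))] .nil .nil) (.node 71 [(97,(Int.negSucc 0))] .nil .nil)) (.node 80 [(100,(Int.ofNat 1))] (.node 79 [(99,(Int.ofNat 1))] .nil .nil) (.node 81 [(101,(Int.ofNat 1))] .nil .nil))) (.node 90 [(112,(Int.negSucc 0))] (.node 88 [(110,(Int.negSucc 0))] (.node 87 [(109,(Int.negSucc 0))] .nil .nil) (.node 89 [(111,(Int.negSucc 0))] .nil .nil)) (.node 92 [(114,(Int.negSucc 0))] (.node 91 [(113,(Int.negSucc 0))] .nil .nil) (.node 123 [(125,(Int.negSucc 0))] .nil .nil)))))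
noncomputable def ch95 : Tr (List (ℕ × ℤ)) := (.node 51 [(93,(Int.negSucc 0))] (.node 21 [(44,(Int.negSucc 0))] (.node 14 [(39,(Int.negSucc 0))] (.node 9 [(34,(Int.ofNat 1))] (.node 8 [(33,(Int.ofNat 1))] (.node 0 [(3,(Int.negSucc 0))] .nil .nil) .nil) (.node 10 [(35,(Int.ofNat 1))] .nil .nil)) (.node 16 [(41,(Int.negSucc 0))] (.node 15 [(40,(Int.negSucc 0))] .nil .nil) (.node 20 [(43,(Int.negSucc 0))] .nil .nil))) (.node 28 [(58,(Int.ofNat 1))] (.node 26 [(47,(Int.ofNat 1))] (.node 22 [(45,(Int.negSucc 0))] .nil .nil) (.node 27 [(57,(Int.ofNat 1))] .nil .nil)) (.node 31 [(69,(Int.ofNat 1))] (.node 29 [(59,(Int.ofNat 1))] .nil .nil) (.node 32 [(74,(Int.ofNat 1))] .nil .nil)))) (.node 82 [(105,(Int.ofNat 1))] (.node 68 [(98,(Int.negSucc 0))] (.node 66 [(96,(Int.negSucc 0))] (.node 56 [(94,(Int.negSucc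 0))] .nil .nil) (.node 67 [(97,(Int.negSucc 0))] .nil .nil)) (.node 80 [(103,(Int.ofNat 1))] (.node 78 [(99,(Int.negSucc 0))] .nil .nil) (.node 81 [(104,(Int.ofNat 1))] .nil .nil))) (.node 90 [(115,(Int.negSucc 0))] (.node 85 [(110,(Int.ofNat 1))] (.node 84 [(109,(Int.ofNat 1))] .nil .nil) (.node 86 [(111,(Int.ofNat 1))] .nil .nil)) (.node 92 [(117,(Int.negSucc 0))] (.node 91 [(116,(Int.negSucc 0))] .nil .nil) (.node 122 [(125,(Int.ofNat 1))] .nil .nil)))))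
noncomputable def ch96 : Tr (List (ℕ × ℤ)) := (.node 50 [(93,(Int.negSucc 0))] (.node 19 [(44,(Int.negSucc 0))] (.node 12 [(39,(Int.negSucc 0))] (.node 9 [(36,(Int.negSucc 0))] (.node 7 [(33,(Int.ofNat 1))] (.node 0 [(4,(Int.ofNat 1))] .nil .nil) .nil) (.node 10 [(37,(Int.negSucc 0))] .nil .nil)) (.node 16 [(42,(Int.ofNat 1))] (.node 13 [(40,(Int.negSucc 0))] .nil .nil) (.node 18 [(43,(Int.negSucc 0))] .nil .nil))) (.node 28 [(61,(Int.ofNat 1))] (.node 25 [(47,(Int.ofNat 1))] (.node 22 [(46,(Int.ofNat 1))] .nil .nil) (.node 27 [(60,(Int.ofNat 1))] .nil .nil)) (.node 31 [(70,(Int.ofNat 1))] (.node 30 [(66,(Int.ofNat 1))] .nil .nil) (.node 32 [(75,(Int.ofNat 1))] .nil .nil)))) (.node 82 [(107,(Int.ofNat 1))] (.node 65 [(98,(Int.negSucc 0))] (.node 59 [(95,(Int.negSucc 0))] (.node 55 [(94,(Int.negSucc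 0))] .nil .nil) (.node 64 [(97,(Int.negSucc 0))] .nil .nil)) (.node 79 [(103,(Int.negSucc 0))] (.node 78 [(100,(Int.negSucc 0))] .nil .nil) (.node 81 [(106,(Int.ofNat 1))] .nil .nil))) (.node 88 [(115,(Int.ofNat 1))] (.node 85 [(112,(Int.ofNat 1))] (.node 83 [(109,(Int.negSucc 0))] .nil .nil) (.node 86 [(113,(Int.ofNat 1))] .nil .nil)) (.node 92 [(118,(Int.negSucc 0))] (.node 89 [(116,(Int.ofNat 1))] .nil .nil) (.node 121 [(125,(Int.negSucc 0))] .nil .nil)))))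
noncomputable def ch97 : Tr (List (ℕ × ℤ)) := (.node 49 [(93,(Int.negSucc 0))] (.node 19 [(45,(Int.ofNat 1))] (.node 11 [(39,(Int.negSucc 0))] (.node 8 [(36,(Int.negSucc 0))] (.node 7 [(34,(Int.negSucc 0))] (.node 0 [(5,(Int.negSucc 0))] .nil .nil) .nil) (.node 10 [(38,(Int.ofNat 1))] .nil .nil)) (.node 15 [(42,(Int.ofNat 1))] (.node 13 [(41,(Int.ofNat 1))] .nil .nil) (.node 17 [(43,(Int.negSucc 0))] .nil .nil))) (.node 29 [(64,(Int.ofNat 1))] (.node 24 [(47,(Int.ofNat 1))] (.node 21 [(46,(Int.ofNat 1))] .nil .nil) (.node 27 [(62,(Int.ofNat 1))] .nil .nil)) (.node 31 [(71,(Int.ofNat 1))] (.node 30 [(67,(Int.ofNat 1))] .nil .nil) (.node 32 [(76,(Int.ofNat 1))] .nil .nil)))) (.node 82 [(108,(Int.ofNat 1))] (.node 63 [(98,(Int.negSucc 0))] (.node 58 [(95,(Int.negSucc 0))] (.node 54 [(94,(Int.negSucc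 0))] .nil .nil) (.node 61 [(96,(Int.negSucc 0))] .nil .nil)) (.node 79 [(104,(Int.negSucc 0))] (.node 78 [(101,(Int.negSucc 0))] .nil .nil) (.node 80 [(106,(Int.negSucc 0))] .nil .nil))) (.node 87 [(115,(Int.negSucc 0))] (.node 84 [(112,(Int.negSucc 0))] (.node 83 [(110,(Int.negSucc 0))] .nil .nil) (.node 86 [(114,(Int.ofNat 1))] .nil .nil)) (.node 91 [(118,(Int.ofNat 1))] (.node 89 [(117,(Int.ofNat 1))] .nil .nil) (.node 120 [(125,(Int.ofNat 1))] .nil .nil)))))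
noncomputable def ch98 : Tr (List (ℕ × ℤ)) := (.node 48 [(93,(Int.negSucc 0))] (.node 18 [(45,(Int.ofNat 1))] (.node 11 [(40,(Int.ofNat 1))] (.node 8 [(37,(Int.ofNat 1))] (.node 7 [(35,(Int.ofNat 1))] (.node 0 [(6,(Int.ofNat 1))] .nil .nil) .nil) (.node 9 [(38,(Int.ofNat 1))] .nil .nil)) (.node 14 [(42,(Int.ofNat 1))] (.node 12 [(41,(Int.ofNat 1))] .nil .nil) (.node 17 [(44,(Int.ofNat 1))] .nil .nil))) (.node 29 [(65,(Int.ofNat 1))] (.node 23 [(47,(Int.ofNat 1))] (.node 20 [(46,(Int.ofNat 1))] .nil .nil) (.node 28 [(63,(Int.ofNat 1))] .nil .nil)) (.node 31 [(72,(Int.ofNat 1))] (.node 30 [(68,(Int.ofNat 1))] .nil .nil) (.node 32 [(77,(Int.ofNat 1))] .nil .nil)))) (.node 81 [(108,(Int.negSucc 0))] (.node 62 [(97,(Int.negSucc 0))] (.node 57 [(95,(Int.negSucc 0))] (.node 53 [(94,(Int.negSucc 0))]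 .nil .nil) (.node 60 [(96,(Int.negSucc 0))] .nil .nil)) (.node 79 [(105,(Int.negSucc 0))] (.node 78 [(102,(Int.negSucc 0))] .nil .nil) (.node 80 [(107,(Int.negSucc 0))] .nil .nil))) (.node 87 [(116,(Int.negSucc 0))] (.node 84 [(113,(Int.negSucc 0))] (.node 83 [(111,(Int.negSucc 0))] .nil .nil) (.node 85 [(114,(Int.negSucc 0))] .nil .nil)) (.node 90 [(118,(Int.negSucc 0))] (.node 88 [(117,(Int.negSucc 0))] .nil .nil) (.node 119 [(125,(Int.negSucc 0))] .nil .nil)))))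
noncomputable def ch99 : Tr (List (ℕ × ℤ)) := (.node 42 [(93,(Int.negSucc 0))] (.node 21 [(54,(Int.negSucc 0))] (.node 14 [(48,(Int.ofNat 1))] (.node 5 [(34,(Int.ofNat 1))] (.node 4 [(33,(Int.ofNat 1))] (.node 0 [(7,(Int.ofNat 1))] .nil .nil) .nil) (.node 6 [(35,(Int.ofNat 1))] .nil .nil)) (.node 16 [(50,(Int.ofNat 1))] (.node 15 [(49,(Int.ofNat 1))] .nil .nil) (.node 20 [(53,(Int.negSucc 0))] .nil .nil))) (.node 25 [(59,(Int.ofNat 1))] (.node 23 [(57,(Int.ofNat 1))] (.node 22 [(55,(Int.negSucc 0))] .nil .nil) (.node 24 [(58,(Int.ofNat 1))] .nil .nil)) (.node 31 [(79,(Int.negSucc 0))] (.node 30 [(78,(Int.ofNat 1))] .nil .nil) (.node 32 [(83,(Int.ofNat 1))] .nil .nil)))) (.node 72 [(105,(Int.ofNat 1))] (.node 67 [(101,(Int.negSucc 0))] (.node 47 [(95,(Int.negSucc 0))] (.node 46 [(94,(Int.ofNat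 1))] .nil .nil) (.node 66 [(100,(Int.negSucc 0))] .nil .nil)) (.node 70 [(103,(Int.ofNat 1))] (.node 68 [(102,(Int.negSucc 0))] .nil .nil) (.node 71 [(104,(Int.ofNat 1))] .nil .nil))) (.node 90 [(119,(Int.negSucc 0))] (.node 76 [(110,(Int.negSucc 0))] (.node 75 [(109,(Int.negSucc 0))] .nil .nil) (.node 77 [(111,(Int.negSucc 0))] .nil .nil)) (.node 92 [(121,(Int.negSucc 0))] (.node 91 [(120,(Int.negSucc 0))] .nil .nil) (.node 118 [(125,(Int.negSucc 0))] .nil .nil)))))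
noncomputable def ch100 : Tr (List (ℕ × ℤ)) := (.node 41 [(93,(Int.negSucc 0))] (.node 19 [(54,(Int.negSucc 0))] (.node 12 [(48,(Int.ofNat 1))] (.node 5 [(36,(Int.negSucc 0))] (.node 3 [(33,(Int.ofNat 1))] (.node 0 [(8,(Int.negSucc 0))] .nil .nil) .nil) (.node 6 [(37,(Int.negSucc 0))] .nil .nil)) (.node 16 [(51,(Int.negSucc 0))] (.node 13 [(49,(Int.ofNat 1))] .nil .nil) (.node 18 [(53,(Int.negSucc 0))] .nil .nil))) (.node 26 [(66,(Int.ofNat 1))] (.node 23 [(60,(Int.ofNat 1))] (.node 22 [(56,(Int.ofNat 1))] .nil .nil) (.node 24 [(61,(Int.ofNat 1))] .nil .nil)) (.node 31 [(80,(Int.negSucc 0))] (.node 29 [(78,(Int.ofNat 1))] .nil .nil) (.node 32 [(84,(Int.ofNat 1))] .nil .nil)))) (.node 72 [(107,(Int.ofNat 1))] (.node 64 [(101,(Int.negSucc 0))] (.node 47 [(96,(Int.negSucc 0))] (.node 45 [(94,(Int.ofNat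 1))] .nil .nil) (.node 59 [(99,(Int.negSucc 0))] .nil .nil)) (.node 69 [(103,(Int.negSucc 0))] (.node 65 [(102,(Int.negSucc 0))] .nil .nil) (.node 71 [(106,(Int.ofNat 1))] .nil .nil))) (.node 88 [(119,(Int.ofNat 1))] (.node 76 [(112,(Int.negSucc 0))] (.node 74 [(109,(Int.ofNat 1))] .nil .nil) (.node 77 [(113,(Int.negSucc 0))] .nil .nil)) (.node 92 [(122,(Int.negSucc 0))] (.node 89 [(120,(Int.ofNat 1))] .nil .nil) (.node 117 [(125,(Int.ofNat 1))] .nil .nil)))))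
noncomputable def ch101 : Tr (List (ℕ × ℤ)) := (.node 40 [(93,(Int.negSucc 0))] (.node 19 [(55,(Int.ofNat 1))] (.node 11 [(48,(Int.ofNat 1))] (.node 4 [(36,(Int.negSucc 0))] (.node 3 [(34,(Int.negSucc 0))] (.node 0 [(9,(Int.ofNat 1))] .nil .nil) .nil) (.node 6 [(38,(Int.ofNat 1))] .nil .nil)) (.node 15 [(51,(Int.negSucc 0))] (.node 13 [(50,(Int.negSucc 0))] .nil .nil) (.node 17 [(53,(Int.negSucc 0))] .nil .nil))) (.node 26 [(67,(Int.ofNat 1))] (.node 23 [(62,(Int.ofNat 1))] (.node 21 [(56,(Int.ofNat 1))] .nil .nil) (.node 25 [(64,(Int.ofNat 1))] .nil .nil)) (.node 31 [(81,(Int.negSucc 0))] (.node 28 [(78,(Int.ofNat 1))] .nil .nil) (.node 32 [(85,(Int.ofNat 1))] .nil .nil)))) (.node 72 [(108,(Int.ofNat 1))] (.node 61 [(100,(Int.negSucc 0))] (.node 47 [(97,(Int.negSucc 0))] (.node 44 [(94,(Int.ofNat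 1))] .nil .nil) (.node 58 [(99,(Int.negSucc 0))] .nil .nil)) (.node 69 [(104,(Int.negSucc 0))] (.node 63 [(102,(Int.negSucc 0))] .nil .nil) (.node 70 [(106,(Int.negSucc 0))] .nil .nil))) (.node 87 [(119,(Int.negSucc 0))] (.node 75 [(112,(Int.ofNat 1))] (.node 74 [(110,(Int.ofNat 1))] .nil .nil) (.node 77 [(114,(Int.negSucc 0))] .nil .nil)) (.node 91 [(122,(Int.ofNat 1))] (.node 89 [(121,(Int.ofNat 1))] .nil .nil) (.node 116 [(125,(Int.negSucc 0))] .nil .nil)))))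
noncomputable def ch102 : Tr (List (ℕ × ℤ)) := (.node 39 [(93,(Int.negSucc 0))] (.node 18 [(55,(Int.ofNat 1))] (.node 11 [(49,(Int.negSucc 0))] (.node 4 [(37,(Int.ofNat 1))] (.node 3 [(35,(Int.ofNat 1))] (.node 0 [(10,(Int.negSucc 0))] .nil .nil) .nil) (.node 5 [(38,(Int.ofNat 1))] .nil .nil)) (.node 14 [(51,(Int.negSucc 0))] (.node 12 [(50,(Int.negSucc 0))] .nil .nil) (.node 17 [(54,(Int.ofNat 1))] .nil .nil))) (.node 26 [(68,(Int.ofNat 1))] (.node 24 [(63,(Int.ofNat 1))] (.node 20 [(56,(Int.ofNat 1))] .nil .nil) (.node 25 [(65,(Int.ofNat 1))] .nil .nil)) (.node 31 [(82,(Int.negSucc 0))] (.node 27 [(78,(Int.ofNat 1))] .nil .nil) (.node 32 [(86,(Int.ofNat 1))] .nil .nil)))) (.node 71 [(108,(Int.negSucc 0))] (.node 60 [(100,(Int.negSucc 0))] (.node 47 [(98,(Int.negSucc 0))] (.node 43 [(94,(Int.ofNat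 1))] .nil .nil) (.node 57 [(99,(Int.negSucc 0))] .nil .nil)) (.node 69 [(105,(Int.negSucc 0))] (.node 62 [(101,(Int.negSucc 0))] .nil .nil) (.node 70 [(107,(Int.negSucc 0))] .nil .nil))) (.node 87 [(120,(Int.negSucc 0))] (.node 75 [(113,(Int.ofNat 1))] (.node 74 [(111,(Int.ofNat 1))] .nil .nil) (.node 76 [(114,(Int.ofNat 1))] .nil .nil)) (.node 90 [(122,(Int.negSucc 0))] (.node 88 [(121,(Int.negSucc 0))] .nil .nil) (.node 115 [(125,(Int.ofNat 1))] .nil .nil)))))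
noncomputable def ch103 : Tr (List (ℕ × ℤ)) := (.node 38 [(93,(Int.negSucc 0))] (.node 19 [(58,(Int.negSucc 0))] (.node 9 [(48,(Int.ofNat 1))] (.node 5 [(39,(Int.ofNat 1))] (.node 2 [(33,(Int.ofNat 1))] (.node 0 [(11,(Int.ofNat 1))] .nil .nil) .nil) (.node 6 [(40,(Int.ofNat 1))] .nil .nil)) (.node 16 [(52,(Int.ofNat 1))] (.node 10 [(49,(Int.ofNat 1))] .nil .nil) (.node 18 [(57,(Int.negSucc 0))] .nil .nil))) (.node 26 [(70,(Int.negSucc 0))] (.node 21 [(61,(Int.ofNat 1))] (.node 20 [(60,(Int.ofNat 1))] .nil .nil) (.node 25 [(69,(Int.ofNat 1))] .nil .nil)) (.node 30 [(80,(Int.negSucc 0))] (.node 29 [(79,(Int.ofNat 1))] .nil .nil) (.node 32 [(87,(Int.ofNat 1))] .nil .nil)))) (.node 68 [(107,(Int.ofNat 1))] (.node 56 [(100,(Int.negSucc 0))] (.node 46 [(96,(Int.negSucc 0))] (.node 45 [(95,(Int.ofNat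 1))] .nil .nil) (.node 55 [(99,(Int.ofNat 1))] .nil .nil)) (.node 65 [(105,(Int.negSucc 0))] (.node 64 [(104,(Int.negSucc 0))] .nil .nil) (.node 67 [(106,(Int.ofNat 1))] .nil .nil))) (.node 85 [(119,(Int.negSucc 0))] (.node 76 [(115,(Int.negSucc 0))] (.node 73 [(109,(Int.negSucc 0))] .nil .nil) (.node 77 [(116,(Int.negSucc 0))] .nil .nil)) (.node 92 [(123,(Int.negSucc 0))] (.node 86 [(120,(Int.negSucc 0))] .nil .nil) (.node 114 [(125,(Int.negSucc 0))] .nil .nil)))))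
noncomputable def ch104 : Tr (List (ℕ × ℤ)) := (.node 37 [(93,(Int.negSucc 0))] (.node 19 [(59,(Int.ofNat 1))] (.node 8 [(48,(Int.ofNat 1))] (.node 4 [(39,(Int.ofNat 1))] (.node 2 [(34,(Int.negSucc 0))] (.node 0 [(12,(Int.negSucc 0))] .nil .nil) .nil) (.node 6 [(41,(Int.negSucc 0))] .nil .nil)) (.node 15 [(52,(Int.ofNat 1))] (.node 10 [(50,(Int.negSucc 0))] .nil .nil) (.node 17 [(57,(Int.negSucc 0))] .nil .nil))) (.node 26 [(71,(Int.negSucc 0))] (.node 22 [(64,(Int.ofNat 1))] (.node 20 [(62,(Int.ofNat 1))] .nil .nil) (.node 24 [(69,(Int.ofNat 1))] .nil .nil)) (.node 30 [(81,(Int.negSucc 0))] (.node 28 [(79,(Int.ofNat 1))] .nil .nil) (.node 32 [(88,(Int.ofNat 1))] .nil .nil)))) (.node 68 [(108,(Int.ofNat 1))] (.node 56 [(101,(Int.negSucc 0))] (.node 46 [(97,(Int.negSucc 0))] (.node 44 [(95,(Int.ofNat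 1))] .nil .nil) (.node 54 [(99,(Int.ofNat 1))] .nil .nil)) (.node 63 [(105,(Int.negSucc 0))] (.node 61 [(103,(Int.negSucc 0))] .nil .nil) (.node 66 [(106,(Int.negSucc 0))] .nil .nil))) (.node 84 [(119,(Int.ofNat 1))] (.node 75 [(115,(Int.ofNat 1))] (.node 73 [(110,(Int.negSucc 0))] .nil .nil) (.node 77 [(117,(Int.negSucc 0))] .nil .nil)) (.node 91 [(123,(Int.ofNat 1))] (.node 86 [(121,(Int.negSucc 0))] .nil .nil) (.node 113 [(125,(Int.ofNat 1))] .nil .nil)))))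
noncomputable def ch105 : Tr (List (ℕ × ℤ)) := (.node 36 [(93,(Int.negSucc 0))] (.node 18 [(59,(Int.ofNat 1))] (.node 8 [(49,(Int.negSucc 0))] (.node 4 [(40,(Int.negSucc 0))] (.node 2 [(35,(Int.ofNat 1))] (.node 0 [(13,(Int.ofNat 1))] .nil .nil) .nil) (.node 5 [(41,(Int.negSucc 0))] .nil .nil)) (.node 14 [(52,(Int.ofNat 1))] (.node 9 [(50,(Int.negSucc 0))] .nil .nil) (.node 17 [(58,(Int.ofNat 1))] .nil .nil))) (.node 26 [(72,(Int.negSucc 0))] (.node 22 [(65,(Int.ofNat 1))] (.node 21 [(63,(Int.ofNat 1))] .nil .nil) (.node 23 [(69,(Int.ofNat 1))] .nil .nil)) (.node 30 [(82,(Int.negSucc 0))] (.node 27 [(79,(Int.ofNat 1))] .nil .nil) (.node 32 [(89,(Int.ofNat 1))] .nil .nil)))) (.node 67 [(108,(Int.negSucc 0))] (.node 56 [(102,(Int.negSucc 0))] (.node 46 [(98,(Int.negSucc 0))] (.node 43 [(95,(Int.ofNat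 1))] .nil .nil) (.node 53 [(99,(Int.ofNat 1))] .nil .nil)) (.node 62 [(104,(Int.negSucc 0))] (.node 60 [(103,(Int.negSucc 0))] .nil .nil) (.node 66 [(107,(Int.negSucc 0))] .nil .nil))) (.node 84 [(120,(Int.ofNat 1))] (.node 75 [(116,(Int.ofNat 1))] (.node 73 [(111,(Int.negSucc 0))] .nil .nil) (.node 76 [(117,(Int.ofNat 1))] .nil .nil)) (.node 90 [(123,(Int.negSucc 0))] (.node 85 [(121,(Int.ofNat 1))] .nil .nil) (.node 112 [(125,(Int.negSucc 0))] .nil .nil)))))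
noncomputable def ch106 : Tr (List (ℕ × ℤ)) := (.node 35 [(93,(Int.negSucc 0))] (.node 18 [(62,(Int.ofNat 1))] (.node 7 [(48,(Int.ofNat 1))] (.node 3 [(39,(Int.ofNat 1))] (.node 2 [(36,(Int.ofNat 1))] (.node 0 [(14,(Int.ofNat 1))] .nil .nil) .nil) (.node 6 [(42,(Int.ofNat 1))] .nil .nil)) (.node 13 [(52,(Int.ofNat 1))] (.node 10 [(51,(Int.ofNat 1))] .nil .nil) (.node 17 [(60,(Int.negSucc 0))] .nil .nil))) (.node 25 [(71,(Int.negSucc 0))] (.node 22 [(67,(Int.negSucc 0))] (.node 21 [(66,(Int.ofNat 1))] .nil .nil) (.node 24 [(70,(Int.ofNat 1))] .nil .nil)) (.node 29 [(81,(Int.negSucc 0))] (.node 28 [(80,(Int.ofNat 1))] .nil .nil) (.node 32 [(90,(Int.ofNat 1))] .nil .nil)))) (.node 65 [(108,(Int.ofNat 1))] (.node 55 [(101,(Int.negSucc 0))] (.node 45 [(97,(Int.negSucc 0))] (.node 44 [(96,(Int.ofNat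 1))] .nil .nil) (.node 54 [(100,(Int.ofNat 1))] .nil .nil)) (.node 59 [(104,(Int.negSucc 0))] (.node 58 [(103,(Int.ofNat 1))] .nil .nil) (.node 63 [(107,(Int.negSucc 0))] .nil .nil))) (.node 83 [(119,(Int.negSucc 0))] (.node 74 [(115,(Int.negSucc 0))] (.node 73 [(112,(Int.negSucc 0))] .nil .nil) (.node 77 [(118,(Int.negSucc 0))] .nil .nil)) (.node 89 [(123,(Int.negSucc 0))] (.node 86 [(122,(Int.negSucc 0))] .nil .nil) (.node 111 [(125,(Int.negSucc 0))] .nil .nil)))))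
noncomputable def ch107 : Tr (List (ℕ × ℤ)) := (.node 34 [(93,(Int.negSucc 0))] (.node 19 [(63,(Int.ofNat 1))] (.node 7 [(49,(Int.negSucc 0))] (.node 3 [(40,(Int.negSucc 0))] (.node 2 [(37,(Int.negSucc 0))] (.node 0 [(15,(Int.negSucc 0))] .nil .nil) .nil) (.node 5 [(42,(Int.ofNat 1))] .nil .nil)) (.node 12 [(52,(Int.ofNat 1))] (.node 9 [(51,(Int.ofNat 1))] .nil .nil) (.node 17 [(61,(Int.ofNat 1))] .nil .nil))) (.node 25 [(72,(Int.negSucc 0))] (.node 22 [(68,(Int.negSucc 0))] (.node 20 [(66,(Int.ofNat 1))] .nil .nil) (.node 23 [(70,(Int.ofNat 1))] .nil .nil)) (.node 29 [(82,(Int.negSucc 0))] (.node 27 [(80,(Int.ofNat 1))] .nil .nil) (.node 32 [(91,(Int.ofNat 1))] .nil .nil)))) (.node 64 [(108,(Int.negSucc 0))] (.node 55 [(102,(Int.negSucc 0))] (.node 45 [(98,(Int.negSucc 0))] (.node 43 [(96,(Int.ofNat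 1))] .nil .nil) (.node 53 [(100,(Int.ofNat 1))] .nil .nil)) (.node 59 [(105,(Int.negSucc 0))] (.node 57 [(103,(Int.ofNat 1))] .nil .nil) (.node 62 [(106,(Int.negSucc 0))] .nil .nil))) (.node 83 [(120,(Int.negSucc 0))] (.node 74 [(116,(Int.negSucc 0))] (.node 73 [(113,(Int.negSucc 0))] .nil .nil) (.node 76 [(118,(Int.ofNat 1))] .nil .nil)) (.node 88 [(123,(Int.ofNat 1))] (.node 85 [(122,(Int.ofNat 1))] .nil .nil) (.node 110 [(125,(Int.ofNat 1))] .nil .nil)))))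
noncomputable def ch108 : Tr (List (ℕ × ℤ)) := (.node 33 [(93,(Int.negSucc 0))] (.node 19 [(65,(Int.negSucc 0))] (.node 7 [(50,(Int.ofNat 1))] (.node 3 [(41,(Int.ofNat 1))] (.node 2 [(38,(Int.ofNat 1))] (.node 0 [(16,(Int.ofNat 1))] .nil .nil) .nil) (.node 4 [(42,(Int.ofNat 1))] .nil .nil)) (.node 11 [(52,(Int.ofNat 1))] (.node 8 [(51,(Int.ofNat 1))] .nil .nil) (.node 18 [(64,(Int.ofNat 1))] .nil .nil))) (.node 24 [(72,(Int.negSucc 0))] (.node 21 [(68,(Int.negSucc 0))] (.node 20 [(67,(Int.ofNat 1))] .nil .nil) (.node 23 [(71,(Int.ofNat 1))] .nil .nil)) (.node 28 [(82,(Int.negSucc 0))] (.node 27 [(81,(Int.ofNat 1))] .nil .nil) (.node 32 [(92,(Int.ofNat 1))] .nil .nil)))) (.node 61 [(107,(Int.negSucc 0))] (.node 54 [(102,(Int.negSucc 0))] (.node 44 [(98,(Int.negSucc 0))] (.node 43 [(97,(Int.ofNat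 1))] .nil .nil) (.node 53 [(101,(Int.ofNat 1))] .nil .nil)) (.node 58 [(105,(Int.negSucc 0))] (.node 57 [(104,(Int.ofNat 1))] .nil .nil) (.node 60 [(106,(Int.ofNat 1))] .nil .nil))) (.node 83 [(121,(Int.negSucc 0))] (.node 74 [(117,(Int.negSucc 0))] (.node 73 [(114,(Int.negSucc 0))] .nil .nil) (.node 75 [(118,(Int.negSucc 0))] .nil .nil)) (.node 87 [(123,(Int.negSucc 0))] (.node 84 [(122,(Int.negSucc 0))] .nil .nil) (.node 109 [(125,(Int.negSucc 0))] .nil .nil)))))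
noncomputable def ch109 : Tr (List (ℕ × ℤ)) := (.node 38 [(94,(Int.negSucc 0))] (.node 14 [(60,(Int.ofNat 1))] (.node 9 [(53,(Int.ofNat 1))] (.node 5 [(43,(Int.negSucc 0))] (.node 1 [(33,(Int.ofNat 1))] (.node 0 [(17,(Int.negSucc 0))] .nil .nil) .nil) (.node 6 [(44,(Int.negSucc 0))] .nil .nil)) (.node 12 [(57,(Int.negSucc 0))] (.node 10 [(54,(Int.ofNat 1))] .nil .nil) (.node 13 [(58,(Int.negSucc 0))] .nil .nil))) (.node 26 [(75,(Int.ofNat 1))] (.node 22 [(73,(Int.ofNat 1))] (.node 15 [(61,(Int.ofNat 1))] .nil .nil) (.node 25 [(74,(Int.negSucc 0))] .nil .nil)) (.node 30 [(84,(Int.negSucc 0))] (.node 29 [(83,(Int.ofNat 1))] .nil .nil) (.node 31 [(87,(Int.ofNat 1))] .nil .nil)))) (.node 67 [(112,(Int.ofNat 1))] (.node 51 [(100,(Int.ofNat 1))] (.node 42 [(96,(Int.negSucc 0))] (.node 41 [(95,(Int.ofNat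 1))] .nil .nil) (.node 50 [(99,(Int.negSucc 0))] .nil .nil)) (.node 64 [(110,(Int.negSucc 0))] (.node 52 [(103,(Int.negSucc 0))] .nil .nil) (.node 65 [(111,(Int.negSucc 0))] .nil .nil))) (.node 81 [(119,(Int.ofNat 1))] (.node 71 [(115,(Int.negSucc 0))] (.node 68 [(113,(Int.ofNat 1))] .nil .nil) (.node 72 [(116,(Int.negSucc 0))] .nil .nil)) (.node 92 [(124,(Int.negSucc 0))] (.node 82 [(120,(Int.ofNat 1))] .nil .nil) (.node 108 [(125,(Int.ofNat 1))] .nil .nil)))))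
noncomputable def ch110 : Tr (List (ℕ × ℤ)) := (.node 37 [(94,(Int.negSucc 0))] (.node 14 [(62,(Int.ofNat 1))] (.node 8 [(53,(Int.ofNat 1))] (.node 4 [(43,(Int.negSucc 0))] (.node 1 [(34,(Int.negSucc 0))] (.node 0 [(18,(Int.ofNat 1))] .nil .nil) .nil) (.node 6 [(45,(Int.ofNat 1))] .nil .nil)) (.node 11 [(57,(Int.negSucc 0))] (.node 10 [(55,(Int.negSucc 0))] .nil .nil) (.node 13 [(59,(Int.ofNat 1))] .nil .nil))) (.node 26 [(76,(Int.ofNat 1))] (.node 21 [(73,(Int.ofNat 1))] (.node 16 [(64,(Int.ofNat 1))] .nil .nil) (.node 24 [(74,(Int.negSucc 0))] .nil .nil)) (.node 30 [(85,(Int.negSucc 0))] (.node 28 [(83,(Int.ofNat 1))] .nil .nil) (.node 31 [(88,(Int.ofNat 1))] .nil .nil)))) (.node 66 [(112,(Int.negSucc 0))] (.node 51 [(101,(Int.ofNat 1))] (.node 42 [(97,(Int.negSucc 0))] (.node 40 [(95,(Int.ofNat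 1))] .nil .nil) (.node 49 [(99,(Int.negSucc 0))] .nil .nil)) (.node 61 [(109,(Int.negSucc 0))] (.node 52 [(104,(Int.negSucc 0))] .nil .nil) (.node 63 [(111,(Int.negSucc 0))] .nil .nil))) (.node 80 [(119,(Int.negSucc 0))] (.node 70 [(115,(Int.ofNat 1))] (.node 68 [(114,(Int.ofNat 1))] .nil .nil) (.node 72 [(117,(Int.negSucc 0))] .nil .nil)) (.node 91 [(124,(Int.ofNat 1))] (.node 82 [(121,(Int.ofNat 1))] .nil .nil) (.node 107 [(125,(Int.negSucc 0))] .nil .nil)))))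
noncomputable def ch111 : Tr (List (ℕ × ℤ)) := (.node 36 [(94,(Int.negSucc 0))] (.node 15 [(63,(Int.ofNat 1))] (.node 8 [(54,(Int.negSucc 0))] (.node 4 [(44,(Int.ofNat 1))] (.node 1 [(35,(Int.ofNat 1))] (.node 0 [(19,(Int.negSucc 0))] .nil .nil) .nil) (.node 5 [(45,(Int.ofNat 1))] .nil .nil)) (.node 11 [(58,(Int.ofNat 1))] (.node 9 [(55,(Int.negSucc 0))] .nil .nil) (.node 12 [(59,(Int.ofNat 1))] .nil .nil))) (.node 26 [(77,(Int.ofNat 1))] (.node 20 [(73,(Int.ofNat 1))] (.node 16 [(65,(Int.ofNat 1))] .nil .nil) (.node 23 [(74,(Int.negSucc 0))] .nil .nil)) (.node 30 [(86,(Int.negSucc 0))] (.node 27 [(83,(Int.ofNat 1))] .nil .nil) (.node 31 [(89,(Int.ofNat 1))] .nil .nil)))) (.node 66 [(113,(Int.negSucc 0))] (.node 51 [(102,(Int.ofNat 1))] (.node 42 [(98,(Int.negSucc 0))] (.node 39 [(95,(Int.ofNat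 1))] .nil .nil) (.node 48 [(99,(Int.negSucc 0))] .nil .nil)) (.node 60 [(109,(Int.negSucc 0))] (.node 52 [(105,(Int.negSucc 0))] .nil .nil) (.node 62 [(110,(Int.negSucc 0))] .nil .nil))) (.node 80 [(120,(Int.negSucc 0))] (.node 70 [(116,(Int.ofNat 1))] (.node 67 [(114,(Int.negSucc 0))] .nil .nil) (.node 71 [(117,(Int.ofNat 1))] .nil .nil)) (.node 90 [(124,(Int.negSucc 0))] (.node 81 [(121,(Int.negSucc 0))] .nil .nil) (.node 106 [(125,(Int.ofNat 1))] .nil .nil)))))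
noncomputable def ch112 : Tr (List (ℕ × ℤ)) := (.node 35 [(94,(Int.negSucc 0))] (.node 15 [(66,(Int.ofNat 1))] (.node 7 [(53,(Int.ofNat 1))] (.node 3 [(43,(Int.negSucc 0))] (.node 1 [(36,(Int.ofNat 1))] (.node 0 [(20,(Int.negSucc 0))] .nil .nil) .nil) (.node 6 [(46,(Int.negSucc 0))] .nil .nil)) (.node 11 [(60,(Int.negSucc 0))] (.node 10 [(56,(Int.ofNat 1))] .nil .nil) (.node 12 [(62,(Int.ofNat 1))] .nil .nil))) (.node 25 [(76,(Int.ofNat 1))] (.node 19 [(73,(Int.ofNat 1))] (.node 16 [(67,(Int.negSucc 0))] .nil .nil) (.node 24 [(75,(Int.negSucc 0))] .nil .nil)) (.node 29 [(85,(Int.negSucc 0))] (.node 28 [(84,(Int.ofNat 1))] .nil .nil) (.node 31 [(90,(Int.ofNat 1))] .nil .nil)))) (.node 63 [(113,(Int.negSucc 0))] (.node 50 [(101,(Int.ofNat 1))] (.node 41 [(97,(Int.negSucc 0))] (.node 40 [(96,(Int.ofNat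 1))] .nil .nil) (.node 49 [(100,(Int.negSucc 0))] .nil .nil)) (.node 58 [(109,(Int.ofNat 1))] (.node 52 [(106,(Int.negSucc 0))] .nil .nil) (.node 59 [(110,(Int.negSucc 0))] .nil .nil))) (.node 79 [(119,(Int.ofNat 1))] (.node 69 [(115,(Int.negSucc 0))] (.node 65 [(114,(Int.ofNat 1))] .nil .nil) (.node 72 [(118,(Int.negSucc 0))] .nil .nil)) (.node 89 [(124,(Int.negSucc 0))] (.node 82 [(122,(Int.ofNat 1))] .nil .nil) (.node 105 [(125,(Int.ofNat 1))] .nil .nil)))))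
noncomputable def ch113 : Tr (List (ℕ × ℤ)) := (.node 34 [(94,(Int.negSucc 0))] (.node 14 [(66,(Int.ofNat 1))] (.node 7 [(54,(Int.negSucc 0))] (.node 3 [(44,(Int.ofNat 1))] (.node 1 [(37,(Int.negSucc 0))] (.node 0 [(21,(Int.ofNat 1))] .nil .nil) .nil) (.node 5 [(46,(Int.negSucc 0))] .nil .nil)) (.node 11 [(61,(Int.ofNat 1))] (.node 9 [(56,(Int.ofNat 1))] .nil .nil) (.node 13 [(63,(Int.ofNat 1))] .nil .nil))) (.node 25 [(77,(Int.ofNat 1))] (.node 18 [(73,(Int.ofNat 1))] (.node 16 [(68,(Int.negSucc 0))] .nil .nil) (.node 23 [(75,(Int.negSucc 0))] .nil .nil)) (.node 29 [(86,(Int.negSucc 0))] (.node 27 [(84,(Int.ofNat 1))] .nil .nil) (.node 31 [(91,(Int.ofNat 1))] .nil .nil)))) (.node 62 [(112,(Int.negSucc 0))] (.node 50 [(102,(Int.ofNat 1))] (.node 41 [(98,(Int.negSucc 0))] (.node 39 [(96,(Int.ofNat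 1))] .nil .nil) (.node 48 [(100,(Int.negSucc 0))] .nil .nil)) (.node 57 [(109,(Int.ofNat 1))] (.node 52 [(107,(Int.negSucc 0))] .nil .nil) (.node 59 [(111,(Int.negSucc 0))] .nil .nil))) (.node 79 [(120,(Int.ofNat 1))] (.node 69 [(116,(Int.negSucc 0))] (.node 64 [(114,(Int.negSucc 0))] .nil .nil) (.node 71 [(118,(Int.ofNat 1))] .nil .nil)) (.node 88 [(124,(Int.ofNat 1))] (.node 81 [(122,(Int.negSucc 0))] .nil .nil) (.node 104 [(125,(Int.negSucc 0))] .nil .nil)))))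
noncomputable def ch114 : Tr (List (ℕ × ℤ)) := (.node 33 [(94,(Int.negSucc 0))] (.node 14 [(67,(Int.ofNat 1))] (.node 7 [(55,(Int.ofNat 1))] (.node 3 [(45,(Int.negSucc 0))] (.node 1 [(38,(Int.ofNat 1))] (.node 0 [(22,(Int.negSucc 0))] .nil .nil) .nil) (.node 4 [(46,(Int.negSucc 0))] .nil .nil)) (.node 12 [(64,(Int.ofNat 1))] (.node 8 [(56,(Int.ofNat 1))] .nil .nil) (.node 13 [(65,(Int.negSucc 0))] .nil .nil))) (.node 24 [(77,(Int.ofNat 1))] (.node 17 [(73,(Int.ofNat 1))] (.node 15 [(68,(Int.negSucc 0))] .nil .nil) (.node 23 [(76,(Int.negSucc 0))] .nil .nil)) (.node 28 [(86,(Int.negSucc 0))] (.node 27 [(85,(Int.ofNat 1))] .nil .nil) (.node 31 [(92,(Int.ofNat 1))] .nil .nil)))) (.node 60 [(112,(Int.ofNat 1))] (.node 49 [(102,(Int.ofNat 1))] (.node 40 [(98,(Int.negSucc 0))] (.node 39 [(97,(Int.ofNat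 1))] .nil .nil) (.node 48 [(101,(Int.negSucc 0))] .nil .nil)) (.node 57 [(110,(Int.ofNat 1))] (.node 52 [(108,(Int.negSucc 0))] .nil .nil) (.node 58 [(111,(Int.negSucc 0))] .nil .nil))) (.node 79 [(121,(Int.ofNat 1))] (.node 69 [(117,(Int.negSucc 0))] (.node 61 [(113,(Int.negSucc 0))] .nil .nil) (.node 70 [(118,(Int.negSucc 0))] .nil .nil)) (.node 87 [(124,(Int.negSucc 0))] (.node 80 [(122,(Int.ofNat 1))] .nil .nil) (.node 103 [(125,(Int.ofNat 1))] .nil .nil)))))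
noncomputable def ch115 : Tr (List (ℕ × ℤ)) := (.node 35 [(95,(Int.negSucc 0))] (.node 15 [(70,(Int.negSucc 0))] (.node 7 [(57,(Int.ofNat 1))] (.node 2 [(43,(Int.negSucc 0))] (.node 1 [(39,(Int.negSucc 0))] (.node 0 [(23,(Int.ofNat 1))] .nil .nil) .nil) (.node 6 [(47,(Int.ofNat 1))] .nil .nil)) (.node 9 [(62,(Int.ofNat 1))] (.node 8 [(60,(Int.negSucc 0))] .nil .nil) (.node 13 [(69,(Int.ofNat 1))] .nil .nil))) (.node 22 [(76,(Int.ofNat 1))] (.node 19 [(74,(Int.ofNat 1))] (.node 16 [(71,(Int.ofNat 1))] .nil .nil) (.node 21 [(75,(Int.negSucc 0))] .nil .nil)) (.node 29 [(88,(Int.negSucc 0))] (.node 28 [(87,(Int.ofNat 1))] .nil .nil) (.node 30 [(90,(Int.ofNat 1))] .nil .nil)))) (.node 56 [(112,(Int.negSucc 0))] (.node 50 [(104,(Int.ofNat 1))] (.node 38 [(97,(Int.negSucc 0))] (.node 37 [(96,(Int.ofNat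 1))] .nil .nil) (.node 49 [(103,(Int.negSucc 0))] .nil .nil)) (.node 54 [(109,(Int.negSucc 0))] (.node 51 [(106,(Int.negSucc 0))] .nil .nil) (.node 55 [(110,(Int.ofNat 1))] .nil .nil))) (.node 78 [(119,(Int.negSucc 0))] (.node 65 [(117,(Int.ofNat 1))] (.node 63 [(116,(Int.negSucc 0))] .nil .nil) (.node 68 [(118,(Int.negSucc 0))] .nil .nil)) (.node 86 [(124,(Int.ofNat 1))] (.node 82 [(123,(Int.ofNat 1))] .nil .nil) (.node 102 [(125,(Int.negSucc 0))] .nil .nil)))))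
noncomputable def ch116 : Tr (List (ℕ × ℤ)) := (.node 34 [(95,(Int.negSucc 0))] (.node 14 [(70,(Int.negSucc 0))] (.node 7 [(58,(Int.negSucc 0))] (.node 2 [(44,(Int.ofNat 1))] (.node 1 [(40,(Int.ofNat 1))] (.node 0 [(24,(Int.negSucc 0))] .nil .nil) .nil) (.node 5 [(47,(Int.ofNat 1))] .nil .nil)) (.node 10 [(63,(Int.ofNat 1))] (.node 8 [(61,(Int.ofNat 1))] .nil .nil) (.node 12 [(69,(Int.ofNat 1))] .nil .nil))) (.node 22 [(77,(Int.ofNat 1))] (.node 18 [(74,(Int.ofNat 1))] (.node 16 [(72,(Int.ofNat 1))] .nil .nil) (.node 20 [(75,(Int.negSucc 0))] .nil .nil)) (.node 29 [(89,(Int.negSucc 0))] (.node 27 [(87,(Int.ofNat 1))] .nil .nil) (.node 30 [(91,(Int.ofNat 1))] .nil .nil)))) (.node 56 [(113,(Int.negSucc 0))] (.node 50 [(105,(Int.ofNat 1))] (.node 38 [(98,(Int.negSucc 0))] (.node 36 [(96,(Int.ofNat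 1))] .nil .nil) (.node 48 [(103,(Int.negSucc 0))] .nil .nil)) (.node 53 [(109,(Int.negSucc 0))] (.node 51 [(107,(Int.negSucc 0))] .nil .nil) (.node 55 [(111,(Int.ofNat 1))] .nil .nil))) (.node 78 [(120,(Int.negSucc 0))] (.node 64 [(117,(Int.negSucc 0))] (.node 62 [(115,(Int.negSucc 0))] .nil .nil) (.node 67 [(118,(Int.ofNat 1))] .nil .nil)) (.node 85 [(124,(Int.negSucc 0))] (.node 81 [(123,(Int.negSucc 0))] .nil .nil) (.node 101 [(125,(Int.ofNat 1))] .nil .nil)))))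
noncomputable def ch117 : Tr (List (ℕ × ℤ)) := (.node 33 [(95,(Int.negSucc 0))] (.node 14 [(71,(Int.negSucc 0))] (.node 7 [(59,(Int.ofNat 1))] (.node 2 [(45,(Int.negSucc 0))] (.node 1 [(41,(Int.negSucc 0))] (.node 0 [(25,(Int.ofNat 1))] .nil .nil) .nil) (.node 4 [(47,(Int.ofNat 1))] .nil .nil)) (.node 10 [(65,(Int.negSucc 0))] (.node 9 [(64,(Int.ofNat 1))] .nil .nil) (.node 11 [(69,(Int.ofNat 1))] .nil .nil))) (.node 21 [(77,(Int.ofNat 1))] (.node 17 [(74,(Int.ofNat 1))] (.node 15 [(72,(Int.ofNat 1))] .nil .nil) (.node 20 [(76,(Int.negSucc 0))] .nil .nil)) (.node 28 [(89,(Int.negSucc 0))] (.node 27 [(88,(Int.ofNat 1))] .nil .nil) (.node 30 [(92,(Int.ofNat 1))] .nil .nil)))) (.node 56 [(114,(Int.negSucc 0))] (.node 49 [(105,(Int.ofNat 1))] (.node 37 [(98,(Int.negSucc 0))] (.node 36 [(97,(Int.ofNat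 1))] .nil .nil) (.node 48 [(104,(Int.negSucc 0))] .nil .nil)) (.node 53 [(110,(Int.negSucc 0))] (.node 51 [(108,(Int.negSucc 0))] .nil .nil) (.node 54 [(111,(Int.ofNat 1))] .nil .nil))) (.node 78 [(121,(Int.negSucc 0))] (.node 61 [(116,(Int.negSucc 0))] (.node 60 [(115,(Int.ofNat 1))] .nil .nil) (.node 66 [(118,(Int.negSucc 0))] .nil .nil)) (.node 84 [(124,(Int.ofNat 1))] (.node 80 [(123,(Int.ofNat 1))] .nil .nil) (.node 100 [(125,(Int.negSucc 0))] .nil .nil)))))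
noncomputable def ch118 : Tr (List (ℕ × ℤ)) := (.node 33 [(96,(Int.negSucc 0))] (.node 12 [(71,(Int.negSucc 0))] (.node 8 [(66,(Int.ofNat 1))] (.node 2 [(46,(Int.ofNat 1))] (.node 1 [(42,(Int.ofNat 1))] (.node 0 [(26,(Int.negSucc 0))] .nil .nil) .nil) (.node 3 [(47,(Int.ofNat 1))] .nil .nil)) (.node 10 [(68,(Int.ofNat 1))] (.node 9 [(67,(Int.negSucc 0))] .nil .nil) (.node 11 [(70,(Int.ofNat 1))] .nil .nil))) (.node 19 [(77,(Int.ofNat 1))] (.node 17 [(75,(Int.ofNat 1))] (.node 13 [(72,(Int.ofNat 1))] .nil .nil) (.node 18 [(76,(Int.negSucc 0))] .nil .nil)) (.node 28 [(91,(Int.negSucc 0))] (.node 27 [(90,(Int.ofNat 1))] .nil .nil) (.node 29 [(92,(Int.ofNat 1))] .nil .nil)))) (.node 55 [(114,(Int.negSucc 0))] (.node 49 [(107,(Int.ofNat 1))] (.node 35 [(98,(Int.negSucc 0))] (.node 34 [(97,(Int.ofNat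 1))] .nil .nil) (.node 48 [(106,(Int.negSucc 0))] .nil .nil)) (.node 53 [(112,(Int.negSucc 0))] (.node 50 [(108,(Int.negSucc 0))] .nil .nil) (.node 54 [(113,(Int.ofNat 1))] .nil .nil))) (.node 78 [(122,(Int.negSucc 0))] (.node 58 [(116,(Int.ofNat 1))] (.node 57 [(115,(Int.negSucc 0))] .nil .nil) (.node 59 [(117,(Int.negSucc 0))] .nil .nil)) (.node 83 [(124,(Int.negSucc 0))] (.node 79 [(123,(Int.negSucc 0))] .nil .nil) (.node 99 [(125,(Int.ofNat 1))] .nil .nil)))))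
noncomputable def ch119 : Tr (List (ℕ × ℤ)) := (.node 35 [(99,(Int.negSucc 0))] (.node 15 [(80,(Int.ofNat 1))] (.node 4 [(60,(Int.negSucc 0))] (.node 2 [(53,(Int.negSucc 0))] (.node 1 [(48,(Int.ofNat 1))] (.node 0 [(27,(Int.negSucc 0))] .nil .nil) .nil) (.node 3 [(57,(Int.ofNat 1))] .nil .nil)) (.node 10 [(78,(Int.ofNat 1))] (.node 5 [(62,(Int.ofNat 1))] .nil .nil) (.node 13 [(79,(Int.negSucc 0))] .nil .nil))) (.node 22 [(85,(Int.ofNat 1))] (.node 19 [(83,(Int.ofNat 1))] (.node 16 [(81,(Int.negSucc 0))] .nil .nil) (.node 21 [(84,(Int.negSucc 0))] .nil .nil)) (.node 25 [(88,(Int.negSucc 0))] (.node 24 [(87,(Int.ofNat 1))] .nil .nil) (.node 26 [(90,(Int.ofNat 1))] .nil .nil)))) (.node 46 [(112,(Int.ofNat 1))] (.node 41 [(104,(Int.ofNat 1))] (.node 38 [(101,(Int.negSucc 0))] (.node 37 [(100,(Int.ofNat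 1))] .nil .nil) (.node 40 [(103,(Int.negSucc 0))] .nil .nil)) (.node 44 [(109,(Int.ofNat 1))] (.node 42 [(106,(Int.negSucc 0))] .nil .nil) (.node 45 [(110,(Int.negSucc 0))] .nil .nil))) (.node 68 [(122,(Int.negSucc 0))] (.node 63 [(120,(Int.negSucc 0))] (.node 47 [(115,(Int.negSucc 0))] .nil .nil) (.node 65 [(121,(Int.ofNat 1))] .nil .nil)) (.node 77 [(124,(Int.negSucc 0))] (.node 72 [(123,(Int.ofNat 1))] .nil .nil) (.node 98 [(125,(Int.ofNat 1))] .nil .nil)))))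
noncomputable def ch120 : Tr (List (ℕ × ℤ)) := (.node 34 [(99,(Int.negSucc 0))] (.node 14 [(80,(Int.ofNat 1))] (.node 4 [(61,(Int.ofNat 1))] (.node 2 [(54,(Int.ofNat 1))] (.node 1 [(49,(Int.negSucc 0))] (.node 0 [(28,(Int.ofNat 1))] .nil .nil) .nil) (.node 3 [(58,(Int.negSucc 0))] .nil .nil)) (.node 9 [(78,(Int.ofNat 1))] (.node 6 [(63,(Int.ofNat 1))] .nil .nil) (.node 12 [(79,(Int.negSucc 0))] .nil .nil))) (.node 22 [(86,(Int.ofNat 1))] (.node 18 [(83,(Int.ofNat 1))] (.node 16 [(82,(Int.negSucc 0))] .nil .nil) (.node 20 [(84,(Int.negSucc 0))] .nil .nil)) (.node 25 [(89,(Int.negSucc 0))] (.node 23 [(87,(Int.ofNat 1))] .nil .nil) (.node 26 [(91,(Int.ofNat 1))] .nil .nil)))) (.node 46 [(113,(Int.ofNat 1))] (.node 41 [(105,(Int.ofNat 1))] (.node 38 [(102,(Int.negSucc 0))] (.node 36 [(100,(Int.ofNat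 1))] .nil .nil) (.node 39 [(103,(Int.negSucc 0))] .nil .nil)) (.node 43 [(109,(Int.ofNat 1))] (.node 42 [(107,(Int.negSucc 0))] .nil .nil) (.node 45 [(111,(Int.negSucc 0))] .nil .nil))) (.node 67 [(122,(Int.ofNat 1))] (.node 62 [(119,(Int.negSucc 0))] (.node 47 [(116,(Int.negSucc 0))] .nil .nil) (.node 64 [(121,(Int.negSucc 0))] .nil .nil)) (.node 76 [(124,(Int.ofNat 1))] (.node 71 [(123,(Int.negSucc 0))] .nil .nil) (.node 97 [(125,(Int.negSucc 0))] .nil .nil)))))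
noncomputable def ch121 : Tr (List (ℕ × ℤ)) := (.node 33 [(99,(Int.negSucc 0))] (.node 14 [(81,(Int.ofNat 1))] (.node 5 [(64,(Int.ofNat 1))] (.node 2 [(55,(Int.negSucc 0))] (.node 1 [(50,(Int.ofNat 1))] (.node 0 [(29,(Int.negSucc 0))] .nil .nil) .nil) (.node 3 [(59,(Int.ofNat 1))] .nil .nil)) (.node 8 [(78,(Int.ofNat 1))] (.node 6 [(65,(Int.negSucc 0))] .nil .nil) (.node 11 [(79,(Int.negSucc 0))] .nil .nil))) (.node 21 [(86,(Int.ofNat 1))] (.node 17 [(83,(Int.ofNat 1))] (.node 15 [(82,(Int.negSucc 0))] .nil .nil) (.node 20 [(85,(Int.negSucc 0))] .nil .nil)) (.node 24 [(89,(Int.negSucc 0))] (.node 23 [(88,(Int.ofNat 1))] .nil .nil) (.node 26 [(92,(Int.ofNat 1))] .nil .nil)))) (.node 46 [(114,(Int.ofNat 1))] (.node 40 [(105,(Int.ofNat 1))] (.node 37 [(102,(Int.negSucc 0))] (.node 36 [(101,(Int.ofNat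 1))] .nil .nil) (.node 39 [(104,(Int.negSucc 0))] .nil .nil)) (.node 43 [(110,(Int.ofNat 1))] (.node 42 [(108,(Int.negSucc 0))] .nil .nil) (.node 44 [(111,(Int.negSucc 0))] .nil .nil))) (.node 66 [(122,(Int.negSucc 0))] (.node 60 [(119,(Int.ofNat 1))] (.node 47 [(117,(Int.negSucc 0))] .nil .nil) (.node 61 [(120,(Int.negSucc 0))] .nil .nil)) (.node 75 [(124,(Int.negSucc 0))] (.node 70 [(123,(Int.ofNat 1))] .nil .nil) (.node 96 [(125,(Int.ofNat 1))] .nil .nil)))))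
noncomputable def ch122 : Tr (List (ℕ × ℤ)) := (.node 33 [(100,(Int.negSucc 0))] (.node 12 [(81,(Int.ofNat 1))] (.node 5 [(67,(Int.negSucc 0))] (.node 2 [(56,(Int.ofNat 1))] (.node 1 [(51,(Int.negSucc 0))] (.node 0 [(30,(Int.ofNat 1))] .nil .nil) .nil) (.node 4 [(66,(Int.ofNat 1))] .nil .nil)) (.node 7 [(78,(Int.ofNat 1))] (.node 6 [(68,(Int.ofNat 1))] .nil .nil) (.node 11 [(80,(Int.negSucc 0))] .nil .nil))) (.node 19 [(86,(Int.ofNat 1))] (.node 17 [(84,(Int.ofNat 1))] (.node 13 [(82,(Int.negSucc 0))] .nil .nil) (.node 18 [(85,(Int.negSucc 0))] .nil .nil)) (.node 24 [(91,(Int.negSucc 0))] (.node 23 [(90,(Int.ofNat 1))] .nil .nil) (.node 25 [(92,(Int.ofNat 1))] .nil .nil)))) (.node 45 [(114,(Int.ofNat 1))] (.node 40 [(107,(Int.ofNat 1))] (.node 35 [(102,(Int.negSucc 0))] (.node 34 [(101,(Int.ofNat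 1))] .nil .nil) (.node 39 [(106,(Int.negSucc 0))] .nil .nil)) (.node 43 [(112,(Int.ofNat 1))] (.node 41 [(108,(Int.negSucc 0))] .nil .nil) (.node 44 [(113,(Int.negSucc 0))] .nil .nil))) (.node 59 [(121,(Int.negSucc 0))] (.node 57 [(119,(Int.negSucc 0))] (.node 47 [(118,(Int.negSucc 0))] .nil .nil) (.node 58 [(120,(Int.ofNat 1))] .nil .nil)) (.node 74 [(124,(Int.ofNat 1))] (.node 69 [(123,(Int.negSucc 0))] .nil .nil) (.node 95 [(125,(Int.negSucc 0))] .nil .nil)))))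
noncomputable def ch123 : Tr (List (ℕ × ℤ)) := (.node 33 [(103,(Int.negSucc 0))] (.node 9 [(81,(Int.ofNat 1))] (.node 5 [(71,(Int.ofNat 1))] (.node 3 [(69,(Int.ofNat 1))] (.node 1 [(52,(Int.ofNat 1))] (.node 0 [(31,(Int.negSucc 0))] .nil .nil) .nil) (.node 4 [(70,(Int.negSucc 0))] .nil .nil)) (.node 7 [(79,(Int.ofNat 1))] (.node 6 [(72,(Int.negSucc 0))] .nil .nil) (.node 8 [(80,(Int.negSucc 0))] .nil .nil))) (.node 19 [(89,(Int.ofNat 1))] (.node 17 [(87,(Int.ofNat 1))] (.node 10 [(82,(Int.negSucc 0))] .nil .nil) (.node 18 [(88,(Int.negSucc 0))] .nil .nil)) (.node 21 [(91,(Int.negSucc 0))] (.node 20 [(90,(Int.ofNat 1))] .nil .nil) (.node 22 [(92,(Int.ofNat 1))] .nil .nil)))) (.node 45 [(117,(Int.ofNat 1))] (.node 37 [(107,(Int.ofNat 1))] (.node 35 [(105,(Int.negSucc 0))] (.node 34 [(104,(Int.ofNat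 1))] .nil .nil) (.node 36 [(106,(Int.negSucc 0))] .nil .nil)) (.node 43 [(115,(Int.ofNat 1))] (.node 38 [(108,(Int.negSucc 0))] .nil .nil) (.node 44 [(116,(Int.negSucc 0))] .nil .nil))) (.node 55 [(121,(Int.ofNat 1))] (.node 53 [(119,(Int.ofNat 1))] (.node 46 [(118,(Int.negSucc 0))] .nil .nil) (.node 54 [(120,(Int.negSucc 0))] .nil .nil)) (.node 73 [(124,(Int.negSucc 0))] (.node 56 [(122,(Int.negSucc 0))] .nil .nil) (.node 94 [(125,(Int.ofNat 1))] .nil .nil)))))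
noncomputable def ch124 : Tr (List (ℕ × ℤ)) := (.node 33 [(109,(Int.negSucc 0))] (.node 9 [(85,(Int.ofNat 1))] (.node 5 [(76,(Int.negSucc 0))] (.node 3 [(74,(Int.negSucc 0))] (.node 2 [(73,(Int.ofNat 1))] (.node 0 [(32,(Int.ofNat 1))] .nil .nil) .nil) (.node 4 [(75,(Int.ofNat 1))] .nil .nil)) (.node 7 [(83,(Int.ofNat 1))] (.node 6 [(77,(Int.ofNat 1))] .nil .nil) (.node 8 [(84,(Int.negSucc 0))] .nil .nil))) (.node 13 [(89,(Int.ofNat 1))] (.node 11 [(87,(Int.ofNat 1))] (.node 10 [(86,(Int.negSucc 0))] .nil .nil) (.node 12 [(88,(Int.negSucc 0))] .nil .nil)) (.node 15 [(91,(Int.negSucc 0))] (.node 14 [(90,(Int.ofNat 1))] .nil .nil) (.node 16 [(92,(Int.ofNat 1))] .nil .nil)))) (.node 41 [(117,(Int.ofNat 1))] (.node 37 [(113,(Int.ofNat 1))] (.node 35 [(111,(Int.negSucc 0))] (.node 34 [(110,(Int.ofNat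 1))] .nil .nil) (.node 36 [(112,(Int.negSucc 0))] .nil .nil)) (.node 39 [(115,(Int.ofNat 1))] (.node 38 [(114,(Int.negSucc 0))] .nil .nil) (.node 40 [(116,(Int.negSucc 0))] .nil .nil))) (.node 50 [(121,(Int.negSucc 0))] (.node 48 [(119,(Int.negSucc 0))] (.node 42 [(118,(Int.negSucc 0))] .nil .nil) (.node 49 [(120,(Int.ofNat 1))] .nil .nil)) (.node 52 [(123,(Int.negSucc 0))] (.node 51 [(122,(Int.ofNat 1))] .nil .nil) (.node 93 [(125,(Int.negSucc 0))] .nil .nil)))))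
noncomputable def ch125 : Tr (List (ℕ × ℤ)) := (.node 17 [(109,(Int.ofNat 1))] (.node 9 [(101,(Int.negSucc 0))] (.node 5 [(97,(Int.ofNat 1))] (.node 3 [(95,(Int.ofNat 1))] (.node 2 [(94,(Int.negSucc 0))] (.node 1 [(93,(Int.ofNat 1))] .nil .nil) .nil) (.node 4 [(96,(Int.negSucc 0))] .nil .nil)) (.node 7 [(99,(Int.negSucc 0))] (.node 6 [(98,(Int.negSucc 0))] .nil .nil) (.node 8 [(100,(Int.ofNat 1))] .nil .nil))) (.node 13 [(105,(Int.negSucc 0))] (.node 11 [(103,(Int.negSucc 0))] (.node 10 [(102,(Int.ofNat 1))] .nil .nil) (.node 12 [(104,(Int.ofNat 1))] .nil .nil)) (.node 15 [(107,(Int.ofNat 1))] (.node 14 [(106,(Int.negSucc 0))] .nil .nil) (.node 16 [(108,(Int.negSucc 0))] .nil .nil)))) (.node 25 [(117,(Int.negSucc 0))] (.node 21 [(113,(Int.negSucc 0))] (.node 19 [(111,(Int.ofNat 1))] (.node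 18 [(110,(Int.negSucc 0))] .nil .nil) (.node 20 [(112,(Int.ofNat 1))] .nil .nil)) (.node 23 [(115,(Int.negSucc 0))] (.node 22 [(114,(Int.ofNat 1))] .nil .nil) (.node 24 [(116,(Int.ofNat 1))] .nil .nil))) (.node 29 [(121,(Int.ofNat 1))] (.node 27 [(119,(Int.ofNat 1))] (.node 26 [(118,(Int.ofNat 1))] .nil .nil) (.node 28 [(120,(Int.negSucc 0))] .nil .nil)) (.node 31 [(123,(Int.ofNat 1))] (.node 30 [(122,(Int.negSucc 0))] .nil .nil) (.node 32 [(124,(Int.negSucc 0))] .nil .nil)))))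
noncomputable def chainT : Tr (Tr (List (ℕ × ℤ))) := (.node 63 ch63 (.node 31 ch31 (.node 15 ch15 (.node 7 ch7 (.node 3 ch3 (.node 1 ch1 (.node 0 ch0 .nil .nil) (.node 2 ch2 .nil .nil)) (.node 5 ch5 (.node 4 ch4 .nil .nil) (.node 6 ch6 .nil .nil))) (.node 11 ch11 (.node 9 ch9 (.node 8 ch8 .nil .nil) (.node 10 ch10 .nil .nil)) (.node 13 ch13 (.node 12 ch12 .nil .nil) (.node 14 ch14 .nil .nil)))) (.node 23 ch23 (.node 19 ch19 (.node 17 ch17 (.node 16 ch16 .nil .nil) (.node 18 ch18 .nil .nil)) (.node 21 ch21 (.node 20 ch20 .nil .nil) (.node 22 ch22 .nil .nil))) (.node 27 ch27 (.node 25 ch25 (.node 24 ch24 .nil .nil) (.node 26 ch26 .nil .nil)) (.node 29 ch29 (.node 28 ch28 .nil .nil) (.node 30 ch30 .nil .nil))))) (.node 47 ch47 (.node 39 ch39 (.node 35 ch35 (.node 33 ch33 (.node 32 ch32 .nil .nil)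 (.node 34 ch34 .nil .nil)) (.node 37 ch37 (.node 36 ch36 .nil .nil) (.node 38 ch38 .nil .nil))) (.node 43 ch43 (.node 41 ch41 (.node 40 ch40 .nil .nil) (.node 42 ch42 .nil .nil)) (.node 45 ch45 (.node 44 ch44 .nil .nil) (.node 46 ch46 .nil .nil)))) (.node 55 ch55 (.node 51 ch51 (.node 49 ch49 (.node 48 ch48 .nil .nil) (.node 50 ch50 .nil .nil)) (.node 53 ch53 (.node 52 ch52 .nil .nil) (.node 54 ch54 .nil .nil))) (.node 59 ch59 (.node 57 ch57 (.node 56 ch56 .nil .nil) (.node 58 ch58 .nil .nil)) (.node 61 ch61 (.node 60 ch60 .nil .nil) (.node 62 ch62 .nil .nil)))))) (.node 95 ch95 (.node 79 ch79 (.node 71 ch71 (.node 67 ch67 (.node 65 ch65 (.node 64 ch64 .nil .nil) (.node 66 ch66 .nil .nil)) (.node 69 ch69 (.node 68 ch68 .nil .nil) (.node 70 ch70 .nil .nil))) (.node 75 ch75 (.node 73 ch73 (.node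 72 ch72 .nil .nil) (.node 74 ch74 .nil .nil)) (.node 77 ch77 (.node 76 ch76 .nil .nil) (.node 78 ch78 .nil .nil)))) (.node 87 ch87 (.node 83 ch83 (.node 81 ch81 (.node 80 ch80 .nil .nil) (.node 82 ch82 .nil .nil)) (.node 85 ch85 (.node 84 ch84 .nil .nil) (.node 86 ch86 .nil .nil))) (.node 91 ch91 (.node 89 ch89 (.node 88 ch88 .nil .nil) (.node 90 ch90 .nil .nil)) (.node 93 ch93 (.node 92 ch92 .nil .nil) (.node 94 ch94 .nil .nil))))) (.node 111 ch111 (.node 103 ch103 (.node 99 ch99 (.node 97 ch97 (.node 96 ch96 .nil .nil) (.node 98 ch98 .nil .nil)) (.node 101 ch101 (.node 100 ch100 .nil .nil) (.node 102 ch102 .nil .nil))) (.node 107 ch107 (.node 105 ch105 (.node 104 ch104 .nil .nil) (.node 106 ch106 .nil .nil)) (.node 109 ch109 (.node 108 ch108 .nil .nil) (.node 110 ch110 .nil .nil)))) (.node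 119 ch119 (.node 115 ch115 (.node 113 ch113 (.node 112 ch112 .nil .nil) (.node 114 ch114 .nil .nil)) (.node 117 ch117 (.node 116 ch116 .nil .nil) (.node 118 ch118 .nil .nil))) (.node 123 ch123 (.node 121 ch121 (.node 120 ch120 .nil .nil) (.node 122 ch122 .nil .nil)) (.node 125 ch125 (.node 124 ch124 .nil .nil) .nil))))))
noncomputable def negT : Tr ℕ := (.node 63 62 (.node 31 94 (.node 15 110 (.node 7 118 (.node 3 122 (.node 1 124 (.node 0 125 .nil .nil) (.node 2 123 .nil .nil)) (.node 5 120 (.node 4 121 .nil .nil) (.node 6 119 .nil .nil))) (.node 11 114 (.node 9 116 (.node 8 117 .nil .nil) (.node 10 115 .nil .nil)) (.node 13 112 (.node 12 113 .nil .nil) (.node 14 111 .nil .nil)))) (.node 23 102 (.node 19 106 (.node 17 108 (.node 16 109 .nil .nil) (.node 18 107 .nil .nil)) (.node 21 104 (.node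 20 105 .nil .nil) (.node 22 103 .nil .nil))) (.node 27 98 (.node 25 100 (.node 24 101 .nil .nil) (.node 26 99 .nil .nil)) (.node 29 96 (.node 28 97 .nil .nil) (.node 30 95 .nil .nil))))) (.node 47 78 (.node 39 86 (.node 35 90 (.node 33 92 (.node 32 93 .nil .nil) (.node 34 91 .nil .nil)) (.node 37 88 (.node 36 89 .nil .nil) (.node 38 87 .nil .nil))) (.node 43 82 (.node 41 84 (.node 40 85 .nil .nil) (.node 42 83 .nil .nil)) (.node 45 80 (.node 44 81 .nil .nil) (.node 46 79 .nil .nil)))) (.node 55 70 (.node 51 74 (.node 49 76 (.node 48 77 .nil .nil) (.node 50 75 .nil .nil)) (.node 53 72 (.node 52 73 .nil .nil) (.node 54 71 .nil .nil))) (.node 59 66 (.node 57 68 (.node 56 69 .nil .nil) (.node 58 67 .nil .nil)) (.node 61 64 (.node 60 65 .nil .nil) (.node 62 63 .nil .nil)))))) (.node 95 30 (.node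 79 46 (.node 71 54 (.node 67 58 (.node 65 60 (.node 64 61 .nil .nil) (.node 66 59 .nil .nil)) (.node 69 56 (.node 68 57 .nil .nil) (.node 70 55 .nil .nil))) (.node 75 50 (.node 73 52 (.node 72 53 .nil .nil) (.node 74 51 .nil .nil)) (.node 77 48 (.node 76 49 .nil .nil) (.node 78 47 .nil .nil)))) (.node 87 38 (.node 83 42 (.node 81 44 (.node 80 45 .nil .nil) (.node 82 43 .nil .nil)) (.node 85 40 (.node 84 41 .nil .nil) (.node 86 39 .nil .nil))) (.node 91 34 (.node 89 36 (.node 88 37 .nil .nil) (.node 90 35 .nil .nil)) (.node 93 32 (.node 92 33 .nil .nil) (.node 94 31 .nil .nil))))) (.node 111 14 (.node 103 22 (.node 99 26 (.node 97 28 (.node 96 29 .nil .nil) (.node 98 27 .nil .nil)) (.node 101 24 (.node 100 25 .nil .nil) (.node 102 23 .nil .nil))) (.node 107 18 (.node 105 20 (.node 104 21 .nil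 .nil) (.node 106 19 .nil .nil)) (.node 109 16 (.node 108 17 .nil .nil) (.node 110 15 .nil .nil)))) (.node 119 6 (.node 115 10 (.node 113 12 (.node 112 13 .nil .nil) (.node 114 11 .nil .nil)) (.node 117 8 (.node 116 9 .nil .nil) (.node 118 7 .nil .nil))) (.node 123 2 (.node 121 4 (.node 120 5 .nil .nil) (.node 122 3 .nil .nil)) (.node 125 0 (.node 124 1 .nil .nil) .nil))))))
noncomputable def nc0 : Tr Vc := (.node 66 [⟨66,(Int.ofNat 1),0,0⟩] (.node 33 [⟨49,(Int.ofNat 1),0,0⟩] (.node 16 [⟨16,(Int.ofNat 1),0,0⟩] (.node 8 [⟨7,(Int.ofNat 1),0,0⟩] (.node 4 [⟨4,(Int.ofNat 1),0,0⟩] (.node 2 [⟨0,(Int.ofNat 1),0,0⟩, ⟨2,(Int.ofNat 1),0,0⟩] (.node 1 [⟨1,(Int.ofNat 1),0,0⟩] (.node 0 [⟨0,(Int.negSucc 0),0,0⟩] .nil .nil) .nil) (.node 3 [⟨3,(Int.ofNat 1),0,0⟩] .nil .nil)) (.node 6 [⟨6,(Int.ofNat 1),0,0⟩] (.node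 5 [⟨5,(Int.ofNat 1),0,0⟩] .nil .nil) (.node 7 [⟨8,(Int.negSucc 0),0,0⟩] .nil .nil))) (.node 12 [⟨12,(Int.ofNat 1),0,0⟩] (.node 10 [⟨10,(Int.ofNat 1),0,0⟩] (.node 9 [⟨9,(Int.ofNat 1),0,0⟩] .nil .nil) (.node 11 [⟨11,(Int.ofNat 1),0,0⟩] .nil .nil)) (.node 14 [⟨14,(Int.ofNat 1),0,0⟩] (.node 13 [⟨13,(Int.ofNat 1),0,0⟩] .nil .nil) (.node 15 [⟨15,(Int.ofNat 1),0,0⟩] .nil .nil)))) (.node 25 [⟨41,(Int.ofNat 1),0,0⟩] (.node 21 [⟨21,(Int.ofNat 1),0,0⟩] (.node 19 [⟨19,(Int.ofNat 1),0,0⟩] (.node 18 [⟨18,(Int.ofNat 1),0,0⟩] (.node 17 [⟨17,(Int.ofNat 1),0,0⟩] .nil .nil) .nil) (.node 20 [⟨20,(Int.ofNat 1),0,0⟩] .nil .nil)) (.node 23 [⟨23,(Int.ofNat 1),0,0⟩] (.node 22 [⟨22,(Int.ofNat 1),0,0⟩] .nil .nil) (.node 24 [⟨40,(Int.ofNat 1),0,0⟩] .nil .nil))) (.node 29 [⟨45,(Int.ofNat 1),0,0⟩] (.node 27 [⟨43,(Int.ofNat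 1),0,0⟩] (.node 26 [⟨42,(Int.ofNat 1),0,0⟩] .nil .nil) (.node 28 [⟨44,(Int.ofNat 1),0,0⟩] .nil .nil)) (.node 31 [⟨47,(Int.ofNat 1),0,0⟩] (.node 30 [⟨46,(Int.ofNat 1),0,0⟩] .nil .nil) (.node 32 [⟨48,(Int.ofNat 1),0,0⟩] .nil .nil))))) (.node 50 [⟨50,(Int.ofNat 1),0,0⟩] (.node 42 [⟨26,(Int.negSucc 0),0,0⟩] (.node 38 [⟨59,(Int.ofNat 1),0,0⟩] (.node 36 [⟨57,(Int.ofNat 1),0,0⟩] (.node 35 [⟨56,(Int.ofNat 1),0,0⟩] (.node 34 [⟨55,(Int.ofNat 1),0,0⟩] .nil .nil) .nil) (.node 37 [⟨58,(Int.ofNat 1),0,0⟩] .nil .nil)) (.node 40 [⟨24,(Int.negSucc 0),0,0⟩] (.node 39 [⟨100,(Int.negSucc 0),0,0⟩] .nil .nil) (.node 41 [⟨25,(Int.negSucc 0),0,0⟩] .nil .nil))) (.node 46 [⟨30,(Int.negSucc 0),0,0⟩] (.node 44 [⟨28,(Int.negSucc 0),0,0⟩] (.node 43 [⟨27,(Int.negSucc 0),0,0⟩] .nil .nil) (.node 45 [⟨29,(Int.negSucc 0),0,0⟩]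 .nil .nil)) (.node 48 [⟨32,(Int.negSucc 0),0,0⟩] (.node 47 [⟨31,(Int.negSucc 0),0,0⟩] .nil .nil) (.node 49 [⟨33,(Int.negSucc 0),0,0⟩] .nil .nil)))) (.node 58 [⟨37,(Int.negSucc 0),0,0⟩] (.node 54 [⟨54,(Int.ofNat 1),0,0⟩] (.node 52 [⟨52,(Int.ofNat 1),0,0⟩] (.node 51 [⟨51,(Int.ofNat 1),0,0⟩] .nil .nil) (.node 53 [⟨53,(Int.ofNat 1),0,0⟩] .nil .nil)) (.node 56 [⟨35,(Int.negSucc 0),0,0⟩] (.node 55 [⟨34,(Int.negSucc 0),0,0⟩] .nil .nil) (.node 57 [⟨36,(Int.negSucc 0),0,0⟩] .nil .nil))) (.node 62 [⟨62,(Int.ofNat 1),0,0⟩] (.node 60 [⟨60,(Int.ofNat 1),0,0⟩] (.node 59 [⟨38,(Int.negSucc 0),0,0⟩] .nil .nil) (.node 61 [⟨61,(Int.ofNat 1),0,0⟩] .nil .nil)) (.node 64 [⟨64,(Int.ofNat 1),0,0⟩] (.node 63 [⟨63,(Int.ofNat 1),0,0⟩] .nil .nil) (.node 65 [⟨65,(Int.ofNat 1),0,0⟩] .nil .nil)))))) (.node 100 [⟨39,(Int.negSucc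 0),0,0⟩] (.node 83 [⟨104,(Int.negSucc 0),0,0⟩] (.node 75 [⟨75,(Int.ofNat 1),0,0⟩] (.node 71 [⟨71,(Int.ofNat 1),0,0⟩] (.node 69 [⟨69,(Int.ofNat 1),0,0⟩] (.node 68 [⟨68,(Int.ofNat 1),0,0⟩] (.node 67 [⟨67,(Int.ofNat 1),0,0⟩] .nil .nil) .nil) (.node 70 [⟨70,(Int.ofNat 1),0,0⟩] .nil .nil)) (.node 73 [⟨73,(Int.ofNat 1),0,0⟩] (.node 72 [⟨72,(Int.ofNat 1),0,0⟩] .nil .nil) (.node 74 [⟨74,(Int.ofNat 1),0,0⟩] .nil .nil))) (.node 79 [⟨79,(Int.ofNat 1),0,0⟩] (.node 77 [⟨77,(Int.ofNat 1),0,0⟩] (.node 76 [⟨76,(Int.ofNat 1),0,0⟩] .nil .nil) (.node 78 [⟨78,(Int.ofNat 1),0,0⟩] .nil .nil)) (.node 81 [⟨102,(Int.negSucc 0),0,0⟩] (.node 80 [⟨101,(Int.negSucc 0),0,0⟩] .nil .nil) (.node 82 [⟨103,(Int.negSucc 0),0,0⟩] .nil .nil)))) (.node 92 [⟨108,(Int.negSucc 0),0,0⟩] (.node 88 [⟨88,(Int.ofNat 1),0,0⟩] (.node 86 [⟨86,(Int.ofNat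 1),0,0⟩] (.node 85 [⟨85,(Int.ofNat 1),0,0⟩] (.node 84 [⟨105,(Int.negSucc 0),0,0⟩] .nil .nil) .nil) (.node 87 [⟨87,(Int.ofNat 1),0,0⟩] .nil .nil)) (.node 90 [⟨106,(Int.negSucc 0),0,0⟩] (.node 89 [⟨89,(Int.ofNat 1),0,0⟩] .nil .nil) (.node 91 [⟨107,(Int.negSucc 0),0,0⟩] .nil .nil))) (.node 96 [⟨112,(Int.negSucc 0),0,0⟩] (.node 94 [⟨110,(Int.negSucc 0),0,0⟩] (.node 93 [⟨109,(Int.negSucc 0),0,0⟩] .nil .nil) (.node 95 [⟨111,(Int.negSucc 0),0,0⟩] .nil .nil)) (.node 98 [⟨114,(Int.negSucc 0),0,0⟩] (.node 97 [⟨113,(Int.negSucc 0),0,0⟩] .nil .nil) (.node 99 [⟨115,(Int.negSucc 0),0,0⟩] .nil .nil))))) (.node 117 [⟨117,(Int.ofNat 1),0,0⟩] (.node 109 [⟨93,(Int.ofNat 1),0,0⟩] (.node 105 [⟨84,(Int.ofNat 1),0,0⟩] (.node 103 [⟨82,(Int.ofNat 1),0,0⟩] (.node 102 [⟨81,(Int.ofNat 1),0,0⟩] (.node 101 [⟨80,(Int.ofNat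 1),0,0⟩] .nil .nil) .nil) (.node 104 [⟨83,(Int.ofNat 1),0,0⟩] .nil .nil)) (.node 107 [⟨91,(Int.ofNat 1),0,0⟩] (.node 106 [⟨90,(Int.ofNat 1),0,0⟩] .nil .nil) (.node 108 [⟨92,(Int.ofNat 1),0,0⟩] .nil .nil))) (.node 113 [⟨97,(Int.ofNat 1),0,0⟩] (.node 111 [⟨95,(Int.ofNat 1),0,0⟩] (.node 110 [⟨94,(Int.ofNat 1),0,0⟩] .nil .nil) (.node 112 [⟨96,(Int.ofNat 1),0,0⟩] .nil .nil)) (.node 115 [⟨99,(Int.ofNat 1),0,0⟩] (.node 114 [⟨98,(Int.ofNat 1),0,0⟩] .nil .nil) (.node 116 [⟨116,(Int.ofNat 1),0,0⟩] .nil .nil)))) (.node 125 [⟨125,(Int.ofNat 1),0,0⟩] (.node 121 [⟨121,(Int.ofNat 1),0,0⟩] (.node 119 [⟨119,(Int.ofNat 1),0,0⟩] (.node 118 [⟨118,(Int.ofNat 1),0,0⟩] .nil .nil) (.node 120 [⟨120,(Int.ofNat 1),0,0⟩] .nil .nil)) (.node 123 [⟨123,(Int.ofNat 1),0,0⟩] (.node 122 [⟨122,(Int.ofNat 1),0,0⟩] .nil .nil) (.node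 124 [⟨124,(Int.ofNat 1),0,0⟩] .nil .nil))) (.node 129 [⟨129,(Int.ofNat 1),0,0⟩] (.node 127 [⟨127,(Int.ofNat 1),0,0⟩] (.node 126 [⟨126,(Int.ofNat 1),0,0⟩] .nil .nil) (.node 128 [⟨128,(Int.ofNat 1),0,0⟩] .nil .nil)) (.node 131 [⟨132,(Int.ofNat 1),0,0⟩] (.node 130 [⟨130,(Int.ofNat 1),0,0⟩] .nil .nil) (.node 132 [⟨131,(Int.negSucc 0),0,0⟩] .nil .nil)))))))
noncomputable def nc1 : Tr Vc := (.node 66 [⟨66,(Int.ofNat 1),0,0⟩] (.node 33 [⟨37,(Int.negSucc 0),0,0⟩] (.node 16 [⟨12,(Int.ofNat 1),0,0⟩] (.node 8 [⟨8,(Int.ofNat 1),0,0⟩] (.node 4 [⟨4,(Int.ofNat 1),0,0⟩] (.node 2 [⟨2,(Int.ofNat 1),0,0⟩] (.node 1 [⟨1,(Int.negSucc 0),0,0⟩] (.node 0 [⟨0,(Int.ofNat 1),0,0⟩] .nil .nil) .nil) (.node 3 [⟨1,(Int.ofNat 1),0,0⟩, ⟨3,(Int.ofNat 1),0,0⟩] .nil .nil)) (.node 6 [⟨6,(Int.ofNat 1),0,0⟩] (.node 5 [⟨5,(Int.ofNat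 1),0,0⟩] .nil .nil) (.node 7 [⟨7,(Int.ofNat 1),0,0⟩] .nil .nil))) (.node 12 [⟨16,(Int.negSucc 0),0,0⟩] (.node 10 [⟨14,(Int.negSucc 0),0,0⟩] (.node 9 [⟨9,(Int.ofNat 1),0,0⟩] .nil .nil) (.node 11 [⟨15,(Int.negSucc 0),0,0⟩] .nil .nil)) (.node 14 [⟨10,(Int.ofNat 1),0,0⟩] (.node 13 [⟨17,(Int.negSucc 0),0,0⟩] .nil .nil) (.node 15 [⟨11,(Int.ofNat 1),0,0⟩] .nil .nil)))) (.node 25 [⟨25,(Int.ofNat 1),0,0⟩] (.node 21 [⟨21,(Int.ofNat 1),0,0⟩] (.node 19 [⟨19,(Int.ofNat 1),0,0⟩] (.node 18 [⟨18,(Int.ofNat 1),0,0⟩] (.node 17 [⟨13,(Int.ofNat 1),0,0⟩] .nil .nil) .nil) (.node 20 [⟨20,(Int.ofNat 1),0,0⟩] .nil .nil)) (.node 23 [⟨23,(Int.ofNat 1),0,0⟩] (.node 22 [⟨22,(Int.ofNat 1),0,0⟩] .nil .nil) (.node 24 [⟨24,(Int.ofNat 1),0,0⟩] .nil .nil))) (.node 29 [⟨29,(Int.ofNat 1),0,0⟩] (.node 27 [⟨27,(Int.ofNat 1),0,0⟩]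 (.node 26 [⟨26,(Int.ofNat 1),0,0⟩] .nil .nil) (.node 28 [⟨28,(Int.ofNat 1),0,0⟩] .nil .nil)) (.node 31 [⟨35,(Int.negSucc 0),0,0⟩] (.node 30 [⟨34,(Int.negSucc 0),0,0⟩] .nil .nil) (.node 32 [⟨36,(Int.negSucc 0),0,0⟩] .nil .nil))))) (.node 50 [⟨60,(Int.ofNat 1),0,0⟩] (.node 42 [⟨42,(Int.ofNat 1),0,0⟩] (.node 38 [⟨38,(Int.ofNat 1),0,0⟩] (.node 36 [⟨32,(Int.ofNat 1),0,0⟩] (.node 35 [⟨31,(Int.ofNat 1),0,0⟩] (.node 34 [⟨30,(Int.ofNat 1),0,0⟩] .nil .nil) .nil) (.node 37 [⟨33,(Int.ofNat 1),0,0⟩] .nil .nil)) (.node 40 [⟨40,(Int.ofNat 1),0,0⟩] (.node 39 [⟨39,(Int.ofNat 1),0,0⟩] .nil .nil) (.node 41 [⟨41,(Int.ofNat 1),0,0⟩] .nil .nil))) (.node 46 [⟨55,(Int.negSucc 0),0,0⟩] (.node 44 [⟨44,(Int.ofNat 1),0,0⟩] (.node 43 [⟨43,(Int.ofNat 1),0,0⟩] .nil .nil) (.node 45 [⟨45,(Int.ofNat 1),0,0⟩] .nil .nil)) (.node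 48 [⟨57,(Int.negSucc 0),0,0⟩] (.node 47 [⟨56,(Int.negSucc 0),0,0⟩] .nil .nil) (.node 49 [⟨58,(Int.negSucc 0),0,0⟩] .nil .nil)))) (.node 58 [⟨49,(Int.ofNat 1),0,0⟩] (.node 54 [⟨85,(Int.negSucc 0),0,0⟩] (.node 52 [⟨62,(Int.ofNat 1),0,0⟩] (.node 51 [⟨61,(Int.ofNat 1),0,0⟩] .nil .nil) (.node 53 [⟨63,(Int.ofNat 1),0,0⟩] .nil .nil)) (.node 56 [⟨47,(Int.ofNat 1),0,0⟩] (.node 55 [⟨46,(Int.ofNat 1),0,0⟩] .nil .nil) (.node 57 [⟨48,(Int.ofNat 1),0,0⟩] .nil .nil))) (.node 62 [⟨52,(Int.negSucc 0),0,0⟩] (.node 60 [⟨50,(Int.negSucc 0),0,0⟩] (.node 59 [⟨59,(Int.ofNat 1),0,0⟩] .nil .nil) (.node 61 [⟨51,(Int.negSucc 0),0,0⟩] .nil .nil)) (.node 64 [⟨64,(Int.ofNat 1),0,0⟩] (.node 63 [⟨53,(Int.negSucc 0),0,0⟩] .nil .nil) (.node 65 [⟨65,(Int.ofNat 1),0,0⟩] .nil .nil)))))) (.node 100 [⟨100,(Int.ofNat 1),0,0⟩] (.node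 83 [⟨92,(Int.ofNat 1),0,0⟩] (.node 75 [⟨75,(Int.ofNat 1),0,0⟩] (.node 71 [⟨71,(Int.ofNat 1),0,0⟩] (.node 69 [⟨69,(Int.ofNat 1),0,0⟩] (.node 68 [⟨68,(Int.ofNat 1),0,0⟩] (.node 67 [⟨67,(Int.ofNat 1),0,0⟩] .nil .nil) .nil) (.node 70 [⟨70,(Int.ofNat 1),0,0⟩] .nil .nil)) (.node 73 [⟨73,(Int.ofNat 1),0,0⟩] (.node 72 [⟨72,(Int.ofNat 1),0,0⟩] .nil .nil) (.node 74 [⟨74,(Int.ofNat 1),0,0⟩] .nil .nil))) (.node 79 [⟨89,(Int.negSucc 0),0,0⟩] (.node 77 [⟨87,(Int.negSucc 0),0,0⟩] (.node 76 [⟨86,(Int.negSucc 0),0,0⟩] .nil .nil) (.node 78 [⟨88,(Int.negSucc 0),0,0⟩] .nil .nil)) (.node 81 [⟨90,(Int.ofNat 1),0,0⟩] (.node 80 [⟨80,(Int.ofNat 1),0,0⟩] .nil .nil) (.node 82 [⟨91,(Int.ofNat 1),0,0⟩] .nil .nil)))) (.node 92 [⟨83,(Int.negSucc 0),0,0⟩] (.node 88 [⟨78,(Int.ofNat 1),0,0⟩] (.node 86 [⟨76,(Int.ofNat 1),0,0⟩]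 (.node 85 [⟨54,(Int.negSucc 0),0,0⟩] (.node 84 [⟨93,(Int.ofNat 1),0,0⟩] .nil .nil) .nil) (.node 87 [⟨77,(Int.ofNat 1),0,0⟩] .nil .nil)) (.node 90 [⟨81,(Int.negSucc 0),0,0⟩] (.node 89 [⟨79,(Int.ofNat 1),0,0⟩] .nil .nil) (.node 91 [⟨82,(Int.negSucc 0),0,0⟩] .nil .nil))) (.node 96 [⟨96,(Int.ofNat 1),0,0⟩] (.node 94 [⟨94,(Int.ofNat 1),0,0⟩] (.node 93 [⟨84,(Int.negSucc 0),0,0⟩] .nil .nil) (.node 95 [⟨95,(Int.ofNat 1),0,0⟩] .nil .nil)) (.node 98 [⟨98,(Int.ofNat 1),0,0⟩] (.node 97 [⟨97,(Int.ofNat 1),0,0⟩] .nil .nil) (.node 99 [⟨99,(Int.ofNat 1),0,0⟩] .nil .nil))))) (.node 117 [⟨117,(Int.ofNat 1),0,0⟩] (.node 109 [⟨105,(Int.negSucc 0),0,0⟩] (.node 105 [⟨109,(Int.ofNat 1),0,0⟩] (.node 103 [⟨107,(Int.ofNat 1),0,0⟩] (.node 102 [⟨106,(Int.ofNat 1),0,0⟩] (.node 101 [⟨101,(Int.ofNat 1),0,0⟩] .nil .nil) .nil)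 (.node 104 [⟨108,(Int.ofNat 1),0,0⟩] .nil .nil)) (.node 107 [⟨103,(Int.negSucc 0),0,0⟩] (.node 106 [⟨102,(Int.negSucc 0),0,0⟩] .nil .nil) (.node 108 [⟨104,(Int.negSucc 0),0,0⟩] .nil .nil))) (.node 113 [⟨113,(Int.ofNat 1),0,0⟩] (.node 111 [⟨111,(Int.ofNat 1),0,0⟩] (.node 110 [⟨110,(Int.ofNat 1),0,0⟩] .nil .nil) (.node 112 [⟨112,(Int.ofNat 1),0,0⟩] .nil .nil)) (.node 115 [⟨115,(Int.ofNat 1),0,0⟩] (.node 114 [⟨114,(Int.ofNat 1),0,0⟩] .nil .nil) (.node 116 [⟨116,(Int.ofNat 1),0,0⟩] .nil .nil)))) (.node 125 [⟨129,(Int.ofNat 1),0,0⟩] (.node 121 [⟨121,(Int.ofNat 1),0,0⟩] (.node 119 [⟨119,(Int.ofNat 1),0,0⟩] (.node 118 [⟨118,(Int.ofNat 1),0,0⟩] .nil .nil) (.node 120 [⟨120,(Int.ofNat 1),0,0⟩] .nil .nil)) (.node 123 [⟨127,(Int.ofNat 1),0,0⟩] (.node 122 [⟨126,(Int.ofNat 1),0,0⟩] .nil .nil) (.node 124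 [⟨128,(Int.ofNat 1),0,0⟩] .nil .nil))) (.node 129 [⟨125,(Int.negSucc 0),0,0⟩] (.node 127 [⟨123,(Int.negSucc 0),0,0⟩] (.node 126 [⟨122,(Int.negSucc 0),0,0⟩] .nil .nil) (.node 128 [⟨124,(Int.negSucc 0),0,0⟩] .nil .nil)) (.node 131 [⟨131,(Int.ofNat 1),0,0⟩] (.node 130 [⟨130,(Int.ofNat 1),0,0⟩] .nil .nil) (.node 132 [⟨132,(Int.ofNat 1),0,0⟩] .nil .nil)))))))
noncomputable def nc2 : Tr Vc := (.node 66 [⟨66,(Int.ofNat 1),0,0⟩] (.node 33 [⟨33,(Int.ofNat 1),0,0⟩] (.node 16 [⟨16,(Int.ofNat 1),0,0⟩] (.node 8 [⟨9,(Int.negSucc 0),0,0⟩] (.node 4 [⟨4,(Int.ofNat 1),0,0⟩] (.node 2 [⟨2,(Int.negSucc 0),0,0⟩] (.node 1 [⟨1,(Int.ofNat 1),0,0⟩] (.node 0 [⟨0,(Int.ofNat 1),0,0⟩, ⟨2,(Int.ofNat 1),0,0⟩] .nil .nil) .nil) (.node 3 [⟨2,(Int.ofNat 1),0,0⟩, ⟨3,(Int.ofNat 1),0,0⟩] .nil .nil)) (.node 6 [⟨6,(Int.ofNat 1),0,0⟩]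 (.node 5 [⟨5,(Int.ofNat 1),0,0⟩] .nil .nil) (.node 7 [⟨7,(Int.ofNat 1),0,0⟩] .nil .nil))) (.node 12 [⟨12,(Int.ofNat 1),0,0⟩] (.node 10 [⟨10,(Int.ofNat 1),0,0⟩] (.node 9 [⟨8,(Int.ofNat 1),0,0⟩] .nil .nil) (.node 11 [⟨11,(Int.ofNat 1),0,0⟩] .nil .nil)) (.node 14 [⟨14,(Int.ofNat 1),0,0⟩] (.node 13 [⟨13,(Int.ofNat 1),0,0⟩] .nil .nil) (.node 15 [⟨15,(Int.ofNat 1),0,0⟩] .nil .nil)))) (.node 25 [⟨19,(Int.ofNat 1),0,0⟩] (.node 21 [⟨27,(Int.negSucc 0),0,0⟩] (.node 19 [⟨25,(Int.negSucc 0),0,0⟩] (.node 18 [⟨24,(Int.negSucc 0),0,0⟩] (.node 17 [⟨17,(Int.ofNat 1),0,0⟩] .nil .nil) .nil) (.node 20 [⟨26,(Int.negSucc 0),0,0⟩] .nil .nil)) (.node 23 [⟨29,(Int.negSucc 0),0,0⟩] (.node 22 [⟨28,(Int.negSucc 0),0,0⟩] .nil .nil) (.node 24 [⟨18,(Int.ofNat 1),0,0⟩] .nil .nil))) (.node 29 [⟨23,(Int.ofNat 1),0,0⟩] (.node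 27 [⟨21,(Int.ofNat 1),0,0⟩] (.node 26 [⟨20,(Int.ofNat 1),0,0⟩] .nil .nil) (.node 28 [⟨22,(Int.ofNat 1),0,0⟩] .nil .nil)) (.node 31 [⟨31,(Int.ofNat 1),0,0⟩] (.node 30 [⟨30,(Int.ofNat 1),0,0⟩] .nil .nil) (.node 32 [⟨32,(Int.ofNat 1),0,0⟩] .nil .nil))))) (.node 50 [⟨46,(Int.ofNat 1),0,0⟩] (.node 42 [⟨42,(Int.ofNat 1),0,0⟩] (.node 38 [⟨39,(Int.negSucc 0),0,0⟩] (.node 36 [⟨36,(Int.ofNat 1),0,0⟩] (.node 35 [⟨35,(Int.ofNat 1),0,0⟩] (.node 34 [⟨34,(Int.ofNat 1),0,0⟩] .nil .nil) .nil) (.node 37 [⟨37,(Int.ofNat 1),0,0⟩] .nil .nil)) (.node 40 [⟨40,(Int.ofNat 1),0,0⟩] (.node 39 [⟨38,(Int.ofNat 1),0,0⟩] .nil .nil) (.node 41 [⟨41,(Int.ofNat 1),0,0⟩] .nil .nil))) (.node 46 [⟨50,(Int.negSucc 0),0,0⟩] (.node 44 [⟨44,(Int.ofNat 1),0,0⟩] (.node 43 [⟨43,(Int.ofNat 1),0,0⟩] .nil .nil) (.node 45 [⟨45,(Int.ofNat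 1),0,0⟩] .nil .nil)) (.node 48 [⟨52,(Int.negSucc 0),0,0⟩] (.node 47 [⟨51,(Int.negSucc 0),0,0⟩] .nil .nil) (.node 49 [⟨53,(Int.negSucc 0),0,0⟩] .nil .nil)))) (.node 58 [⟨63,(Int.ofNat 1),0,0⟩] (.node 54 [⟨54,(Int.ofNat 1),0,0⟩] (.node 52 [⟨48,(Int.ofNat 1),0,0⟩] (.node 51 [⟨47,(Int.ofNat 1),0,0⟩] .nil .nil) (.node 53 [⟨49,(Int.ofNat 1),0,0⟩] .nil .nil)) (.node 56 [⟨61,(Int.ofNat 1),0,0⟩] (.node 55 [⟨60,(Int.ofNat 1),0,0⟩] .nil .nil) (.node 57 [⟨62,(Int.ofNat 1),0,0⟩] .nil .nil))) (.node 62 [⟨57,(Int.negSucc 0),0,0⟩] (.node 60 [⟨55,(Int.negSucc 0),0,0⟩] (.node 59 [⟨80,(Int.negSucc 0),0,0⟩] .nil .nil) (.node 61 [⟨56,(Int.negSucc 0),0,0⟩] .nil .nil)) (.node 64 [⟨64,(Int.ofNat 1),0,0⟩] (.node 63 [⟨58,(Int.negSucc 0),0,0⟩] .nil .nil) (.node 65 [⟨65,(Int.ofNat 1),0,0⟩] .nil .nil)))))) (.node 100 [⟨101,(Int.ofNat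 1),0,0⟩] (.node 83 [⟨78,(Int.ofNat 1),0,0⟩] (.node 75 [⟨75,(Int.ofNat 1),0,0⟩] (.node 71 [⟨71,(Int.ofNat 1),0,0⟩] (.node 69 [⟨69,(Int.ofNat 1),0,0⟩] (.node 68 [⟨68,(Int.ofNat 1),0,0⟩] (.node 67 [⟨67,(Int.ofNat 1),0,0⟩] .nil .nil) .nil) (.node 70 [⟨70,(Int.ofNat 1),0,0⟩] .nil .nil)) (.node 73 [⟨73,(Int.ofNat 1),0,0⟩] (.node 72 [⟨72,(Int.ofNat 1),0,0⟩] .nil .nil) (.node 74 [⟨74,(Int.ofNat 1),0,0⟩] .nil .nil))) (.node 79 [⟨84,(Int.negSucc 0),0,0⟩] (.node 77 [⟨82,(Int.negSucc 0),0,0⟩] (.node 76 [⟨81,(Int.negSucc 0),0,0⟩] .nil .nil) (.node 78 [⟨83,(Int.negSucc 0),0,0⟩] .nil .nil)) (.node 81 [⟨76,(Int.ofNat 1),0,0⟩] (.node 80 [⟨59,(Int.negSucc 0),0,0⟩] .nil .nil) (.node 82 [⟨77,(Int.ofNat 1),0,0⟩] .nil .nil)))) (.node 92 [⟨88,(Int.negSucc 0),0,0⟩] (.node 88 [⟨92,(Int.ofNat 1),0,0⟩] (.node 86 [⟨90,(Int.ofNat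 1),0,0⟩] (.node 85 [⟨85,(Int.ofNat 1),0,0⟩] (.node 84 [⟨79,(Int.ofNat 1),0,0⟩] .nil .nil) .nil) (.node 87 [⟨91,(Int.ofNat 1),0,0⟩] .nil .nil)) (.node 90 [⟨86,(Int.negSucc 0),0,0⟩] (.node 89 [⟨93,(Int.ofNat 1),0,0⟩] .nil .nil) (.node 91 [⟨87,(Int.negSucc 0),0,0⟩] .nil .nil))) (.node 96 [⟨96,(Int.ofNat 1),0,0⟩] (.node 94 [⟨94,(Int.ofNat 1),0,0⟩] (.node 93 [⟨89,(Int.negSucc 0),0,0⟩] .nil .nil) (.node 95 [⟨95,(Int.ofNat 1),0,0⟩] .nil .nil)) (.node 98 [⟨98,(Int.ofNat 1),0,0⟩] (.node 97 [⟨97,(Int.ofNat 1),0,0⟩] .nil .nil) (.node 99 [⟨99,(Int.ofNat 1),0,0⟩] .nil .nil))))) (.node 117 [⟨111,(Int.negSucc 0),0,0⟩] (.node 109 [⟨109,(Int.ofNat 1),0,0⟩] (.node 105 [⟨105,(Int.ofNat 1),0,0⟩] (.node 103 [⟨103,(Int.ofNat 1),0,0⟩] (.node 102 [⟨102,(Int.ofNat 1),0,0⟩] (.node 101 [⟨100,(Int.negSucc 0),0,0⟩] .nil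 .nil) .nil) (.node 104 [⟨104,(Int.ofNat 1),0,0⟩] .nil .nil)) (.node 107 [⟨107,(Int.ofNat 1),0,0⟩] (.node 106 [⟨106,(Int.ofNat 1),0,0⟩] .nil .nil) (.node 108 [⟨108,(Int.ofNat 1),0,0⟩] .nil .nil))) (.node 113 [⟨119,(Int.ofNat 1),0,0⟩] (.node 111 [⟨117,(Int.ofNat 1),0,0⟩] (.node 110 [⟨116,(Int.ofNat 1),0,0⟩] .nil .nil) (.node 112 [⟨118,(Int.ofNat 1),0,0⟩] .nil .nil)) (.node 115 [⟨121,(Int.ofNat 1),0,0⟩] (.node 114 [⟨120,(Int.ofNat 1),0,0⟩] .nil .nil) (.node 116 [⟨110,(Int.negSucc 0),0,0⟩] .nil .nil)))) (.node 125 [⟨125,(Int.ofNat 1),0,0⟩] (.node 121 [⟨115,(Int.negSucc 0),0,0⟩] (.node 119 [⟨113,(Int.negSucc 0),0,0⟩] (.node 118 [⟨112,(Int.negSucc 0),0,0⟩] .nil .nil) (.node 120 [⟨114,(Int.negSucc 0),0,0⟩] .nil .nil)) (.node 123 [⟨123,(Int.ofNat 1),0,0⟩] (.node 122 [⟨122,(Int.ofNat 1),0,0⟩] .nil .nil)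 (.node 124 [⟨124,(Int.ofNat 1),0,0⟩] .nil .nil))) (.node 129 [⟨129,(Int.ofNat 1),0,0⟩] (.node 127 [⟨127,(Int.ofNat 1),0,0⟩] (.node 126 [⟨126,(Int.ofNat 1),0,0⟩] .nil .nil) (.node 128 [⟨128,(Int.ofNat 1),0,0⟩] .nil .nil)) (.node 131 [⟨130,(Int.negSucc 0),0,0⟩] (.node 130 [⟨131,(Int.ofNat 1),0,0⟩] .nil .nil) (.node 132 [⟨132,(Int.ofNat 1),0,0⟩] .nil .nil)))))))
noncomputable def nc3 : Tr Vc := (.node 66 [⟨62,(Int.negSucc 0),0,0⟩] (.node 33 [⟨33,(Int.ofNat 1),0,0⟩] (.node 16 [⟨19,(Int.negSucc 0),0,0⟩] (.node 8 [⟨8,(Int.ofNat 1),0,0⟩] (.node 4 [⟨3,(Int.ofNat 1),0,0⟩, ⟨4,(Int.ofNat 1),0,0⟩] (.node 2 [⟨2,(Int.ofNat 1),0,0⟩, ⟨3,(Int.ofNat 1),0,0⟩] (.node 1 [⟨1,(Int.ofNat 1),0,0⟩, ⟨3,(Int.ofNat 1),0,0⟩] (.node 0 [⟨0,(Int.ofNat 1),0,0⟩] .nil .nil) .nil) (.node 3 [⟨3,(Int.negSucc 0),0,0⟩] .nil .nil))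 (.node 6 [⟨6,(Int.ofNat 1),0,0⟩] (.node 5 [⟨5,(Int.ofNat 1),0,0⟩] .nil .nil) (.node 7 [⟨7,(Int.ofNat 1),0,0⟩] .nil .nil))) (.node 12 [⟨12,(Int.ofNat 1),0,0⟩] (.node 10 [⟨9,(Int.ofNat 1),0,0⟩] (.node 9 [⟨10,(Int.negSucc 0),0,0⟩] .nil .nil) (.node 11 [⟨11,(Int.ofNat 1),0,0⟩] .nil .nil)) (.node 14 [⟨14,(Int.ofNat 1),0,0⟩] (.node 13 [⟨13,(Int.ofNat 1),0,0⟩] .nil .nil) (.node 15 [⟨18,(Int.negSucc 0),0,0⟩] .nil .nil)))) (.node 25 [⟨25,(Int.ofNat 1),0,0⟩] (.node 21 [⟨21,(Int.ofNat 1),0,0⟩] (.node 19 [⟨16,(Int.ofNat 1),0,0⟩] (.node 18 [⟨15,(Int.ofNat 1),0,0⟩] (.node 17 [⟨20,(Int.negSucc 0),0,0⟩] .nil .nil) .nil) (.node 20 [⟨17,(Int.ofNat 1),0,0⟩] .nil .nil)) (.node 23 [⟨23,(Int.ofNat 1),0,0⟩] (.node 22 [⟨22,(Int.ofNat 1),0,0⟩] .nil .nil) (.node 24 [⟨24,(Int.ofNat 1),0,0⟩] .nil .nil))) (.node 29 [⟨32,(Int.negSucc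 0),0,0⟩] (.node 27 [⟨30,(Int.negSucc 0),0,0⟩] (.node 26 [⟨26,(Int.ofNat 1),0,0⟩] .nil .nil) (.node 28 [⟨31,(Int.negSucc 0),0,0⟩] .nil .nil)) (.node 31 [⟨28,(Int.ofNat 1),0,0⟩] (.node 30 [⟨27,(Int.ofNat 1),0,0⟩] .nil .nil) (.node 32 [⟨29,(Int.ofNat 1),0,0⟩] .nil .nil))))) (.node 50 [⟨50,(Int.ofNat 1),0,0⟩] (.node 42 [⟨42,(Int.ofNat 1),0,0⟩] (.node 38 [⟨37,(Int.ofNat 1),0,0⟩] (.node 36 [⟨36,(Int.ofNat 1),0,0⟩] (.node 35 [⟨35,(Int.ofNat 1),0,0⟩] (.node 34 [⟨34,(Int.ofNat 1),0,0⟩] .nil .nil) .nil) (.node 37 [⟨38,(Int.negSucc 0),0,0⟩] .nil .nil)) (.node 40 [⟨40,(Int.ofNat 1),0,0⟩] (.node 39 [⟨39,(Int.ofNat 1),0,0⟩] .nil .nil) (.node 41 [⟨41,(Int.ofNat 1),0,0⟩] .nil .nil))) (.node 46 [⟨43,(Int.ofNat 1),0,0⟩] (.node 44 [⟨47,(Int.negSucc 0),0,0⟩] (.node 43 [⟨46,(Int.negSucc 0),0,0⟩] .nil .nil) (.node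 45 [⟨48,(Int.negSucc 0),0,0⟩] .nil .nil)) (.node 48 [⟨45,(Int.ofNat 1),0,0⟩] (.node 47 [⟨44,(Int.ofNat 1),0,0⟩] .nil .nil) (.node 49 [⟨49,(Int.ofNat 1),0,0⟩] .nil .nil)))) (.node 58 [⟨59,(Int.negSucc 0),0,0⟩] (.node 54 [⟨53,(Int.ofNat 1),0,0⟩] (.node 52 [⟨52,(Int.ofNat 1),0,0⟩] (.node 51 [⟨51,(Int.ofNat 1),0,0⟩] .nil .nil) (.node 53 [⟨54,(Int.negSucc 0),0,0⟩] .nil .nil)) (.node 56 [⟨56,(Int.ofNat 1),0,0⟩] (.node 55 [⟨55,(Int.ofNat 1),0,0⟩] .nil .nil) (.node 57 [⟨57,(Int.ofNat 1),0,0⟩] .nil .nil))) (.node 62 [⟨66,(Int.ofNat 1),0,0⟩] (.node 60 [⟨64,(Int.ofNat 1),0,0⟩] (.node 59 [⟨58,(Int.ofNat 1),0,0⟩] .nil .nil) (.node 61 [⟨65,(Int.ofNat 1),0,0⟩] .nil .nil)) (.node 64 [⟨60,(Int.negSucc 0),0,0⟩] (.node 63 [⟨76,(Int.negSucc 0),0,0⟩] .nil .nil) (.node 65 [⟨61,(Int.negSucc 0),0,0⟩] .nil .nil))))))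 (.node 100 [⟨100,(Int.ofNat 1),0,0⟩] (.node 83 [⟨83,(Int.ofNat 1),0,0⟩] (.node 75 [⟨79,(Int.negSucc 0),0,0⟩] (.node 71 [⟨71,(Int.ofNat 1),0,0⟩] (.node 69 [⟨69,(Int.ofNat 1),0,0⟩] (.node 68 [⟨68,(Int.ofNat 1),0,0⟩] (.node 67 [⟨67,(Int.ofNat 1),0,0⟩] .nil .nil) .nil) (.node 70 [⟨70,(Int.ofNat 1),0,0⟩] .nil .nil)) (.node 73 [⟨77,(Int.negSucc 0),0,0⟩] (.node 72 [⟨72,(Int.ofNat 1),0,0⟩] .nil .nil) (.node 74 [⟨78,(Int.negSucc 0),0,0⟩] .nil .nil))) (.node 79 [⟨75,(Int.ofNat 1),0,0⟩] (.node 77 [⟨73,(Int.ofNat 1),0,0⟩] (.node 76 [⟨63,(Int.negSucc 0),0,0⟩] .nil .nil) (.node 78 [⟨74,(Int.ofNat 1),0,0⟩] .nil .nil)) (.node 81 [⟨80,(Int.negSucc 0),0,0⟩] (.node 80 [⟨81,(Int.ofNat 1),0,0⟩] .nil .nil) (.node 82 [⟨82,(Int.ofNat 1),0,0⟩] .nil .nil)))) (.node 92 [⟨95,(Int.ofNat 1),0,0⟩] (.node 88 [⟨88,(Int.ofNat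 1),0,0⟩] (.node 86 [⟨85,(Int.negSucc 0),0,0⟩] (.node 85 [⟨86,(Int.ofNat 1),0,0⟩] (.node 84 [⟨84,(Int.ofNat 1),0,0⟩] .nil .nil) .nil) (.node 87 [⟨87,(Int.ofNat 1),0,0⟩] .nil .nil)) (.node 90 [⟨90,(Int.ofNat 1),0,0⟩] (.node 89 [⟨89,(Int.ofNat 1),0,0⟩] .nil .nil) (.node 91 [⟨94,(Int.ofNat 1),0,0⟩] .nil .nil))) (.node 96 [⟨93,(Int.negSucc 0),0,0⟩] (.node 94 [⟨91,(Int.negSucc 0),0,0⟩] (.node 93 [⟨96,(Int.ofNat 1),0,0⟩] .nil .nil) (.node 95 [⟨92,(Int.negSucc 0),0,0⟩] .nil .nil)) (.node 98 [⟨98,(Int.ofNat 1),0,0⟩] (.node 97 [⟨97,(Int.ofNat 1),0,0⟩] .nil .nil) (.node 99 [⟨99,(Int.ofNat 1),0,0⟩] .nil .nil))))) (.node 117 [⟨117,(Int.ofNat 1),0,0⟩] (.node 109 [⟨112,(Int.ofNat 1),0,0⟩] (.node 105 [⟨105,(Int.ofNat 1),0,0⟩] (.node 103 [⟨103,(Int.ofNat 1),0,0⟩] (.node 102 [⟨101,(Int.negSucc 0),0,0⟩] (.node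 101 [⟨102,(Int.ofNat 1),0,0⟩] .nil .nil) .nil) (.node 104 [⟨104,(Int.ofNat 1),0,0⟩] .nil .nil)) (.node 107 [⟨110,(Int.ofNat 1),0,0⟩] (.node 106 [⟨106,(Int.ofNat 1),0,0⟩] .nil .nil) (.node 108 [⟨111,(Int.ofNat 1),0,0⟩] .nil .nil))) (.node 113 [⟨113,(Int.ofNat 1),0,0⟩] (.node 111 [⟨108,(Int.negSucc 0),0,0⟩] (.node 110 [⟨107,(Int.negSucc 0),0,0⟩] .nil .nil) (.node 112 [⟨109,(Int.negSucc 0),0,0⟩] .nil .nil)) (.node 115 [⟨115,(Int.ofNat 1),0,0⟩] (.node 114 [⟨114,(Int.ofNat 1),0,0⟩] .nil .nil) (.node 116 [⟨116,(Int.ofNat 1),0,0⟩] .nil .nil)))) (.node 125 [⟨125,(Int.ofNat 1),0,0⟩] (.node 121 [⟨124,(Int.ofNat 1),0,0⟩] (.node 119 [⟨122,(Int.ofNat 1),0,0⟩] (.node 118 [⟨118,(Int.ofNat 1),0,0⟩] .nil .nil) (.node 120 [⟨123,(Int.ofNat 1),0,0⟩] .nil .nil)) (.node 123 [⟨120,(Int.negSucc 0),0,0⟩] (.node 122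 [⟨119,(Int.negSucc 0),0,0⟩] .nil .nil) (.node 124 [⟨121,(Int.negSucc 0),0,0⟩] .nil .nil))) (.node 129 [⟨130,(Int.ofNat 1),0,0⟩] (.node 127 [⟨127,(Int.ofNat 1),0,0⟩] (.node 126 [⟨126,(Int.ofNat 1),0,0⟩] .nil .nil) (.node 128 [⟨128,(Int.ofNat 1),0,0⟩] .nil .nil)) (.node 131 [⟨131,(Int.ofNat 1),0,0⟩] (.node 130 [⟨129,(Int.negSucc 0),0,0⟩] .nil .nil) (.node 132 [⟨132,(Int.ofNat 1),0,0⟩] .nil .nil)))))))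
noncomputable def nc4 : Tr Vc := (.node 66 [⟨73,(Int.negSucc 0),0,0⟩] (.node 33 [⟨32,(Int.ofNat 1),0,0⟩] (.node 16 [⟨16,(Int.ofNat 1),0,0⟩] (.node 8 [⟨8,(Int.ofNat 1),0,0⟩] (.node 4 [⟨4,(Int.negSucc 0),0,0⟩] (.node 2 [⟨2,(Int.ofNat 1),0,0⟩] (.node 1 [⟨1,(Int.ofNat 1),0,0⟩] (.node 0 [⟨0,(Int.ofNat 1),0,0⟩] .nil .nil) .nil) (.node 3 [⟨3,(Int.ofNat 1),0,0⟩, ⟨4,(Int.ofNat 1),0,0⟩] .nil .nil)) (.node 6 [⟨6,(Int.ofNat 1),0,0⟩] (.node 5 [⟨4,(Int.ofNat 1),0,0⟩, ⟨5,(Int.ofNat 1),0,0⟩] .nil .nil) (.node 7 [⟨7,(Int.ofNat 1),0,0⟩] .nil .nil))) (.node 12 [⟨12,(Int.ofNat 1),0,0⟩] (.node 10 [⟨11,(Int.negSucc 0),0,0⟩] (.node 9 [⟨9,(Int.ofNat 1),0,0⟩] .nil .nil) (.node 11 [⟨10,(Int.ofNat 1),0,0⟩] .nil .nil)) (.node 14 [⟨15,(Int.negSucc 0),0,0⟩] (.node 13 [⟨13,(Int.ofNat 1),0,0⟩] .nil .nil) (.node 15 [⟨14,(Int.ofNat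 1),0,0⟩] .nil .nil)))) (.node 25 [⟨27,(Int.negSucc 0),0,0⟩] (.node 21 [⟨19,(Int.ofNat 1),0,0⟩] (.node 19 [⟨21,(Int.negSucc 0),0,0⟩] (.node 18 [⟨18,(Int.ofNat 1),0,0⟩] (.node 17 [⟨17,(Int.ofNat 1),0,0⟩] .nil .nil) .nil) (.node 20 [⟨22,(Int.negSucc 0),0,0⟩] .nil .nil)) (.node 23 [⟨23,(Int.ofNat 1),0,0⟩] (.node 22 [⟨20,(Int.ofNat 1),0,0⟩] .nil .nil) (.node 24 [⟨24,(Int.ofNat 1),0,0⟩] .nil .nil))) (.node 29 [⟨29,(Int.ofNat 1),0,0⟩] (.node 27 [⟨25,(Int.ofNat 1),0,0⟩] (.node 26 [⟨28,(Int.negSucc 0),0,0⟩] .nil .nil) (.node 28 [⟨26,(Int.ofNat 1),0,0⟩] .nil .nil)) (.node 31 [⟨31,(Int.ofNat 1),0,0⟩] (.node 30 [⟨30,(Int.ofNat 1),0,0⟩] .nil .nil) (.node 32 [⟨33,(Int.negSucc 0),0,0⟩] .nil .nil))))) (.node 50 [⟨50,(Int.ofNat 1),0,0⟩] (.node 42 [⟨44,(Int.negSucc 0),0,0⟩] (.node 38 [⟨38,(Int.ofNat 1),0,0⟩]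 (.node 36 [⟨37,(Int.negSucc 0),0,0⟩] (.node 35 [⟨35,(Int.ofNat 1),0,0⟩] (.node 34 [⟨34,(Int.ofNat 1),0,0⟩] .nil .nil) .nil) (.node 37 [⟨36,(Int.ofNat 1),0,0⟩] .nil .nil)) (.node 40 [⟨40,(Int.ofNat 1),0,0⟩] (.node 39 [⟨39,(Int.ofNat 1),0,0⟩] .nil .nil) (.node 41 [⟨43,(Int.negSucc 0),0,0⟩] .nil .nil))) (.node 46 [⟨46,(Int.ofNat 1),0,0⟩] (.node 44 [⟨42,(Int.ofNat 1),0,0⟩] (.node 43 [⟨41,(Int.ofNat 1),0,0⟩] .nil .nil) (.node 45 [⟨45,(Int.ofNat 1),0,0⟩] .nil .nil)) (.node 48 [⟨49,(Int.negSucc 0),0,0⟩] (.node 47 [⟨47,(Int.ofNat 1),0,0⟩] .nil .nil) (.node 49 [⟨48,(Int.ofNat 1),0,0⟩] .nil .nil)))) (.node 58 [⟨57,(Int.ofNat 1),0,0⟩] (.node 54 [⟨54,(Int.ofNat 1),0,0⟩] (.node 52 [⟨53,(Int.negSucc 0),0,0⟩] (.node 51 [⟨51,(Int.ofNat 1),0,0⟩] .nil .nil) (.node 53 [⟨52,(Int.ofNat 1),0,0⟩] .nil .nil)) (.node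 56 [⟨56,(Int.ofNat 1),0,0⟩] (.node 55 [⟨55,(Int.ofNat 1),0,0⟩] .nil .nil) (.node 57 [⟨58,(Int.negSucc 0),0,0⟩] .nil .nil))) (.node 62 [⟨63,(Int.negSucc 0),0,0⟩] (.node 60 [⟨60,(Int.ofNat 1),0,0⟩] (.node 59 [⟨59,(Int.ofNat 1),0,0⟩] .nil .nil) (.node 61 [⟨61,(Int.ofNat 1),0,0⟩] .nil .nil)) (.node 64 [⟨67,(Int.ofNat 1),0,0⟩] (.node 63 [⟨62,(Int.ofNat 1),0,0⟩] .nil .nil) (.node 65 [⟨68,(Int.ofNat 1),0,0⟩] .nil .nil)))))) (.node 100 [⟨100,(Int.ofNat 1),0,0⟩] (.node 83 [⟨83,(Int.ofNat 1),0,0⟩] (.node 75 [⟨72,(Int.ofNat 1),0,0⟩] (.node 71 [⟨74,(Int.negSucc 0),0,0⟩] (.node 69 [⟨69,(Int.ofNat 1),0,0⟩] (.node 68 [⟨65,(Int.negSucc 0),0,0⟩] (.node 67 [⟨64,(Int.negSucc 0),0,0⟩] .nil .nil) .nil) (.node 70 [⟨70,(Int.ofNat 1),0,0⟩] .nil .nil)) (.node 73 [⟨66,(Int.negSucc 0),0,0⟩] (.node 72 [⟨75,(Int.negSucc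 0),0,0⟩] .nil .nil) (.node 74 [⟨71,(Int.ofNat 1),0,0⟩] .nil .nil))) (.node 79 [⟨79,(Int.ofNat 1),0,0⟩] (.node 77 [⟨76,(Int.negSucc 0),0,0⟩] (.node 76 [⟨77,(Int.ofNat 1),0,0⟩] .nil .nil) (.node 78 [⟨78,(Int.ofNat 1),0,0⟩] .nil .nil)) (.node 81 [⟨82,(Int.ofNat 1),0,0⟩] (.node 80 [⟨80,(Int.ofNat 1),0,0⟩] .nil .nil) (.node 82 [⟨81,(Int.negSucc 0),0,0⟩] .nil .nil)))) (.node 92 [⟨92,(Int.ofNat 1),0,0⟩] (.node 88 [⟨88,(Int.ofNat 1),0,0⟩] (.node 86 [⟨87,(Int.ofNat 1),0,0⟩] (.node 85 [⟨85,(Int.ofNat 1),0,0⟩] (.node 84 [⟨84,(Int.ofNat 1),0,0⟩] .nil .nil) .nil) (.node 87 [⟨86,(Int.negSucc 0),0,0⟩] .nil .nil)) (.node 90 [⟨91,(Int.ofNat 1),0,0⟩] (.node 89 [⟨89,(Int.ofNat 1),0,0⟩] .nil .nil) (.node 91 [⟨90,(Int.negSucc 0),0,0⟩] .nil .nil))) (.node 96 [⟨98,(Int.ofNat 1),0,0⟩] (.node 94 [⟨94,(Int.ofNat 1),0,0⟩]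 (.node 93 [⟨93,(Int.ofNat 1),0,0⟩] .nil .nil) (.node 95 [⟨97,(Int.ofNat 1),0,0⟩] .nil .nil)) (.node 98 [⟨96,(Int.negSucc 0),0,0⟩] (.node 97 [⟨95,(Int.negSucc 0),0,0⟩] .nil .nil) (.node 99 [⟨99,(Int.ofNat 1),0,0⟩] .nil .nil))))) (.node 117 [⟨119,(Int.ofNat 1),0,0⟩] (.node 109 [⟨109,(Int.ofNat 1),0,0⟩] (.node 105 [⟨105,(Int.ofNat 1),0,0⟩] (.node 103 [⟨102,(Int.negSucc 0),0,0⟩] (.node 102 [⟨103,(Int.ofNat 1),0,0⟩] (.node 101 [⟨101,(Int.ofNat 1),0,0⟩] .nil .nil) .nil) (.node 104 [⟨104,(Int.ofNat 1),0,0⟩] .nil .nil)) (.node 107 [⟨106,(Int.negSucc 0),0,0⟩] (.node 106 [⟨107,(Int.ofNat 1),0,0⟩] .nil .nil) (.node 108 [⟨108,(Int.ofNat 1),0,0⟩] .nil .nil))) (.node 113 [⟨111,(Int.negSucc 0),0,0⟩] (.node 111 [⟨113,(Int.ofNat 1),0,0⟩] (.node 110 [⟨110,(Int.ofNat 1),0,0⟩] .nil .nil) (.node 112 [⟨114,(Int.ofNat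 1),0,0⟩] .nil .nil)) (.node 115 [⟨115,(Int.ofNat 1),0,0⟩] (.node 114 [⟨112,(Int.negSucc 0),0,0⟩] .nil .nil) (.node 116 [⟨116,(Int.ofNat 1),0,0⟩] .nil .nil)))) (.node 125 [⟨124,(Int.negSucc 0),0,0⟩] (.node 121 [⟨121,(Int.ofNat 1),0,0⟩] (.node 119 [⟨117,(Int.negSucc 0),0,0⟩] (.node 118 [⟨120,(Int.ofNat 1),0,0⟩] .nil .nil) (.node 120 [⟨118,(Int.negSucc 0),0,0⟩] .nil .nil)) (.node 123 [⟨123,(Int.ofNat 1),0,0⟩] (.node 122 [⟨122,(Int.ofNat 1),0,0⟩] .nil .nil) (.node 124 [⟨125,(Int.ofNat 1),0,0⟩] .nil .nil))) (.node 129 [⟨128,(Int.negSucc 0),0,0⟩] (.node 127 [⟨127,(Int.ofNat 1),0,0⟩] (.node 126 [⟨126,(Int.ofNat 1),0,0⟩] .nil .nil) (.node 128 [⟨129,(Int.ofNat 1),0,0⟩] .nil .nil)) (.node 131 [⟨131,(Int.ofNat 1),0,0⟩] (.node 130 [⟨130,(Int.ofNat 1),0,0⟩] .nil .nil) (.node 132 [⟨132,(Int.ofNat 1),0,0⟩]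 .nil .nil)))))))
noncomputable def nc5 : Tr Vc := (.node 66 [⟨65,(Int.ofNat 1),0,0⟩] (.node 33 [⟨33,(Int.ofNat 1),0,0⟩] (.node 16 [⟨15,(Int.ofNat 1),0,0⟩] (.node 8 [⟨8,(Int.ofNat 1),0,0⟩] (.node 4 [⟨4,(Int.ofNat 1),0,0⟩, ⟨5,(Int.ofNat 1),0,0⟩] (.node 2 [⟨2,(Int.ofNat 1),0,0⟩] (.node 1 [⟨1,(Int.ofNat 1),0,0⟩] (.node 0 [⟨0,(Int.ofNat 1),0,0⟩] .nil .nil) .nil) (.node 3 [⟨3,(Int.ofNat 1),0,0⟩] .nil .nil)) (.node 6 [⟨5,(Int.ofNat 1),0,0⟩, ⟨6,(Int.ofNat 1),0,0⟩] (.node 5 [⟨5,(Int.negSucc 0),0,0⟩] .nil .nil) (.node 7 [⟨7,(Int.ofNat 1),0,0⟩] .nil .nil))) (.node 12 [⟨11,(Int.ofNat 1),0,0⟩] (.node 10 [⟨10,(Int.ofNat 1),0,0⟩] (.node 9 [⟨9,(Int.ofNat 1),0,0⟩] .nil .nil) (.node 11 [⟨12,(Int.negSucc 0),0,0⟩] .nil .nil)) (.node 14 [⟨14,(Int.ofNat 1),0,0⟩] (.node 13 [⟨13,(Int.ofNat 1),0,0⟩] .nil .nil) (.node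 15 [⟨16,(Int.negSucc 0),0,0⟩] .nil .nil)))) (.node 25 [⟨24,(Int.ofNat 1),0,0⟩] (.node 21 [⟨21,(Int.ofNat 1),0,0⟩] (.node 19 [⟨18,(Int.ofNat 1),0,0⟩] (.node 18 [⟨19,(Int.negSucc 0),0,0⟩] (.node 17 [⟨17,(Int.ofNat 1),0,0⟩] .nil .nil) .nil) (.node 20 [⟨20,(Int.ofNat 1),0,0⟩] .nil .nil)) (.node 23 [⟨22,(Int.ofNat 1),0,0⟩] (.node 22 [⟨23,(Int.negSucc 0),0,0⟩] .nil .nil) (.node 24 [⟨25,(Int.negSucc 0),0,0⟩] .nil .nil))) (.node 29 [⟨28,(Int.ofNat 1),0,0⟩] (.node 27 [⟨27,(Int.ofNat 1),0,0⟩] (.node 26 [⟨26,(Int.ofNat 1),0,0⟩] .nil .nil) (.node 28 [⟨29,(Int.negSucc 0),0,0⟩] .nil .nil)) (.node 31 [⟨32,(Int.negSucc 0),0,0⟩] (.node 30 [⟨30,(Int.ofNat 1),0,0⟩] .nil .nil) (.node 32 [⟨31,(Int.ofNat 1),0,0⟩] .nil .nil))))) (.node 50 [⟨50,(Int.ofNat 1),0,0⟩] (.node 42 [⟨42,(Int.ofNat 1),0,0⟩] (.node 38 [⟨38,(Int.ofNat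 1),0,0⟩] (.node 36 [⟨35,(Int.ofNat 1),0,0⟩] (.node 35 [⟨36,(Int.negSucc 0),0,0⟩] (.node 34 [⟨34,(Int.ofNat 1),0,0⟩] .nil .nil) .nil) (.node 37 [⟨37,(Int.ofNat 1),0,0⟩] .nil .nil)) (.node 40 [⟨41,(Int.negSucc 0),0,0⟩] (.node 39 [⟨39,(Int.ofNat 1),0,0⟩] .nil .nil) (.node 41 [⟨40,(Int.ofNat 1),0,0⟩] .nil .nil))) (.node 46 [⟨46,(Int.ofNat 1),0,0⟩] (.node 44 [⟨45,(Int.negSucc 0),0,0⟩] (.node 43 [⟨43,(Int.ofNat 1),0,0⟩] .nil .nil) (.node 45 [⟨44,(Int.ofNat 1),0,0⟩] .nil .nil)) (.node 48 [⟨47,(Int.ofNat 1),0,0⟩] (.node 47 [⟨48,(Int.negSucc 0),0,0⟩] .nil .nil) (.node 49 [⟨49,(Int.ofNat 1),0,0⟩] .nil .nil)))) (.node 58 [⟨58,(Int.ofNat 1),0,0⟩] (.node 54 [⟨54,(Int.ofNat 1),0,0⟩] (.node 52 [⟨51,(Int.ofNat 1),0,0⟩] (.node 51 [⟨52,(Int.negSucc 0),0,0⟩] .nil .nil) (.node 53 [⟨53,(Int.ofNat 1),0,0⟩] .nil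 .nil)) (.node 56 [⟨57,(Int.negSucc 0),0,0⟩] (.node 55 [⟨55,(Int.ofNat 1),0,0⟩] .nil .nil) (.node 57 [⟨56,(Int.ofNat 1),0,0⟩] .nil .nil))) (.node 62 [⟨61,(Int.ofNat 1),0,0⟩] (.node 60 [⟨60,(Int.ofNat 1),0,0⟩] (.node 59 [⟨59,(Int.ofNat 1),0,0⟩] .nil .nil) (.node 61 [⟨62,(Int.negSucc 0),0,0⟩] .nil .nil)) (.node 64 [⟨64,(Int.ofNat 1),0,0⟩] (.node 63 [⟨63,(Int.ofNat 1),0,0⟩] .nil .nil) (.node 65 [⟨66,(Int.negSucc 0),0,0⟩] .nil .nil)))))) (.node 100 [⟨100,(Int.ofNat 1),0,0⟩] (.node 83 [⟨82,(Int.negSucc 0),0,0⟩] (.node 75 [⟨75,(Int.ofNat 1),0,0⟩] (.node 71 [⟨68,(Int.negSucc 0),0,0⟩] (.node 69 [⟨67,(Int.negSucc 0),0,0⟩] (.node 68 [⟨71,(Int.negSucc 0),0,0⟩] (.node 67 [⟨69,(Int.ofNat 1),0,0⟩] .nil .nil) .nil) (.node 70 [⟨72,(Int.negSucc 0),0,0⟩] .nil .nil)) (.node 73 [⟨74,(Int.ofNat 1),0,0⟩] (.node 72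 [⟨70,(Int.ofNat 1),0,0⟩] .nil .nil) (.node 74 [⟨73,(Int.negSucc 0),0,0⟩] .nil .nil))) (.node 79 [⟨79,(Int.ofNat 1),0,0⟩] (.node 77 [⟨78,(Int.ofNat 1),0,0⟩] (.node 76 [⟨76,(Int.ofNat 1),0,0⟩] .nil .nil) (.node 78 [⟨77,(Int.negSucc 0),0,0⟩] .nil .nil)) (.node 81 [⟨81,(Int.ofNat 1),0,0⟩] (.node 80 [⟨80,(Int.ofNat 1),0,0⟩] .nil .nil) (.node 82 [⟨83,(Int.ofNat 1),0,0⟩] .nil .nil)))) (.node 92 [⟨91,(Int.negSucc 0),0,0⟩] (.node 88 [⟨87,(Int.negSucc 0),0,0⟩] (.node 86 [⟨86,(Int.ofNat 1),0,0⟩] (.node 85 [⟨85,(Int.ofNat 1),0,0⟩] (.node 84 [⟨84,(Int.ofNat 1),0,0⟩] .nil .nil) .nil) (.node 87 [⟨88,(Int.ofNat 1),0,0⟩] .nil .nil)) (.node 90 [⟨90,(Int.ofNat 1),0,0⟩] (.node 89 [⟨89,(Int.ofNat 1),0,0⟩] .nil .nil) (.node 91 [⟨92,(Int.ofNat 1),0,0⟩] .nil .nil))) (.node 96 [⟨96,(Int.ofNat 1),0,0⟩] (.node 94 [⟨95,(Int.ofNat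 1),0,0⟩] (.node 93 [⟨93,(Int.ofNat 1),0,0⟩] .nil .nil) (.node 95 [⟨94,(Int.negSucc 0),0,0⟩] .nil .nil)) (.node 98 [⟨99,(Int.ofNat 1),0,0⟩] (.node 97 [⟨97,(Int.ofNat 1),0,0⟩] .nil .nil) (.node 99 [⟨98,(Int.negSucc 0),0,0⟩] .nil .nil))))) (.node 117 [⟨116,(Int.negSucc 0),0,0⟩] (.node 109 [⟨109,(Int.ofNat 1),0,0⟩] (.node 105 [⟨105,(Int.ofNat 1),0,0⟩] (.node 103 [⟨104,(Int.ofNat 1),0,0⟩] (.node 102 [⟨102,(Int.ofNat 1),0,0⟩] (.node 101 [⟨101,(Int.ofNat 1),0,0⟩] .nil .nil) .nil) (.node 104 [⟨103,(Int.negSucc 0),0,0⟩] .nil .nil)) (.node 107 [⟨108,(Int.ofNat 1),0,0⟩] (.node 106 [⟨106,(Int.ofNat 1),0,0⟩] .nil .nil) (.node 108 [⟨107,(Int.negSucc 0),0,0⟩] .nil .nil))) (.node 113 [⟨113,(Int.ofNat 1),0,0⟩] (.node 111 [⟨110,(Int.negSucc 0),0,0⟩] (.node 110 [⟨111,(Int.ofNat 1),0,0⟩] .nil .nil) (.node 112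 [⟨112,(Int.ofNat 1),0,0⟩] .nil .nil)) (.node 115 [⟨114,(Int.negSucc 0),0,0⟩] (.node 114 [⟨115,(Int.ofNat 1),0,0⟩] .nil .nil) (.node 116 [⟨117,(Int.ofNat 1),0,0⟩] .nil .nil)))) (.node 125 [⟨125,(Int.ofNat 1),0,0⟩] (.node 121 [⟨120,(Int.negSucc 0),0,0⟩] (.node 119 [⟨119,(Int.ofNat 1),0,0⟩] (.node 118 [⟨118,(Int.ofNat 1),0,0⟩] .nil .nil) (.node 120 [⟨121,(Int.ofNat 1),0,0⟩] .nil .nil)) (.node 123 [⟨124,(Int.ofNat 1),0,0⟩] (.node 122 [⟨122,(Int.ofNat 1),0,0⟩] .nil .nil) (.node 124 [⟨123,(Int.negSucc 0),0,0⟩] .nil .nil))) (.node 129 [⟨129,(Int.ofNat 1),0,0⟩] (.node 127 [⟨128,(Int.ofNat 1),0,0⟩] (.node 126 [⟨126,(Int.ofNat 1),0,0⟩] .nil .nil) (.node 128 [⟨127,(Int.negSucc 0),0,0⟩] .nil .nil)) (.node 131 [⟨131,(Int.ofNat 1),0,0⟩] (.node 130 [⟨130,(Int.ofNat 1),0,0⟩] .nil .nil) (.node 132 [⟨132,(Int.ofNat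 1),0,0⟩] .nil .nil)))))))
noncomputable def nc6 : Tr Vc := (.node 66 [⟨66,(Int.ofNat 1),0,0⟩] (.node 33 [⟨33,(Int.ofNat 1),0,0⟩] (.node 16 [⟨17,(Int.negSucc 0),0,0⟩] (.node 8 [⟨8,(Int.ofNat 1),0,0⟩] (.node 4 [⟨4,(Int.ofNat 1),0,0⟩] (.node 2 [⟨2,(Int.ofNat 1),0,0⟩] (.node 1 [⟨1,(Int.ofNat 1),0,0⟩] (.node 0 [⟨0,(Int.ofNat 1),0,0⟩] .nil .nil) .nil) (.node 3 [⟨3,(Int.ofNat 1),0,0⟩] .nil .nil)) (.node 6 [⟨6,(Int.negSucc 0),0,0⟩] (.node 5 [⟨5,(Int.ofNat 1),0,0⟩, ⟨6,(Int.ofNat 1),0,0⟩] .nil .nil) (.node 7 [⟨7,(Int.ofNat 1),0,0⟩] .nil .nil))) (.node 12 [⟨13,(Int.negSucc 0),0,0⟩] (.node 10 [⟨10,(Int.ofNat 1),0,0⟩] (.node 9 [⟨9,(Int.ofNat 1),0,0⟩] .nil .nil) (.node 11 [⟨11,(Int.ofNat 1),0,0⟩] .nil .nil)) (.node 14 [⟨14,(Int.ofNat 1),0,0⟩] (.node 13 [⟨12,(Int.ofNat 1),0,0⟩] .nil .nil) (.node 15 [⟨15,(Int.ofNat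 1),0,0⟩] .nil .nil)))) (.node 25 [⟨26,(Int.negSucc 0),0,0⟩] (.node 21 [⟨22,(Int.negSucc 0),0,0⟩] (.node 19 [⟨20,(Int.negSucc 0),0,0⟩] (.node 18 [⟨18,(Int.ofNat 1),0,0⟩] (.node 17 [⟨16,(Int.ofNat 1),0,0⟩] .nil .nil) .nil) (.node 20 [⟨19,(Int.ofNat 1),0,0⟩] .nil .nil)) (.node 23 [⟨23,(Int.ofNat 1),0,0⟩] (.node 22 [⟨21,(Int.ofNat 1),0,0⟩] .nil .nil) (.node 24 [⟨24,(Int.ofNat 1),0,0⟩] .nil .nil))) (.node 29 [⟨29,(Int.ofNat 1),0,0⟩] (.node 27 [⟨28,(Int.negSucc 0),0,0⟩] (.node 26 [⟨25,(Int.ofNat 1),0,0⟩] .nil .nil) (.node 28 [⟨27,(Int.ofNat 1),0,0⟩] .nil .nil)) (.node 31 [⟨30,(Int.ofNat 1),0,0⟩] (.node 30 [⟨31,(Int.negSucc 0),0,0⟩] .nil .nil) (.node 32 [⟨32,(Int.ofNat 1),0,0⟩] .nil .nil))))) (.node 50 [⟨51,(Int.negSucc 0),0,0⟩] (.node 42 [⟨41,(Int.ofNat 1),0,0⟩] (.node 38 [⟨38,(Int.ofNat 1),0,0⟩]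 (.node 36 [⟨36,(Int.ofNat 1),0,0⟩] (.node 35 [⟨34,(Int.ofNat 1),0,0⟩] (.node 34 [⟨35,(Int.negSucc 0),0,0⟩] .nil .nil) .nil) (.node 37 [⟨37,(Int.ofNat 1),0,0⟩] .nil .nil)) (.node 40 [⟨40,(Int.ofNat 1),0,0⟩] (.node 39 [⟨39,(Int.ofNat 1),0,0⟩] .nil .nil) (.node 41 [⟨42,(Int.negSucc 0),0,0⟩] .nil .nil))) (.node 46 [⟨47,(Int.negSucc 0),0,0⟩] (.node 44 [⟨43,(Int.ofNat 1),0,0⟩] (.node 43 [⟨44,(Int.negSucc 0),0,0⟩] .nil .nil) (.node 45 [⟨45,(Int.ofNat 1),0,0⟩] .nil .nil)) (.node 48 [⟨48,(Int.ofNat 1),0,0⟩] (.node 47 [⟨46,(Int.ofNat 1),0,0⟩] .nil .nil) (.node 49 [⟨49,(Int.ofNat 1),0,0⟩] .nil .nil)))) (.node 58 [⟨58,(Int.ofNat 1),0,0⟩] (.node 54 [⟨54,(Int.ofNat 1),0,0⟩] (.node 52 [⟨52,(Int.ofNat 1),0,0⟩] (.node 51 [⟨50,(Int.ofNat 1),0,0⟩] .nil .nil) (.node 53 [⟨53,(Int.ofNat 1),0,0⟩] .nil .nil)) (.node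 56 [⟨55,(Int.ofNat 1),0,0⟩] (.node 55 [⟨56,(Int.negSucc 0),0,0⟩] .nil .nil) (.node 57 [⟨57,(Int.ofNat 1),0,0⟩] .nil .nil))) (.node 62 [⟨62,(Int.ofNat 1),0,0⟩] (.node 60 [⟨61,(Int.negSucc 0),0,0⟩] (.node 59 [⟨59,(Int.ofNat 1),0,0⟩] .nil .nil) (.node 61 [⟨60,(Int.ofNat 1),0,0⟩] .nil .nil)) (.node 64 [⟨65,(Int.negSucc 0),0,0⟩] (.node 63 [⟨63,(Int.ofNat 1),0,0⟩] .nil .nil) (.node 65 [⟨64,(Int.ofNat 1),0,0⟩] .nil .nil)))))) (.node 100 [⟨100,(Int.ofNat 1),0,0⟩] (.node 83 [⟨84,(Int.ofNat 1),0,0⟩] (.node 75 [⟨74,(Int.negSucc 0),0,0⟩] (.node 71 [⟨72,(Int.ofNat 1),0,0⟩] (.node 69 [⟨70,(Int.negSucc 0),0,0⟩] (.node 68 [⟨67,(Int.ofNat 1),0,0⟩] (.node 67 [⟨68,(Int.negSucc 0),0,0⟩] .nil .nil) .nil) (.node 70 [⟨69,(Int.negSucc 0),0,0⟩] .nil .nil)) (.node 73 [⟨73,(Int.ofNat 1),0,0⟩] (.node 72 [⟨71,(Int.negSucc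 0),0,0⟩] .nil .nil) (.node 74 [⟨75,(Int.ofNat 1),0,0⟩] .nil .nil))) (.node 79 [⟨78,(Int.negSucc 0),0,0⟩] (.node 77 [⟨77,(Int.ofNat 1),0,0⟩] (.node 76 [⟨76,(Int.ofNat 1),0,0⟩] .nil .nil) (.node 78 [⟨79,(Int.ofNat 1),0,0⟩] .nil .nil)) (.node 81 [⟨81,(Int.ofNat 1),0,0⟩] (.node 80 [⟨80,(Int.ofNat 1),0,0⟩] .nil .nil) (.node 82 [⟨82,(Int.ofNat 1),0,0⟩] .nil .nil)))) (.node 92 [⟨93,(Int.ofNat 1),0,0⟩] (.node 88 [⟨89,(Int.ofNat 1),0,0⟩] (.node 86 [⟨86,(Int.ofNat 1),0,0⟩] (.node 85 [⟨85,(Int.ofNat 1),0,0⟩] (.node 84 [⟨83,(Int.negSucc 0),0,0⟩] .nil .nil) .nil) (.node 87 [⟨87,(Int.ofNat 1),0,0⟩] .nil .nil)) (.node 90 [⟨90,(Int.ofNat 1),0,0⟩] (.node 89 [⟨88,(Int.negSucc 0),0,0⟩] .nil .nil) (.node 91 [⟨91,(Int.ofNat 1),0,0⟩] .nil .nil))) (.node 96 [⟨95,(Int.negSucc 0),0,0⟩] (.node 94 [⟨94,(Int.ofNat 1),0,0⟩]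 (.node 93 [⟨92,(Int.negSucc 0),0,0⟩] .nil .nil) (.node 95 [⟨96,(Int.ofNat 1),0,0⟩] .nil .nil)) (.node 98 [⟨97,(Int.negSucc 0),0,0⟩] (.node 97 [⟨98,(Int.ofNat 1),0,0⟩] .nil .nil) (.node 99 [⟨99,(Int.ofNat 1),0,0⟩] .nil .nil))))) (.node 117 [⟨118,(Int.ofNat 1),0,0⟩] (.node 109 [⟨108,(Int.negSucc 0),0,0⟩] (.node 105 [⟨104,(Int.negSucc 0),0,0⟩] (.node 103 [⟨103,(Int.ofNat 1),0,0⟩] (.node 102 [⟨102,(Int.ofNat 1),0,0⟩] (.node 101 [⟨101,(Int.ofNat 1),0,0⟩] .nil .nil) .nil) (.node 104 [⟨105,(Int.ofNat 1),0,0⟩] .nil .nil)) (.node 107 [⟨107,(Int.ofNat 1),0,0⟩] (.node 106 [⟨106,(Int.ofNat 1),0,0⟩] .nil .nil) (.node 108 [⟨109,(Int.ofNat 1),0,0⟩] .nil .nil))) (.node 113 [⟨114,(Int.ofNat 1),0,0⟩] (.node 111 [⟨112,(Int.ofNat 1),0,0⟩] (.node 110 [⟨110,(Int.ofNat 1),0,0⟩] .nil .nil) (.node 112 [⟨111,(Int.negSucc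 0),0,0⟩] .nil .nil)) (.node 115 [⟨115,(Int.ofNat 1),0,0⟩] (.node 114 [⟨113,(Int.negSucc 0),0,0⟩] .nil .nil) (.node 116 [⟨116,(Int.ofNat 1),0,0⟩] .nil .nil)))) (.node 125 [⟨125,(Int.ofNat 1),0,0⟩] (.node 121 [⟨121,(Int.ofNat 1),0,0⟩] (.node 119 [⟨120,(Int.ofNat 1),0,0⟩] (.node 118 [⟨117,(Int.negSucc 0),0,0⟩] .nil .nil) (.node 120 [⟨119,(Int.negSucc 0),0,0⟩] .nil .nil)) (.node 123 [⟨122,(Int.negSucc 0),0,0⟩] (.node 122 [⟨123,(Int.ofNat 1),0,0⟩] .nil .nil) (.node 124 [⟨124,(Int.ofNat 1),0,0⟩] .nil .nil))) (.node 129 [⟨129,(Int.ofNat 1),0,0⟩] (.node 127 [⟨126,(Int.negSucc 0),0,0⟩] (.node 126 [⟨127,(Int.ofNat 1),0,0⟩] .nil .nil) (.node 128 [⟨128,(Int.ofNat 1),0,0⟩] .nil .nil)) (.node 131 [⟨131,(Int.ofNat 1),0,0⟩] (.node 130 [⟨130,(Int.ofNat 1),0,0⟩] .nil .nil) (.node 132 [⟨132,(Int.ofNat 1),0,0⟩]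 .nil .nil)))))))
noncomputable def nT : Tr (Tr Vc) := (.node 3 nc3 (.node 1 nc1 (.node 0 nc0 .nil .nil) (.node 2 nc2 .nil .nil)) (.node 5 nc5 (.node 4 nc4 .nil .nil) (.node 6 nc6 .nil .nil)))
noncomputable def wc0 : Tr (ℕ × ℤ) := (.node 63 (63,(Int.ofNat 1)) (.node 31 (52,(Int.ofNat 1)) (.node 15 (15,(Int.ofNat 1)) (.node 7 (7,(Int.ofNat 1)) (.node 3 (3,(Int.ofNat 1)) (.node 1 (0,(Int.ofNat 1)) (.node 0 (1,(Int.negSucc 0)) .nil .nil) (.node 2 (2,(Int.ofNat 1)) .nil .nil)) (.node 5 (5,(Int.ofNat 1)) (.node 4 (4,(Int.ofNat 1)) .nil .nil) (.node 6 (6,(Int.ofNat 1)) .nil .nil))) (.node 11 (11,(Int.ofNat 1)) (.node 9 (9,(Int.ofNat 1)) (.node 8 (8,(Int.ofNat 1)) .nil .nil) (.node 10 (10,(Int.ofNat 1)) .nil .nil)) (.node 13 (13,(Int.ofNat 1)) (.node 12 (12,(Int.ofNat 1)) .nil .nil) (.node 14 (14,(Int.ofNat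 1)) .nil .nil)))) (.node 23 (39,(Int.ofNat 1)) (.node 19 (35,(Int.ofNat 1)) (.node 17 (33,(Int.ofNat 1)) (.node 16 (16,(Int.ofNat 1)) .nil .nil) (.node 18 (34,(Int.ofNat 1)) .nil .nil)) (.node 21 (37,(Int.ofNat 1)) (.node 20 (36,(Int.ofNat 1)) .nil .nil) (.node 22 (38,(Int.ofNat 1)) .nil .nil))) (.node 27 (48,(Int.ofNat 1)) (.node 25 (41,(Int.ofNat 1)) (.node 24 (40,(Int.ofNat 1)) .nil .nil) (.node 26 (42,(Int.ofNat 1)) .nil .nil)) (.node 29 (50,(Int.ofNat 1)) (.node 28 (49,(Int.ofNat 1)) .nil .nil) (.node 30 (51,(Int.ofNat 1)) .nil .nil))))) (.node 47 (47,(Int.ofNat 1)) (.node 39 (23,(Int.negSucc 0)) (.node 35 (19,(Int.negSucc 0)) (.node 33 (17,(Int.negSucc 0)) (.node 32 (93,(Int.negSucc 0)) .nil .nil) (.node 34 (18,(Int.negSucc 0)) .nil .nil)) (.node 37 (21,(Int.negSucc 0)) (.node 36 (20,(Int.negSucc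 0)) .nil .nil) (.node 38 (22,(Int.negSucc 0)) .nil .nil))) (.node 43 (43,(Int.ofNat 1)) (.node 41 (25,(Int.negSucc 0)) (.node 40 (24,(Int.negSucc 0)) .nil .nil) (.node 42 (26,(Int.negSucc 0)) .nil .nil)) (.node 45 (45,(Int.ofNat 1)) (.node 44 (44,(Int.ofNat 1)) .nil .nil) (.node 46 (46,(Int.ofNat 1)) .nil .nil)))) (.node 55 (55,(Int.ofNat 1)) (.node 51 (30,(Int.negSucc 0)) (.node 49 (28,(Int.negSucc 0)) (.node 48 (27,(Int.negSucc 0)) .nil .nil) (.node 50 (29,(Int.negSucc 0)) .nil .nil)) (.node 53 (53,(Int.ofNat 1)) (.node 52 (31,(Int.negSucc 0)) .nil .nil) (.node 54 (54,(Int.ofNat 1)) .nil .nil))) (.node 59 (59,(Int.ofNat 1)) (.node 57 (57,(Int.ofNat 1)) (.node 56 (56,(Int.ofNat 1)) .nil .nil) (.node 58 (58,(Int.ofNat 1)) .nil .nil)) (.node 61 (61,(Int.ofNat 1)) (.node 60 (60,(Int.ofNat 1))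 .nil .nil) (.node 62 (62,(Int.ofNat 1)) .nil .nil)))))) (.node 95 (74,(Int.ofNat 1)) (.node 79 (79,(Int.ofNat 1)) (.node 71 (71,(Int.ofNat 1)) (.node 67 (67,(Int.ofNat 1)) (.node 65 (65,(Int.ofNat 1)) (.node 64 (64,(Int.ofNat 1)) .nil .nil) (.node 66 (66,(Int.ofNat 1)) .nil .nil)) (.node 69 (69,(Int.ofNat 1)) (.node 68 (68,(Int.ofNat 1)) .nil .nil) (.node 70 (70,(Int.ofNat 1)) .nil .nil))) (.node 75 (96,(Int.negSucc 0)) (.node 73 (94,(Int.negSucc 0)) (.node 72 (72,(Int.ofNat 1)) .nil .nil) (.node 74 (95,(Int.negSucc 0)) .nil .nil)) (.node 77 (98,(Int.negSucc 0)) (.node 76 (97,(Int.negSucc 0)) .nil .nil) (.node 78 (78,(Int.ofNat 1)) .nil .nil)))) (.node 87 (103,(Int.negSucc 0)) (.node 83 (99,(Int.negSucc 0)) (.node 81 (81,(Int.ofNat 1)) (.node 80 (80,(Int.ofNat 1)) .nil .nil) (.node 82 (82,(Int.ofNat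 1)) .nil .nil)) (.node 85 (101,(Int.negSucc 0)) (.node 84 (100,(Int.negSucc 0)) .nil .nil) (.node 86 (102,(Int.negSucc 0)) .nil .nil))) (.node 91 (107,(Int.negSucc 0)) (.node 89 (105,(Int.negSucc 0)) (.node 88 (104,(Int.negSucc 0)) .nil .nil) (.node 90 (106,(Int.negSucc 0)) .nil .nil)) (.node 93 (32,(Int.negSucc 0)) (.node 92 (108,(Int.negSucc 0)) .nil .nil) (.node 94 (73,(Int.ofNat 1)) .nil .nil))))) (.node 111 (111,(Int.ofNat 1)) (.node 103 (87,(Int.ofNat 1)) (.node 99 (83,(Int.ofNat 1)) (.node 97 (76,(Int.ofNat 1)) (.node 96 (75,(Int.ofNat 1)) .nil .nil) (.node 98 (77,(Int.ofNat 1)) .nil .nil)) (.node 101 (85,(Int.ofNat 1)) (.node 100 (84,(Int.ofNat 1)) .nil .nil) (.node 102 (86,(Int.ofNat 1)) .nil .nil))) (.node 107 (91,(Int.ofNat 1)) (.node 105 (89,(Int.ofNat 1)) (.node 104 (88,(Int.ofNat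 1)) .nil .nil) (.node 106 (90,(Int.ofNat 1)) .nil .nil)) (.node 109 (109,(Int.ofNat 1)) (.node 108 (92,(Int.ofNat 1)) .nil .nil) (.node 110 (110,(Int.ofNat 1)) .nil .nil)))) (.node 119 (119,(Int.ofNat 1)) (.node 115 (115,(Int.ofNat 1)) (.node 113 (113,(Int.ofNat 1)) (.node 112 (112,(Int.ofNat 1)) .nil .nil) (.node 114 (114,(Int.ofNat 1)) .nil .nil)) (.node 117 (117,(Int.ofNat 1)) (.node 116 (116,(Int.ofNat 1)) .nil .nil) (.node 118 (118,(Int.ofNat 1)) .nil .nil))) (.node 123 (123,(Int.ofNat 1)) (.node 121 (121,(Int.ofNat 1)) (.node 120 (120,(Int.ofNat 1)) .nil .nil) (.node 122 (122,(Int.ofNat 1)) .nil .nil)) (.node 125 (124,(Int.negSucc 0)) (.node 124 (125,(Int.ofNat 1)) .nil .nil) .nil))))))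
noncomputable def wc1 : Tr (ℕ × ℤ) := (.node 63 (63,(Int.ofNat 1)) (.node 31 (31,(Int.ofNat 1)) (.node 15 (15,(Int.ofNat 1)) (.node 7 (3,(Int.ofNat 1)) (.node 3 (7,(Int.negSucc 0)) (.node 1 (1,(Int.ofNat 1)) (.node 0 (0,(Int.ofNat 1)) .nil .nil) (.node 2 (2,(Int.ofNat 1)) .nil .nil)) (.node 5 (9,(Int.negSucc 0)) (.node 4 (8,(Int.negSucc 0)) .nil .nil) (.node 6 (10,(Int.negSucc 0)) .nil .nil))) (.node 11 (11,(Int.ofNat 1)) (.node 9 (5,(Int.ofNat 1)) (.node 8 (4,(Int.ofNat 1)) .nil .nil) (.node 10 (6,(Int.ofNat 1)) .nil .nil)) (.node 13 (13,(Int.ofNat 1)) (.node 12 (12,(Int.ofNat 1)) .nil .nil) (.node 14 (14,(Int.ofNat 1)) .nil .nil)))) (.node 23 (27,(Int.negSucc 0)) (.node 19 (19,(Int.ofNat 1)) (.node 17 (17,(Int.ofNat 1)) (.node 16 (16,(Int.ofNat 1)) .nil .nil) (.node 18 (18,(Int.ofNat 1))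 .nil .nil)) (.node 21 (21,(Int.ofNat 1)) (.node 20 (20,(Int.ofNat 1)) .nil .nil) (.node 22 (22,(Int.ofNat 1)) .nil .nil))) (.node 27 (23,(Int.ofNat 1)) (.node 25 (29,(Int.negSucc 0)) (.node 24 (28,(Int.negSucc 0)) .nil .nil) (.node 26 (30,(Int.negSucc 0)) .nil .nil)) (.node 29 (25,(Int.ofNat 1)) (.node 28 (24,(Int.ofNat 1)) .nil .nil) (.node 30 (26,(Int.ofNat 1)) .nil .nil))))) (.node 47 (78,(Int.negSucc 0)) (.node 39 (48,(Int.negSucc 0)) (.node 35 (35,(Int.ofNat 1)) (.node 33 (33,(Int.ofNat 1)) (.node 32 (32,(Int.ofNat 1)) .nil .nil) (.node 34 (34,(Int.ofNat 1)) .nil .nil)) (.node 37 (37,(Int.ofNat 1)) (.node 36 (36,(Int.ofNat 1)) .nil .nil) (.node 38 (38,(Int.ofNat 1)) .nil .nil))) (.node 43 (53,(Int.ofNat 1)) (.node 41 (50,(Int.negSucc 0)) (.node 40 (49,(Int.negSucc 0)) .nil .nil) (.node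 42 (51,(Int.negSucc 0)) .nil .nil)) (.node 45 (55,(Int.ofNat 1)) (.node 44 (54,(Int.ofNat 1)) .nil .nil) (.node 46 (56,(Int.ofNat 1)) .nil .nil)))) (.node 55 (45,(Int.negSucc 0)) (.node 51 (42,(Int.ofNat 1)) (.node 49 (40,(Int.ofNat 1)) (.node 48 (39,(Int.ofNat 1)) .nil .nil) (.node 50 (41,(Int.ofNat 1)) .nil .nil)) (.node 53 (43,(Int.negSucc 0)) (.node 52 (52,(Int.ofNat 1)) .nil .nil) (.node 54 (44,(Int.negSucc 0)) .nil .nil))) (.node 59 (59,(Int.ofNat 1)) (.node 57 (57,(Int.ofNat 1)) (.node 56 (46,(Int.negSucc 0)) .nil .nil) (.node 58 (58,(Int.ofNat 1)) .nil .nil)) (.node 61 (61,(Int.ofNat 1)) (.node 60 (60,(Int.ofNat 1)) .nil .nil) (.node 62 (62,(Int.ofNat 1)) .nil .nil)))))) (.node 95 (99,(Int.ofNat 1)) (.node 79 (69,(Int.ofNat 1)) (.node 71 (81,(Int.negSucc 0)) (.node 67 (67,(Int.ofNat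 1)) (.node 65 (65,(Int.ofNat 1)) (.node 64 (64,(Int.ofNat 1)) .nil .nil) (.node 66 (66,(Int.ofNat 1)) .nil .nil)) (.node 69 (79,(Int.negSucc 0)) (.node 68 (68,(Int.ofNat 1)) .nil .nil) (.node 70 (80,(Int.negSucc 0)) .nil .nil))) (.node 75 (84,(Int.ofNat 1)) (.node 73 (73,(Int.ofNat 1)) (.node 72 (82,(Int.negSucc 0)) .nil .nil) (.node 74 (83,(Int.ofNat 1)) .nil .nil)) (.node 77 (86,(Int.ofNat 1)) (.node 76 (85,(Int.ofNat 1)) .nil .nil) (.node 78 (47,(Int.negSucc 0)) .nil .nil)))) (.node 87 (87,(Int.ofNat 1)) (.node 83 (74,(Int.negSucc 0)) (.node 81 (71,(Int.ofNat 1)) (.node 80 (70,(Int.ofNat 1)) .nil .nil) (.node 82 (72,(Int.ofNat 1)) .nil .nil)) (.node 85 (76,(Int.negSucc 0)) (.node 84 (75,(Int.negSucc 0)) .nil .nil) (.node 86 (77,(Int.negSucc 0)) .nil .nil))) (.node 91 (91,(Int.ofNat 1)) (.node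 89 (89,(Int.ofNat 1)) (.node 88 (88,(Int.ofNat 1)) .nil .nil) (.node 90 (90,(Int.ofNat 1)) .nil .nil)) (.node 93 (93,(Int.ofNat 1)) (.node 92 (92,(Int.ofNat 1)) .nil .nil) (.node 94 (94,(Int.ofNat 1)) .nil .nil))))) (.node 111 (111,(Int.ofNat 1)) (.node 103 (103,(Int.ofNat 1)) (.node 99 (95,(Int.negSucc 0)) (.node 97 (101,(Int.ofNat 1)) (.node 96 (100,(Int.ofNat 1)) .nil .nil) (.node 98 (102,(Int.ofNat 1)) .nil .nil)) (.node 101 (97,(Int.negSucc 0)) (.node 100 (96,(Int.negSucc 0)) .nil .nil) (.node 102 (98,(Int.negSucc 0)) .nil .nil))) (.node 107 (107,(Int.ofNat 1)) (.node 105 (105,(Int.ofNat 1)) (.node 104 (104,(Int.ofNat 1)) .nil .nil) (.node 106 (106,(Int.ofNat 1)) .nil .nil)) (.node 109 (109,(Int.ofNat 1)) (.node 108 (108,(Int.ofNat 1)) .nil .nil) (.node 110 (110,(Int.ofNat 1)) .nil .nil))))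 (.node 119 (115,(Int.negSucc 0)) (.node 115 (119,(Int.ofNat 1)) (.node 113 (113,(Int.ofNat 1)) (.node 112 (112,(Int.ofNat 1)) .nil .nil) (.node 114 (114,(Int.ofNat 1)) .nil .nil)) (.node 117 (121,(Int.ofNat 1)) (.node 116 (120,(Int.ofNat 1)) .nil .nil) (.node 118 (122,(Int.ofNat 1)) .nil .nil))) (.node 123 (123,(Int.ofNat 1)) (.node 121 (117,(Int.negSucc 0)) (.node 120 (116,(Int.negSucc 0)) .nil .nil) (.node 122 (118,(Int.negSucc 0)) .nil .nil)) (.node 125 (125,(Int.ofNat 1)) (.node 124 (124,(Int.ofNat 1)) .nil .nil) .nil))))))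
noncomputable def wc2 : Tr (ℕ × ℤ) := (.node 63 (63,(Int.ofNat 1)) (.node 31 (32,(Int.negSucc 0)) (.node 15 (21,(Int.negSucc 0)) (.node 7 (7,(Int.ofNat 1)) (.node 3 (3,(Int.ofNat 1)) (.node 1 (2,(Int.negSucc 0)) (.node 0 (0,(Int.ofNat 1)) .nil .nil) (.node 2 (1,(Int.ofNat 1)) .nil .nil)) (.node 5 (5,(Int.ofNat 1)) (.node 4 (4,(Int.ofNat 1)) .nil .nil) (.node 6 (6,(Int.ofNat 1)) .nil .nil))) (.node 11 (17,(Int.negSucc 0)) (.node 9 (9,(Int.ofNat 1)) (.node 8 (8,(Int.ofNat 1)) .nil .nil) (.node 10 (10,(Int.ofNat 1)) .nil .nil)) (.node 13 (19,(Int.negSucc 0)) (.node 12 (18,(Int.negSucc 0)) .nil .nil) (.node 14 (20,(Int.negSucc 0)) .nil .nil)))) (.node 23 (23,(Int.ofNat 1)) (.node 19 (13,(Int.ofNat 1)) (.node 17 (11,(Int.ofNat 1)) (.node 16 (22,(Int.negSucc 0)) .nil .nil) (.node 18 (12,(Int.ofNat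 1)) .nil .nil)) (.node 21 (15,(Int.ofNat 1)) (.node 20 (14,(Int.ofNat 1)) .nil .nil) (.node 22 (16,(Int.ofNat 1)) .nil .nil))) (.node 27 (27,(Int.ofNat 1)) (.node 25 (25,(Int.ofNat 1)) (.node 24 (24,(Int.ofNat 1)) .nil .nil) (.node 26 (26,(Int.ofNat 1)) .nil .nil)) (.node 29 (29,(Int.ofNat 1)) (.node 28 (28,(Int.ofNat 1)) .nil .nil) (.node 30 (30,(Int.ofNat 1)) .nil .nil))))) (.node 47 (47,(Int.ofNat 1)) (.node 39 (43,(Int.negSucc 0)) (.node 35 (35,(Int.ofNat 1)) (.node 33 (33,(Int.ofNat 1)) (.node 32 (31,(Int.ofNat 1)) .nil .nil) (.node 34 (34,(Int.ofNat 1)) .nil .nil)) (.node 37 (37,(Int.ofNat 1)) (.node 36 (36,(Int.ofNat 1)) .nil .nil) (.node 38 (38,(Int.ofNat 1)) .nil .nil))) (.node 43 (39,(Int.ofNat 1)) (.node 41 (45,(Int.negSucc 0)) (.node 40 (44,(Int.negSucc 0)) .nil .nil) (.node 42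 (46,(Int.negSucc 0)) .nil .nil)) (.node 45 (41,(Int.ofNat 1)) (.node 44 (40,(Int.ofNat 1)) .nil .nil) (.node 46 (42,(Int.ofNat 1)) .nil .nil)))) (.node 55 (50,(Int.negSucc 0)) (.node 51 (56,(Int.ofNat 1)) (.node 49 (54,(Int.ofNat 1)) (.node 48 (53,(Int.ofNat 1)) .nil .nil) (.node 50 (55,(Int.ofNat 1)) .nil .nil)) (.node 53 (48,(Int.negSucc 0)) (.node 52 (73,(Int.negSucc 0)) .nil .nil) (.node 54 (49,(Int.negSucc 0)) .nil .nil))) (.node 59 (59,(Int.ofNat 1)) (.node 57 (57,(Int.ofNat 1)) (.node 56 (51,(Int.negSucc 0)) .nil .nil) (.node 58 (58,(Int.ofNat 1)) .nil .nil)) (.node 61 (61,(Int.ofNat 1)) (.node 60 (60,(Int.ofNat 1)) .nil .nil) (.node 62 (62,(Int.ofNat 1)) .nil .nil)))))) (.node 95 (95,(Int.ofNat 1)) (.node 79 (83,(Int.ofNat 1)) (.node 71 (76,(Int.negSucc 0)) (.node 67 (67,(Int.ofNat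 1)) (.node 65 (65,(Int.ofNat 1)) (.node 64 (64,(Int.ofNat 1)) .nil .nil) (.node 66 (66,(Int.ofNat 1)) .nil .nil)) (.node 69 (74,(Int.negSucc 0)) (.node 68 (68,(Int.ofNat 1)) .nil .nil) (.node 70 (75,(Int.negSucc 0)) .nil .nil))) (.node 75 (70,(Int.ofNat 1)) (.node 73 (52,(Int.negSucc 0)) (.node 72 (77,(Int.negSucc 0)) .nil .nil) (.node 74 (69,(Int.ofNat 1)) .nil .nil)) (.node 77 (72,(Int.ofNat 1)) (.node 76 (71,(Int.ofNat 1)) .nil .nil) (.node 78 (78,(Int.ofNat 1)) .nil .nil)))) (.node 87 (87,(Int.ofNat 1)) (.node 83 (79,(Int.negSucc 0)) (.node 81 (85,(Int.ofNat 1)) (.node 80 (84,(Int.ofNat 1)) .nil .nil) (.node 82 (86,(Int.ofNat 1)) .nil .nil)) (.node 85 (81,(Int.negSucc 0)) (.node 84 (80,(Int.negSucc 0)) .nil .nil) (.node 86 (82,(Int.negSucc 0)) .nil .nil))) (.node 91 (91,(Int.ofNat 1)) (.node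 89 (89,(Int.ofNat 1)) (.node 88 (88,(Int.ofNat 1)) .nil .nil) (.node 90 (90,(Int.ofNat 1)) .nil .nil)) (.node 93 (94,(Int.ofNat 1)) (.node 92 (92,(Int.ofNat 1)) .nil .nil) (.node 94 (93,(Int.negSucc 0)) .nil .nil))))) (.node 111 (105,(Int.negSucc 0)) (.node 103 (109,(Int.ofNat 1)) (.node 99 (99,(Int.ofNat 1)) (.node 97 (97,(Int.ofNat 1)) (.node 96 (96,(Int.ofNat 1)) .nil .nil) (.node 98 (98,(Int.ofNat 1)) .nil .nil)) (.node 101 (101,(Int.ofNat 1)) (.node 100 (100,(Int.ofNat 1)) .nil .nil) (.node 102 (102,(Int.ofNat 1)) .nil .nil))) (.node 107 (113,(Int.ofNat 1)) (.node 105 (111,(Int.ofNat 1)) (.node 104 (110,(Int.ofNat 1)) .nil .nil) (.node 106 (112,(Int.ofNat 1)) .nil .nil)) (.node 109 (103,(Int.negSucc 0)) (.node 108 (114,(Int.ofNat 1)) .nil .nil) (.node 110 (104,(Int.negSucc 0)) .nil .nil))))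 (.node 119 (119,(Int.ofNat 1)) (.node 115 (115,(Int.ofNat 1)) (.node 113 (107,(Int.negSucc 0)) (.node 112 (106,(Int.negSucc 0)) .nil .nil) (.node 114 (108,(Int.negSucc 0)) .nil .nil)) (.node 117 (117,(Int.ofNat 1)) (.node 116 (116,(Int.ofNat 1)) .nil .nil) (.node 118 (118,(Int.ofNat 1)) .nil .nil))) (.node 123 (124,(Int.ofNat 1)) (.node 121 (121,(Int.ofNat 1)) (.node 120 (120,(Int.ofNat 1)) .nil .nil) (.node 122 (122,(Int.ofNat 1)) .nil .nil)) (.node 125 (125,(Int.ofNat 1)) (.node 124 (123,(Int.negSucc 0)) .nil .nil) .nil))))))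
noncomputable def wc3 : Tr (ℕ × ℤ) := (.node 63 (63,(Int.ofNat 1)) (.node 31 (30,(Int.ofNat 1)) (.node 15 (15,(Int.ofNat 1)) (.node 7 (7,(Int.ofNat 1)) (.node 3 (2,(Int.ofNat 1)) (.node 1 (1,(Int.ofNat 1)) (.node 0 (0,(Int.ofNat 1)) .nil .nil) (.node 2 (3,(Int.negSucc 0)) .nil .nil)) (.node 5 (5,(Int.ofNat 1)) (.node 4 (4,(Int.ofNat 1)) .nil .nil) (.node 6 (6,(Int.ofNat 1)) .nil .nil))) (.node 11 (8,(Int.ofNat 1)) (.node 9 (12,(Int.negSucc 0)) (.node 8 (11,(Int.negSucc 0)) .nil .nil) (.node 10 (13,(Int.negSucc 0)) .nil .nil)) (.node 13 (10,(Int.ofNat 1)) (.node 12 (9,(Int.ofNat 1)) .nil .nil) (.node 14 (14,(Int.ofNat 1)) .nil .nil)))) (.node 23 (20,(Int.ofNat 1)) (.node 19 (19,(Int.ofNat 1)) (.node 17 (17,(Int.ofNat 1)) (.node 16 (16,(Int.ofNat 1)) .nil .nil) (.node 18 (18,(Int.ofNat 1)) .nil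 .nil)) (.node 21 (24,(Int.negSucc 0)) (.node 20 (23,(Int.negSucc 0)) .nil .nil) (.node 22 (25,(Int.negSucc 0)) .nil .nil))) (.node 27 (27,(Int.ofNat 1)) (.node 25 (22,(Int.ofNat 1)) (.node 24 (21,(Int.ofNat 1)) .nil .nil) (.node 26 (26,(Int.ofNat 1)) .nil .nil)) (.node 29 (29,(Int.ofNat 1)) (.node 28 (28,(Int.ofNat 1)) .nil .nil) (.node 30 (31,(Int.negSucc 0)) .nil .nil))))) (.node 47 (46,(Int.ofNat 1)) (.node 39 (36,(Int.ofNat 1)) (.node 35 (35,(Int.ofNat 1)) (.node 33 (33,(Int.ofNat 1)) (.node 32 (32,(Int.ofNat 1)) .nil .nil) (.node 34 (34,(Int.ofNat 1)) .nil .nil)) (.node 37 (40,(Int.negSucc 0)) (.node 36 (39,(Int.negSucc 0)) .nil .nil) (.node 38 (41,(Int.negSucc 0)) .nil .nil))) (.node 43 (43,(Int.ofNat 1)) (.node 41 (38,(Int.ofNat 1)) (.node 40 (37,(Int.ofNat 1)) .nil .nil) (.node 42 (42,(Int.ofNat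 1)) .nil .nil)) (.node 45 (45,(Int.ofNat 1)) (.node 44 (44,(Int.ofNat 1)) .nil .nil) (.node 46 (47,(Int.negSucc 0)) .nil .nil)))) (.node 55 (59,(Int.ofNat 1)) (.node 51 (52,(Int.negSucc 0)) (.node 49 (49,(Int.ofNat 1)) (.node 48 (48,(Int.ofNat 1)) .nil .nil) (.node 50 (50,(Int.ofNat 1)) .nil .nil)) (.node 53 (57,(Int.ofNat 1)) (.node 52 (51,(Int.ofNat 1)) .nil .nil) (.node 54 (58,(Int.ofNat 1)) .nil .nil))) (.node 59 (55,(Int.negSucc 0)) (.node 57 (53,(Int.negSucc 0)) (.node 56 (69,(Int.negSucc 0)) .nil .nil) (.node 58 (54,(Int.negSucc 0)) .nil .nil)) (.node 61 (61,(Int.ofNat 1)) (.node 60 (60,(Int.ofNat 1)) .nil .nil) (.node 62 (62,(Int.ofNat 1)) .nil .nil)))))) (.node 95 (94,(Int.negSucc 0)) (.node 79 (78,(Int.negSucc 0)) (.node 71 (67,(Int.ofNat 1)) (.node 67 (71,(Int.negSucc 0)) (.node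 65 (65,(Int.ofNat 1)) (.node 64 (64,(Int.ofNat 1)) .nil .nil) (.node 66 (70,(Int.negSucc 0)) .nil .nil)) (.node 69 (56,(Int.negSucc 0)) (.node 68 (72,(Int.negSucc 0)) .nil .nil) (.node 70 (66,(Int.ofNat 1)) .nil .nil))) (.node 75 (75,(Int.ofNat 1)) (.node 73 (74,(Int.ofNat 1)) (.node 72 (68,(Int.ofNat 1)) .nil .nil) (.node 74 (73,(Int.negSucc 0)) .nil .nil)) (.node 77 (77,(Int.ofNat 1)) (.node 76 (76,(Int.ofNat 1)) .nil .nil) (.node 78 (79,(Int.ofNat 1)) .nil .nil)))) (.node 87 (84,(Int.negSucc 0)) (.node 83 (83,(Int.ofNat 1)) (.node 81 (81,(Int.ofNat 1)) (.node 80 (80,(Int.ofNat 1)) .nil .nil) (.node 82 (82,(Int.ofNat 1)) .nil .nil)) (.node 85 (88,(Int.ofNat 1)) (.node 84 (87,(Int.ofNat 1)) .nil .nil) (.node 86 (89,(Int.ofNat 1)) .nil .nil))) (.node 91 (91,(Int.ofNat 1)) (.node 89 (86,(Int.negSucc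 0)) (.node 88 (85,(Int.negSucc 0)) .nil .nil) (.node 90 (90,(Int.ofNat 1)) .nil .nil)) (.node 93 (93,(Int.ofNat 1)) (.node 92 (92,(Int.ofNat 1)) .nil .nil) (.node 94 (95,(Int.ofNat 1)) .nil .nil))))) (.node 111 (111,(Int.ofNat 1)) (.node 103 (100,(Int.negSucc 0)) (.node 99 (99,(Int.ofNat 1)) (.node 97 (97,(Int.ofNat 1)) (.node 96 (96,(Int.ofNat 1)) .nil .nil) (.node 98 (98,(Int.ofNat 1)) .nil .nil)) (.node 101 (104,(Int.ofNat 1)) (.node 100 (103,(Int.ofNat 1)) .nil .nil) (.node 102 (105,(Int.ofNat 1)) .nil .nil))) (.node 107 (107,(Int.ofNat 1)) (.node 105 (102,(Int.negSucc 0)) (.node 104 (101,(Int.negSucc 0)) .nil .nil) (.node 106 (106,(Int.ofNat 1)) .nil .nil)) (.node 109 (109,(Int.ofNat 1)) (.node 108 (108,(Int.ofNat 1)) .nil .nil) (.node 110 (110,(Int.ofNat 1)) .nil .nil)))) (.node 119 (119,(Int.ofNat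 1)) (.node 115 (112,(Int.negSucc 0)) (.node 113 (116,(Int.ofNat 1)) (.node 112 (115,(Int.ofNat 1)) .nil .nil) (.node 114 (117,(Int.ofNat 1)) .nil .nil)) (.node 117 (114,(Int.negSucc 0)) (.node 116 (113,(Int.negSucc 0)) .nil .nil) (.node 118 (118,(Int.ofNat 1)) .nil .nil))) (.node 123 (122,(Int.negSucc 0)) (.node 121 (121,(Int.ofNat 1)) (.node 120 (120,(Int.ofNat 1)) .nil .nil) (.node 122 (123,(Int.ofNat 1)) .nil .nil)) (.node 125 (125,(Int.ofNat 1)) (.node 124 (124,(Int.ofNat 1)) .nil .nil) .nil))))))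
noncomputable def wc4 : Tr (ℕ × ℤ) := (.node 63 (63,(Int.ofNat 1)) (.node 31 (31,(Int.ofNat 1)) (.node 15 (13,(Int.ofNat 1)) (.node 7 (8,(Int.negSucc 0)) (.node 3 (4,(Int.negSucc 0)) (.node 1 (1,(Int.ofNat 1)) (.node 0 (0,(Int.ofNat 1)) .nil .nil) (.node 2 (2,(Int.ofNat 1)) .nil .nil)) (.node 5 (5,(Int.ofNat 1)) (.node 4 (3,(Int.ofNat 1)) .nil .nil) (.node 6 (6,(Int.ofNat 1)) .nil .nil))) (.node 11 (11,(Int.ofNat 1)) (.node 9 (9,(Int.ofNat 1)) (.node 8 (7,(Int.ofNat 1)) .nil .nil) (.node 10 (10,(Int.ofNat 1)) .nil .nil)) (.node 13 (15,(Int.negSucc 0)) (.node 12 (14,(Int.negSucc 0)) .nil .nil) (.node 14 (12,(Int.ofNat 1)) .nil .nil)))) (.node 23 (23,(Int.ofNat 1)) (.node 19 (21,(Int.negSucc 0)) (.node 17 (17,(Int.ofNat 1)) (.node 16 (16,(Int.ofNat 1)) .nil .nil) (.node 18 (20,(Int.negSucc 0))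 .nil .nil)) (.node 21 (19,(Int.ofNat 1)) (.node 20 (18,(Int.ofNat 1)) .nil .nil) (.node 22 (22,(Int.ofNat 1)) .nil .nil))) (.node 27 (27,(Int.ofNat 1)) (.node 25 (26,(Int.negSucc 0)) (.node 24 (24,(Int.ofNat 1)) .nil .nil) (.node 26 (25,(Int.ofNat 1)) .nil .nil)) (.node 29 (30,(Int.negSucc 0)) (.node 28 (28,(Int.ofNat 1)) .nil .nil) (.node 30 (29,(Int.ofNat 1)) .nil .nil))))) (.node 47 (47,(Int.ofNat 1)) (.node 39 (39,(Int.ofNat 1)) (.node 35 (37,(Int.negSucc 0)) (.node 33 (33,(Int.ofNat 1)) (.node 32 (32,(Int.ofNat 1)) .nil .nil) (.node 34 (36,(Int.negSucc 0)) .nil .nil)) (.node 37 (35,(Int.ofNat 1)) (.node 36 (34,(Int.ofNat 1)) .nil .nil) (.node 38 (38,(Int.ofNat 1)) .nil .nil))) (.node 43 (43,(Int.ofNat 1)) (.node 41 (42,(Int.negSucc 0)) (.node 40 (40,(Int.ofNat 1)) .nil .nil) (.node 42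 (41,(Int.ofNat 1)) .nil .nil)) (.node 45 (46,(Int.negSucc 0)) (.node 44 (44,(Int.ofNat 1)) .nil .nil) (.node 46 (45,(Int.ofNat 1)) .nil .nil)))) (.node 55 (56,(Int.negSucc 0)) (.node 51 (50,(Int.ofNat 1)) (.node 49 (49,(Int.ofNat 1)) (.node 48 (48,(Int.ofNat 1)) .nil .nil) (.node 50 (51,(Int.negSucc 0)) .nil .nil)) (.node 53 (53,(Int.ofNat 1)) (.node 52 (52,(Int.ofNat 1)) .nil .nil) (.node 54 (54,(Int.ofNat 1)) .nil .nil))) (.node 59 (66,(Int.negSucc 0)) (.node 57 (60,(Int.ofNat 1)) (.node 56 (55,(Int.ofNat 1)) .nil .nil) (.node 58 (61,(Int.ofNat 1)) .nil .nil)) (.node 61 (58,(Int.negSucc 0)) (.node 60 (57,(Int.negSucc 0)) .nil .nil) (.node 62 (62,(Int.ofNat 1)) .nil .nil)))))) (.node 95 (96,(Int.ofNat 1)) (.node 79 (80,(Int.ofNat 1)) (.node 71 (71,(Int.ofNat 1)) (.node 67 (64,(Int.ofNat 1))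 (.node 65 (68,(Int.negSucc 0)) (.node 64 (67,(Int.negSucc 0)) .nil .nil) (.node 66 (59,(Int.negSucc 0)) .nil .nil)) (.node 69 (70,(Int.ofNat 1)) (.node 68 (65,(Int.ofNat 1)) .nil .nil) (.node 70 (69,(Int.negSucc 0)) .nil .nil))) (.node 75 (74,(Int.negSucc 0)) (.node 73 (73,(Int.ofNat 1)) (.node 72 (72,(Int.ofNat 1)) .nil .nil) (.node 74 (75,(Int.ofNat 1)) .nil .nil)) (.node 77 (77,(Int.ofNat 1)) (.node 76 (76,(Int.ofNat 1)) .nil .nil) (.node 78 (78,(Int.ofNat 1)) .nil .nil)))) (.node 87 (87,(Int.ofNat 1)) (.node 83 (84,(Int.ofNat 1)) (.node 81 (81,(Int.ofNat 1)) (.node 80 (79,(Int.negSucc 0)) .nil .nil) (.node 82 (82,(Int.ofNat 1)) .nil .nil)) (.node 85 (85,(Int.ofNat 1)) (.node 84 (83,(Int.negSucc 0)) .nil .nil) (.node 86 (86,(Int.ofNat 1)) .nil .nil))) (.node 91 (89,(Int.negSucc 0)) (.node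 89 (91,(Int.ofNat 1)) (.node 88 (90,(Int.ofNat 1)) .nil .nil) (.node 90 (88,(Int.negSucc 0)) .nil .nil)) (.node 93 (93,(Int.ofNat 1)) (.node 92 (92,(Int.ofNat 1)) .nil .nil) (.node 94 (94,(Int.ofNat 1)) .nil .nil))))) (.node 111 (113,(Int.ofNat 1)) (.node 103 (103,(Int.ofNat 1)) (.node 99 (100,(Int.ofNat 1)) (.node 97 (97,(Int.ofNat 1)) (.node 96 (95,(Int.negSucc 0)) .nil .nil) (.node 98 (98,(Int.ofNat 1)) .nil .nil)) (.node 101 (101,(Int.ofNat 1)) (.node 100 (99,(Int.negSucc 0)) .nil .nil) (.node 102 (102,(Int.ofNat 1)) .nil .nil))) (.node 107 (105,(Int.negSucc 0)) (.node 105 (107,(Int.ofNat 1)) (.node 104 (106,(Int.ofNat 1)) .nil .nil) (.node 106 (104,(Int.negSucc 0)) .nil .nil)) (.node 109 (109,(Int.ofNat 1)) (.node 108 (108,(Int.ofNat 1)) .nil .nil) (.node 110 (112,(Int.ofNat 1)) .nil .nil))))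 (.node 119 (119,(Int.ofNat 1)) (.node 115 (115,(Int.ofNat 1)) (.node 113 (111,(Int.negSucc 0)) (.node 112 (110,(Int.negSucc 0)) .nil .nil) (.node 114 (114,(Int.ofNat 1)) .nil .nil)) (.node 117 (118,(Int.ofNat 1)) (.node 116 (116,(Int.ofNat 1)) .nil .nil) (.node 118 (117,(Int.negSucc 0)) .nil .nil))) (.node 123 (123,(Int.ofNat 1)) (.node 121 (122,(Int.ofNat 1)) (.node 120 (120,(Int.ofNat 1)) .nil .nil) (.node 122 (121,(Int.negSucc 0)) .nil .nil)) (.node 125 (125,(Int.ofNat 1)) (.node 124 (124,(Int.ofNat 1)) .nil .nil) .nil))))))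
noncomputable def wc5 : Tr (ℕ × ℤ) := (.node 63 (65,(Int.negSucc 0)) (.node 31 (31,(Int.ofNat 1)) (.node 15 (16,(Int.negSucc 0)) (.node 7 (7,(Int.ofNat 1)) (.node 3 (3,(Int.ofNat 1)) (.node 1 (1,(Int.ofNat 1)) (.node 0 (0,(Int.ofNat 1)) .nil .nil) (.node 2 (2,(Int.ofNat 1)) .nil .nil)) (.node 5 (4,(Int.ofNat 1)) (.node 4 (5,(Int.negSucc 0)) .nil .nil) (.node 6 (6,(Int.ofNat 1)) .nil .nil))) (.node 11 (12,(Int.negSucc 0)) (.node 9 (8,(Int.ofNat 1)) (.node 8 (9,(Int.negSucc 0)) .nil .nil) (.node 10 (10,(Int.ofNat 1)) .nil .nil)) (.node 13 (13,(Int.ofNat 1)) (.node 12 (11,(Int.ofNat 1)) .nil .nil) (.node 14 (14,(Int.ofNat 1)) .nil .nil)))) (.node 23 (23,(Int.ofNat 1)) (.node 19 (19,(Int.ofNat 1)) (.node 17 (18,(Int.negSucc 0)) (.node 16 (15,(Int.ofNat 1)) .nil .nil) (.node 18 (17,(Int.ofNat 1))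 .nil .nil)) (.node 21 (22,(Int.negSucc 0)) (.node 20 (20,(Int.ofNat 1)) .nil .nil) (.node 22 (21,(Int.ofNat 1)) .nil .nil))) (.node 27 (27,(Int.ofNat 1)) (.node 25 (24,(Int.ofNat 1)) (.node 24 (25,(Int.negSucc 0)) .nil .nil) (.node 26 (26,(Int.ofNat 1)) .nil .nil)) (.node 29 (28,(Int.ofNat 1)) (.node 28 (29,(Int.negSucc 0)) .nil .nil) (.node 30 (30,(Int.ofNat 1)) .nil .nil))))) (.node 47 (47,(Int.ofNat 1)) (.node 39 (39,(Int.ofNat 1)) (.node 35 (35,(Int.ofNat 1)) (.node 33 (34,(Int.negSucc 0)) (.node 32 (32,(Int.ofNat 1)) .nil .nil) (.node 34 (33,(Int.ofNat 1)) .nil .nil)) (.node 37 (38,(Int.negSucc 0)) (.node 36 (36,(Int.ofNat 1)) .nil .nil) (.node 38 (37,(Int.ofNat 1)) .nil .nil))) (.node 43 (43,(Int.ofNat 1)) (.node 41 (40,(Int.ofNat 1)) (.node 40 (41,(Int.negSucc 0)) .nil .nil) (.node 42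 (42,(Int.ofNat 1)) .nil .nil)) (.node 45 (44,(Int.ofNat 1)) (.node 44 (45,(Int.negSucc 0)) .nil .nil) (.node 46 (46,(Int.ofNat 1)) .nil .nil)))) (.node 55 (54,(Int.ofNat 1)) (.node 51 (51,(Int.ofNat 1)) (.node 49 (50,(Int.negSucc 0)) (.node 48 (48,(Int.ofNat 1)) .nil .nil) (.node 50 (49,(Int.ofNat 1)) .nil .nil)) (.node 53 (53,(Int.ofNat 1)) (.node 52 (52,(Int.ofNat 1)) .nil .nil) (.node 54 (55,(Int.negSucc 0)) .nil .nil))) (.node 59 (58,(Int.ofNat 1)) (.node 57 (57,(Int.ofNat 1)) (.node 56 (56,(Int.ofNat 1)) .nil .nil) (.node 58 (59,(Int.negSucc 0)) .nil .nil)) (.node 61 (64,(Int.negSucc 0)) (.node 60 (62,(Int.ofNat 1)) .nil .nil) (.node 62 (60,(Int.negSucc 0)) .nil .nil)))))) (.node 95 (95,(Int.ofNat 1)) (.node 79 (79,(Int.ofNat 1)) (.node 71 (70,(Int.negSucc 0)) (.node 67 (66,(Int.negSucc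 0)) (.node 65 (63,(Int.ofNat 1)) (.node 64 (61,(Int.negSucc 0)) .nil .nil) (.node 66 (67,(Int.ofNat 1)) .nil .nil)) (.node 69 (69,(Int.ofNat 1)) (.node 68 (68,(Int.ofNat 1)) .nil .nil) (.node 70 (71,(Int.ofNat 1)) .nil .nil))) (.node 75 (76,(Int.ofNat 1)) (.node 73 (73,(Int.ofNat 1)) (.node 72 (72,(Int.ofNat 1)) .nil .nil) (.node 74 (74,(Int.ofNat 1)) .nil .nil)) (.node 77 (77,(Int.ofNat 1)) (.node 76 (75,(Int.negSucc 0)) .nil .nil) (.node 78 (78,(Int.ofNat 1)) .nil .nil)))) (.node 87 (88,(Int.ofNat 1)) (.node 83 (83,(Int.ofNat 1)) (.node 81 (80,(Int.negSucc 0)) (.node 80 (81,(Int.ofNat 1)) .nil .nil) (.node 82 (82,(Int.ofNat 1)) .nil .nil)) (.node 85 (84,(Int.negSucc 0)) (.node 84 (85,(Int.ofNat 1)) .nil .nil) (.node 86 (86,(Int.ofNat 1)) .nil .nil))) (.node 91 (92,(Int.ofNat 1)) (.node 89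 (89,(Int.ofNat 1)) (.node 88 (87,(Int.negSucc 0)) .nil .nil) (.node 90 (90,(Int.ofNat 1)) .nil .nil)) (.node 93 (93,(Int.ofNat 1)) (.node 92 (91,(Int.negSucc 0)) .nil .nil) (.node 94 (94,(Int.ofNat 1)) .nil .nil))))) (.node 111 (111,(Int.ofNat 1)) (.node 103 (104,(Int.ofNat 1)) (.node 99 (99,(Int.ofNat 1)) (.node 97 (96,(Int.negSucc 0)) (.node 96 (97,(Int.ofNat 1)) .nil .nil) (.node 98 (98,(Int.ofNat 1)) .nil .nil)) (.node 101 (100,(Int.negSucc 0)) (.node 100 (101,(Int.ofNat 1)) .nil .nil) (.node 102 (102,(Int.ofNat 1)) .nil .nil))) (.node 107 (108,(Int.ofNat 1)) (.node 105 (105,(Int.ofNat 1)) (.node 104 (103,(Int.negSucc 0)) .nil .nil) (.node 106 (106,(Int.ofNat 1)) .nil .nil)) (.node 109 (110,(Int.ofNat 1)) (.node 108 (107,(Int.negSucc 0)) .nil .nil) (.node 110 (109,(Int.negSucc 0)) .nil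 .nil)))) (.node 119 (119,(Int.ofNat 1)) (.node 115 (115,(Int.ofNat 1)) (.node 113 (114,(Int.ofNat 1)) (.node 112 (112,(Int.ofNat 1)) .nil .nil) (.node 114 (113,(Int.negSucc 0)) .nil .nil)) (.node 117 (116,(Int.negSucc 0)) (.node 116 (117,(Int.ofNat 1)) .nil .nil) (.node 118 (118,(Int.ofNat 1)) .nil .nil))) (.node 123 (123,(Int.ofNat 1)) (.node 121 (120,(Int.negSucc 0)) (.node 120 (121,(Int.ofNat 1)) .nil .nil) (.node 122 (122,(Int.ofNat 1)) .nil .nil)) (.node 125 (125,(Int.ofNat 1)) (.node 124 (124,(Int.ofNat 1)) .nil .nil) .nil))))))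
noncomputable def wc6 : Tr (ℕ × ℤ) := (.node 63 (62,(Int.negSucc 0)) (.node 31 (31,(Int.ofNat 1)) (.node 15 (14,(Int.ofNat 1)) (.node 7 (7,(Int.ofNat 1)) (.node 3 (3,(Int.ofNat 1)) (.node 1 (1,(Int.ofNat 1)) (.node 0 (0,(Int.ofNat 1)) .nil .nil) (.node 2 (2,(Int.ofNat 1)) .nil .nil)) (.node 5 (6,(Int.negSucc 0)) (.node 4 (4,(Int.ofNat 1)) .nil .nil) (.node 6 (5,(Int.ofNat 1)) .nil .nil))) (.node 11 (11,(Int.ofNat 1)) (.node 9 (10,(Int.negSucc 0)) (.node 8 (8,(Int.ofNat 1)) .nil .nil) (.node 10 (9,(Int.ofNat 1)) .nil .nil)) (.node 13 (12,(Int.ofNat 1)) (.node 12 (13,(Int.negSucc 0)) .nil .nil) (.node 14 (15,(Int.negSucc 0)) .nil .nil)))) (.node 23 (24,(Int.negSucc 0)) (.node 19 (18,(Int.ofNat 1)) (.node 17 (17,(Int.ofNat 1)) (.node 16 (16,(Int.ofNat 1)) .nil .nil) (.node 18 (19,(Int.negSucc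 0)) .nil .nil)) (.node 21 (20,(Int.ofNat 1)) (.node 20 (21,(Int.negSucc 0)) .nil .nil) (.node 22 (22,(Int.ofNat 1)) .nil .nil))) (.node 27 (28,(Int.negSucc 0)) (.node 25 (25,(Int.ofNat 1)) (.node 24 (23,(Int.ofNat 1)) .nil .nil) (.node 26 (26,(Int.ofNat 1)) .nil .nil)) (.node 29 (29,(Int.ofNat 1)) (.node 28 (27,(Int.ofNat 1)) .nil .nil) (.node 30 (30,(Int.ofNat 1)) .nil .nil))))) (.node 47 (47,(Int.ofNat 1)) (.node 39 (40,(Int.negSucc 0)) (.node 35 (34,(Int.ofNat 1)) (.node 33 (33,(Int.ofNat 1)) (.node 32 (32,(Int.ofNat 1)) .nil .nil) (.node 34 (35,(Int.negSucc 0)) .nil .nil)) (.node 37 (36,(Int.ofNat 1)) (.node 36 (37,(Int.negSucc 0)) .nil .nil) (.node 38 (38,(Int.ofNat 1)) .nil .nil))) (.node 43 (44,(Int.negSucc 0)) (.node 41 (41,(Int.ofNat 1)) (.node 40 (39,(Int.ofNat 1)) .nil .nil) (.node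 42 (42,(Int.ofNat 1)) .nil .nil)) (.node 45 (45,(Int.ofNat 1)) (.node 44 (43,(Int.ofNat 1)) .nil .nil) (.node 46 (46,(Int.ofNat 1)) .nil .nil)))) (.node 55 (55,(Int.ofNat 1)) (.node 51 (51,(Int.ofNat 1)) (.node 49 (48,(Int.ofNat 1)) (.node 48 (49,(Int.negSucc 0)) .nil .nil) (.node 50 (50,(Int.ofNat 1)) .nil .nil)) (.node 53 (54,(Int.negSucc 0)) (.node 52 (52,(Int.ofNat 1)) .nil .nil) (.node 54 (53,(Int.ofNat 1)) .nil .nil))) (.node 59 (59,(Int.ofNat 1)) (.node 57 (58,(Int.negSucc 0)) (.node 56 (56,(Int.ofNat 1)) .nil .nil) (.node 58 (57,(Int.ofNat 1)) .nil .nil)) (.node 61 (60,(Int.ofNat 1)) (.node 60 (61,(Int.negSucc 0)) .nil .nil) (.node 62 (63,(Int.negSucc 0)) .nil .nil)))))) (.node 95 (95,(Int.ofNat 1)) (.node 79 (79,(Int.ofNat 1)) (.node 71 (72,(Int.ofNat 1)) (.node 67 (68,(Int.ofNat 1))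 (.node 65 (64,(Int.negSucc 0)) (.node 64 (65,(Int.ofNat 1)) .nil .nil) (.node 66 (66,(Int.ofNat 1)) .nil .nil)) (.node 69 (69,(Int.ofNat 1)) (.node 68 (67,(Int.negSucc 0)) .nil .nil) (.node 70 (70,(Int.ofNat 1)) .nil .nil))) (.node 75 (75,(Int.ofNat 1)) (.node 73 (73,(Int.ofNat 1)) (.node 72 (71,(Int.negSucc 0)) .nil .nil) (.node 74 (74,(Int.ofNat 1)) .nil .nil)) (.node 77 (76,(Int.negSucc 0)) (.node 76 (77,(Int.ofNat 1)) .nil .nil) (.node 78 (78,(Int.ofNat 1)) .nil .nil)))) (.node 87 (87,(Int.ofNat 1)) (.node 83 (83,(Int.ofNat 1)) (.node 81 (82,(Int.ofNat 1)) (.node 80 (80,(Int.ofNat 1)) .nil .nil) (.node 82 (81,(Int.negSucc 0)) .nil .nil)) (.node 85 (86,(Int.ofNat 1)) (.node 84 (84,(Int.ofNat 1)) .nil .nil) (.node 86 (85,(Int.negSucc 0)) .nil .nil))) (.node 91 (90,(Int.negSucc 0)) (.node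 89 (88,(Int.negSucc 0)) (.node 88 (89,(Int.ofNat 1)) .nil .nil) (.node 90 (91,(Int.ofNat 1)) .nil .nil)) (.node 93 (93,(Int.ofNat 1)) (.node 92 (92,(Int.ofNat 1)) .nil .nil) (.node 94 (94,(Int.ofNat 1)) .nil .nil))))) (.node 111 (110,(Int.negSucc 0)) (.node 103 (103,(Int.ofNat 1)) (.node 99 (99,(Int.ofNat 1)) (.node 97 (98,(Int.ofNat 1)) (.node 96 (96,(Int.ofNat 1)) .nil .nil) (.node 98 (97,(Int.negSucc 0)) .nil .nil)) (.node 101 (102,(Int.ofNat 1)) (.node 100 (100,(Int.ofNat 1)) .nil .nil) (.node 102 (101,(Int.negSucc 0)) .nil .nil))) (.node 107 (106,(Int.negSucc 0)) (.node 105 (104,(Int.negSucc 0)) (.node 104 (105,(Int.ofNat 1)) .nil .nil) (.node 106 (107,(Int.ofNat 1)) .nil .nil)) (.node 109 (109,(Int.ofNat 1)) (.node 108 (108,(Int.ofNat 1)) .nil .nil) (.node 110 (111,(Int.ofNat 1)) .nil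 .nil)))) (.node 119 (120,(Int.ofNat 1)) (.node 115 (116,(Int.ofNat 1)) (.node 113 (112,(Int.negSucc 0)) (.node 112 (113,(Int.ofNat 1)) .nil .nil) (.node 114 (114,(Int.ofNat 1)) .nil .nil)) (.node 117 (117,(Int.ofNat 1)) (.node 116 (115,(Int.negSucc 0)) .nil .nil) (.node 118 (118,(Int.ofNat 1)) .nil .nil))) (.node 123 (123,(Int.ofNat 1)) (.node 121 (121,(Int.ofNat 1)) (.node 120 (119,(Int.negSucc 0)) .nil .nil) (.node 122 (122,(Int.ofNat 1)) .nil .nil)) (.node 125 (125,(Int.ofNat 1)) (.node 124 (124,(Int.ofNat 1)) .nil .nil) .nil))))))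
noncomputable def wT : Tr (Tr (ℕ × ℤ)) := (.node 3 wc3 (.node 1 wc1 (.node 0 wc0 .nil .nil) (.node 2 wc2 .nil .nil)) (.node 5 wc5 (.node 4 wc4 .nil .nil) (.node 6 wc6 .nil .nil)))
noncomputable def dT : Tr (ℕ × ℕ) := (.node 63 (10,5) (.node 31 (2,2) (.node 15 (8,5) (.node 7 (13,4) (.node 3 (14,4) (.node 1 (16,2) (.node 0 (17,0) .nil .nil) (.node 2 (15,3) .nil .nil)) (.node 5 (12,6) (.node 4 (13,5) .nil .nil) (.node 6 (11,1) .nil .nil))) (.node 11 (11,5) (.node 9 (11,6) (.node 8 (12,5) .nil .nil) (.node 10 (10,3) .nil .nil)) (.node 13 (9,4) (.node 12 (10,6) .nil .nil) (.node 14 (9,6) .nil .nil)))) (.node 23 (7,6) (.node 19 (8,4) (.node 17 (10,5) (.node 16 (7,2) .nil .nil) (.node 18 (9,6) .nil .nil)) (.node 21 (7,5) (.node 20 (8,6) .nil .nil) (.node 22 (6,3) .nil .nil))) (.node 27 (6,6) (.node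 25 (5,4) (.node 24 (6,5) .nil .nil) (.node 26 (4,1) .nil .nil)) (.node 29 (4,4) (.node 28 (5,5) .nil .nil) (.node 30 (3,3) .nil .nil))))) (.node 47 (7,3) (.node 39 (8,6) (.node 35 (9,4) (.node 33 (11,5) (.node 32 (1,0) .nil .nil) (.node 34 (10,6) .nil .nil)) (.node 37 (8,5) (.node 36 (9,6) .nil .nil) (.node 38 (7,3) .nil .nil))) (.node 43 (9,6) (.node 41 (6,4) (.node 40 (7,5) .nil .nil) (.node 42 (5,1) .nil .nil)) (.node 45 (7,4) (.node 44 (8,5) .nil .nil) (.node 46 (6,2) .nil .nil)))) (.node 55 (6,4) (.node 51 (4,3) (.node 49 (6,5) (.node 48 (7,6) .nil .nil) (.node 50 (5,4) .nil .nil)) (.node 53 (8,6) (.node 52 (3,0) .nil .nil) (.node 54 (7,5) .nil .nil))) (.node 59 (7,3) (.node 57 (9,6) (.node 56 (5,2) .nil .nil) (.node 58 (8,5) .nil .nil)) (.node 61 (9,4) (.node 60 (10,6) .nil .nil) (.node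 62 (11,5) .nil .nil)))))) (.node 95 (2,3) (.node 79 (5,2) (.node 71 (6,5) (.node 67 (7,5) (.node 65 (9,6) (.node 64 (8,4) .nil .nil) (.node 66 (6,3) .nil .nil)) (.node 69 (4,2) (.node 68 (8,6) .nil .nil) (.node 70 (5,4) .nil .nil))) (.node 75 (4,4) (.node 73 (2,0) (.node 72 (7,6) .nil .nil) (.node 74 (3,3) .nil .nil)) (.node 77 (6,6) (.node 76 (5,5) .nil .nil) (.node 78 (6,3) .nil .nil)))) (.node 87 (6,3) (.node 83 (4,1) (.node 81 (7,5) (.node 80 (6,4) .nil .nil) (.node 82 (8,6) .nil .nil)) (.node 85 (6,5) (.node 84 (5,4) .nil .nil) (.node 86 (7,6) .nil .nil))) (.node 91 (9,6) (.node 89 (8,6) (.node 88 (7,5) .nil .nil) (.node 90 (8,4) .nil .nil)) (.node 93 (0,0) (.node 92 (10,5) .nil .nil) (.node 94 (1,2) .nil .nil))))) (.node 111 (8,6) (.node 103 (5,3) (.node 99 (3,1) (.node 97 (4,5) (.node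 96 (3,4) .nil .nil) (.node 98 (5,6) .nil .nil)) (.node 101 (5,5) (.node 100 (4,4) .nil .nil) (.node 102 (6,6) .nil .nil))) (.node 107 (8,6) (.node 105 (7,6) (.node 104 (6,5) .nil .nil) (.node 106 (7,4) .nil .nil)) (.node 109 (6,2) (.node 108 (9,5) .nil .nil) (.node 110 (7,5) .nil .nil)))) (.node 119 (10,1) (.node 115 (9,3) (.node 113 (9,6) (.node 112 (8,4) .nil .nil) (.node 114 (10,5) .nil .nil)) (.node 117 (11,5) (.node 116 (10,6) .nil .nil) (.node 118 (12,4) .nil .nil))) (.node 123 (14,3) (.node 121 (12,5) (.node 120 (11,6) .nil .nil) (.node 122 (13,4) .nil .nil)) (.node 125 (16,0) (.node 124 (15,2) .nil .nil) .nil))))))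

end Cfsg.Agent.Lib.Chevalley.Tbl.E7
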