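import Cfsg.Agent.Lib.Chevalley.Tbl.E7
import Cfsg.Agent.Lib.Chevalley.SysOf

set_option autoImplicit false
set_option maxRecDepth 1000000

namespace Cfsg.Agent.Lib.Chevalley.Tbl.E7
open Cfsg.Lie Cfsg.Agent.Lib.Chevalley.Reflect Cfsg.Agent.Lib.Chevalley.Comm Cfsg.Agent.Lib.Chevalley.Basic Cfsg.Agent.Lib.Chevalley.Extra Cfsg.Agent.Lib.Chevalley.SysOf

noncomputable def ca0 : Tr ℤ := (.node 63 (Int.ofNat 0) (.node 31 (Int.negSucc 0) (.node 15 (Int.ofNat 0) (.node 7 (Int.ofNat 0) (.node 3 (Int.ofNat 0) (.node 1 (Int.ofNat 1) (.node 0 (Int.negSucc 0) .nil .nil) (.node 2 (Int.ofNat 0) .nil .nil)) (.node 5 (Int.ofNat 0) (.node 4 (Int.ofNat 0) .nil .nil) (.node 6 (Int.ofNat 0) .nil .nil))) (.node 11 (Int.ofNat 0) (.node 9 (Int.ofNat 0) (.node 8 (Int.ofNat 0) .nil .nil) (.node 10 (Int.ofNat 0) .nil .nil)) (.node 13 (Int.ofNat 0) (.node 12 (Int.ofNat 0) .nil .nil) (.node 14 (Int.ofNat 0) .nil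 .nil)))) (.node 23 (Int.negSucc 0) (.node 19 (Int.negSucc 0) (.node 17 (Int.negSucc 0) (.node 16 (Int.ofNat 0) .nil .nil) (.node 18 (Int.negSucc 0) .nil .nil)) (.node 21 (Int.negSucc 0) (.node 20 (Int.negSucc 0) .nil .nil) (.node 22 (Int.negSucc 0) .nil .nil))) (.node 27 (Int.negSucc 0) (.node 25 (Int.negSucc 0) (.node 24 (Int.negSucc 0) .nil .nil) (.node 26 (Int.negSucc 0) .nil .nil)) (.node 29 (Int.negSucc 0) (.node 28 (Int.negSucc 0) .nil .nil) (.node 30 (Int.negSucc 0) .nil .nil))))) (.node 47 (Int.ofNat 0) (.node 39 (Int.ofNat 1) (.node 35 (Int.ofNat 1) (.node 33 (Int.ofNat 1) (.node 32 (Int.negSucc 1) .nil .nil) (.node 34 (Int.ofNat 1) .nil .nil)) (.node 37 (Int.ofNat 1) (.node 36 (Int.ofNat 1) .nil .nil) (.node 38 (Int.ofNat 1) .nil .nil))) (.node 43 (Int.ofNat 0) (.node 41 (Int.ofNat 1) (.node 40 (Int.ofNat 1) .nil .nil) (.node 42 (Int.ofNat 1) .nil .nil)) (.node 45 (Int.ofNat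 0) (.node 44 (Int.ofNat 0) .nil .nil) (.node 46 (Int.ofNat 0) .nil .nil)))) (.node 55 (Int.ofNat 0) (.node 51 (Int.ofNat 1) (.node 49 (Int.ofNat 1) (.node 48 (Int.ofNat 1) .nil .nil) (.node 50 (Int.ofNat 1) .nil .nil)) (.node 53 (Int.ofNat 0) (.node 52 (Int.ofNat 1) .nil .nil) (.node 54 (Int.ofNat 0) .nil .nil))) (.node 59 (Int.ofNat 0) (.node 57 (Int.ofNat 0) (.node 56 (Int.ofNat 0) .nil .nil) (.node 58 (Int.ofNat 0) .nil .nil)) (.node 61 (Int.ofNat 0) (.node 60 (Int.ofNat 0) .nil .nil) (.node 62 (Int.ofNat 0) .nil .nil)))))) (.node 95 (Int.ofNat 1) (.node 79 (Int.ofNat 0) (.node 71 (Int.ofNat 0) (.node 67 (Int.ofNat 0) (.node 65 (Int.ofNat 0) (.node 64 (Int.ofNat 0) .nil .nil) (.node 66 (Int.ofNat 0) .nil .nil)) (.node 69 (Int.ofNat 0) (.node 68 (Int.ofNat 0) .nil .nil) (.node 70 (Int.ofNat 0) .nil .nil))) (.node 75 (Int.negSucc 0) (.node 73 (Int.negSucc 0) (.node 72 (Int.ofNat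 0) .nil .nil) (.node 74 (Int.negSucc 0) .nil .nil)) (.node 77 (Int.negSucc 0) (.node 76 (Int.negSucc 0) .nil .nil) (.node 78 (Int.ofNat 0) .nil .nil)))) (.node 87 (Int.negSucc 0) (.node 83 (Int.negSucc 0) (.node 81 (Int.ofNat 0) (.node 80 (Int.ofNat 0) .nil .nil) (.node 82 (Int.ofNat 0) .nil .nil)) (.node 85 (Int.negSucc 0) (.node 84 (Int.negSucc 0) .nil .nil) (.node 86 (Int.negSucc 0) .nil .nil))) (.node 91 (Int.negSucc 0) (.node 89 (Int.negSucc 0) (.node 88 (Int.negSucc 0) .nil .nil) (.node 90 (Int.negSucc 0) .nil .nil)) (.node 93 (Int.ofNat 2) (.node 92 (Int.negSucc 0) .nil .nil) (.node 94 (Int.ofNat 1) .nil .nil))))) (.node 111 (Int.ofNat 0) (.node 103 (Int.ofNat 1) (.node 99 (Int.ofNat 1) (.node 97 (Int.ofNat 1) (.node 96 (Int.ofNat 1) .nil .nil) (.node 98 (Int.ofNat 1) .nil .nil)) (.node 101 (Int.ofNat 1) (.node 100 (Int.ofNat 1) .nil .nil) (.node 102 (Int.ofNat 1) .nil .nil)))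 (.node 107 (Int.ofNat 1) (.node 105 (Int.ofNat 1) (.node 104 (Int.ofNat 1) .nil .nil) (.node 106 (Int.ofNat 1) .nil .nil)) (.node 109 (Int.ofNat 0) (.node 108 (Int.ofNat 1) .nil .nil) (.node 110 (Int.ofNat 0) .nil .nil)))) (.node 119 (Int.ofNat 0) (.node 115 (Int.ofNat 0) (.node 113 (Int.ofNat 0) (.node 112 (Int.ofNat 0) .nil .nil) (.node 114 (Int.ofNat 0) .nil .nil)) (.node 117 (Int.ofNat 0) (.node 116 (Int.ofNat 0) .nil .nil) (.node 118 (Int.ofNat 0) .nil .nil))) (.node 123 (Int.ofNat 0) (.node 121 (Int.ofNat 0) (.node 120 (Int.ofNat 0) .nil .nil) (.node 122 (Int.ofNat 0) .nil .nil)) (.node 125 (Int.ofNat 1) (.node 124 (Int.negSucc 0) .nil .nil) .nil))))))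
noncomputable def ca1 : Tr ℤ := (.node 63 (Int.ofNat 0) (.node 31 (Int.ofNat 0) (.node 15 (Int.ofNat 0) (.node 7 (Int.ofNat 1) (.node 3 (Int.negSucc 0) (.node 1 (Int.ofNat 0) (.node 0 (Int.ofNat 0) .nil .nil) (.node 2 (Int.ofNat 0) .nil .nil)) (.node 5 (Int.negSucc 0) (.node 4 (Int.negSucc 0) .nil .nil) (.node 6 (Int.negSucc 0) .nil .nil))) (.node 11 (Int.ofNat 0) (.node 9 (Int.ofNat 1) (.node 8 (Int.ofNat 1) .nil .nil) (.node 10 (Int.ofNat 1) .nil .nil)) (.node 13 (Int.ofNat 0) (.node 12 (Int.ofNat 0) .nil .nil) (.node 14 (Int.ofNat 0) .nil .nil)))) (.node 23 (Int.negSucc 0) (.node 19 (Int.ofNat 0) (.node 17 (Int.ofNat 0) (.node 16 (Int.ofNat 0) .nil .nil) (.node 18 (Int.ofNat 0) .nil .nil)) (.node 21 (Int.ofNat 0) (.node 20 (Int.ofNat 0) .nil .nil) (.node 22 (Int.ofNat 0) .nil .nil))) (.node 27 (Int.ofNat 1) (.node 25 (Int.negSucc 0) (.node 24 (Int.negSucc 0) .nil .nil) (.node 26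 (Int.negSucc 0) .nil .nil)) (.node 29 (Int.ofNat 1) (.node 28 (Int.ofNat 1) .nil .nil) (.node 30 (Int.ofNat 1) .nil .nil))))) (.node 47 (Int.negSucc 1) (.node 39 (Int.negSucc 0) (.node 35 (Int.ofNat 0) (.node 33 (Int.ofNat 0) (.node 32 (Int.ofNat 0) .nil .nil) (.node 34 (Int.ofNat 0) .nil .nil)) (.node 37 (Int.ofNat 0) (.node 36 (Int.ofNat 0) .nil .nil) (.node 38 (Int.ofNat 0) .nil .nil))) (.node 43 (Int.negSucc 0) (.node 41 (Int.negSucc 0) (.node 40 (Int.negSucc 0) .nil .nil) (.node 42 (Int.negSucc 0) .nil .nil)) (.node 45 (Int.negSucc 0) (.node 44 (Int.negSucc 0) .nil .nil) (.node 46 (Int.negSucc 0) .nil .nil)))) (.node 55 (Int.ofNat 1) (.node 51 (Int.ofNat 1) (.node 49 (Int.ofNat 1) (.node 48 (Int.ofNat 1) .nil .nil) (.node 50 (Int.ofNat 1) .nil .nil)) (.node 53 (Int.ofNat 1) (.node 52 (Int.ofNat 0) .nil .nil) (.node 54 (Int.ofNat 1) .nil .nil))) (.node 59 (Int.ofNat 0) (.node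 57 (Int.ofNat 0) (.node 56 (Int.ofNat 1) .nil .nil) (.node 58 (Int.ofNat 0) .nil .nil)) (.node 61 (Int.ofNat 0) (.node 60 (Int.ofNat 0) .nil .nil) (.node 62 (Int.ofNat 0) .nil .nil)))))) (.node 95 (Int.negSucc 0) (.node 79 (Int.ofNat 1) (.node 71 (Int.negSucc 0) (.node 67 (Int.ofNat 0) (.node 65 (Int.ofNat 0) (.node 64 (Int.ofNat 0) .nil .nil) (.node 66 (Int.ofNat 0) .nil .nil)) (.node 69 (Int.negSucc 0) (.node 68 (Int.ofNat 0) .nil .nil) (.node 70 (Int.negSucc 0) .nil .nil))) (.node 75 (Int.negSucc 0) (.node 73 (Int.ofNat 0) (.node 72 (Int.negSucc 0) .nil .nil) (.node 74 (Int.negSucc 0) .nil .nil)) (.node 77 (Int.negSucc 0) (.node 76 (Int.negSucc 0) .nil .nil) (.node 78 (Int.ofNat 2) .nil .nil)))) (.node 87 (Int.ofNat 0) (.node 83 (Int.ofNat 1) (.node 81 (Int.ofNat 1) (.node 80 (Int.ofNat 1) .nil .nil) (.node 82 (Int.ofNat 1) .nil .nil)) (.node 85 (Int.ofNat 1) (.node 84 (Int.ofNat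 1) .nil .nil) (.node 86 (Int.ofNat 1) .nil .nil))) (.node 91 (Int.ofNat 0) (.node 89 (Int.ofNat 0) (.node 88 (Int.ofNat 0) .nil .nil) (.node 90 (Int.ofNat 0) .nil .nil)) (.node 93 (Int.ofNat 0) (.node 92 (Int.ofNat 0) .nil .nil) (.node 94 (Int.ofNat 0) .nil .nil))))) (.node 111 (Int.ofNat 0) (.node 103 (Int.ofNat 0) (.node 99 (Int.ofNat 1) (.node 97 (Int.negSucc 0) (.node 96 (Int.negSucc 0) .nil .nil) (.node 98 (Int.negSucc 0) .nil .nil)) (.node 101 (Int.ofNat 1) (.node 100 (Int.ofNat 1) .nil .nil) (.node 102 (Int.ofNat 1) .nil .nil))) (.node 107 (Int.ofNat 0) (.node 105 (Int.ofNat 0) (.node 104 (Int.ofNat 0) .nil .nil) (.node 106 (Int.ofNat 0) .nil .nil)) (.node 109 (Int.ofNat 0) (.node 108 (Int.ofNat 0) .nil .nil) (.node 110 (Int.ofNat 0) .nil .nil)))) (.node 119 (Int.ofNat 1) (.node 115 (Int.negSucc 0) (.node 113 (Int.ofNat 0) (.node 112 (Int.ofNat 0) .nil .nil) (.node 114 (Int.ofNat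 0) .nil .nil)) (.node 117 (Int.negSucc 0) (.node 116 (Int.negSucc 0) .nil .nil) (.node 118 (Int.negSucc 0) .nil .nil))) (.node 123 (Int.ofNat 0) (.node 121 (Int.ofNat 1) (.node 120 (Int.ofNat 1) .nil .nil) (.node 122 (Int.ofNat 1) .nil .nil)) (.node 125 (Int.ofNat 0) (.node 124 (Int.ofNat 0) .nil .nil) .nil))))))
noncomputable def ca2 : Tr ℤ := (.node 63 (Int.ofNat 0) (.node 31 (Int.negSucc 0) (.node 15 (Int.negSucc 0) (.node 7 (Int.ofNat 0) (.node 3 (Int.ofNat 0) (.node 1 (Int.negSucc 0) (.node 0 (Int.ofNat 0) .nil .nil) (.node 2 (Int.ofNat 1) .nil .nil)) (.node 5 (Int.ofNat 0) (.node 4 (Int.ofNat 0) .nil .nil) (.node 6 (Int.ofNat 0) .nil .nil))) (.node 11 (Int.negSucc 0) (.node 9 (Int.ofNat 0) (.node 8 (Int.ofNat 0) .nil .nil) (.node 10 (Int.ofNat 0) .nil .nil)) (.node 13 (Int.negSucc 0) (.node 12 (Int.negSucc 0) .nil .nil) (.node 14 (Int.negSucc 0) .nil .nil)))) (.node 23 (Int.ofNat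 0) (.node 19 (Int.ofNat 1) (.node 17 (Int.ofNat 1) (.node 16 (Int.negSucc 0) .nil .nil) (.node 18 (Int.ofNat 1) .nil .nil)) (.node 21 (Int.ofNat 1) (.node 20 (Int.ofNat 1) .nil .nil) (.node 22 (Int.ofNat 1) .nil .nil))) (.node 27 (Int.ofNat 0) (.node 25 (Int.ofNat 0) (.node 24 (Int.ofNat 0) .nil .nil) (.node 26 (Int.ofNat 0) .nil .nil)) (.node 29 (Int.ofNat 0) (.node 28 (Int.ofNat 0) .nil .nil) (.node 30 (Int.ofNat 0) .nil .nil))))) (.node 47 (Int.ofNat 0) (.node 39 (Int.negSucc 0) (.node 35 (Int.ofNat 0) (.node 33 (Int.ofNat 0) (.node 32 (Int.ofNat 1) .nil .nil) (.node 34 (Int.ofNat 0) .nil .nil)) (.node 37 (Int.ofNat 0) (.node 36 (Int.ofNat 0) .nil .nil) (.node 38 (Int.ofNat 0) .nil .nil))) (.node 43 (Int.ofNat 1) (.node 41 (Int.negSucc 0) (.node 40 (Int.negSucc 0) .nil .nil) (.node 42 (Int.negSucc 0) .nil .nil)) (.node 45 (Int.ofNat 1) (.node 44 (Int.ofNat 1) .nil .nil) (.node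 46 (Int.ofNat 1) .nil .nil)))) (.node 55 (Int.ofNat 1) (.node 51 (Int.negSucc 0) (.node 49 (Int.negSucc 0) (.node 48 (Int.negSucc 0) .nil .nil) (.node 50 (Int.negSucc 0) .nil .nil)) (.node 53 (Int.ofNat 1) (.node 52 (Int.negSucc 1) .nil .nil) (.node 54 (Int.ofNat 1) .nil .nil))) (.node 59 (Int.ofNat 0) (.node 57 (Int.ofNat 0) (.node 56 (Int.ofNat 1) .nil .nil) (.node 58 (Int.ofNat 0) .nil .nil)) (.node 61 (Int.ofNat 0) (.node 60 (Int.ofNat 0) .nil .nil) (.node 62 (Int.ofNat 0) .nil .nil)))))) (.node 95 (Int.ofNat 0) (.node 79 (Int.negSucc 0) (.node 71 (Int.negSucc 0) (.node 67 (Int.ofNat 0) (.node 65 (Int.ofNat 0) (.node 64 (Int.ofNat 0) .nil .nil) (.node 66 (Int.ofNat 0) .nil .nil)) (.node 69 (Int.negSucc 0) (.node 68 (Int.ofNat 0) .nil .nil) (.node 70 (Int.negSucc 0) .nil .nil))) (.node 75 (Int.ofNat 1) (.node 73 (Int.ofNat 2) (.node 72 (Int.negSucc 0) .nil .nil) (.node 74 (Int.ofNat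 1) .nil .nil)) (.node 77 (Int.ofNat 1) (.node 76 (Int.ofNat 1) .nil .nil) (.node 78 (Int.ofNat 0) .nil .nil)))) (.node 87 (Int.ofNat 0) (.node 83 (Int.ofNat 1) (.node 81 (Int.negSucc 0) (.node 80 (Int.negSucc 0) .nil .nil) (.node 82 (Int.negSucc 0) .nil .nil)) (.node 85 (Int.ofNat 1) (.node 84 (Int.ofNat 1) .nil .nil) (.node 86 (Int.ofNat 1) .nil .nil))) (.node 91 (Int.ofNat 0) (.node 89 (Int.ofNat 0) (.node 88 (Int.ofNat 0) .nil .nil) (.node 90 (Int.ofNat 0) .nil .nil)) (.node 93 (Int.negSucc 0) (.node 92 (Int.ofNat 0) .nil .nil) (.node 94 (Int.ofNat 1) .nil .nil))))) (.node 111 (Int.ofNat 1) (.node 103 (Int.negSucc 0) (.node 99 (Int.ofNat 0) (.node 97 (Int.ofNat 0) (.node 96 (Int.ofNat 0) .nil .nil) (.node 98 (Int.ofNat 0) .nil .nil)) (.node 101 (Int.ofNat 0) (.node 100 (Int.ofNat 0) .nil .nil) (.node 102 (Int.ofNat 0) .nil .nil))) (.node 107 (Int.negSucc 0) (.node 105 (Int.negSucc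 0) (.node 104 (Int.negSucc 0) .nil .nil) (.node 106 (Int.negSucc 0) .nil .nil)) (.node 109 (Int.ofNat 1) (.node 108 (Int.negSucc 0) .nil .nil) (.node 110 (Int.ofNat 1) .nil .nil)))) (.node 119 (Int.ofNat 0) (.node 115 (Int.ofNat 0) (.node 113 (Int.ofNat 1) (.node 112 (Int.ofNat 1) .nil .nil) (.node 114 (Int.ofNat 1) .nil .nil)) (.node 117 (Int.ofNat 0) (.node 116 (Int.ofNat 0) .nil .nil) (.node 118 (Int.ofNat 0) .nil .nil))) (.node 123 (Int.negSucc 0) (.node 121 (Int.ofNat 0) (.node 120 (Int.ofNat 0) .nil .nil) (.node 122 (Int.ofNat 0) .nil .nil)) (.node 125 (Int.ofNat 0) (.node 124 (Int.ofNat 1) .nil .nil) .nil))))))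
noncomputable def ca3 : Tr ℤ := (.node 63 (Int.ofNat 0) (.node 31 (Int.ofNat 1) (.node 15 (Int.ofNat 0) (.node 7 (Int.ofNat 0) (.node 3 (Int.ofNat 1) (.node 1 (Int.ofNat 0) (.node 0 (Int.ofNat 0) .nil .nil) (.node 2 (Int.negSucc 0) .nil .nil)) (.node 5 (Int.ofNat 0) (.node 4 (Int.ofNat 0) .nil .nil) (.node 6 (Int.ofNat 0) .nil .nil))) (.node 11 (Int.ofNat 1) (.node 9 (Int.negSucc 0) (.node 8 (Int.negSucc 0) .nil .nil) (.node 10 (Int.negSucc 0) .nil .nil)) (.node 13 (Int.ofNat 1) (.node 12 (Int.ofNat 1) .nil .nil) (.node 14 (Int.ofNat 0) .nil .nil)))) (.node 23 (Int.ofNat 1) (.node 19 (Int.ofNat 0) (.node 17 (Int.ofNat 0) (.node 16 (Int.ofNat 0) .nil .nil) (.node 18 (Int.ofNat 0) .nil .nil)) (.node 21 (Int.negSucc 0) (.node 20 (Int.negSucc 0) .nil .nil) (.node 22 (Int.negSucc 0) .nil .nil))) (.node 27 (Int.ofNat 0) (.node 25 (Int.ofNat 1) (.node 24 (Int.ofNat 1) .nil .nil) (.node 26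 (Int.ofNat 0) .nil .nil)) (.node 29 (Int.ofNat 0) (.node 28 (Int.ofNat 0) .nil .nil) (.node 30 (Int.negSucc 0) .nil .nil))))) (.node 47 (Int.ofNat 1) (.node 39 (Int.ofNat 1) (.node 35 (Int.ofNat 0) (.node 33 (Int.ofNat 0) (.node 32 (Int.ofNat 0) .nil .nil) (.node 34 (Int.ofNat 0) .nil .nil)) (.node 37 (Int.negSucc 0) (.node 36 (Int.negSucc 0) .nil .nil) (.node 38 (Int.negSucc 0) .nil .nil))) (.node 43 (Int.ofNat 0) (.node 41 (Int.ofNat 1) (.node 40 (Int.ofNat 1) .nil .nil) (.node 42 (Int.ofNat 0) .nil .nil)) (.node 45 (Int.ofNat 0) (.node 44 (Int.ofNat 0) .nil .nil) (.node 46 (Int.negSucc 0) .nil .nil)))) (.node 55 (Int.negSucc 0) (.node 51 (Int.negSucc 0) (.node 49 (Int.ofNat 0) (.node 48 (Int.ofNat 0) .nil .nil) (.node 50 (Int.ofNat 0) .nil .nil)) (.node 53 (Int.negSucc 0) (.node 52 (Int.ofNat 1) .nil .nil) (.node 54 (Int.negSucc 0) .nil .nil))) (.node 59 (Int.ofNat 1) (.node 57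 (Int.ofNat 1) (.node 56 (Int.negSucc 1) .nil .nil) (.node 58 (Int.ofNat 1) .nil .nil)) (.node 61 (Int.ofNat 0) (.node 60 (Int.ofNat 0) .nil .nil) (.node 62 (Int.ofNat 0) .nil .nil)))))) (.node 95 (Int.ofNat 1) (.node 79 (Int.ofNat 1) (.node 71 (Int.ofNat 1) (.node 67 (Int.negSucc 0) (.node 65 (Int.ofNat 0) (.node 64 (Int.ofNat 0) .nil .nil) (.node 66 (Int.negSucc 0) .nil .nil)) (.node 69 (Int.ofNat 2) (.node 68 (Int.negSucc 0) .nil .nil) (.node 70 (Int.ofNat 1) .nil .nil))) (.node 75 (Int.ofNat 0) (.node 73 (Int.negSucc 0) (.node 72 (Int.ofNat 1) .nil .nil) (.node 74 (Int.ofNat 1) .nil .nil)) (.node 77 (Int.ofNat 0) (.node 76 (Int.ofNat 0) .nil .nil) (.node 78 (Int.negSucc 0) .nil .nil)))) (.node 87 (Int.ofNat 1) (.node 83 (Int.ofNat 0) (.node 81 (Int.ofNat 0) (.node 80 (Int.ofNat 0) .nil .nil) (.node 82 (Int.ofNat 0) .nil .nil)) (.node 85 (Int.negSucc 0) (.node 84 (Int.negSucc 0)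 .nil .nil) (.node 86 (Int.negSucc 0) .nil .nil))) (.node 91 (Int.ofNat 0) (.node 89 (Int.ofNat 1) (.node 88 (Int.ofNat 1) .nil .nil) (.node 90 (Int.ofNat 0) .nil .nil)) (.node 93 (Int.ofNat 0) (.node 92 (Int.ofNat 0) .nil .nil) (.node 94 (Int.negSucc 0) .nil .nil))))) (.node 111 (Int.ofNat 0) (.node 103 (Int.ofNat 1) (.node 99 (Int.ofNat 0) (.node 97 (Int.ofNat 0) (.node 96 (Int.ofNat 0) .nil .nil) (.node 98 (Int.ofNat 0) .nil .nil)) (.node 101 (Int.negSucc 0) (.node 100 (Int.negSucc 0) .nil .nil) (.node 102 (Int.negSucc 0) .nil .nil))) (.node 107 (Int.ofNat 0) (.node 105 (Int.ofNat 1) (.node 104 (Int.ofNat 1) .nil .nil) (.node 106 (Int.ofNat 0) .nil .nil)) (.node 109 (Int.ofNat 0) (.node 108 (Int.ofNat 0) .nil .nil) (.node 110 (Int.ofNat 0) .nil .nil)))) (.node 119 (Int.ofNat 0) (.node 115 (Int.ofNat 1) (.node 113 (Int.negSucc 0) (.node 112 (Int.negSucc 0) .nil .nil) (.node 114 (Int.negSucc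 0) .nil .nil)) (.node 117 (Int.ofNat 1) (.node 116 (Int.ofNat 1) .nil .nil) (.node 118 (Int.ofNat 0) .nil .nil))) (.node 123 (Int.ofNat 1) (.node 121 (Int.ofNat 0) (.node 120 (Int.ofNat 0) .nil .nil) (.node 122 (Int.negSucc 0) .nil .nil)) (.node 125 (Int.ofNat 0) (.node 124 (Int.ofNat 0) .nil .nil) .nil))))))
noncomputable def ca4 : Tr ℤ := (.node 63 (Int.ofNat 0) (.node 31 (Int.ofNat 0) (.node 15 (Int.ofNat 1) (.node 7 (Int.negSucc 0) (.node 3 (Int.negSucc 0) (.node 1 (Int.ofNat 0) (.node 0 (Int.ofNat 0) .nil .nil) (.node 2 (Int.ofNat 0) .nil .nil)) (.node 5 (Int.ofNat 0) (.node 4 (Int.ofNat 1) .nil .nil) (.node 6 (Int.ofNat 0) .nil .nil))) (.node 11 (Int.ofNat 0) (.node 9 (Int.ofNat 0) (.node 8 (Int.ofNat 1) .nil .nil) (.node 10 (Int.ofNat 0) .nil .nil)) (.node 13 (Int.negSucc 0) (.node 12 (Int.negSucc 0) .nil .nil) (.node 14 (Int.ofNat 1) .nil .nil)))) (.node 23 (Int.ofNat 0) (.node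 19 (Int.negSucc 0) (.node 17 (Int.ofNat 0) (.node 16 (Int.ofNat 0) .nil .nil) (.node 18 (Int.negSucc 0) .nil .nil)) (.node 21 (Int.ofNat 1) (.node 20 (Int.ofNat 1) .nil .nil) (.node 22 (Int.ofNat 0) .nil .nil))) (.node 27 (Int.ofNat 0) (.node 25 (Int.negSucc 0) (.node 24 (Int.ofNat 0) .nil .nil) (.node 26 (Int.ofNat 1) .nil .nil)) (.node 29 (Int.negSucc 0) (.node 28 (Int.ofNat 0) .nil .nil) (.node 30 (Int.ofNat 1) .nil .nil))))) (.node 47 (Int.ofNat 0) (.node 39 (Int.ofNat 0) (.node 35 (Int.negSucc 0) (.node 33 (Int.ofNat 0) (.node 32 (Int.ofNat 0) .nil .nil) (.node 34 (Int.negSucc 0) .nil .nil)) (.node 37 (Int.ofNat 1) (.node 36 (Int.ofNat 1) .nil .nil) (.node 38 (Int.ofNat 0) .nil .nil))) (.node 43 (Int.ofNat 0) (.node 41 (Int.negSucc 0) (.node 40 (Int.ofNat 0) .nil .nil) (.node 42 (Int.ofNat 1) .nil .nil)) (.node 45 (Int.negSucc 0) (.node 44 (Int.ofNat 0) .nil .nil) (.node 46 (Int.ofNat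 1) .nil .nil)))) (.node 55 (Int.negSucc 0) (.node 51 (Int.ofNat 1) (.node 49 (Int.ofNat 0) (.node 48 (Int.ofNat 0) .nil .nil) (.node 50 (Int.negSucc 0) .nil .nil)) (.node 53 (Int.ofNat 0) (.node 52 (Int.ofNat 0) .nil .nil) (.node 54 (Int.ofNat 0) .nil .nil))) (.node 59 (Int.negSucc 1) (.node 57 (Int.negSucc 0) (.node 56 (Int.ofNat 1) .nil .nil) (.node 58 (Int.negSucc 0) .nil .nil)) (.node 61 (Int.ofNat 1) (.node 60 (Int.ofNat 1) .nil .nil) (.node 62 (Int.ofNat 0) .nil .nil)))))) (.node 95 (Int.negSucc 0) (.node 79 (Int.negSucc 0) (.node 71 (Int.ofNat 0) (.node 67 (Int.ofNat 1) (.node 65 (Int.negSucc 0) (.node 64 (Int.negSucc 0) .nil .nil) (.node 66 (Int.ofNat 2) .nil .nil)) (.node 69 (Int.negSucc 0) (.node 68 (Int.ofNat 1) .nil .nil) (.node 70 (Int.ofNat 1) .nil .nil))) (.node 75 (Int.ofNat 1) (.node 73 (Int.ofNat 0) (.node 72 (Int.ofNat 0) .nil .nil) (.node 74 (Int.negSucc 0) .nil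 .nil)) (.node 77 (Int.ofNat 0) (.node 76 (Int.ofNat 0) .nil .nil) (.node 78 (Int.ofNat 0) .nil .nil)))) (.node 87 (Int.ofNat 0) (.node 83 (Int.negSucc 0) (.node 81 (Int.ofNat 0) (.node 80 (Int.ofNat 1) .nil .nil) (.node 82 (Int.ofNat 0) .nil .nil)) (.node 85 (Int.ofNat 0) (.node 84 (Int.ofNat 1) .nil .nil) (.node 86 (Int.ofNat 0) .nil .nil))) (.node 91 (Int.ofNat 1) (.node 89 (Int.negSucc 0) (.node 88 (Int.negSucc 0) .nil .nil) (.node 90 (Int.ofNat 1) .nil .nil)) (.node 93 (Int.ofNat 0) (.node 92 (Int.ofNat 0) .nil .nil) (.node 94 (Int.ofNat 0) .nil .nil))))) (.node 111 (Int.negSucc 0) (.node 103 (Int.ofNat 0) (.node 99 (Int.negSucc 0) (.node 97 (Int.ofNat 0) (.node 96 (Int.ofNat 1) .nil .nil) (.node 98 (Int.ofNat 0) .nil .nil)) (.node 101 (Int.ofNat 0) (.node 100 (Int.ofNat 1) .nil .nil) (.node 102 (Int.ofNat 0) .nil .nil))) (.node 107 (Int.ofNat 1) (.node 105 (Int.negSucc 0) (.node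 104 (Int.negSucc 0) .nil .nil) (.node 106 (Int.ofNat 1) .nil .nil)) (.node 109 (Int.ofNat 0) (.node 108 (Int.ofNat 0) .nil .nil) (.node 110 (Int.negSucc 0) .nil .nil)))) (.node 119 (Int.ofNat 0) (.node 115 (Int.ofNat 0) (.node 113 (Int.ofNat 1) (.node 112 (Int.ofNat 1) .nil .nil) (.node 114 (Int.ofNat 0) .nil .nil)) (.node 117 (Int.negSucc 0) (.node 116 (Int.ofNat 0) .nil .nil) (.node 118 (Int.ofNat 1) .nil .nil))) (.node 123 (Int.ofNat 0) (.node 121 (Int.negSucc 0) (.node 120 (Int.ofNat 0) .nil .nil) (.node 122 (Int.ofNat 1) .nil .nil)) (.node 125 (Int.ofNat 0) (.node 124 (Int.ofNat 0) .nil .nil) .nil))))))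
noncomputable def ca5 : Tr ℤ := (.node 63 (Int.negSucc 0) (.node 31 (Int.ofNat 0) (.node 15 (Int.negSucc 0) (.node 7 (Int.ofNat 0) (.node 3 (Int.ofNat 0) (.node 1 (Int.ofNat 0) (.node 0 (Int.ofNat 0) .nil .nil) (.node 2 (Int.ofNat 0) .nil .nil)) (.node 5 (Int.ofNat 1) (.node 4 (Int.negSucc 0) .nil .nil) (.node 6 (Int.ofNat 0) .nil .nil))) (.node 11 (Int.negSucc 0) (.node 9 (Int.ofNat 1) (.node 8 (Int.negSucc 0) .nil .nil) (.node 10 (Int.ofNat 0) .nil .nil)) (.node 13 (Int.ofNat 0) (.node 12 (Int.ofNat 1) .nil .nil) (.node 14 (Int.ofNat 0) .nil .nil)))) (.node 23 (Int.ofNat 0) (.node 19 (Int.ofNat 0) (.node 17 (Int.negSucc 0) (.node 16 (Int.ofNat 1) .nil .nil) (.node 18 (Int.ofNat 1) .nil .nil)) (.node 21 (Int.negSucc 0) (.node 20 (Int.ofNat 0) .nil .nil) (.node 22 (Int.ofNat 1) .nil .nil))) (.node 27 (Int.ofNat 0) (.node 25 (Int.ofNat 1) (.node 24 (Int.negSucc 0) .nil .nil) (.node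 26 (Int.ofNat 0) .nil .nil)) (.node 29 (Int.ofNat 1) (.node 28 (Int.negSucc 0) .nil .nil) (.node 30 (Int.ofNat 0) .nil .nil))))) (.node 47 (Int.ofNat 0) (.node 39 (Int.ofNat 0) (.node 35 (Int.ofNat 0) (.node 33 (Int.negSucc 0) (.node 32 (Int.ofNat 0) .nil .nil) (.node 34 (Int.ofNat 1) .nil .nil)) (.node 37 (Int.negSucc 0) (.node 36 (Int.ofNat 0) .nil .nil) (.node 38 (Int.ofNat 1) .nil .nil))) (.node 43 (Int.ofNat 0) (.node 41 (Int.ofNat 1) (.node 40 (Int.negSucc 0) .nil .nil) (.node 42 (Int.ofNat 0) .nil .nil)) (.node 45 (Int.ofNat 1) (.node 44 (Int.negSucc 0) .nil .nil) (.node 46 (Int.ofNat 0) .nil .nil)))) (.node 55 (Int.ofNat 1) (.node 51 (Int.ofNat 0) (.node 49 (Int.negSucc 0) (.node 48 (Int.ofNat 0) .nil .nil) (.node 50 (Int.ofNat 1) .nil .nil)) (.node 53 (Int.ofNat 0) (.node 52 (Int.ofNat 0) .nil .nil) (.node 54 (Int.negSucc 0) .nil .nil))) (.node 59 (Int.ofNat 1) (.node 57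 (Int.ofNat 0) (.node 56 (Int.ofNat 0) .nil .nil) (.node 58 (Int.negSucc 0) .nil .nil)) (.node 61 (Int.negSucc 1) (.node 60 (Int.negSucc 0) .nil .nil) (.node 62 (Int.ofNat 1) .nil .nil)))))) (.node 95 (Int.ofNat 0) (.node 79 (Int.ofNat 0) (.node 71 (Int.ofNat 1) (.node 67 (Int.ofNat 1) (.node 65 (Int.ofNat 1) (.node 64 (Int.ofNat 2) .nil .nil) (.node 66 (Int.negSucc 0) .nil .nil)) (.node 69 (Int.ofNat 0) (.node 68 (Int.ofNat 0) .nil .nil) (.node 70 (Int.negSucc 0) .nil .nil))) (.node 75 (Int.negSucc 0) (.node 73 (Int.ofNat 0) (.node 72 (Int.ofNat 0) .nil .nil) (.node 74 (Int.ofNat 0) .nil .nil)) (.node 77 (Int.ofNat 0) (.node 76 (Int.ofNat 1) .nil .nil) (.node 78 (Int.ofNat 0) .nil .nil)))) (.node 87 (Int.negSucc 0) (.node 83 (Int.ofNat 0) (.node 81 (Int.ofNat 1) (.node 80 (Int.negSucc 0) .nil .nil) (.node 82 (Int.ofNat 0) .nil .nil)) (.node 85 (Int.ofNat 1) (.node 84 (Int.negSucc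 0) .nil .nil) (.node 86 (Int.ofNat 0) .nil .nil))) (.node 91 (Int.negSucc 0) (.node 89 (Int.ofNat 0) (.node 88 (Int.ofNat 1) .nil .nil) (.node 90 (Int.ofNat 0) .nil .nil)) (.node 93 (Int.ofNat 0) (.node 92 (Int.ofNat 1) .nil .nil) (.node 94 (Int.ofNat 0) .nil .nil))))) (.node 111 (Int.ofNat 0) (.node 103 (Int.negSucc 0) (.node 99 (Int.ofNat 0) (.node 97 (Int.ofNat 1) (.node 96 (Int.negSucc 0) .nil .nil) (.node 98 (Int.ofNat 0) .nil .nil)) (.node 101 (Int.ofNat 1) (.node 100 (Int.negSucc 0) .nil .nil) (.node 102 (Int.ofNat 0) .nil .nil))) (.node 107 (Int.negSucc 0) (.node 105 (Int.ofNat 0) (.node 104 (Int.ofNat 1) .nil .nil) (.node 106 (Int.ofNat 0) .nil .nil)) (.node 109 (Int.negSucc 0) (.node 108 (Int.ofNat 1) .nil .nil) (.node 110 (Int.ofNat 1) .nil .nil)))) (.node 119 (Int.ofNat 0) (.node 115 (Int.ofNat 0) (.node 113 (Int.negSucc 0) (.node 112 (Int.ofNat 0) .nil .nil) (.node 114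 (Int.ofNat 1) .nil .nil)) (.node 117 (Int.ofNat 1) (.node 116 (Int.negSucc 0) .nil .nil) (.node 118 (Int.ofNat 0) .nil .nil))) (.node 123 (Int.ofNat 0) (.node 121 (Int.ofNat 1) (.node 120 (Int.negSucc 0) .nil .nil) (.node 122 (Int.ofNat 0) .nil .nil)) (.node 125 (Int.ofNat 0) (.node 124 (Int.ofNat 0) .nil .nil) .nil))))))
noncomputable def ca6 : Tr ℤ := (.node 63 (Int.ofNat 2) (.node 31 (Int.ofNat 0) (.node 15 (Int.ofNat 1) (.node 7 (Int.ofNat 0) (.node 3 (Int.ofNat 0) (.node 1 (Int.ofNat 0) (.node 0 (Int.ofNat 0) .nil .nil) (.node 2 (Int.ofNat 0) .nil .nil)) (.node 5 (Int.negSucc 0) (.node 4 (Int.ofNat 0) .nil .nil) (.node 6 (Int.ofNat 1) .nil .nil))) (.node 11 (Int.ofNat 0) (.node 9 (Int.negSucc 0) (.node 8 (Int.ofNat 0) .nil .nil) (.node 10 (Int.ofNat 1) .nil .nil)) (.node 13 (Int.ofNat 1) (.node 12 (Int.negSucc 0) .nil .nil) (.node 14 (Int.negSucc 0) .nil .nil)))) (.node 23 (Int.negSucc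 0) (.node 19 (Int.ofNat 1) (.node 17 (Int.ofNat 0) (.node 16 (Int.ofNat 0) .nil .nil) (.node 18 (Int.negSucc 0) .nil .nil)) (.node 21 (Int.ofNat 1) (.node 20 (Int.negSucc 0) .nil .nil) (.node 22 (Int.ofNat 0) .nil .nil))) (.node 27 (Int.negSucc 0) (.node 25 (Int.ofNat 0) (.node 24 (Int.ofNat 1) .nil .nil) (.node 26 (Int.ofNat 0) .nil .nil)) (.node 29 (Int.ofNat 0) (.node 28 (Int.ofNat 1) .nil .nil) (.node 30 (Int.ofNat 0) .nil .nil))))) (.node 47 (Int.ofNat 0) (.node 39 (Int.negSucc 0) (.node 35 (Int.ofNat 1) (.node 33 (Int.ofNat 0) (.node 32 (Int.ofNat 0) .nil .nil) (.node 34 (Int.negSucc 0) .nil .nil)) (.node 37 (Int.ofNat 1) (.node 36 (Int.negSucc 0) .nil .nil) (.node 38 (Int.ofNat 0) .nil .nil))) (.node 43 (Int.negSucc 0) (.node 41 (Int.ofNat 0) (.node 40 (Int.ofNat 1) .nil .nil) (.node 42 (Int.ofNat 0) .nil .nil)) (.node 45 (Int.ofNat 0) (.node 44 (Int.ofNat 1) .nil .nil) (.node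 46 (Int.ofNat 0) .nil .nil)))) (.node 55 (Int.ofNat 0) (.node 51 (Int.ofNat 0) (.node 49 (Int.ofNat 1) (.node 48 (Int.negSucc 0) .nil .nil) (.node 50 (Int.ofNat 0) .nil .nil)) (.node 53 (Int.negSucc 0) (.node 52 (Int.ofNat 0) .nil .nil) (.node 54 (Int.ofNat 1) .nil .nil))) (.node 59 (Int.ofNat 0) (.node 57 (Int.negSucc 0) (.node 56 (Int.ofNat 0) .nil .nil) (.node 58 (Int.ofNat 1) .nil .nil)) (.node 61 (Int.ofNat 1) (.node 60 (Int.negSucc 0) .nil .nil) (.node 62 (Int.negSucc 1) .nil .nil)))))) (.node 95 (Int.ofNat 0) (.node 79 (Int.ofNat 0) (.node 71 (Int.negSucc 0) (.node 67 (Int.negSucc 0) (.node 65 (Int.ofNat 1) (.node 64 (Int.negSucc 0) .nil .nil) (.node 66 (Int.ofNat 0) .nil .nil)) (.node 69 (Int.ofNat 0) (.node 68 (Int.ofNat 1) .nil .nil) (.node 70 (Int.ofNat 0) .nil .nil))) (.node 75 (Int.ofNat 0) (.node 73 (Int.ofNat 0) (.node 72 (Int.ofNat 1) .nil .nil) (.node 74 (Int.ofNat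 0) .nil .nil)) (.node 77 (Int.ofNat 1) (.node 76 (Int.negSucc 0) .nil .nil) (.node 78 (Int.ofNat 0) .nil .nil)))) (.node 87 (Int.ofNat 0) (.node 83 (Int.ofNat 0) (.node 81 (Int.negSucc 0) (.node 80 (Int.ofNat 0) .nil .nil) (.node 82 (Int.ofNat 1) .nil .nil)) (.node 85 (Int.negSucc 0) (.node 84 (Int.ofNat 0) .nil .nil) (.node 86 (Int.ofNat 1) .nil .nil))) (.node 91 (Int.ofNat 1) (.node 89 (Int.ofNat 1) (.node 88 (Int.negSucc 0) .nil .nil) (.node 90 (Int.negSucc 0) .nil .nil)) (.node 93 (Int.ofNat 0) (.node 92 (Int.ofNat 0) .nil .nil) (.node 94 (Int.ofNat 0) .nil .nil))))) (.node 111 (Int.ofNat 1) (.node 103 (Int.ofNat 0) (.node 99 (Int.ofNat 0) (.node 97 (Int.negSucc 0) (.node 96 (Int.ofNat 0) .nil .nil) (.node 98 (Int.ofNat 1) .nil .nil)) (.node 101 (Int.negSucc 0) (.node 100 (Int.ofNat 0) .nil .nil) (.node 102 (Int.ofNat 1) .nil .nil))) (.node 107 (Int.ofNat 1) (.node 105 (Int.ofNat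 1) (.node 104 (Int.negSucc 0) .nil .nil) (.node 106 (Int.negSucc 0) .nil .nil)) (.node 109 (Int.ofNat 0) (.node 108 (Int.ofNat 0) .nil .nil) (.node 110 (Int.negSucc 0) .nil .nil)))) (.node 119 (Int.negSucc 0) (.node 115 (Int.negSucc 0) (.node 113 (Int.ofNat 1) (.node 112 (Int.negSucc 0) .nil .nil) (.node 114 (Int.ofNat 0) .nil .nil)) (.node 117 (Int.ofNat 0) (.node 116 (Int.ofNat 1) .nil .nil) (.node 118 (Int.ofNat 0) .nil .nil))) (.node 123 (Int.ofNat 0) (.node 121 (Int.ofNat 0) (.node 120 (Int.ofNat 1) .nil .nil) (.node 122 (Int.ofNat 0) .nil .nil)) (.node 125 (Int.ofNat 0) (.node 124 (Int.ofNat 0) .nil .nil) .nil))))))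
noncomputable def caT : Tr (Tr ℤ) := (.node 3 ca3 (.node 1 ca1 (.node 0 ca0 .nil .nil) (.node 2 ca2 .nil .nil)) (.node 5 ca5 (.node 4 ca4 .nil .nil) (.node 6 ca6 .nil .nil)))

theorem posneg_check : posNegCheck chevE7 = true := by decide +kernel

theorem shape_check0 : shapeCheck chevE7 nT wT negT 0 = true := by decide +kernel

theorem h_check0 : hCheckI chevE7 cols caT 0 = true := by decide +kernel

theorem shape_check1 : shapeCheck chevE7 nT wT negT 1 = true := by decide +kernel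

theorem h_check1 : hCheckI chevE7 cols caT 1 = true := by decide +kernel

theorem shape_check2 : shapeCheck chevE7 nT wT negT 2 = true := by decide +kernel

theorem h_check2 : hCheckI chevE7 cols caT 2 = true := by decide +kernel

theorem shape_check3 : shapeCheck chevE7 nT wT negT 3 = true := by decide +kernel

theorem h_check3 : hCheckI chevE7 cols caT 3 = true := by decide +kernel

theorem shape_check4 : shapeCheck chevE7 nT wT negT 4 = true := by decide +kernel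

theorem h_check4 : hCheckI chevE7 cols caT 4 = true := by decide +kernel

theorem shape_check5 : shapeCheck chevE7 nT wT negT 5 = true := by decide +kernel

theorem h_check5 : hCheckI chevE7 cols caT 5 = true := by decide +kernel

theorem shape_check6 : shapeCheck chevE7 nT wT negT 6 = true := by decide +kernel

theorem h_check6 : hCheckI chevE7 cols caT 6 = true := by decide +kernel

end Cfsg.Agent.Lib.Chevalley.Tbl.E7
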