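import Cfsg.Agent.Lib.Chevalley.Comm
import Cfsg.Prelude.Def_ChevE8

set_option autoImplicit false
set_option maxRecDepth 1000000

namespace Cfsg.Agent.Lib.Chevalley.Tbl.E8
open Cfsg.Lie Cfsg.Agent.Lib.Chevalley.Reflect Cfsg.Agent.Lib.Chevalley.Comm


noncomputable def col0 : Tr Cl := (.node 207 [⟨36,(Int.negSucc 0),1⟩] (.node 163 [⟨17,(Int.ofNat 1),1⟩] (.node 128 [⟨9,(Int.ofNat 1),1⟩] (.node 4 [⟨8,(Int.ofNat 0),1⟩] (.node 2 [⟨8,(Int.ofNat 0),1⟩] (.node 1 [⟨8,(Int.ofNat 0),1⟩] (.node 0 [⟨8,(Int.ofNat 0),1⟩] .nil .nil) .nil) (.node 3 [⟨8,(Int.ofNat 0),1⟩] .nil .nil)) (.node 6 [⟨8,(Int.ofNat 0),1⟩] (.node 5 [⟨8,(Int.ofNat 0),1⟩] .nil .nil) (.node 7 [⟨8,(Int.ofNat 1),1⟩] .nil .nil))) (.node 142 [⟨13,(Int.ofNat 1),1⟩] (.node 133 [⟨11,(Int.ofNat 1),1⟩] (.node 130 [⟨10,(Int.ofNat 1),1⟩] .nil .nil) (.node 137 [⟨12,(Int.ofNat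 1),1⟩] .nil .nil)) (.node 154 [⟨15,(Int.ofNat 1),1⟩] (.node 148 [⟨14,(Int.ofNat 1),1⟩] .nil .nil) (.node 159 [⟨16,(Int.negSucc 0),1⟩] .nil .nil)))) (.node 190 [⟨26,(Int.ofNat 1),1⟩] (.node 176 [⟨22,(Int.ofNat 1),1⟩] (.node 168 [⟨19,(Int.ofNat 1),1⟩] (.node 166 [⟨18,(Int.negSucc 0),1⟩] .nil .nil) (.node 169 [⟨20,(Int.negSucc 0),1⟩] .nil .nil)) (.node 185 [⟨24,(Int.ofNat 1),1⟩] (.node 181 [⟨23,(Int.negSucc 0),1⟩] .nil .nil) (.node 188 [⟨25,(Int.negSucc 0),1⟩] .nil .nil))) (.node 200 [⟨31,(Int.negSucc 0),1⟩] (.node 195 [⟨29,(Int.negSucc 0),1⟩] (.node 191 [⟨27,(Int.negSucc 0),1⟩] .nil .nil) (.node 198 [⟨30,(Int.ofNat 1),1⟩] .nil .nil)) (.node 204 [⟨34,(Int.negSucc 0),1⟩] (.node 201 [⟨32,(Int.ofNat 1),1⟩] .nil .nil) (.node 206 [⟨35,(Int.ofNat 1),1⟩] .nil .nil))))) (.node 231 [⟨70,(Int.negSucc 0),1⟩] (.node 221 [⟨51,(Int.ofNat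 1),1⟩] (.node 216 [⟨45,(Int.negSucc 0),1⟩] (.node 211 [⟨41,(Int.negSucc 0),1⟩] (.node 210 [⟨39,(Int.ofNat 1),1⟩] (.node 209 [⟨38,(Int.negSucc 0),1⟩] .nil .nil) .nil) (.node 214 [⟨44,(Int.ofNat 1),1⟩] .nil .nil)) (.node 219 [⟨48,(Int.ofNat 1),1⟩] (.node 217 [⟨46,(Int.ofNat 1),1⟩] .nil .nil) (.node 220 [⟨49,(Int.negSucc 0),1⟩] .nil .nil))) (.node 226 [⟨60,(Int.ofNat 1),1⟩] (.node 224 [⟨55,(Int.ofNat 1),1⟩] (.node 223 [⟨54,(Int.negSucc 0),1⟩] .nil .nil) (.node 225 [⟨57,(Int.negSucc 0),1⟩] .nil .nil)) (.node 229 [⟨65,(Int.negSucc 0),1⟩] (.node 228 [⟨64,(Int.ofNat 1),1⟩] .nil .nil) (.node 230 [⟨67,(Int.ofNat 1),1⟩] .nil .nil)))) (.node 240 [⟨101,(Int.negSucc 0),1⟩] (.node 236 [⟨87,(Int.negSucc 0),1⟩] (.node 233 [⟨79,(Int.negSucc 0),1⟩] (.node 232 [⟨74,(Int.ofNat 1),1⟩] .nil .nil) (.node 235 [⟨86,(Int.ofNat 1),1⟩] .nil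 .nil)) (.node 238 [⟨92,(Int.negSucc 0),1⟩] (.node 237 [⟨89,(Int.ofNat 1),1⟩] .nil .nil) (.node 239 [⟨96,(Int.ofNat 1),1⟩] .nil .nil))) (.node 244 [⟨122,(Int.negSucc 0),1⟩] (.node 242 [⟨113,(Int.negSucc 0),1⟩] (.node 241 [⟨107,(Int.negSucc 0),1⟩] .nil .nil) (.node 243 [⟨118,(Int.negSucc 0),1⟩] .nil .nil)) (.node 246 [⟨127,(Int.negSucc 0),1⟩] (.node 245 [⟨125,(Int.negSucc 0),1⟩] .nil .nil) (.node 247 [⟨0,(Int.negSucc 1),1⟩, ⟨1,(Int.negSucc 2),1⟩, ⟨2,(Int.negSucc 3),1⟩, ⟨3,(Int.negSucc 5),1⟩, ⟨4,(Int.negSucc 4),1⟩, ⟨5,(Int.negSucc 3),1⟩, ⟨6,(Int.negSucc 2),1⟩, ⟨7,(Int.negSucc 1),1⟩, ⟨8,(Int.negSucc 0),2⟩] .nil .nil))))))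
noncomputable def col1 : Tr Cl := (.node 207 [⟨37,(Int.negSucc 0),1⟩] (.node 162 [⟨17,(Int.ofNat 1),1⟩] (.node 127 [⟨8,(Int.ofNat 1),1⟩] (.node 4 [⟨9,(Int.ofNat 0),1⟩] (.node 2 [⟨9,(Int.ofNat 0),1⟩] (.node 1 [⟨9,(Int.ofNat 0),1⟩] (.node 0 [⟨9,(Int.ofNat 0),1⟩] .nil .nil) .nil) (.node 3 [⟨9,(Int.ofNat 0),1⟩] .nil .nil)) (.node 6 [⟨9,(Int.ofNat 1),1⟩] (.node 5 [⟨9,(Int.ofNat 0),1⟩] .nil .nil) (.node 7 [⟨9,(Int.negSucc 0),1⟩] .nil .nil))) (.node 141 [⟨13,(Int.ofNat 1),1⟩] (.node 132 [⟨11,(Int.ofNat 1),1⟩] (.node 129 [⟨10,(Int.ofNat 1),1⟩] .nil .nil) (.node 136 [⟨12,(Int.ofNat 1),1⟩] .nil .nil)) (.node 153 [⟨15,(Int.ofNat 1),1⟩] (.node 147 [⟨14,(Int.ofNat 1),1⟩] .nil .nil) (.node 158 [⟨16,(Int.negSucc 0),1⟩] .nil .nil)))) (.node 189 [⟨26,(Int.ofNat 1),1⟩] (.node 175 [⟨22,(Int.ofNat 1),1⟩] (.node 167 [⟨19,(Int.ofNat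 1),1⟩] (.node 165 [⟨18,(Int.negSucc 0),1⟩] .nil .nil) (.node 169 [⟨21,(Int.negSucc 0),1⟩] .nil .nil)) (.node 184 [⟨24,(Int.ofNat 1),1⟩] (.node 180 [⟨23,(Int.negSucc 0),1⟩] .nil .nil) (.node 187 [⟨25,(Int.negSucc 0),1⟩] .nil .nil))) (.node 199 [⟨31,(Int.negSucc 0),1⟩] (.node 194 [⟨29,(Int.negSucc 0),1⟩] (.node 191 [⟨28,(Int.negSucc 0),1⟩] .nil .nil) (.node 197 [⟨30,(Int.ofNat 1),1⟩] .nil .nil)) (.node 203 [⟨34,(Int.negSucc 0),1⟩] (.node 201 [⟨33,(Int.ofNat 1),1⟩] .nil .nil) (.node 205 [⟨35,(Int.ofNat 1),1⟩] .nil .nil))))) (.node 231 [⟨71,(Int.negSucc 0),1⟩] (.node 221 [⟨52,(Int.ofNat 1),1⟩] (.node 215 [⟨45,(Int.negSucc 0),1⟩] (.node 211 [⟨42,(Int.negSucc 0),1⟩] (.node 210 [⟨40,(Int.ofNat 1),1⟩] (.node 208 [⟨38,(Int.negSucc 0),1⟩] .nil .nil) .nil) (.node 213 [⟨44,(Int.ofNat 1),1⟩] .nil .nil)) (.node 218 [⟨48,(Int.ofNat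 1),1⟩] (.node 217 [⟨47,(Int.ofNat 1),1⟩] .nil .nil) (.node 220 [⟨50,(Int.negSucc 0),1⟩] .nil .nil))) (.node 226 [⟨61,(Int.ofNat 1),1⟩] (.node 224 [⟨56,(Int.ofNat 1),1⟩] (.node 222 [⟨54,(Int.negSucc 0),1⟩] .nil .nil) (.node 225 [⟨58,(Int.negSucc 0),1⟩] .nil .nil)) (.node 229 [⟨66,(Int.negSucc 0),1⟩] (.node 227 [⟨64,(Int.ofNat 1),1⟩] .nil .nil) (.node 230 [⟨68,(Int.ofNat 1),1⟩] .nil .nil)))) (.node 240 [⟨102,(Int.negSucc 0),1⟩] (.node 236 [⟨88,(Int.negSucc 0),1⟩] (.node 233 [⟨80,(Int.negSucc 0),1⟩] (.node 232 [⟨75,(Int.ofNat 1),1⟩] .nil .nil) (.node 234 [⟨86,(Int.ofNat 1),1⟩] .nil .nil)) (.node 238 [⟨93,(Int.negSucc 0),1⟩] (.node 237 [⟨90,(Int.ofNat 1),1⟩] .nil .nil) (.node 239 [⟨97,(Int.ofNat 1),1⟩] .nil .nil))) (.node 244 [⟨123,(Int.negSucc 0),1⟩] (.node 242 [⟨114,(Int.negSucc 0),1⟩] (.node 241 [⟨108,(Int.negSucc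 0),1⟩] .nil .nil) (.node 243 [⟨119,(Int.negSucc 0),1⟩] .nil .nil)) (.node 246 [⟨0,(Int.negSucc 1),1⟩, ⟨1,(Int.negSucc 2),1⟩, ⟨2,(Int.negSucc 3),1⟩, ⟨3,(Int.negSucc 5),1⟩, ⟨4,(Int.negSucc 4),1⟩, ⟨5,(Int.negSucc 3),1⟩, ⟨6,(Int.negSucc 2),1⟩, ⟨7,(Int.negSucc 0),1⟩, ⟨9,(Int.negSucc 0),2⟩] (.node 245 [⟨126,(Int.negSucc 0),1⟩] .nil .nil) (.node 247 [⟨128,(Int.negSucc 0),1⟩] .nil .nil))))))
noncomputable def col2 : Tr Cl := (.node 206 [⟨37,(Int.negSucc 0),1⟩] (.node 161 [⟨17,(Int.ofNat 1),1⟩] (.node 125 [⟨8,(Int.ofNat 1),1⟩] (.node 4 [⟨10,(Int.ofNat 0),1⟩] (.node 2 [⟨10,(Int.ofNat 0),1⟩] (.node 1 [⟨10,(Int.ofNat 0),1⟩] (.node 0 [⟨10,(Int.ofNat 0),1⟩] .nil .nil) .nil) (.node 3 [⟨10,(Int.ofNat 0),1⟩] .nil .nil)) (.node 6 [⟨10,(Int.negSucc 0),1⟩] (.node 5 [⟨10,(Int.ofNat 1),1⟩] .nil .nil) (.node 7 [⟨10,(Int.ofNat 0),1⟩]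 .nil .nil))) (.node 140 [⟨13,(Int.ofNat 1),1⟩] (.node 131 [⟨11,(Int.ofNat 1),1⟩] (.node 126 [⟨9,(Int.ofNat 1),1⟩] .nil .nil) (.node 135 [⟨12,(Int.ofNat 1),1⟩] .nil .nil)) (.node 152 [⟨15,(Int.ofNat 1),1⟩] (.node 146 [⟨14,(Int.ofNat 1),1⟩] .nil .nil) (.node 157 [⟨16,(Int.negSucc 0),1⟩] .nil .nil)))) (.node 189 [⟨27,(Int.ofNat 1),1⟩] (.node 174 [⟨22,(Int.ofNat 1),1⟩] (.node 167 [⟨20,(Int.ofNat 1),1⟩] (.node 164 [⟨18,(Int.negSucc 0),1⟩] .nil .nil) (.node 168 [⟨21,(Int.negSucc 0),1⟩] .nil .nil)) (.node 183 [⟨24,(Int.ofNat 1),1⟩] (.node 179 [⟨23,(Int.negSucc 0),1⟩] .nil .nil) (.node 186 [⟨25,(Int.negSucc 0),1⟩] .nil .nil))) (.node 199 [⟨32,(Int.negSucc 0),1⟩] (.node 193 [⟨29,(Int.negSucc 0),1⟩] (.node 190 [⟨28,(Int.negSucc 0),1⟩] .nil .nil) (.node 196 [⟨30,(Int.ofNat 1),1⟩] .nil .nil)) (.node 202 [⟨34,(Int.negSucc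 0),1⟩] (.node 200 [⟨33,(Int.ofNat 1),1⟩] .nil .nil) (.node 205 [⟨36,(Int.ofNat 1),1⟩] .nil .nil))))) (.node 231 [⟨72,(Int.negSucc 0),1⟩] (.node 221 [⟨53,(Int.ofNat 1),1⟩] (.node 215 [⟨46,(Int.negSucc 0),1⟩] (.node 211 [⟨43,(Int.negSucc 0),1⟩] (.node 209 [⟨40,(Int.ofNat 1),1⟩] (.node 208 [⟨39,(Int.negSucc 0),1⟩] .nil .nil) .nil) (.node 212 [⟨44,(Int.ofNat 1),1⟩] .nil .nil)) (.node 218 [⟨49,(Int.ofNat 1),1⟩] (.node 216 [⟨47,(Int.ofNat 1),1⟩] .nil .nil) (.node 219 [⟨50,(Int.negSucc 0),1⟩] .nil .nil))) (.node 226 [⟨62,(Int.ofNat 1),1⟩] (.node 223 [⟨56,(Int.ofNat 1),1⟩] (.node 222 [⟨55,(Int.negSucc 0),1⟩] .nil .nil) (.node 225 [⟨59,(Int.negSucc 0),1⟩] .nil .nil)) (.node 228 [⟨66,(Int.negSucc 0),1⟩] (.node 227 [⟨65,(Int.ofNat 1),1⟩] .nil .nil) (.node 230 [⟨69,(Int.ofNat 1),1⟩] .nil .nil)))) (.node 240 [⟨103,(Int.negSucc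 0),1⟩] (.node 235 [⟨88,(Int.negSucc 0),1⟩] (.node 233 [⟨81,(Int.negSucc 0),1⟩] (.node 232 [⟨76,(Int.ofNat 1),1⟩] .nil .nil) (.node 234 [⟨87,(Int.ofNat 1),1⟩] .nil .nil)) (.node 238 [⟨94,(Int.negSucc 0),1⟩] (.node 237 [⟨91,(Int.ofNat 1),1⟩] .nil .nil) (.node 239 [⟨98,(Int.ofNat 1),1⟩] .nil .nil))) (.node 244 [⟨124,(Int.negSucc 0),1⟩] (.node 242 [⟨115,(Int.negSucc 0),1⟩] (.node 241 [⟨109,(Int.negSucc 0),1⟩] .nil .nil) (.node 243 [⟨120,(Int.negSucc 0),1⟩] .nil .nil)) (.node 246 [⟨129,(Int.negSucc 0),1⟩] (.node 245 [⟨0,(Int.negSucc 1),1⟩, ⟨1,(Int.negSucc 2),1⟩, ⟨2,(Int.negSucc 3),1⟩, ⟨3,(Int.negSucc 5),1⟩, ⟨4,(Int.negSucc 4),1⟩, ⟨5,(Int.negSucc 3),1⟩, ⟨6,(Int.negSucc 1),1⟩, ⟨7,(Int.negSucc 0),1⟩, ⟨10,(Int.negSucc 0),2⟩] .nil .nil) (.node 247 [⟨130,(Int.negSucc 0),1⟩] .nil .nil))))))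
noncomputable def col3 : Tr Cl := (.node 204 [⟨37,(Int.negSucc 0),1⟩] (.node 160 [⟨17,(Int.ofNat 1),1⟩] (.node 122 [⟨8,(Int.ofNat 1),1⟩] (.node 4 [⟨11,(Int.ofNat 1),1⟩] (.node 2 [⟨11,(Int.ofNat 0),1⟩] (.node 1 [⟨11,(Int.ofNat 0),1⟩] (.node 0 [⟨11,(Int.ofNat 0),1⟩] .nil .nil) .nil) (.node 3 [⟨11,(Int.ofNat 0),1⟩] .nil .nil)) (.node 6 [⟨11,(Int.ofNat 0),1⟩] (.node 5 [⟨11,(Int.negSucc 0),1⟩] .nil .nil) (.node 7 [⟨11,(Int.ofNat 0),1⟩] .nil .nil))) (.node 139 [⟨13,(Int.ofNat 1),1⟩] (.node 124 [⟨10,(Int.ofNat 1),1⟩] (.node 123 [⟨9,(Int.ofNat 1),1⟩] .nil .nil) (.node 134 [⟨12,(Int.ofNat 1),1⟩] .nil .nil)) (.node 151 [⟨15,(Int.ofNat 1),1⟩] (.node 145 [⟨14,(Int.ofNat 1),1⟩] .nil .nil) (.node 156 [⟨16,(Int.negSucc 0),1⟩] .nil .nil)))) (.node 187 [⟨27,(Int.ofNat 1),1⟩] (.node 173 [⟨22,(Int.ofNat 1),1⟩] (.node 165 [⟨20,(Int.ofNat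 1),1⟩] (.node 164 [⟨19,(Int.negSucc 0),1⟩] .nil .nil) (.node 166 [⟨21,(Int.negSucc 0),1⟩] .nil .nil)) (.node 182 [⟨24,(Int.ofNat 1),1⟩] (.node 178 [⟨23,(Int.negSucc 0),1⟩] .nil .nil) (.node 186 [⟨26,(Int.negSucc 0),1⟩] .nil .nil))) (.node 197 [⟨32,(Int.negSucc 0),1⟩] (.node 192 [⟨29,(Int.negSucc 0),1⟩] (.node 188 [⟨28,(Int.negSucc 0),1⟩] .nil .nil) (.node 196 [⟨31,(Int.ofNat 1),1⟩] .nil .nil)) (.node 202 [⟨35,(Int.negSucc 0),1⟩] (.node 198 [⟨33,(Int.ofNat 1),1⟩] .nil .nil) (.node 203 [⟨36,(Int.ofNat 1),1⟩] .nil .nil))))) (.node 231 [⟨73,(Int.negSucc 0),1⟩] (.node 220 [⟨53,(Int.ofNat 1),1⟩] (.node 213 [⟨46,(Int.negSucc 0),1⟩] (.node 210 [⟨43,(Int.negSucc 0),1⟩] (.node 209 [⟨42,(Int.ofNat 1),1⟩] (.node 208 [⟨41,(Int.negSucc 0),1⟩] .nil .nil) .nil) (.node 212 [⟨45,(Int.ofNat 1),1⟩] .nil .nil)) (.node 218 [⟨51,(Int.ofNat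 1),1⟩] (.node 214 [⟨47,(Int.ofNat 1),1⟩] .nil .nil) (.node 219 [⟨52,(Int.negSucc 0),1⟩] .nil .nil))) (.node 226 [⟨63,(Int.ofNat 1),1⟩] (.node 223 [⟨58,(Int.ofNat 1),1⟩] (.node 222 [⟨57,(Int.negSucc 0),1⟩] .nil .nil) (.node 224 [⟨59,(Int.negSucc 0),1⟩] .nil .nil)) (.node 228 [⟨68,(Int.negSucc 0),1⟩] (.node 227 [⟨67,(Int.ofNat 1),1⟩] .nil .nil) (.node 229 [⟨69,(Int.ofNat 1),1⟩] .nil .nil)))) (.node 240 [⟨104,(Int.negSucc 0),1⟩] (.node 235 [⟨90,(Int.negSucc 0),1⟩] (.node 233 [⟨82,(Int.negSucc 0),1⟩] (.node 232 [⟨77,(Int.ofNat 1),1⟩] .nil .nil) (.node 234 [⟨89,(Int.ofNat 1),1⟩] .nil .nil)) (.node 238 [⟨95,(Int.negSucc 0),1⟩] (.node 236 [⟨91,(Int.ofNat 1),1⟩] .nil .nil) (.node 239 [⟨99,(Int.ofNat 1),1⟩] .nil .nil))) (.node 244 [⟨0,(Int.negSucc 1),1⟩, ⟨1,(Int.negSucc 2),1⟩, ⟨2,(Int.negSucc 3),1⟩, ⟨3,(Int.negSucc 5),1⟩,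 ⟨4,(Int.negSucc 4),1⟩, ⟨5,(Int.negSucc 2),1⟩, ⟨6,(Int.negSucc 1),1⟩, ⟨7,(Int.negSucc 0),1⟩, ⟨11,(Int.negSucc 0),2⟩] (.node 242 [⟨116,(Int.negSucc 0),1⟩] (.node 241 [⟨110,(Int.negSucc 0),1⟩] .nil .nil) (.node 243 [⟨121,(Int.negSucc 0),1⟩] .nil .nil)) (.node 246 [⟨132,(Int.negSucc 0),1⟩] (.node 245 [⟨131,(Int.negSucc 0),1⟩] .nil .nil) (.node 247 [⟨133,(Int.negSucc 0),1⟩] .nil .nil))))))
noncomputable def col4 : Tr Cl := (.node 204 [⟨40,(Int.negSucc 0),1⟩] (.node 160 [⟨18,(Int.ofNat 1),1⟩] (.node 118 [⟨8,(Int.ofNat 1),1⟩] (.node 4 [⟨12,(Int.negSucc 0),1⟩] (.node 2 [⟨12,(Int.ofNat 0),1⟩] (.node 1 [⟨12,(Int.ofNat 0),1⟩] (.node 0 [⟨12,(Int.ofNat 0),1⟩] .nil .nil) .nil) (.node 3 [⟨12,(Int.ofNat 1),1⟩] .nil .nil)) (.node 6 [⟨12,(Int.ofNat 0),1⟩] (.node 5 [⟨12,(Int.ofNat 0),1⟩] .nil .nil) (.node 7 [⟨12,(Int.ofNat 0),1⟩]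 .nil .nil))) (.node 138 [⟨13,(Int.ofNat 1),1⟩] (.node 120 [⟨10,(Int.ofNat 1),1⟩] (.node 119 [⟨9,(Int.ofNat 1),1⟩] .nil .nil) (.node 121 [⟨11,(Int.ofNat 1),1⟩] .nil .nil)) (.node 150 [⟨15,(Int.ofNat 1),1⟩] (.node 144 [⟨14,(Int.ofNat 1),1⟩] .nil .nil) (.node 155 [⟨16,(Int.negSucc 0),1⟩] .nil .nil)))) (.node 184 [⟨27,(Int.ofNat 1),1⟩] (.node 172 [⟨22,(Int.ofNat 1),1⟩] (.node 162 [⟨20,(Int.ofNat 1),1⟩] (.node 161 [⟨19,(Int.negSucc 0),1⟩] .nil .nil) (.node 163 [⟨21,(Int.negSucc 0),1⟩] .nil .nil)) (.node 182 [⟨25,(Int.ofNat 1),1⟩] (.node 177 [⟨23,(Int.negSucc 0),1⟩] .nil .nil) (.node 183 [⟨26,(Int.negSucc 0),1⟩] .nil .nil))) (.node 194 [⟨32,(Int.negSucc 0),1⟩] (.node 192 [⟨30,(Int.negSucc 0),1⟩] (.node 185 [⟨28,(Int.negSucc 0),1⟩] .nil .nil) (.node 193 [⟨31,(Int.ofNat 1),1⟩] .nil .nil)) (.node 202 [⟨38,(Int.negSucc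 0),1⟩] (.node 195 [⟨33,(Int.ofNat 1),1⟩] .nil .nil) (.node 203 [⟨39,(Int.ofNat 1),1⟩] .nil .nil))))) (.node 230 [⟨73,(Int.negSucc 0),1⟩] (.node 217 [⟨53,(Int.ofNat 1),1⟩] (.node 213 [⟨49,(Int.negSucc 0),1⟩] (.node 207 [⟨43,(Int.negSucc 0),1⟩] (.node 206 [⟨42,(Int.ofNat 1),1⟩] (.node 205 [⟨41,(Int.negSucc 0),1⟩] .nil .nil) .nil) (.node 212 [⟨48,(Int.ofNat 1),1⟩] .nil .nil)) (.node 215 [⟨51,(Int.ofNat 1),1⟩] (.node 214 [⟨50,(Int.ofNat 1),1⟩] .nil .nil) (.node 216 [⟨52,(Int.negSucc 0),1⟩] .nil .nil))) (.node 225 [⟨63,(Int.ofNat 1),1⟩] (.node 223 [⟨61,(Int.ofNat 1),1⟩] (.node 222 [⟨60,(Int.negSucc 0),1⟩] .nil .nil) (.node 224 [⟨62,(Int.negSucc 0),1⟩] .nil .nil)) (.node 228 [⟨71,(Int.negSucc 0),1⟩] (.node 227 [⟨70,(Int.ofNat 1),1⟩] .nil .nil) (.node 229 [⟨72,(Int.ofNat 1),1⟩] .nil .nil)))) (.node 240 [⟨105,(Int.negSucc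 0),1⟩] (.node 235 [⟨93,(Int.negSucc 0),1⟩] (.node 233 [⟨83,(Int.negSucc 0),1⟩] (.node 232 [⟨78,(Int.ofNat 1),1⟩] .nil .nil) (.node 234 [⟨92,(Int.ofNat 1),1⟩] .nil .nil)) (.node 237 [⟨95,(Int.negSucc 0),1⟩] (.node 236 [⟨94,(Int.ofNat 1),1⟩] .nil .nil) (.node 239 [⟨100,(Int.ofNat 1),1⟩] .nil .nil))) (.node 244 [⟨134,(Int.negSucc 0),1⟩] (.node 242 [⟨117,(Int.negSucc 0),1⟩] (.node 241 [⟨111,(Int.negSucc 0),1⟩] .nil .nil) (.node 243 [⟨0,(Int.negSucc 1),1⟩, ⟨1,(Int.negSucc 2),1⟩, ⟨2,(Int.negSucc 3),1⟩, ⟨3,(Int.negSucc 5),1⟩, ⟨4,(Int.negSucc 3),1⟩, ⟨5,(Int.negSucc 2),1⟩, ⟨6,(Int.negSucc 1),1⟩, ⟨7,(Int.negSucc 0),1⟩, ⟨12,(Int.negSucc 0),2⟩] .nil .nil)) (.node 246 [⟨136,(Int.negSucc 0),1⟩] (.node 245 [⟨135,(Int.negSucc 0),1⟩] .nil .nil) (.node 247 [⟨137,(Int.negSucc 0),1⟩] .nil .nil))))))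
noncomputable def col5 : Tr Cl := (.node 198 [⟨40,(Int.negSucc 0),1⟩] (.node 156 [⟨18,(Int.ofNat 1),1⟩] (.node 113 [⟨8,(Int.ofNat 1),1⟩] (.node 4 [⟨13,(Int.ofNat 0),1⟩] (.node 2 [⟨13,(Int.ofNat 1),1⟩] (.node 1 [⟨13,(Int.ofNat 1),1⟩] (.node 0 [⟨13,(Int.ofNat 0),1⟩] .nil .nil) .nil) (.node 3 [⟨13,(Int.negSucc 0),1⟩] .nil .nil)) (.node 6 [⟨13,(Int.ofNat 0),1⟩] (.node 5 [⟨13,(Int.ofNat 0),1⟩] .nil .nil) (.node 7 [⟨13,(Int.ofNat 0),1⟩] .nil .nil))) (.node 117 [⟨12,(Int.ofNat 1),1⟩] (.node 115 [⟨10,(Int.ofNat 1),1⟩] (.node 114 [⟨9,(Int.ofNat 1),1⟩] .nil .nil) (.node 116 [⟨11,(Int.ofNat 1),1⟩] .nil .nil)) (.node 149 [⟨15,(Int.ofNat 1),1⟩] (.node 143 [⟨14,(Int.ofNat 1),1⟩] .nil .nil) (.node 155 [⟨17,(Int.negSucc 0),1⟩] .nil .nil)))) (.node 180 [⟨27,(Int.ofNat 1),1⟩] (.node 171 [⟨22,(Int.ofNat 1),1⟩] (.node 158 [⟨20,(Int.ofNat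 1),1⟩] (.node 157 [⟨19,(Int.negSucc 0),1⟩] .nil .nil) (.node 159 [⟨21,(Int.negSucc 0),1⟩] .nil .nil)) (.node 178 [⟨25,(Int.ofNat 1),1⟩] (.node 177 [⟨24,(Int.negSucc 0),1⟩] .nil .nil) (.node 179 [⟨26,(Int.negSucc 0),1⟩] .nil .nil))) (.node 194 [⟨36,(Int.negSucc 0),1⟩] (.node 192 [⟨34,(Int.negSucc 0),1⟩] (.node 181 [⟨28,(Int.negSucc 0),1⟩] .nil .nil) (.node 193 [⟨35,(Int.ofNat 1),1⟩] .nil .nil)) (.node 196 [⟨38,(Int.negSucc 0),1⟩] (.node 195 [⟨37,(Int.ofNat 1),1⟩] .nil .nil) (.node 197 [⟨39,(Int.ofNat 1),1⟩] .nil .nil))))) (.node 230 [⟨77,(Int.negSucc 0),1⟩] (.node 217 [⟨59,(Int.ofNat 1),1⟩] (.node 213 [⟨55,(Int.negSucc 0),1⟩] (.node 201 [⟨43,(Int.negSucc 0),1⟩] (.node 200 [⟨42,(Int.ofNat 1),1⟩] (.node 199 [⟨41,(Int.negSucc 0),1⟩] .nil .nil) .nil) (.node 212 [⟨54,(Int.ofNat 1),1⟩] .nil .nil)) (.node 215 [⟨57,(Int.ofNat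 1),1⟩] (.node 214 [⟨56,(Int.ofNat 1),1⟩] .nil .nil) (.node 216 [⟨58,(Int.negSucc 0),1⟩] .nil .nil))) (.node 221 [⟨63,(Int.ofNat 1),1⟩] (.node 219 [⟨61,(Int.ofNat 1),1⟩] (.node 218 [⟨60,(Int.negSucc 0),1⟩] .nil .nil) (.node 220 [⟨62,(Int.negSucc 0),1⟩] .nil .nil)) (.node 228 [⟨75,(Int.negSucc 0),1⟩] (.node 227 [⟨74,(Int.ofNat 1),1⟩] .nil .nil) (.node 229 [⟨76,(Int.ofNat 1),1⟩] .nil .nil)))) (.node 240 [⟨106,(Int.negSucc 0),1⟩] (.node 235 [⟨97,(Int.negSucc 0),1⟩] (.node 233 [⟨84,(Int.negSucc 0),1⟩] (.node 231 [⟨78,(Int.ofNat 1),1⟩] .nil .nil) (.node 234 [⟨96,(Int.ofNat 1),1⟩] .nil .nil)) (.node 237 [⟨99,(Int.negSucc 0),1⟩] (.node 236 [⟨98,(Int.ofNat 1),1⟩] .nil .nil) (.node 238 [⟨100,(Int.ofNat 1),1⟩] .nil .nil))) (.node 244 [⟨139,(Int.negSucc 0),1⟩] (.node 242 [⟨0,(Int.negSucc 1),1⟩, ⟨1,(Int.negSucc 2),1⟩, ⟨2,(Int.negSucc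 3),1⟩, ⟨3,(Int.negSucc 4),1⟩, ⟨4,(Int.negSucc 3),1⟩, ⟨5,(Int.negSucc 2),1⟩, ⟨6,(Int.negSucc 1),1⟩, ⟨7,(Int.negSucc 0),1⟩, ⟨13,(Int.negSucc 0),2⟩] (.node 241 [⟨112,(Int.negSucc 0),1⟩] .nil .nil) (.node 243 [⟨138,(Int.negSucc 0),1⟩] .nil .nil)) (.node 246 [⟨141,(Int.negSucc 0),1⟩] (.node 245 [⟨140,(Int.negSucc 0),1⟩] .nil .nil) (.node 247 [⟨142,(Int.negSucc 0),1⟩] .nil .nil))))))
noncomputable def col6 : Tr Cl := (.node 188 [⟨40,(Int.negSucc 0),1⟩] (.node 151 [⟨18,(Int.ofNat 1),1⟩] (.node 107 [⟨8,(Int.ofNat 1),1⟩] (.node 4 [⟨14,(Int.ofNat 0),1⟩] (.node 2 [⟨14,(Int.negSucc 0),1⟩] (.node 1 [⟨14,(Int.ofNat 1),1⟩] (.node 0 [⟨14,(Int.ofNat 1),1⟩] .nil .nil) .nil) (.node 3 [⟨14,(Int.ofNat 0),1⟩] .nil .nil)) (.node 6 [⟨14,(Int.ofNat 0),1⟩] (.node 5 [⟨14,(Int.ofNat 0),1⟩] .nil .nil) (.node 7 [⟨14,(Int.ofNat 0),1⟩] .nil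 .nil))) (.node 111 [⟨12,(Int.ofNat 1),1⟩] (.node 109 [⟨10,(Int.ofNat 1),1⟩] (.node 108 [⟨9,(Int.ofNat 1),1⟩] .nil .nil) (.node 110 [⟨11,(Int.ofNat 1),1⟩] .nil .nil)) (.node 149 [⟨16,(Int.ofNat 1),1⟩] (.node 112 [⟨13,(Int.ofNat 1),1⟩] .nil .nil) (.node 150 [⟨17,(Int.negSucc 0),1⟩] .nil .nil)))) (.node 180 [⟨32,(Int.ofNat 1),1⟩] (.node 170 [⟨22,(Int.ofNat 1),1⟩] (.node 153 [⟨20,(Int.ofNat 1),1⟩] (.node 152 [⟨19,(Int.negSucc 0),1⟩] .nil .nil) (.node 154 [⟨21,(Int.negSucc 0),1⟩] .nil .nil)) (.node 178 [⟨30,(Int.ofNat 1),1⟩] (.node 177 [⟨29,(Int.negSucc 0),1⟩] .nil .nil) (.node 179 [⟨31,(Int.negSucc 0),1⟩] .nil .nil))) (.node 184 [⟨36,(Int.negSucc 0),1⟩] (.node 182 [⟨34,(Int.negSucc 0),1⟩] (.node 181 [⟨33,(Int.negSucc 0),1⟩] .nil .nil) (.node 183 [⟨35,(Int.ofNat 1),1⟩] .nil .nil)) (.node 186 [⟨38,(Int.negSucc 0),1⟩]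 (.node 185 [⟨37,(Int.ofNat 1),1⟩] .nil .nil) (.node 187 [⟨39,(Int.ofNat 1),1⟩] .nil .nil))))) (.node 225 [⟨77,(Int.negSucc 0),1⟩] (.node 217 [⟨69,(Int.ofNat 1),1⟩] (.node 213 [⟨65,(Int.negSucc 0),1⟩] (.node 191 [⟨43,(Int.negSucc 0),1⟩] (.node 190 [⟨42,(Int.ofNat 1),1⟩] (.node 189 [⟨41,(Int.negSucc 0),1⟩] .nil .nil) .nil) (.node 212 [⟨64,(Int.ofNat 1),1⟩] .nil .nil)) (.node 215 [⟨67,(Int.ofNat 1),1⟩] (.node 214 [⟨66,(Int.ofNat 1),1⟩] .nil .nil) (.node 216 [⟨68,(Int.negSucc 0),1⟩] .nil .nil))) (.node 221 [⟨73,(Int.ofNat 1),1⟩] (.node 219 [⟨71,(Int.ofNat 1),1⟩] (.node 218 [⟨70,(Int.negSucc 0),1⟩] .nil .nil) (.node 220 [⟨72,(Int.negSucc 0),1⟩] .nil .nil)) (.node 223 [⟨75,(Int.negSucc 0),1⟩] (.node 222 [⟨74,(Int.ofNat 1),1⟩] .nil .nil) (.node 224 [⟨76,(Int.ofNat 1),1⟩] .nil .nil)))) (.node 239 [⟨106,(Int.negSucc 0),1⟩]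 (.node 235 [⟨102,(Int.negSucc 0),1⟩] (.node 233 [⟨85,(Int.negSucc 0),1⟩] (.node 226 [⟨78,(Int.ofNat 1),1⟩] .nil .nil) (.node 234 [⟨101,(Int.ofNat 1),1⟩] .nil .nil)) (.node 237 [⟨104,(Int.negSucc 0),1⟩] (.node 236 [⟨103,(Int.ofNat 1),1⟩] .nil .nil) (.node 238 [⟨105,(Int.ofNat 1),1⟩] .nil .nil))) (.node 244 [⟨145,(Int.negSucc 0),1⟩] (.node 242 [⟨143,(Int.negSucc 0),1⟩] (.node 241 [⟨0,(Int.negSucc 1),1⟩, ⟨1,(Int.negSucc 2),1⟩, ⟨2,(Int.negSucc 2),1⟩, ⟨3,(Int.negSucc 4),1⟩, ⟨4,(Int.negSucc 3),1⟩, ⟨5,(Int.negSucc 2),1⟩, ⟨6,(Int.negSucc 1),1⟩, ⟨7,(Int.negSucc 0),1⟩, ⟨14,(Int.negSucc 0),2⟩] .nil .nil) (.node 243 [⟨144,(Int.negSucc 0),1⟩] .nil .nil)) (.node 246 [⟨147,(Int.negSucc 0),1⟩] (.node 245 [⟨146,(Int.negSucc 0),1⟩] .nil .nil) (.node 247 [⟨148,(Int.negSucc 0),1⟩] .nil .nil))))))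
noncomputable def col7 : Tr Cl := (.node 198 [⟨50,(Int.negSucc 0),1⟩] (.node 145 [⟨18,(Int.ofNat 1),1⟩] (.node 101 [⟨8,(Int.ofNat 1),1⟩] (.node 4 [⟨15,(Int.ofNat 0),1⟩] (.node 2 [⟨15,(Int.ofNat 1),1⟩] (.node 1 [⟨15,(Int.negSucc 0),1⟩] (.node 0 [⟨15,(Int.ofNat 0),1⟩] .nil .nil) .nil) (.node 3 [⟨15,(Int.ofNat 0),1⟩] .nil .nil)) (.node 6 [⟨15,(Int.ofNat 0),1⟩] (.node 5 [⟨15,(Int.ofNat 0),1⟩] .nil .nil) (.node 7 [⟨15,(Int.ofNat 0),1⟩] .nil .nil))) (.node 105 [⟨12,(Int.ofNat 1),1⟩] (.node 103 [⟨10,(Int.ofNat 1),1⟩] (.node 102 [⟨9,(Int.ofNat 1),1⟩] .nil .nil) (.node 104 [⟨11,(Int.ofNat 1),1⟩] .nil .nil)) (.node 143 [⟨16,(Int.ofNat 1),1⟩] (.node 106 [⟨13,(Int.ofNat 1),1⟩] .nil .nil) (.node 144 [⟨17,(Int.negSucc 0),1⟩] .nil .nil)))) (.node 175 [⟨27,(Int.ofNat 1),1⟩] (.node 171 [⟨23,(Int.ofNat 1),1⟩] (.node 147 [⟨20,(Int.ofNat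 1),1⟩] (.node 146 [⟨19,(Int.negSucc 0),1⟩] .nil .nil) (.node 148 [⟨21,(Int.negSucc 0),1⟩] .nil .nil)) (.node 173 [⟨25,(Int.ofNat 1),1⟩] (.node 172 [⟨24,(Int.negSucc 0),1⟩] .nil .nil) (.node 174 [⟨26,(Int.negSucc 0),1⟩] .nil .nil))) (.node 194 [⟨46,(Int.negSucc 0),1⟩] (.node 192 [⟨44,(Int.negSucc 0),1⟩] (.node 176 [⟨28,(Int.negSucc 0),1⟩] .nil .nil) (.node 193 [⟨45,(Int.ofNat 1),1⟩] .nil .nil)) (.node 196 [⟨48,(Int.negSucc 0),1⟩] (.node 195 [⟨47,(Int.ofNat 1),1⟩] .nil .nil) (.node 197 [⟨49,(Int.ofNat 1),1⟩] .nil .nil))))) (.node 230 [⟨82,(Int.negSucc 0),1⟩] (.node 207 [⟨59,(Int.ofNat 1),1⟩] (.node 203 [⟨55,(Int.negSucc 0),1⟩] (.node 201 [⟨53,(Int.negSucc 0),1⟩] (.node 200 [⟨52,(Int.ofNat 1),1⟩] (.node 199 [⟨51,(Int.negSucc 0),1⟩] .nil .nil) .nil) (.node 202 [⟨54,(Int.ofNat 1),1⟩] .nil .nil)) (.node 205 [⟨57,(Int.ofNat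 1),1⟩] (.node 204 [⟨56,(Int.ofNat 1),1⟩] .nil .nil) (.node 206 [⟨58,(Int.negSucc 0),1⟩] .nil .nil))) (.node 211 [⟨63,(Int.ofNat 1),1⟩] (.node 209 [⟨61,(Int.ofNat 1),1⟩] (.node 208 [⟨60,(Int.negSucc 0),1⟩] .nil .nil) (.node 210 [⟨62,(Int.negSucc 0),1⟩] .nil .nil)) (.node 228 [⟨80,(Int.negSucc 0),1⟩] (.node 227 [⟨79,(Int.ofNat 1),1⟩] .nil .nil) (.node 229 [⟨81,(Int.ofNat 1),1⟩] .nil .nil)))) (.node 239 [⟨112,(Int.negSucc 0),1⟩] (.node 235 [⟨108,(Int.negSucc 0),1⟩] (.node 232 [⟨84,(Int.negSucc 0),1⟩] (.node 231 [⟨83,(Int.ofNat 1),1⟩] .nil .nil) (.node 234 [⟨107,(Int.ofNat 1),1⟩] .nil .nil)) (.node 237 [⟨110,(Int.negSucc 0),1⟩] (.node 236 [⟨109,(Int.ofNat 1),1⟩] .nil .nil) (.node 238 [⟨111,(Int.ofNat 1),1⟩] .nil .nil))) (.node 244 [⟨151,(Int.negSucc 0),1⟩] (.node 242 [⟨149,(Int.negSucc 0),1⟩] (.node 240 [⟨0,(Int.negSucc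 1),1⟩, ⟨1,(Int.negSucc 1),1⟩, ⟨2,(Int.negSucc 3),1⟩, ⟨3,(Int.negSucc 4),1⟩, ⟨4,(Int.negSucc 3),1⟩, ⟨5,(Int.negSucc 2),1⟩, ⟨6,(Int.negSucc 1),1⟩, ⟨7,(Int.negSucc 0),1⟩, ⟨15,(Int.negSucc 0),2⟩] .nil .nil) (.node 243 [⟨150,(Int.negSucc 0),1⟩] .nil .nil)) (.node 246 [⟨153,(Int.negSucc 0),1⟩] (.node 245 [⟨152,(Int.negSucc 0),1⟩] .nil .nil) (.node 247 [⟨154,(Int.negSucc 0),1⟩] .nil .nil))))))
noncomputable def col8 : Tr Cl := (.node 188 [⟨50,(Int.negSucc 0),1⟩] (.node 139 [⟨18,(Int.negSucc 0),1⟩] (.node 96 [⟨8,(Int.negSucc 0),1⟩] (.node 4 [⟨16,(Int.ofNat 0),1⟩] (.node 2 [⟨16,(Int.negSucc 0),1⟩] (.node 1 [⟨16,(Int.negSucc 0),1⟩] (.node 0 [⟨16,(Int.ofNat 1),1⟩] .nil .nil) .nil) (.node 3 [⟨16,(Int.ofNat 1),1⟩] .nil .nil)) (.node 6 [⟨16,(Int.ofNat 0),1⟩] (.node 5 [⟨16,(Int.ofNat 0),1⟩] .nil .nil) (.node 7 [⟨16,(Int.ofNat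 0),1⟩] .nil .nil))) (.node 100 [⟨12,(Int.negSucc 0),1⟩] (.node 98 [⟨10,(Int.negSucc 0),1⟩] (.node 97 [⟨9,(Int.negSucc 0),1⟩] .nil .nil) (.node 99 [⟨11,(Int.negSucc 0),1⟩] .nil .nil)) (.node 112 [⟨15,(Int.ofNat 1),1⟩] (.node 106 [⟨14,(Int.ofNat 1),1⟩] .nil .nil) (.node 138 [⟨17,(Int.ofNat 1),1⟩] .nil .nil)))) (.node 175 [⟨32,(Int.ofNat 1),1⟩] (.node 170 [⟨23,(Int.ofNat 1),1⟩] (.node 141 [⟨20,(Int.negSucc 0),1⟩] (.node 140 [⟨19,(Int.ofNat 1),1⟩] .nil .nil) (.node 142 [⟨21,(Int.ofNat 1),1⟩] .nil .nil)) (.node 173 [⟨30,(Int.ofNat 1),1⟩] (.node 172 [⟨29,(Int.negSucc 0),1⟩] .nil .nil) (.node 174 [⟨31,(Int.negSucc 0),1⟩] .nil .nil))) (.node 184 [⟨46,(Int.negSucc 0),1⟩] (.node 182 [⟨44,(Int.negSucc 0),1⟩] (.node 176 [⟨33,(Int.negSucc 0),1⟩] .nil .nil) (.node 183 [⟨45,(Int.ofNat 1),1⟩] .nil .nil)) (.node 186 [⟨48,(Int.negSucc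 0),1⟩] (.node 185 [⟨47,(Int.ofNat 1),1⟩] .nil .nil) (.node 187 [⟨49,(Int.ofNat 1),1⟩] .nil .nil))))) (.node 225 [⟨82,(Int.negSucc 0),1⟩] (.node 207 [⟨69,(Int.ofNat 1),1⟩] (.node 203 [⟨65,(Int.negSucc 0),1⟩] (.node 191 [⟨53,(Int.negSucc 0),1⟩] (.node 190 [⟨52,(Int.ofNat 1),1⟩] (.node 189 [⟨51,(Int.negSucc 0),1⟩] .nil .nil) .nil) (.node 202 [⟨64,(Int.ofNat 1),1⟩] .nil .nil)) (.node 205 [⟨67,(Int.ofNat 1),1⟩] (.node 204 [⟨66,(Int.ofNat 1),1⟩] .nil .nil) (.node 206 [⟨68,(Int.negSucc 0),1⟩] .nil .nil))) (.node 211 [⟨73,(Int.ofNat 1),1⟩] (.node 209 [⟨71,(Int.ofNat 1),1⟩] (.node 208 [⟨70,(Int.negSucc 0),1⟩] .nil .nil) (.node 210 [⟨72,(Int.negSucc 0),1⟩] .nil .nil)) (.node 223 [⟨80,(Int.negSucc 0),1⟩] (.node 222 [⟨79,(Int.ofNat 1),1⟩] .nil .nil) (.node 224 [⟨81,(Int.ofNat 1),1⟩] .nil .nil)))) (.node 239 [⟨0,(Int.negSucc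 1),1⟩, ⟨1,(Int.negSucc 1),1⟩, ⟨2,(Int.negSucc 2),1⟩, ⟨3,(Int.negSucc 4),1⟩, ⟨4,(Int.negSucc 3),1⟩, ⟨5,(Int.negSucc 2),1⟩, ⟨6,(Int.negSucc 1),1⟩, ⟨7,(Int.negSucc 0),1⟩, ⟨16,(Int.negSucc 0),2⟩] (.node 235 [⟨114,(Int.ofNat 1),1⟩] (.node 232 [⟨85,(Int.negSucc 0),1⟩] (.node 226 [⟨83,(Int.ofNat 1),1⟩] .nil .nil) (.node 234 [⟨113,(Int.negSucc 0),1⟩] .nil .nil)) (.node 237 [⟨116,(Int.ofNat 1),1⟩] (.node 236 [⟨115,(Int.negSucc 0),1⟩] .nil .nil) (.node 238 [⟨117,(Int.negSucc 0),1⟩] .nil .nil))) (.node 244 [⟨156,(Int.ofNat 1),1⟩] (.node 241 [⟨149,(Int.negSucc 0),1⟩] (.node 240 [⟨143,(Int.negSucc 0),1⟩] .nil .nil) (.node 243 [⟨155,(Int.ofNat 1),1⟩] .nil .nil)) (.node 246 [⟨158,(Int.ofNat 1),1⟩] (.node 245 [⟨157,(Int.ofNat 1),1⟩] .nil .nil) (.node 247 [⟨159,(Int.ofNat 1),1⟩] .nil .nil))))))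
noncomputable def col9 : Tr Cl := (.node 188 [⟨56,(Int.negSucc 0),1⟩] (.node 134 [⟨18,(Int.ofNat 1),1⟩] (.node 92 [⟨8,(Int.ofNat 1),1⟩] (.node 4 [⟨17,(Int.ofNat 1),1⟩] (.node 2 [⟨17,(Int.ofNat 0),1⟩] (.node 1 [⟨17,(Int.ofNat 0),1⟩] (.node 0 [⟨17,(Int.ofNat 1),1⟩] .nil .nil) .nil) (.node 3 [⟨17,(Int.negSucc 0),1⟩] .nil .nil)) (.node 6 [⟨17,(Int.ofNat 0),1⟩] (.node 5 [⟨17,(Int.ofNat 0),1⟩] .nil .nil) (.node 7 [⟨17,(Int.ofNat 0),1⟩] .nil .nil))) (.node 100 [⟨13,(Int.negSucc 0),1⟩] (.node 94 [⟨10,(Int.ofNat 1),1⟩] (.node 93 [⟨9,(Int.ofNat 1),1⟩] .nil .nil) (.node 95 [⟨11,(Int.ofNat 1),1⟩] .nil .nil)) (.node 111 [⟨15,(Int.negSucc 0),1⟩] (.node 105 [⟨14,(Int.negSucc 0),1⟩] .nil .nil) (.node 117 [⟨16,(Int.ofNat 1),1⟩] .nil .nil)))) (.node 175 [⟨36,(Int.ofNat 1),1⟩] (.node 170 [⟨24,(Int.ofNat 1),1⟩] (.node 136 [⟨20,(Int.ofNat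 1),1⟩] (.node 135 [⟨19,(Int.negSucc 0),1⟩] .nil .nil) (.node 137 [⟨21,(Int.negSucc 0),1⟩] .nil .nil)) (.node 173 [⟨34,(Int.ofNat 1),1⟩] (.node 171 [⟨29,(Int.negSucc 0),1⟩] .nil .nil) (.node 174 [⟨35,(Int.negSucc 0),1⟩] .nil .nil))) (.node 180 [⟨46,(Int.negSucc 0),1⟩] (.node 178 [⟨44,(Int.negSucc 0),1⟩] (.node 176 [⟨37,(Int.negSucc 0),1⟩] .nil .nil) (.node 179 [⟨45,(Int.ofNat 1),1⟩] .nil .nil)) (.node 186 [⟨54,(Int.negSucc 0),1⟩] (.node 181 [⟨47,(Int.ofNat 1),1⟩] .nil .nil) (.node 187 [⟨55,(Int.ofNat 1),1⟩] .nil .nil))))) (.node 221 [⟨82,(Int.negSucc 0),1⟩] (.node 201 [⟨69,(Int.ofNat 1),1⟩] (.node 197 [⟨65,(Int.negSucc 0),1⟩] (.node 191 [⟨59,(Int.negSucc 0),1⟩] (.node 190 [⟨58,(Int.ofNat 1),1⟩] (.node 189 [⟨57,(Int.negSucc 0),1⟩] .nil .nil) .nil) (.node 196 [⟨64,(Int.ofNat 1),1⟩] .nil .nil)) (.node 199 [⟨67,(Int.ofNat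 1),1⟩] (.node 198 [⟨66,(Int.ofNat 1),1⟩] .nil .nil) (.node 200 [⟨68,(Int.negSucc 0),1⟩] .nil .nil))) (.node 211 [⟨77,(Int.ofNat 1),1⟩] (.node 209 [⟨75,(Int.ofNat 1),1⟩] (.node 208 [⟨74,(Int.negSucc 0),1⟩] .nil .nil) (.node 210 [⟨76,(Int.negSucc 0),1⟩] .nil .nil)) (.node 219 [⟨80,(Int.negSucc 0),1⟩] (.node 218 [⟨79,(Int.ofNat 1),1⟩] .nil .nil) (.node 220 [⟨81,(Int.ofNat 1),1⟩] .nil .nil)))) (.node 239 [⟨138,(Int.negSucc 0),1⟩] (.node 235 [⟨119,(Int.negSucc 0),1⟩] (.node 231 [⟨85,(Int.negSucc 0),1⟩] (.node 226 [⟨84,(Int.ofNat 1),1⟩] .nil .nil) (.node 234 [⟨118,(Int.ofNat 1),1⟩] .nil .nil)) (.node 237 [⟨121,(Int.negSucc 0),1⟩] (.node 236 [⟨120,(Int.ofNat 1),1⟩] .nil .nil) (.node 238 [⟨0,(Int.negSucc 1),1⟩, ⟨1,(Int.negSucc 1),1⟩, ⟨2,(Int.negSucc 2),1⟩, ⟨3,(Int.negSucc 3),1⟩, ⟨4,(Int.negSucc 3),1⟩, ⟨5,(Int.negSucc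 2),1⟩, ⟨6,(Int.negSucc 1),1⟩, ⟨7,(Int.negSucc 0),1⟩, ⟨17,(Int.negSucc 0),2⟩] .nil .nil))) (.node 244 [⟨160,(Int.negSucc 0),1⟩] (.node 241 [⟨150,(Int.ofNat 1),1⟩] (.node 240 [⟨144,(Int.ofNat 1),1⟩] .nil .nil) (.node 242 [⟨155,(Int.ofNat 1),1⟩] .nil .nil)) (.node 246 [⟨162,(Int.negSucc 0),1⟩] (.node 245 [⟨161,(Int.negSucc 0),1⟩] .nil .nil) (.node 247 [⟨163,(Int.negSucc 0),1⟩] .nil .nil))))))
noncomputable def col10 : Tr Cl := (.node 185 [⟨56,(Int.negSucc 0),1⟩] (.node 121 [⟨17,(Int.ofNat 1),1⟩] (.node 89 [⟨8,(Int.negSucc 0),1⟩] (.node 4 [⟨18,(Int.negSucc 0),1⟩] (.node 2 [⟨18,(Int.ofNat 0),1⟩] (.node 1 [⟨18,(Int.ofNat 0),1⟩] (.node 0 [⟨18,(Int.ofNat 1),1⟩] .nil .nil) .nil) (.node 3 [⟨18,(Int.ofNat 0),1⟩] .nil .nil)) (.node 6 [⟨18,(Int.ofNat 0),1⟩] (.node 5 [⟨18,(Int.ofNat 1),1⟩] .nil .nil) (.node 7 [⟨18,(Int.ofNat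 0),1⟩] .nil .nil))) (.node 99 [⟨13,(Int.ofNat 1),1⟩] (.node 91 [⟨10,(Int.negSucc 0),1⟩] (.node 90 [⟨9,(Int.negSucc 0),1⟩] .nil .nil) (.node 95 [⟨12,(Int.ofNat 1),1⟩] .nil .nil)) (.node 110 [⟨15,(Int.ofNat 1),1⟩] (.node 104 [⟨14,(Int.ofNat 1),1⟩] .nil .nil) (.node 116 [⟨16,(Int.negSucc 0),1⟩] .nil .nil)))) (.node 175 [⟨39,(Int.ofNat 1),1⟩] (.node 170 [⟨25,(Int.ofNat 1),1⟩] (.node 132 [⟨20,(Int.negSucc 0),1⟩] (.node 131 [⟨19,(Int.ofNat 1),1⟩] .nil .nil) (.node 133 [⟨21,(Int.ofNat 1),1⟩] .nil .nil)) (.node 172 [⟨34,(Int.ofNat 1),1⟩] (.node 171 [⟨30,(Int.negSucc 0),1⟩] .nil .nil) (.node 174 [⟨38,(Int.negSucc 0),1⟩] .nil .nil))) (.node 180 [⟨49,(Int.negSucc 0),1⟩] (.node 177 [⟨44,(Int.negSucc 0),1⟩] (.node 176 [⟨40,(Int.negSucc 0),1⟩] .nil .nil) (.node 179 [⟨48,(Int.ofNat 1),1⟩] .nil .nil)) (.node 183 [⟨54,(Int.negSucc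 0),1⟩] (.node 181 [⟨50,(Int.ofNat 1),1⟩] .nil .nil) (.node 184 [⟨55,(Int.ofNat 1),1⟩] .nil .nil))))) (.node 221 [⟨83,(Int.negSucc 0),1⟩] (.node 201 [⟨72,(Int.ofNat 1),1⟩] (.node 194 [⟨65,(Int.negSucc 0),1⟩] (.node 191 [⟨62,(Int.negSucc 0),1⟩] (.node 190 [⟨61,(Int.ofNat 1),1⟩] (.node 189 [⟨60,(Int.negSucc 0),1⟩] .nil .nil) .nil) (.node 193 [⟨64,(Int.ofNat 1),1⟩] .nil .nil)) (.node 199 [⟨70,(Int.ofNat 1),1⟩] (.node 195 [⟨66,(Int.ofNat 1),1⟩] .nil .nil) (.node 200 [⟨71,(Int.negSucc 0),1⟩] .nil .nil))) (.node 211 [⟨78,(Int.ofNat 1),1⟩] (.node 206 [⟨75,(Int.ofNat 1),1⟩] (.node 205 [⟨74,(Int.negSucc 0),1⟩] .nil .nil) (.node 207 [⟨76,(Int.negSucc 0),1⟩] .nil .nil)) (.node 216 [⟨80,(Int.negSucc 0),1⟩] (.node 215 [⟨79,(Int.ofNat 1),1⟩] .nil .nil) (.node 217 [⟨81,(Int.ofNat 1),1⟩] .nil .nil)))) (.node 239 [⟨139,(Int.ofNat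 1),1⟩] (.node 235 [⟨123,(Int.ofNat 1),1⟩] (.node 230 [⟨85,(Int.negSucc 0),1⟩] (.node 225 [⟨84,(Int.ofNat 1),1⟩] .nil .nil) (.node 234 [⟨122,(Int.negSucc 0),1⟩] .nil .nil)) (.node 237 [⟨0,(Int.negSucc 1),1⟩, ⟨1,(Int.negSucc 1),1⟩, ⟨2,(Int.negSucc 2),1⟩, ⟨3,(Int.negSucc 3),1⟩, ⟨4,(Int.negSucc 2),1⟩, ⟨5,(Int.negSucc 2),1⟩, ⟨6,(Int.negSucc 1),1⟩, ⟨7,(Int.negSucc 0),1⟩, ⟨18,(Int.negSucc 0),2⟩] (.node 236 [⟨124,(Int.negSucc 0),1⟩] .nil .nil) (.node 238 [⟨134,(Int.negSucc 0),1⟩] .nil .nil))) (.node 243 [⟨160,(Int.negSucc 0),1⟩] (.node 241 [⟨151,(Int.negSucc 0),1⟩] (.node 240 [⟨145,(Int.negSucc 0),1⟩] .nil .nil) (.node 242 [⟨156,(Int.negSucc 0),1⟩] .nil .nil)) (.node 246 [⟨165,(Int.ofNat 1),1⟩] (.node 245 [⟨164,(Int.ofNat 1),1⟩] .nil .nil) (.node 247 [⟨166,(Int.ofNat 1),1⟩] .nil .nil))))))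
noncomputable def col11 : Tr Cl := (.node 185 [⟨58,(Int.negSucc 0),1⟩] (.node 120 [⟨17,(Int.negSucc 0),1⟩] (.node 87 [⟨8,(Int.ofNat 1),1⟩] (.node 4 [⟨19,(Int.ofNat 0),1⟩] (.node 2 [⟨19,(Int.ofNat 0),1⟩] (.node 1 [⟨19,(Int.ofNat 0),1⟩] (.node 0 [⟨19,(Int.ofNat 1),1⟩] .nil .nil) .nil) (.node 3 [⟨19,(Int.ofNat 0),1⟩] .nil .nil)) (.node 6 [⟨19,(Int.ofNat 1),1⟩] (.node 5 [⟨19,(Int.negSucc 0),1⟩] .nil .nil) (.node 7 [⟨19,(Int.ofNat 0),1⟩] .nil .nil))) (.node 98 [⟨13,(Int.negSucc 0),1⟩] (.node 91 [⟨11,(Int.negSucc 0),1⟩] (.node 88 [⟨9,(Int.ofNat 1),1⟩] .nil .nil) (.node 94 [⟨12,(Int.negSucc 0),1⟩] .nil .nil)) (.node 109 [⟨15,(Int.negSucc 0),1⟩] (.node 103 [⟨14,(Int.negSucc 0),1⟩] .nil .nil) (.node 115 [⟨16,(Int.ofNat 1),1⟩] .nil .nil)))) (.node 175 [⟨41,(Int.ofNat 1),1⟩] (.node 170 [⟨26,(Int.ofNat 1),1⟩] (.node 129 [⟨20,(Int.ofNat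 1),1⟩] (.node 124 [⟨18,(Int.ofNat 1),1⟩] .nil .nil) (.node 130 [⟨21,(Int.negSucc 0),1⟩] .nil .nil)) (.node 172 [⟨35,(Int.ofNat 1),1⟩] (.node 171 [⟨31,(Int.negSucc 0),1⟩] .nil .nil) (.node 173 [⟨38,(Int.negSucc 0),1⟩] .nil .nil))) (.node 180 [⟨51,(Int.negSucc 0),1⟩] (.node 177 [⟨45,(Int.negSucc 0),1⟩] (.node 176 [⟨42,(Int.negSucc 0),1⟩] .nil .nil) (.node 178 [⟨48,(Int.ofNat 1),1⟩] .nil .nil)) (.node 182 [⟨54,(Int.negSucc 0),1⟩] (.node 181 [⟨52,(Int.ofNat 1),1⟩] .nil .nil) (.node 184 [⟨57,(Int.ofNat 1),1⟩] .nil .nil))))) (.node 220 [⟨83,(Int.negSucc 0),1⟩] (.node 201 [⟨73,(Int.ofNat 1),1⟩] (.node 194 [⟨67,(Int.negSucc 0),1⟩] (.node 191 [⟨63,(Int.negSucc 0),1⟩] (.node 188 [⟨61,(Int.ofNat 1),1⟩] (.node 187 [⟨60,(Int.negSucc 0),1⟩] .nil .nil) .nil) (.node 192 [⟨64,(Int.ofNat 1),1⟩] .nil .nil)) (.node 197 [⟨70,(Int.ofNat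 1),1⟩] (.node 195 [⟨68,(Int.ofNat 1),1⟩] .nil .nil) (.node 198 [⟨71,(Int.negSucc 0),1⟩] .nil .nil))) (.node 210 [⟨78,(Int.ofNat 1),1⟩] (.node 204 [⟨75,(Int.ofNat 1),1⟩] (.node 203 [⟨74,(Int.negSucc 0),1⟩] .nil .nil) (.node 207 [⟨77,(Int.negSucc 0),1⟩] .nil .nil)) (.node 214 [⟨80,(Int.negSucc 0),1⟩] (.node 213 [⟨79,(Int.ofNat 1),1⟩] .nil .nil) (.node 217 [⟨82,(Int.ofNat 1),1⟩] .nil .nil)))) (.node 239 [⟨140,(Int.negSucc 0),1⟩] (.node 235 [⟨126,(Int.negSucc 0),1⟩] (.node 229 [⟨85,(Int.negSucc 0),1⟩] (.node 224 [⟨84,(Int.ofNat 1),1⟩] .nil .nil) (.node 234 [⟨125,(Int.ofNat 1),1⟩] .nil .nil)) (.node 237 [⟨131,(Int.negSucc 0),1⟩] (.node 236 [⟨0,(Int.negSucc 1),1⟩, ⟨1,(Int.negSucc 1),1⟩, ⟨2,(Int.negSucc 2),1⟩, ⟨3,(Int.negSucc 3),1⟩, ⟨4,(Int.negSucc 2),1⟩, ⟨5,(Int.negSucc 1),1⟩, ⟨6,(Int.negSucc 1),1⟩, ⟨7,(Int.negSucc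 0),1⟩, ⟨19,(Int.negSucc 0),2⟩] .nil .nil) (.node 238 [⟨135,(Int.ofNat 1),1⟩] .nil .nil))) (.node 243 [⟨161,(Int.ofNat 1),1⟩] (.node 241 [⟨152,(Int.ofNat 1),1⟩] (.node 240 [⟨146,(Int.ofNat 1),1⟩] .nil .nil) (.node 242 [⟨157,(Int.ofNat 1),1⟩] .nil .nil)) (.node 246 [⟨167,(Int.negSucc 0),1⟩] (.node 244 [⟨164,(Int.ofNat 1),1⟩] .nil .nil) (.node 247 [⟨168,(Int.negSucc 0),1⟩] .nil .nil))))))
noncomputable def col12 : Tr Cl := (.node 185 [⟨59,(Int.negSucc 0),1⟩] (.node 119 [⟨17,(Int.ofNat 1),1⟩] (.node 86 [⟨8,(Int.negSucc 0),1⟩] (.node 4 [⟨20,(Int.ofNat 0),1⟩] (.node 2 [⟨20,(Int.ofNat 0),1⟩] (.node 1 [⟨20,(Int.ofNat 0),1⟩] (.node 0 [⟨20,(Int.ofNat 1),1⟩] .nil .nil) .nil) (.node 3 [⟨20,(Int.ofNat 0),1⟩] .nil .nil)) (.node 6 [⟨20,(Int.negSucc 0),1⟩] (.node 5 [⟨20,(Int.ofNat 0),1⟩] .nil .nil) (.node 7 [⟨20,(Int.ofNat 1),1⟩]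 .nil .nil))) (.node 97 [⟨13,(Int.ofNat 1),1⟩] (.node 90 [⟨11,(Int.ofNat 1),1⟩] (.node 88 [⟨10,(Int.ofNat 1),1⟩] .nil .nil) (.node 93 [⟨12,(Int.ofNat 1),1⟩] .nil .nil)) (.node 108 [⟨15,(Int.ofNat 1),1⟩] (.node 102 [⟨14,(Int.ofNat 1),1⟩] .nil .nil) (.node 114 [⟨16,(Int.negSucc 0),1⟩] .nil .nil)))) (.node 174 [⟨41,(Int.ofNat 1),1⟩] (.node 170 [⟨27,(Int.ofNat 1),1⟩] (.node 126 [⟨19,(Int.ofNat 1),1⟩] (.node 123 [⟨18,(Int.negSucc 0),1⟩] .nil .nil) (.node 128 [⟨21,(Int.ofNat 1),1⟩] .nil .nil)) (.node 172 [⟨36,(Int.ofNat 1),1⟩] (.node 171 [⟨32,(Int.negSucc 0),1⟩] .nil .nil) (.node 173 [⟨39,(Int.negSucc 0),1⟩] .nil .nil))) (.node 179 [⟨51,(Int.negSucc 0),1⟩] (.node 177 [⟨46,(Int.negSucc 0),1⟩] (.node 176 [⟨43,(Int.negSucc 0),1⟩] .nil .nil) (.node 178 [⟨49,(Int.ofNat 1),1⟩] .nil .nil)) (.node 182 [⟨55,(Int.negSucc 0),1⟩]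 (.node 181 [⟨53,(Int.ofNat 1),1⟩] .nil .nil) (.node 183 [⟨57,(Int.ofNat 1),1⟩] .nil .nil))))) (.node 219 [⟨83,(Int.negSucc 0),1⟩] (.node 200 [⟨73,(Int.ofNat 1),1⟩] (.node 193 [⟨67,(Int.negSucc 0),1⟩] (.node 190 [⟨63,(Int.negSucc 0),1⟩] (.node 188 [⟨62,(Int.ofNat 1),1⟩] (.node 186 [⟨60,(Int.negSucc 0),1⟩] .nil .nil) .nil) (.node 192 [⟨65,(Int.ofNat 1),1⟩] .nil .nil)) (.node 196 [⟨70,(Int.ofNat 1),1⟩] (.node 195 [⟨69,(Int.ofNat 1),1⟩] .nil .nil) (.node 198 [⟨72,(Int.negSucc 0),1⟩] .nil .nil))) (.node 209 [⟨78,(Int.ofNat 1),1⟩] (.node 204 [⟨76,(Int.ofNat 1),1⟩] (.node 202 [⟨74,(Int.negSucc 0),1⟩] .nil .nil) (.node 206 [⟨77,(Int.negSucc 0),1⟩] .nil .nil)) (.node 214 [⟨81,(Int.negSucc 0),1⟩] (.node 212 [⟨79,(Int.ofNat 1),1⟩] .nil .nil) (.node 216 [⟨82,(Int.ofNat 1),1⟩] .nil .nil)))) (.node 239 [⟨141,(Int.ofNat 1),1⟩]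 (.node 235 [⟨0,(Int.negSucc 1),1⟩, ⟨1,(Int.negSucc 1),1⟩, ⟨2,(Int.negSucc 2),1⟩, ⟨3,(Int.negSucc 3),1⟩, ⟨4,(Int.negSucc 2),1⟩, ⟨5,(Int.negSucc 1),1⟩, ⟨6,(Int.negSucc 0),1⟩, ⟨7,(Int.negSucc 0),1⟩, ⟨20,(Int.negSucc 0),2⟩] (.node 228 [⟨85,(Int.negSucc 0),1⟩] (.node 223 [⟨84,(Int.ofNat 1),1⟩] .nil .nil) (.node 234 [⟨127,(Int.negSucc 0),1⟩] .nil .nil)) (.node 237 [⟨132,(Int.ofNat 1),1⟩] (.node 236 [⟨129,(Int.negSucc 0),1⟩] .nil .nil) (.node 238 [⟨136,(Int.negSucc 0),1⟩] .nil .nil))) (.node 243 [⟨162,(Int.negSucc 0),1⟩] (.node 241 [⟨153,(Int.negSucc 0),1⟩] (.node 240 [⟨147,(Int.negSucc 0),1⟩] .nil .nil) (.node 242 [⟨158,(Int.negSucc 0),1⟩] .nil .nil)) (.node 245 [⟨167,(Int.negSucc 0),1⟩] (.node 244 [⟨165,(Int.negSucc 0),1⟩] .nil .nil) (.node 247 [⟨169,(Int.ofNat 1),1⟩] .nil .nil))))))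
noncomputable def col13 : Tr Cl := (.node 184 [⟨59,(Int.negSucc 0),1⟩] (.node 118 [⟨17,(Int.negSucc 0),1⟩] (.node 86 [⟨9,(Int.negSucc 0),1⟩] (.node 4 [⟨21,(Int.ofNat 0),1⟩] (.node 2 [⟨21,(Int.ofNat 0),1⟩] (.node 1 [⟨21,(Int.ofNat 0),1⟩] (.node 0 [⟨21,(Int.ofNat 1),1⟩] .nil .nil) .nil) (.node 3 [⟨21,(Int.ofNat 0),1⟩] .nil .nil)) (.node 6 [⟨21,(Int.ofNat 0),1⟩] (.node 5 [⟨21,(Int.ofNat 0),1⟩] .nil .nil) (.node 7 [⟨21,(Int.negSucc 0),1⟩] .nil .nil))) (.node 96 [⟨13,(Int.negSucc 0),1⟩] (.node 89 [⟨11,(Int.negSucc 0),1⟩] (.node 87 [⟨10,(Int.negSucc 0),1⟩] .nil .nil) (.node 92 [⟨12,(Int.negSucc 0),1⟩] .nil .nil)) (.node 107 [⟨15,(Int.negSucc 0),1⟩] (.node 101 [⟨14,(Int.negSucc 0),1⟩] .nil .nil) (.node 113 [⟨16,(Int.ofNat 1),1⟩] .nil .nil)))) (.node 174 [⟨42,(Int.ofNat 1),1⟩] (.node 170 [⟨28,(Int.ofNat 1),1⟩] (.node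 125 [⟨19,(Int.negSucc 0),1⟩] (.node 122 [⟨18,(Int.ofNat 1),1⟩] .nil .nil) (.node 127 [⟨20,(Int.ofNat 1),1⟩] .nil .nil)) (.node 172 [⟨37,(Int.ofNat 1),1⟩] (.node 171 [⟨33,(Int.negSucc 0),1⟩] .nil .nil) (.node 173 [⟨40,(Int.negSucc 0),1⟩] .nil .nil))) (.node 179 [⟨52,(Int.negSucc 0),1⟩] (.node 177 [⟨47,(Int.negSucc 0),1⟩] (.node 175 [⟨43,(Int.negSucc 0),1⟩] .nil .nil) (.node 178 [⟨50,(Int.ofNat 1),1⟩] .nil .nil)) (.node 182 [⟨56,(Int.negSucc 0),1⟩] (.node 180 [⟨53,(Int.ofNat 1),1⟩] .nil .nil) (.node 183 [⟨58,(Int.ofNat 1),1⟩] .nil .nil))))) (.node 218 [⟨83,(Int.negSucc 0),1⟩] (.node 199 [⟨73,(Int.ofNat 1),1⟩] (.node 193 [⟨68,(Int.negSucc 0),1⟩] (.node 189 [⟨63,(Int.negSucc 0),1⟩] (.node 187 [⟨62,(Int.ofNat 1),1⟩] (.node 186 [⟨61,(Int.negSucc 0),1⟩] .nil .nil) .nil) (.node 192 [⟨66,(Int.ofNat 1),1⟩] .nil .nil)) (.node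 196 [⟨71,(Int.ofNat 1),1⟩] (.node 194 [⟨69,(Int.ofNat 1),1⟩] .nil .nil) (.node 197 [⟨72,(Int.negSucc 0),1⟩] .nil .nil))) (.node 208 [⟨78,(Int.ofNat 1),1⟩] (.node 203 [⟨76,(Int.ofNat 1),1⟩] (.node 202 [⟨75,(Int.negSucc 0),1⟩] .nil .nil) (.node 205 [⟨77,(Int.negSucc 0),1⟩] .nil .nil)) (.node 213 [⟨81,(Int.negSucc 0),1⟩] (.node 212 [⟨80,(Int.ofNat 1),1⟩] .nil .nil) (.node 215 [⟨82,(Int.ofNat 1),1⟩] .nil .nil)))) (.node 239 [⟨142,(Int.negSucc 0),1⟩] (.node 235 [⟨128,(Int.negSucc 0),1⟩] (.node 227 [⟨85,(Int.negSucc 0),1⟩] (.node 222 [⟨84,(Int.ofNat 1),1⟩] .nil .nil) (.node 234 [⟨0,(Int.negSucc 1),1⟩, ⟨1,(Int.negSucc 1),1⟩, ⟨2,(Int.negSucc 2),1⟩, ⟨3,(Int.negSucc 3),1⟩, ⟨4,(Int.negSucc 2),1⟩, ⟨5,(Int.negSucc 1),1⟩, ⟨6,(Int.negSucc 0),1⟩, ⟨7,(Int.ofNat 0),1⟩, ⟨21,(Int.negSucc 0),2⟩] .nil .nil)) (.node 237 [⟨133,(Int.negSucc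 0),1⟩] (.node 236 [⟨130,(Int.ofNat 1),1⟩] .nil .nil) (.node 238 [⟨137,(Int.ofNat 1),1⟩] .nil .nil))) (.node 243 [⟨163,(Int.ofNat 1),1⟩] (.node 241 [⟨154,(Int.ofNat 1),1⟩] (.node 240 [⟨148,(Int.ofNat 1),1⟩] .nil .nil) (.node 242 [⟨159,(Int.ofNat 1),1⟩] .nil .nil)) (.node 245 [⟨168,(Int.ofNat 1),1⟩] (.node 244 [⟨166,(Int.ofNat 1),1⟩] .nil .nil) (.node 246 [⟨169,(Int.ofNat 1),1⟩] .nil .nil))))))
noncomputable def col14 : Tr Cl := (.node 166 [⟨40,(Int.ofNat 1),1⟩] (.node 150 [⟨24,(Int.negSucc 0),1⟩] (.node 79 [⟨8,(Int.ofNat 1),1⟩] (.node 4 [⟨22,(Int.ofNat 0),1⟩] (.node 2 [⟨22,(Int.ofNat 0),1⟩] (.node 1 [⟨22,(Int.ofNat 1),1⟩] (.node 0 [⟨22,(Int.negSucc 0),1⟩] .nil .nil) .nil) (.node 3 [⟨22,(Int.ofNat 0),1⟩] .nil .nil)) (.node 6 [⟨22,(Int.ofNat 0),1⟩] (.node 5 [⟨22,(Int.ofNat 0),1⟩] .nil .nil) (.node 7 [⟨22,(Int.ofNat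 0),1⟩] .nil .nil))) (.node 83 [⟨12,(Int.ofNat 1),1⟩] (.node 81 [⟨10,(Int.ofNat 1),1⟩] (.node 80 [⟨9,(Int.ofNat 1),1⟩] .nil .nil) (.node 82 [⟨11,(Int.ofNat 1),1⟩] .nil .nil)) (.node 85 [⟨14,(Int.ofNat 1),1⟩] (.node 84 [⟨13,(Int.ofNat 1),1⟩] .nil .nil) (.node 149 [⟨23,(Int.ofNat 1),1⟩] .nil .nil)))) (.node 158 [⟨32,(Int.negSucc 0),1⟩] (.node 154 [⟨28,(Int.negSucc 0),1⟩] (.node 152 [⟨26,(Int.negSucc 0),1⟩] (.node 151 [⟨25,(Int.ofNat 1),1⟩] .nil .nil) (.node 153 [⟨27,(Int.ofNat 1),1⟩] .nil .nil)) (.node 156 [⟨30,(Int.negSucc 0),1⟩] (.node 155 [⟨29,(Int.ofNat 1),1⟩] .nil .nil) (.node 157 [⟨31,(Int.ofNat 1),1⟩] .nil .nil))) (.node 162 [⟨36,(Int.ofNat 1),1⟩] (.node 160 [⟨34,(Int.ofNat 1),1⟩] (.node 159 [⟨33,(Int.ofNat 1),1⟩] .nil .nil) (.node 161 [⟨35,(Int.negSucc 0),1⟩] .nil .nil)) (.node 164 [⟨38,(Int.ofNat 1),1⟩]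 (.node 163 [⟨37,(Int.negSucc 0),1⟩] .nil .nil) (.node 165 [⟨39,(Int.negSucc 0),1⟩] .nil .nil))))) (.node 225 [⟨99,(Int.ofNat 1),1⟩] (.node 217 [⟨91,(Int.negSucc 0),1⟩] (.node 213 [⟨87,(Int.ofNat 1),1⟩] (.node 169 [⟨43,(Int.ofNat 1),1⟩] (.node 168 [⟨42,(Int.negSucc 0),1⟩] (.node 167 [⟨41,(Int.ofNat 1),1⟩] .nil .nil) .nil) (.node 212 [⟨86,(Int.negSucc 0),1⟩] .nil .nil)) (.node 215 [⟨89,(Int.negSucc 0),1⟩] (.node 214 [⟨88,(Int.negSucc 0),1⟩] .nil .nil) (.node 216 [⟨90,(Int.ofNat 1),1⟩] .nil .nil))) (.node 221 [⟨95,(Int.negSucc 0),1⟩] (.node 219 [⟨93,(Int.negSucc 0),1⟩] (.node 218 [⟨92,(Int.ofNat 1),1⟩] .nil .nil) (.node 220 [⟨94,(Int.ofNat 1),1⟩] .nil .nil)) (.node 223 [⟨97,(Int.ofNat 1),1⟩] (.node 222 [⟨96,(Int.negSucc 0),1⟩] .nil .nil) (.node 224 [⟨98,(Int.negSucc 0),1⟩] .nil .nil)))) (.node 233 [⟨0,(Int.negSucc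 0),1⟩, ⟨1,(Int.negSucc 2),1⟩, ⟨2,(Int.negSucc 2),1⟩, ⟨3,(Int.negSucc 4),1⟩, ⟨4,(Int.negSucc 3),1⟩, ⟨5,(Int.negSucc 2),1⟩, ⟨6,(Int.negSucc 1),1⟩, ⟨7,(Int.negSucc 0),1⟩, ⟨22,(Int.negSucc 0),2⟩] (.node 229 [⟨103,(Int.ofNat 1),1⟩] (.node 227 [⟨101,(Int.ofNat 1),1⟩] (.node 226 [⟨100,(Int.negSucc 0),1⟩] .nil .nil) (.node 228 [⟨102,(Int.negSucc 0),1⟩] .nil .nil)) (.node 231 [⟨105,(Int.ofNat 1),1⟩] (.node 230 [⟨104,(Int.negSucc 0),1⟩] .nil .nil) (.node 232 [⟨106,(Int.negSucc 0),1⟩] .nil .nil))) (.node 244 [⟨173,(Int.negSucc 0),1⟩] (.node 242 [⟨171,(Int.negSucc 0),1⟩] (.node 241 [⟨170,(Int.negSucc 0),1⟩] .nil .nil) (.node 243 [⟨172,(Int.negSucc 0),1⟩] .nil .nil)) (.node 246 [⟨175,(Int.negSucc 0),1⟩] (.node 245 [⟨174,(Int.negSucc 0),1⟩] .nil .nil) (.node 247 [⟨176,(Int.negSucc 0),1⟩] .nil .nil))))))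
noncomputable def col15 : Tr Cl := (.node 166 [⟨50,(Int.ofNat 1),1⟩] (.node 138 [⟨24,(Int.ofNat 1),1⟩] (.node 74 [⟨8,(Int.negSucc 0),1⟩] (.node 4 [⟨23,(Int.ofNat 0),1⟩] (.node 2 [⟨23,(Int.ofNat 0),1⟩] (.node 1 [⟨23,(Int.negSucc 0),1⟩] (.node 0 [⟨23,(Int.negSucc 0),1⟩] .nil .nil) .nil) (.node 3 [⟨23,(Int.ofNat 1),1⟩] .nil .nil)) (.node 6 [⟨23,(Int.ofNat 0),1⟩] (.node 5 [⟨23,(Int.ofNat 0),1⟩] .nil .nil) (.node 7 [⟨23,(Int.ofNat 0),1⟩] .nil .nil))) (.node 78 [⟨12,(Int.negSucc 0),1⟩] (.node 76 [⟨10,(Int.negSucc 0),1⟩] (.node 75 [⟨9,(Int.negSucc 0),1⟩] .nil .nil) (.node 77 [⟨11,(Int.negSucc 0),1⟩] .nil .nil)) (.node 85 [⟨16,(Int.ofNat 1),1⟩] (.node 84 [⟨15,(Int.ofNat 1),1⟩] .nil .nil) (.node 106 [⟨22,(Int.ofNat 1),1⟩] .nil .nil)))) (.node 147 [⟨32,(Int.negSucc 0),1⟩] (.node 142 [⟨28,(Int.ofNat 1),1⟩] (.node 140 [⟨26,(Int.ofNat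 1),1⟩] (.node 139 [⟨25,(Int.negSucc 0),1⟩] .nil .nil) (.node 141 [⟨27,(Int.negSucc 0),1⟩] .nil .nil)) (.node 145 [⟨30,(Int.negSucc 0),1⟩] (.node 144 [⟨29,(Int.ofNat 1),1⟩] .nil .nil) (.node 146 [⟨31,(Int.ofNat 1),1⟩] .nil .nil))) (.node 162 [⟨46,(Int.ofNat 1),1⟩] (.node 160 [⟨44,(Int.ofNat 1),1⟩] (.node 148 [⟨33,(Int.ofNat 1),1⟩] .nil .nil) (.node 161 [⟨45,(Int.negSucc 0),1⟩] .nil .nil)) (.node 164 [⟨48,(Int.ofNat 1),1⟩] (.node 163 [⟨47,(Int.negSucc 0),1⟩] .nil .nil) (.node 165 [⟨49,(Int.negSucc 0),1⟩] .nil .nil))))) (.node 225 [⟨110,(Int.ofNat 1),1⟩] (.node 207 [⟨91,(Int.negSucc 0),1⟩] (.node 203 [⟨87,(Int.ofNat 1),1⟩] (.node 169 [⟨53,(Int.ofNat 1),1⟩] (.node 168 [⟨52,(Int.negSucc 0),1⟩] (.node 167 [⟨51,(Int.ofNat 1),1⟩] .nil .nil) .nil) (.node 202 [⟨86,(Int.negSucc 0),1⟩] .nil .nil)) (.node 205 [⟨89,(Int.negSucc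 0),1⟩] (.node 204 [⟨88,(Int.negSucc 0),1⟩] .nil .nil) (.node 206 [⟨90,(Int.ofNat 1),1⟩] .nil .nil))) (.node 211 [⟨95,(Int.negSucc 0),1⟩] (.node 209 [⟨93,(Int.negSucc 0),1⟩] (.node 208 [⟨92,(Int.ofNat 1),1⟩] .nil .nil) (.node 210 [⟨94,(Int.ofNat 1),1⟩] .nil .nil)) (.node 223 [⟨108,(Int.ofNat 1),1⟩] (.node 222 [⟨107,(Int.negSucc 0),1⟩] .nil .nil) (.node 224 [⟨109,(Int.negSucc 0),1⟩] .nil .nil)))) (.node 233 [⟨149,(Int.negSucc 0),1⟩] (.node 229 [⟨115,(Int.negSucc 0),1⟩] (.node 227 [⟨113,(Int.negSucc 0),1⟩] (.node 226 [⟨111,(Int.negSucc 0),1⟩] .nil .nil) (.node 228 [⟨114,(Int.ofNat 1),1⟩] .nil .nil)) (.node 231 [⟨117,(Int.negSucc 0),1⟩] (.node 230 [⟨116,(Int.ofNat 1),1⟩] .nil .nil) (.node 232 [⟨0,(Int.negSucc 0),1⟩, ⟨1,(Int.negSucc 1),1⟩, ⟨2,(Int.negSucc 2),1⟩, ⟨3,(Int.negSucc 4),1⟩, ⟨4,(Int.negSucc 3),1⟩, ⟨5,(Int.negSucc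 2),1⟩, ⟨6,(Int.negSucc 1),1⟩, ⟨7,(Int.negSucc 0),1⟩, ⟨23,(Int.negSucc 0),2⟩] .nil .nil))) (.node 244 [⟨178,(Int.ofNat 1),1⟩] (.node 240 [⟨171,(Int.negSucc 0),1⟩] (.node 239 [⟨170,(Int.negSucc 0),1⟩] .nil .nil) (.node 243 [⟨177,(Int.ofNat 1),1⟩] .nil .nil)) (.node 246 [⟨180,(Int.ofNat 1),1⟩] (.node 245 [⟨179,(Int.ofNat 1),1⟩] .nil .nil) (.node 247 [⟨181,(Int.ofNat 1),1⟩] .nil .nil))))))
noncomputable def col16 : Tr Cl := (.node 166 [⟨56,(Int.ofNat 1),1⟩] (.node 117 [⟨23,(Int.ofNat 1),1⟩] (.node 70 [⟨8,(Int.ofNat 1),1⟩] (.node 4 [⟨24,(Int.ofNat 1),1⟩] (.node 2 [⟨24,(Int.ofNat 1),1⟩] (.node 1 [⟨24,(Int.ofNat 0),1⟩] (.node 0 [⟨24,(Int.negSucc 0),1⟩] .nil .nil) .nil) (.node 3 [⟨24,(Int.negSucc 0),1⟩] .nil .nil)) (.node 6 [⟨24,(Int.ofNat 0),1⟩] (.node 5 [⟨24,(Int.ofNat 0),1⟩] .nil .nil) (.node 7 [⟨24,(Int.ofNat 0),1⟩]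 .nil .nil))) (.node 78 [⟨13,(Int.negSucc 0),1⟩] (.node 72 [⟨10,(Int.ofNat 1),1⟩] (.node 71 [⟨9,(Int.ofNat 1),1⟩] .nil .nil) (.node 73 [⟨11,(Int.ofNat 1),1⟩] .nil .nil)) (.node 85 [⟨17,(Int.ofNat 1),1⟩] (.node 83 [⟨15,(Int.negSucc 0),1⟩] .nil .nil) (.node 105 [⟨22,(Int.negSucc 0),1⟩] .nil .nil)))) (.node 147 [⟨36,(Int.negSucc 0),1⟩] (.node 137 [⟨28,(Int.negSucc 0),1⟩] (.node 135 [⟨26,(Int.negSucc 0),1⟩] (.node 134 [⟨25,(Int.ofNat 1),1⟩] .nil .nil) (.node 136 [⟨27,(Int.ofNat 1),1⟩] .nil .nil)) (.node 145 [⟨34,(Int.negSucc 0),1⟩] (.node 143 [⟨29,(Int.ofNat 1),1⟩] .nil .nil) (.node 146 [⟨35,(Int.ofNat 1),1⟩] .nil .nil))) (.node 158 [⟨46,(Int.ofNat 1),1⟩] (.node 156 [⟨44,(Int.ofNat 1),1⟩] (.node 148 [⟨37,(Int.ofNat 1),1⟩] .nil .nil) (.node 157 [⟨45,(Int.negSucc 0),1⟩] .nil .nil)) (.node 164 [⟨54,(Int.ofNat 1),1⟩] (.node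 159 [⟨47,(Int.negSucc 0),1⟩] .nil .nil) (.node 165 [⟨55,(Int.negSucc 0),1⟩] .nil .nil))))) (.node 221 [⟨110,(Int.ofNat 1),1⟩] (.node 201 [⟨91,(Int.negSucc 0),1⟩] (.node 197 [⟨87,(Int.ofNat 1),1⟩] (.node 169 [⟨59,(Int.ofNat 1),1⟩] (.node 168 [⟨58,(Int.negSucc 0),1⟩] (.node 167 [⟨57,(Int.ofNat 1),1⟩] .nil .nil) .nil) (.node 196 [⟨86,(Int.negSucc 0),1⟩] .nil .nil)) (.node 199 [⟨89,(Int.negSucc 0),1⟩] (.node 198 [⟨88,(Int.negSucc 0),1⟩] .nil .nil) (.node 200 [⟨90,(Int.ofNat 1),1⟩] .nil .nil))) (.node 211 [⟨99,(Int.negSucc 0),1⟩] (.node 209 [⟨97,(Int.negSucc 0),1⟩] (.node 208 [⟨96,(Int.ofNat 1),1⟩] .nil .nil) (.node 210 [⟨98,(Int.ofNat 1),1⟩] .nil .nil)) (.node 219 [⟨108,(Int.ofNat 1),1⟩] (.node 218 [⟨107,(Int.negSucc 0),1⟩] .nil .nil) (.node 220 [⟨109,(Int.negSucc 0),1⟩] .nil .nil)))) (.node 233 [⟨150,(Int.ofNat 1),1⟩]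 (.node 229 [⟨120,(Int.ofNat 1),1⟩] (.node 227 [⟨118,(Int.ofNat 1),1⟩] (.node 226 [⟨112,(Int.negSucc 0),1⟩] .nil .nil) (.node 228 [⟨119,(Int.negSucc 0),1⟩] .nil .nil)) (.node 231 [⟨0,(Int.negSucc 0),1⟩, ⟨1,(Int.negSucc 1),1⟩, ⟨2,(Int.negSucc 2),1⟩, ⟨3,(Int.negSucc 3),1⟩, ⟨4,(Int.negSucc 3),1⟩, ⟨5,(Int.negSucc 2),1⟩, ⟨6,(Int.negSucc 1),1⟩, ⟨7,(Int.negSucc 0),1⟩, ⟨24,(Int.negSucc 0),2⟩] (.node 230 [⟨121,(Int.negSucc 0),1⟩] .nil .nil) (.node 232 [⟨138,(Int.negSucc 0),1⟩] .nil .nil))) (.node 244 [⟨182,(Int.negSucc 0),1⟩] (.node 240 [⟨172,(Int.ofNat 1),1⟩] (.node 238 [⟨170,(Int.negSucc 0),1⟩] .nil .nil) (.node 242 [⟨177,(Int.ofNat 1),1⟩] .nil .nil)) (.node 246 [⟨184,(Int.negSucc 0),1⟩] (.node 245 [⟨183,(Int.negSucc 0),1⟩] .nil .nil) (.node 247 [⟨185,(Int.negSucc 0),1⟩] .nil .nil))))))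
noncomputable def col17 : Tr Cl := (.node 163 [⟨56,(Int.ofNat 1),1⟩] (.node 116 [⟨23,(Int.negSucc 0),1⟩] (.node 67 [⟨8,(Int.negSucc 0),1⟩] (.node 4 [⟨25,(Int.negSucc 0),1⟩] (.node 2 [⟨25,(Int.ofNat 1),1⟩] (.node 1 [⟨25,(Int.ofNat 0),1⟩] (.node 0 [⟨25,(Int.negSucc 0),1⟩] .nil .nil) .nil) (.node 3 [⟨25,(Int.ofNat 0),1⟩] .nil .nil)) (.node 6 [⟨25,(Int.ofNat 0),1⟩] (.node 5 [⟨25,(Int.ofNat 1),1⟩] .nil .nil) (.node 7 [⟨25,(Int.ofNat 0),1⟩] .nil .nil))) (.node 77 [⟨13,(Int.ofNat 1),1⟩] (.node 69 [⟨10,(Int.negSucc 0),1⟩] (.node 68 [⟨9,(Int.negSucc 0),1⟩] .nil .nil) (.node 73 [⟨12,(Int.ofNat 1),1⟩] .nil .nil)) (.node 85 [⟨18,(Int.ofNat 1),1⟩] (.node 82 [⟨15,(Int.ofNat 1),1⟩] .nil .nil) (.node 104 [⟨22,(Int.ofNat 1),1⟩] .nil .nil)))) (.node 147 [⟨39,(Int.negSucc 0),1⟩] (.node 133 [⟨28,(Int.ofNat 1),1⟩] (.node 131 [⟨26,(Int.ofNat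 1),1⟩] (.node 121 [⟨24,(Int.ofNat 1),1⟩] .nil .nil) (.node 132 [⟨27,(Int.negSucc 0),1⟩] .nil .nil)) (.node 144 [⟨34,(Int.negSucc 0),1⟩] (.node 143 [⟨30,(Int.ofNat 1),1⟩] .nil .nil) (.node 146 [⟨38,(Int.ofNat 1),1⟩] .nil .nil))) (.node 158 [⟨49,(Int.ofNat 1),1⟩] (.node 155 [⟨44,(Int.ofNat 1),1⟩] (.node 148 [⟨40,(Int.ofNat 1),1⟩] .nil .nil) (.node 157 [⟨48,(Int.negSucc 0),1⟩] .nil .nil)) (.node 161 [⟨54,(Int.ofNat 1),1⟩] (.node 159 [⟨50,(Int.negSucc 0),1⟩] .nil .nil) (.node 162 [⟨55,(Int.negSucc 0),1⟩] .nil .nil))))) (.node 221 [⟨111,(Int.ofNat 1),1⟩] (.node 201 [⟨94,(Int.negSucc 0),1⟩] (.node 194 [⟨87,(Int.ofNat 1),1⟩] (.node 169 [⟨62,(Int.ofNat 1),1⟩] (.node 168 [⟨61,(Int.negSucc 0),1⟩] (.node 167 [⟨60,(Int.ofNat 1),1⟩] .nil .nil) .nil) (.node 193 [⟨86,(Int.negSucc 0),1⟩] .nil .nil)) (.node 199 [⟨92,(Int.negSucc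 0),1⟩] (.node 195 [⟨88,(Int.negSucc 0),1⟩] .nil .nil) (.node 200 [⟨93,(Int.ofNat 1),1⟩] .nil .nil))) (.node 211 [⟨100,(Int.negSucc 0),1⟩] (.node 206 [⟨97,(Int.negSucc 0),1⟩] (.node 205 [⟨96,(Int.ofNat 1),1⟩] .nil .nil) (.node 207 [⟨98,(Int.ofNat 1),1⟩] .nil .nil)) (.node 216 [⟨108,(Int.ofNat 1),1⟩] (.node 215 [⟨107,(Int.negSucc 0),1⟩] .nil .nil) (.node 217 [⟨109,(Int.negSucc 0),1⟩] .nil .nil)))) (.node 233 [⟨151,(Int.negSucc 0),1⟩] (.node 229 [⟨124,(Int.negSucc 0),1⟩] (.node 227 [⟨122,(Int.negSucc 0),1⟩] (.node 225 [⟨112,(Int.negSucc 0),1⟩] .nil .nil) (.node 228 [⟨123,(Int.ofNat 1),1⟩] .nil .nil)) (.node 231 [⟨134,(Int.negSucc 0),1⟩] (.node 230 [⟨0,(Int.negSucc 0),1⟩, ⟨1,(Int.negSucc 1),1⟩, ⟨2,(Int.negSucc 2),1⟩, ⟨3,(Int.negSucc 3),1⟩, ⟨4,(Int.negSucc 2),1⟩, ⟨5,(Int.negSucc 2),1⟩, ⟨6,(Int.negSucc 1),1⟩, ⟨7,(Int.negSucc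 0),1⟩, ⟨25,(Int.negSucc 0),2⟩] .nil .nil) (.node 232 [⟨139,(Int.ofNat 1),1⟩] .nil .nil))) (.node 243 [⟨182,(Int.negSucc 0),1⟩] (.node 240 [⟨173,(Int.negSucc 0),1⟩] (.node 237 [⟨170,(Int.negSucc 0),1⟩] .nil .nil) (.node 242 [⟨178,(Int.negSucc 0),1⟩] .nil .nil)) (.node 246 [⟨187,(Int.ofNat 1),1⟩] (.node 245 [⟨186,(Int.ofNat 1),1⟩] .nil .nil) (.node 247 [⟨188,(Int.ofNat 1),1⟩] .nil .nil))))))
noncomputable def col18 : Tr Cl := (.node 163 [⟨58,(Int.ofNat 1),1⟩] (.node 115 [⟨23,(Int.ofNat 1),1⟩] (.node 65 [⟨8,(Int.ofNat 1),1⟩] (.node 4 [⟨26,(Int.ofNat 0),1⟩] (.node 2 [⟨26,(Int.ofNat 1),1⟩] (.node 1 [⟨26,(Int.ofNat 0),1⟩] (.node 0 [⟨26,(Int.negSucc 0),1⟩] .nil .nil) .nil) (.node 3 [⟨26,(Int.ofNat 0),1⟩] .nil .nil)) (.node 6 [⟨26,(Int.ofNat 1),1⟩] (.node 5 [⟨26,(Int.negSucc 0),1⟩] .nil .nil) (.node 7 [⟨26,(Int.ofNat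 0),1⟩] .nil .nil))) (.node 76 [⟨13,(Int.negSucc 0),1⟩] (.node 69 [⟨11,(Int.negSucc 0),1⟩] (.node 66 [⟨9,(Int.ofNat 1),1⟩] .nil .nil) (.node 72 [⟨12,(Int.negSucc 0),1⟩] .nil .nil)) (.node 85 [⟨19,(Int.ofNat 1),1⟩] (.node 81 [⟨15,(Int.negSucc 0),1⟩] .nil .nil) (.node 103 [⟨22,(Int.negSucc 0),1⟩] .nil .nil)))) (.node 147 [⟨41,(Int.negSucc 0),1⟩] (.node 130 [⟨28,(Int.negSucc 0),1⟩] (.node 124 [⟨25,(Int.ofNat 1),1⟩] (.node 120 [⟨24,(Int.negSucc 0),1⟩] .nil .nil) (.node 129 [⟨27,(Int.ofNat 1),1⟩] .nil .nil)) (.node 144 [⟨35,(Int.negSucc 0),1⟩] (.node 143 [⟨31,(Int.ofNat 1),1⟩] .nil .nil) (.node 145 [⟨38,(Int.ofNat 1),1⟩] .nil .nil))) (.node 158 [⟨51,(Int.ofNat 1),1⟩] (.node 155 [⟨45,(Int.ofNat 1),1⟩] (.node 148 [⟨42,(Int.ofNat 1),1⟩] .nil .nil) (.node 156 [⟨48,(Int.negSucc 0),1⟩] .nil .nil)) (.node 160 [⟨54,(Int.ofNat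 1),1⟩] (.node 159 [⟨52,(Int.negSucc 0),1⟩] .nil .nil) (.node 162 [⟨57,(Int.negSucc 0),1⟩] .nil .nil))))) (.node 220 [⟨111,(Int.ofNat 1),1⟩] (.node 201 [⟨95,(Int.negSucc 0),1⟩] (.node 194 [⟨89,(Int.ofNat 1),1⟩] (.node 169 [⟨63,(Int.ofNat 1),1⟩] (.node 166 [⟨61,(Int.negSucc 0),1⟩] (.node 165 [⟨60,(Int.ofNat 1),1⟩] .nil .nil) .nil) (.node 192 [⟨86,(Int.negSucc 0),1⟩] .nil .nil)) (.node 197 [⟨92,(Int.negSucc 0),1⟩] (.node 195 [⟨90,(Int.negSucc 0),1⟩] .nil .nil) (.node 198 [⟨93,(Int.ofNat 1),1⟩] .nil .nil))) (.node 210 [⟨100,(Int.negSucc 0),1⟩] (.node 204 [⟨97,(Int.negSucc 0),1⟩] (.node 203 [⟨96,(Int.ofNat 1),1⟩] .nil .nil) (.node 207 [⟨99,(Int.ofNat 1),1⟩] .nil .nil)) (.node 214 [⟨108,(Int.ofNat 1),1⟩] (.node 213 [⟨107,(Int.negSucc 0),1⟩] .nil .nil) (.node 217 [⟨110,(Int.negSucc 0),1⟩] .nil .nil)))) (.node 233 [⟨152,(Int.ofNat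 1),1⟩] (.node 229 [⟨0,(Int.negSucc 0),1⟩, ⟨1,(Int.negSucc 1),1⟩, ⟨2,(Int.negSucc 2),1⟩, ⟨3,(Int.negSucc 3),1⟩, ⟨4,(Int.negSucc 2),1⟩, ⟨5,(Int.negSucc 1),1⟩, ⟨6,(Int.negSucc 1),1⟩, ⟨7,(Int.negSucc 0),1⟩, ⟨26,(Int.negSucc 0),2⟩] (.node 227 [⟨125,(Int.ofNat 1),1⟩] (.node 224 [⟨112,(Int.negSucc 0),1⟩] .nil .nil) (.node 228 [⟨126,(Int.negSucc 0),1⟩] .nil .nil)) (.node 231 [⟨135,(Int.ofNat 1),1⟩] (.node 230 [⟨131,(Int.negSucc 0),1⟩] .nil .nil) (.node 232 [⟨140,(Int.negSucc 0),1⟩] .nil .nil))) (.node 243 [⟨183,(Int.ofNat 1),1⟩] (.node 240 [⟨174,(Int.ofNat 1),1⟩] (.node 236 [⟨170,(Int.negSucc 0),1⟩] .nil .nil) (.node 242 [⟨179,(Int.ofNat 1),1⟩] .nil .nil)) (.node 246 [⟨189,(Int.negSucc 0),1⟩] (.node 244 [⟨186,(Int.ofNat 1),1⟩] .nil .nil) (.node 247 [⟨190,(Int.negSucc 0),1⟩] .nil .nil))))))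
noncomputable def col19 : Tr Cl := (.node 163 [⟨59,(Int.ofNat 1),1⟩] (.node 114 [⟨23,(Int.negSucc 0),1⟩] (.node 64 [⟨8,(Int.negSucc 0),1⟩] (.node 4 [⟨27,(Int.ofNat 0),1⟩] (.node 2 [⟨27,(Int.ofNat 1),1⟩] (.node 1 [⟨27,(Int.ofNat 0),1⟩] (.node 0 [⟨27,(Int.negSucc 0),1⟩] .nil .nil) .nil) (.node 3 [⟨27,(Int.ofNat 0),1⟩] .nil .nil)) (.node 6 [⟨27,(Int.negSucc 0),1⟩] (.node 5 [⟨27,(Int.ofNat 0),1⟩] .nil .nil) (.node 7 [⟨27,(Int.ofNat 1),1⟩] .nil .nil))) (.node 75 [⟨13,(Int.ofNat 1),1⟩] (.node 68 [⟨11,(Int.ofNat 1),1⟩] (.node 66 [⟨10,(Int.ofNat 1),1⟩] .nil .nil) (.node 71 [⟨12,(Int.ofNat 1),1⟩] .nil .nil)) (.node 85 [⟨20,(Int.ofNat 1),1⟩] (.node 80 [⟨15,(Int.ofNat 1),1⟩] .nil .nil) (.node 102 [⟨22,(Int.ofNat 1),1⟩] .nil .nil)))) (.node 146 [⟨41,(Int.negSucc 0),1⟩] (.node 128 [⟨28,(Int.ofNat 1),1⟩] (.node 123 [⟨25,(Int.negSucc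 0),1⟩] (.node 119 [⟨24,(Int.ofNat 1),1⟩] .nil .nil) (.node 126 [⟨26,(Int.ofNat 1),1⟩] .nil .nil)) (.node 144 [⟨36,(Int.negSucc 0),1⟩] (.node 143 [⟨32,(Int.ofNat 1),1⟩] .nil .nil) (.node 145 [⟨39,(Int.ofNat 1),1⟩] .nil .nil))) (.node 157 [⟨51,(Int.ofNat 1),1⟩] (.node 155 [⟨46,(Int.ofNat 1),1⟩] (.node 148 [⟨43,(Int.ofNat 1),1⟩] .nil .nil) (.node 156 [⟨49,(Int.negSucc 0),1⟩] .nil .nil)) (.node 160 [⟨55,(Int.ofNat 1),1⟩] (.node 159 [⟨53,(Int.negSucc 0),1⟩] .nil .nil) (.node 161 [⟨57,(Int.negSucc 0),1⟩] .nil .nil))))) (.node 219 [⟨111,(Int.ofNat 1),1⟩] (.node 200 [⟨95,(Int.negSucc 0),1⟩] (.node 193 [⟨89,(Int.ofNat 1),1⟩] (.node 168 [⟨63,(Int.ofNat 1),1⟩] (.node 166 [⟨62,(Int.negSucc 0),1⟩] (.node 164 [⟨60,(Int.ofNat 1),1⟩] .nil .nil) .nil) (.node 192 [⟨87,(Int.negSucc 0),1⟩] .nil .nil)) (.node 196 [⟨92,(Int.negSucc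 0),1⟩] (.node 195 [⟨91,(Int.negSucc 0),1⟩] .nil .nil) (.node 198 [⟨94,(Int.ofNat 1),1⟩] .nil .nil))) (.node 209 [⟨100,(Int.negSucc 0),1⟩] (.node 204 [⟨98,(Int.negSucc 0),1⟩] (.node 202 [⟨96,(Int.ofNat 1),1⟩] .nil .nil) (.node 206 [⟨99,(Int.ofNat 1),1⟩] .nil .nil)) (.node 214 [⟨109,(Int.ofNat 1),1⟩] (.node 212 [⟨107,(Int.negSucc 0),1⟩] .nil .nil) (.node 216 [⟨110,(Int.negSucc 0),1⟩] .nil .nil)))) (.node 233 [⟨153,(Int.negSucc 0),1⟩] (.node 229 [⟨129,(Int.negSucc 0),1⟩] (.node 227 [⟨127,(Int.negSucc 0),1⟩] (.node 223 [⟨112,(Int.negSucc 0),1⟩] .nil .nil) (.node 228 [⟨0,(Int.negSucc 0),1⟩, ⟨1,(Int.negSucc 1),1⟩, ⟨2,(Int.negSucc 2),1⟩, ⟨3,(Int.negSucc 3),1⟩, ⟨4,(Int.negSucc 2),1⟩, ⟨5,(Int.negSucc 1),1⟩, ⟨6,(Int.negSucc 0),1⟩, ⟨7,(Int.negSucc 0),1⟩, ⟨27,(Int.negSucc 0),2⟩] .nil .nil)) (.node 231 [⟨136,(Int.negSucc 0),1⟩]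 (.node 230 [⟨132,(Int.ofNat 1),1⟩] .nil .nil) (.node 232 [⟨141,(Int.ofNat 1),1⟩] .nil .nil))) (.node 243 [⟨184,(Int.negSucc 0),1⟩] (.node 240 [⟨175,(Int.negSucc 0),1⟩] (.node 235 [⟨170,(Int.negSucc 0),1⟩] .nil .nil) (.node 242 [⟨180,(Int.negSucc 0),1⟩] .nil .nil)) (.node 245 [⟨189,(Int.negSucc 0),1⟩] (.node 244 [⟨187,(Int.negSucc 0),1⟩] .nil .nil) (.node 247 [⟨191,(Int.ofNat 1),1⟩] .nil .nil))))))
noncomputable def col20 : Tr Cl := (.node 162 [⟨59,(Int.ofNat 1),1⟩] (.node 113 [⟨23,(Int.ofNat 1),1⟩] (.node 64 [⟨9,(Int.negSucc 0),1⟩] (.node 4 [⟨28,(Int.ofNat 0),1⟩] (.node 2 [⟨28,(Int.ofNat 1),1⟩] (.node 1 [⟨28,(Int.ofNat 0),1⟩] (.node 0 [⟨28,(Int.negSucc 0),1⟩] .nil .nil) .nil) (.node 3 [⟨28,(Int.ofNat 0),1⟩] .nil .nil)) (.node 6 [⟨28,(Int.ofNat 0),1⟩] (.node 5 [⟨28,(Int.ofNat 0),1⟩] .nil .nil) (.node 7 [⟨28,(Int.negSucc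 0),1⟩] .nil .nil))) (.node 74 [⟨13,(Int.negSucc 0),1⟩] (.node 67 [⟨11,(Int.negSucc 0),1⟩] (.node 65 [⟨10,(Int.negSucc 0),1⟩] .nil .nil) (.node 70 [⟨12,(Int.negSucc 0),1⟩] .nil .nil)) (.node 85 [⟨21,(Int.ofNat 1),1⟩] (.node 79 [⟨15,(Int.negSucc 0),1⟩] .nil .nil) (.node 101 [⟨22,(Int.negSucc 0),1⟩] .nil .nil)))) (.node 146 [⟨42,(Int.negSucc 0),1⟩] (.node 127 [⟨27,(Int.ofNat 1),1⟩] (.node 122 [⟨25,(Int.ofNat 1),1⟩] (.node 118 [⟨24,(Int.negSucc 0),1⟩] .nil .nil) (.node 125 [⟨26,(Int.negSucc 0),1⟩] .nil .nil)) (.node 144 [⟨37,(Int.negSucc 0),1⟩] (.node 143 [⟨33,(Int.ofNat 1),1⟩] .nil .nil) (.node 145 [⟨40,(Int.ofNat 1),1⟩] .nil .nil))) (.node 157 [⟨52,(Int.ofNat 1),1⟩] (.node 155 [⟨47,(Int.ofNat 1),1⟩] (.node 147 [⟨43,(Int.ofNat 1),1⟩] .nil .nil) (.node 156 [⟨50,(Int.negSucc 0),1⟩] .nil .nil)) (.node 160 [⟨56,(Int.ofNat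 1),1⟩] (.node 158 [⟨53,(Int.negSucc 0),1⟩] .nil .nil) (.node 161 [⟨58,(Int.negSucc 0),1⟩] .nil .nil))))) (.node 218 [⟨111,(Int.ofNat 1),1⟩] (.node 199 [⟨95,(Int.negSucc 0),1⟩] (.node 193 [⟨90,(Int.ofNat 1),1⟩] (.node 167 [⟨63,(Int.ofNat 1),1⟩] (.node 165 [⟨62,(Int.negSucc 0),1⟩] (.node 164 [⟨61,(Int.ofNat 1),1⟩] .nil .nil) .nil) (.node 192 [⟨88,(Int.negSucc 0),1⟩] .nil .nil)) (.node 196 [⟨93,(Int.negSucc 0),1⟩] (.node 194 [⟨91,(Int.negSucc 0),1⟩] .nil .nil) (.node 197 [⟨94,(Int.ofNat 1),1⟩] .nil .nil))) (.node 208 [⟨100,(Int.negSucc 0),1⟩] (.node 203 [⟨98,(Int.negSucc 0),1⟩] (.node 202 [⟨97,(Int.ofNat 1),1⟩] .nil .nil) (.node 205 [⟨99,(Int.ofNat 1),1⟩] .nil .nil)) (.node 213 [⟨109,(Int.ofNat 1),1⟩] (.node 212 [⟨108,(Int.negSucc 0),1⟩] .nil .nil) (.node 215 [⟨110,(Int.negSucc 0),1⟩] .nil .nil)))) (.node 233 [⟨154,(Int.ofNat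 1),1⟩] (.node 229 [⟨130,(Int.ofNat 1),1⟩] (.node 227 [⟨0,(Int.negSucc 0),1⟩, ⟨1,(Int.negSucc 1),1⟩, ⟨2,(Int.negSucc 2),1⟩, ⟨3,(Int.negSucc 3),1⟩, ⟨4,(Int.negSucc 2),1⟩, ⟨5,(Int.negSucc 1),1⟩, ⟨6,(Int.negSucc 0),1⟩, ⟨7,(Int.ofNat 0),1⟩, ⟨28,(Int.negSucc 0),2⟩] (.node 222 [⟨112,(Int.negSucc 0),1⟩] .nil .nil) (.node 228 [⟨128,(Int.negSucc 0),1⟩] .nil .nil)) (.node 231 [⟨137,(Int.ofNat 1),1⟩] (.node 230 [⟨133,(Int.negSucc 0),1⟩] .nil .nil) (.node 232 [⟨142,(Int.negSucc 0),1⟩] .nil .nil))) (.node 243 [⟨185,(Int.ofNat 1),1⟩] (.node 240 [⟨176,(Int.ofNat 1),1⟩] (.node 234 [⟨170,(Int.negSucc 0),1⟩] .nil .nil) (.node 242 [⟨181,(Int.ofNat 1),1⟩] .nil .nil)) (.node 245 [⟨190,(Int.ofNat 1),1⟩] (.node 244 [⟨188,(Int.ofNat 1),1⟩] .nil .nil) (.node 246 [⟨191,(Int.ofNat 1),1⟩] .nil .nil))))))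
noncomputable def col21 : Tr Cl := (.node 166 [⟨66,(Int.ofNat 1),1⟩] (.node 111 [⟨23,(Int.ofNat 1),1⟩] (.node 60 [⟨8,(Int.negSucc 0),1⟩] (.node 4 [⟨29,(Int.ofNat 1),1⟩] (.node 2 [⟨29,(Int.negSucc 0),1⟩] (.node 1 [⟨29,(Int.ofNat 0),1⟩] (.node 0 [⟨29,(Int.ofNat 0),1⟩] .nil .nil) .nil) (.node 3 [⟨29,(Int.ofNat 0),1⟩] .nil .nil)) (.node 6 [⟨29,(Int.ofNat 0),1⟩] (.node 5 [⟨29,(Int.ofNat 0),1⟩] .nil .nil) (.node 7 [⟨29,(Int.ofNat 0),1⟩] .nil .nil))) (.node 78 [⟨14,(Int.negSucc 0),1⟩] (.node 62 [⟨10,(Int.negSucc 0),1⟩] (.node 61 [⟨9,(Int.negSucc 0),1⟩] .nil .nil) (.node 63 [⟨11,(Int.negSucc 0),1⟩] .nil .nil)) (.node 84 [⟨17,(Int.negSucc 0),1⟩] (.node 83 [⟨16,(Int.negSucc 0),1⟩] .nil .nil) (.node 100 [⟨22,(Int.ofNat 1),1⟩] .nil .nil)))) (.node 141 [⟨36,(Int.ofNat 1),1⟩] (.node 136 [⟨32,(Int.ofNat 1),1⟩] (.node 134 [⟨30,(Int.ofNat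 1),1⟩] (.node 112 [⟨24,(Int.ofNat 1),1⟩] .nil .nil) (.node 135 [⟨31,(Int.negSucc 0),1⟩] .nil .nil)) (.node 139 [⟨34,(Int.ofNat 1),1⟩] (.node 137 [⟨33,(Int.negSucc 0),1⟩] .nil .nil) (.node 140 [⟨35,(Int.negSucc 0),1⟩] .nil .nil))) (.node 153 [⟨46,(Int.ofNat 1),1⟩] (.node 151 [⟨44,(Int.ofNat 1),1⟩] (.node 142 [⟨37,(Int.negSucc 0),1⟩] .nil .nil) (.node 152 [⟨45,(Int.negSucc 0),1⟩] .nil .nil)) (.node 164 [⟨64,(Int.ofNat 1),1⟩] (.node 154 [⟨47,(Int.negSucc 0),1⟩] .nil .nil) (.node 165 [⟨65,(Int.negSucc 0),1⟩] .nil .nil))))) (.node 221 [⟨116,(Int.negSucc 0),1⟩] (.node 191 [⟨91,(Int.negSucc 0),1⟩] (.node 187 [⟨87,(Int.ofNat 1),1⟩] (.node 169 [⟨69,(Int.ofNat 1),1⟩] (.node 168 [⟨68,(Int.negSucc 0),1⟩] (.node 167 [⟨67,(Int.ofNat 1),1⟩] .nil .nil) .nil) (.node 186 [⟨86,(Int.negSucc 0),1⟩] .nil .nil)) (.node 189 [⟨89,(Int.negSucc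 0),1⟩] (.node 188 [⟨88,(Int.negSucc 0),1⟩] .nil .nil) (.node 190 [⟨90,(Int.ofNat 1),1⟩] .nil .nil))) (.node 211 [⟨104,(Int.negSucc 0),1⟩] (.node 209 [⟨102,(Int.negSucc 0),1⟩] (.node 208 [⟨101,(Int.ofNat 1),1⟩] .nil .nil) (.node 210 [⟨103,(Int.ofNat 1),1⟩] .nil .nil)) (.node 219 [⟨114,(Int.negSucc 0),1⟩] (.node 218 [⟨113,(Int.ofNat 1),1⟩] .nil .nil) (.node 220 [⟨115,(Int.ofNat 1),1⟩] .nil .nil)))) (.node 233 [⟨155,(Int.negSucc 0),1⟩] (.node 225 [⟨121,(Int.negSucc 0),1⟩] (.node 223 [⟨119,(Int.negSucc 0),1⟩] (.node 222 [⟨118,(Int.ofNat 1),1⟩] .nil .nil) (.node 224 [⟨120,(Int.ofNat 1),1⟩] .nil .nil)) (.node 231 [⟨143,(Int.negSucc 0),1⟩] (.node 226 [⟨0,(Int.negSucc 0),1⟩, ⟨1,(Int.negSucc 1),1⟩, ⟨2,(Int.negSucc 1),1⟩, ⟨3,(Int.negSucc 3),1⟩, ⟨4,(Int.negSucc 3),1⟩, ⟨5,(Int.negSucc 2),1⟩, ⟨6,(Int.negSucc 1),1⟩, ⟨7,(Int.negSucc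 0),1⟩, ⟨29,(Int.negSucc 0),2⟩] .nil .nil) (.node 232 [⟨144,(Int.negSucc 0),1⟩] .nil .nil))) (.node 244 [⟨192,(Int.ofNat 1),1⟩] (.node 239 [⟨172,(Int.ofNat 1),1⟩] (.node 238 [⟨171,(Int.ofNat 1),1⟩] .nil .nil) (.node 241 [⟨177,(Int.ofNat 1),1⟩] .nil .nil)) (.node 246 [⟨194,(Int.ofNat 1),1⟩] (.node 245 [⟨193,(Int.ofNat 1),1⟩] .nil .nil) (.node 247 [⟨195,(Int.ofNat 1),1⟩] .nil .nil))))))
noncomputable def col22 : Tr Cl := (.node 163 [⟨66,(Int.ofNat 1),1⟩] (.node 110 [⟨23,(Int.negSucc 0),1⟩] (.node 57 [⟨8,(Int.ofNat 1),1⟩] (.node 4 [⟨30,(Int.negSucc 0),1⟩] (.node 2 [⟨30,(Int.negSucc 0),1⟩] (.node 1 [⟨30,(Int.ofNat 0),1⟩] (.node 0 [⟨30,(Int.ofNat 0),1⟩] .nil .nil) .nil) (.node 3 [⟨30,(Int.ofNat 1),1⟩] .nil .nil)) (.node 6 [⟨30,(Int.ofNat 0),1⟩] (.node 5 [⟨30,(Int.ofNat 1),1⟩] .nil .nil) (.node 7 [⟨30,(Int.ofNat 0),1⟩]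 .nil .nil))) (.node 77 [⟨14,(Int.ofNat 1),1⟩] (.node 59 [⟨10,(Int.ofNat 1),1⟩] (.node 58 [⟨9,(Int.ofNat 1),1⟩] .nil .nil) (.node 63 [⟨12,(Int.negSucc 0),1⟩] .nil .nil)) (.node 84 [⟨18,(Int.negSucc 0),1⟩] (.node 82 [⟨16,(Int.ofNat 1),1⟩] .nil .nil) (.node 99 [⟨22,(Int.negSucc 0),1⟩] .nil .nil)))) (.node 141 [⟨39,(Int.ofNat 1),1⟩] (.node 132 [⟨32,(Int.negSucc 0),1⟩] (.node 121 [⟨29,(Int.ofNat 1),1⟩] (.node 112 [⟨25,(Int.ofNat 1),1⟩] .nil .nil) (.node 131 [⟨31,(Int.ofNat 1),1⟩] .nil .nil)) (.node 138 [⟨34,(Int.ofNat 1),1⟩] (.node 133 [⟨33,(Int.ofNat 1),1⟩] .nil .nil) (.node 140 [⟨38,(Int.negSucc 0),1⟩] .nil .nil))) (.node 153 [⟨49,(Int.ofNat 1),1⟩] (.node 150 [⟨44,(Int.ofNat 1),1⟩] (.node 142 [⟨40,(Int.negSucc 0),1⟩] .nil .nil) (.node 152 [⟨48,(Int.negSucc 0),1⟩] .nil .nil)) (.node 161 [⟨64,(Int.ofNat 1),1⟩] (.node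 154 [⟨50,(Int.negSucc 0),1⟩] .nil .nil) (.node 162 [⟨65,(Int.negSucc 0),1⟩] .nil .nil))))) (.node 221 [⟨117,(Int.negSucc 0),1⟩] (.node 191 [⟨94,(Int.negSucc 0),1⟩] (.node 184 [⟨87,(Int.ofNat 1),1⟩] (.node 169 [⟨72,(Int.ofNat 1),1⟩] (.node 168 [⟨71,(Int.negSucc 0),1⟩] (.node 167 [⟨70,(Int.ofNat 1),1⟩] .nil .nil) .nil) (.node 183 [⟨86,(Int.negSucc 0),1⟩] .nil .nil)) (.node 189 [⟨92,(Int.negSucc 0),1⟩] (.node 185 [⟨88,(Int.negSucc 0),1⟩] .nil .nil) (.node 190 [⟨93,(Int.ofNat 1),1⟩] .nil .nil))) (.node 211 [⟨105,(Int.negSucc 0),1⟩] (.node 206 [⟨102,(Int.negSucc 0),1⟩] (.node 205 [⟨101,(Int.ofNat 1),1⟩] .nil .nil) (.node 207 [⟨103,(Int.ofNat 1),1⟩] .nil .nil)) (.node 216 [⟨114,(Int.negSucc 0),1⟩] (.node 215 [⟨113,(Int.ofNat 1),1⟩] .nil .nil) (.node 217 [⟨115,(Int.ofNat 1),1⟩] .nil .nil)))) (.node 233 [⟨156,(Int.ofNat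 1),1⟩] (.node 225 [⟨0,(Int.negSucc 0),1⟩, ⟨1,(Int.negSucc 1),1⟩, ⟨2,(Int.negSucc 1),1⟩, ⟨3,(Int.negSucc 3),1⟩, ⟨4,(Int.negSucc 2),1⟩, ⟨5,(Int.negSucc 2),1⟩, ⟨6,(Int.negSucc 1),1⟩, ⟨7,(Int.negSucc 0),1⟩, ⟨30,(Int.negSucc 0),2⟩] (.node 223 [⟨123,(Int.ofNat 1),1⟩] (.node 222 [⟨122,(Int.negSucc 0),1⟩] .nil .nil) (.node 224 [⟨124,(Int.negSucc 0),1⟩] .nil .nil)) (.node 230 [⟨143,(Int.negSucc 0),1⟩] (.node 226 [⟨134,(Int.negSucc 0),1⟩] .nil .nil) (.node 232 [⟨145,(Int.ofNat 1),1⟩] .nil .nil))) (.node 243 [⟨192,(Int.ofNat 1),1⟩] (.node 239 [⟨173,(Int.negSucc 0),1⟩] (.node 237 [⟨171,(Int.ofNat 1),1⟩] .nil .nil) (.node 241 [⟨178,(Int.negSucc 0),1⟩] .nil .nil)) (.node 246 [⟨197,(Int.negSucc 0),1⟩] (.node 245 [⟨196,(Int.negSucc 0),1⟩] .nil .nil) (.node 247 [⟨198,(Int.negSucc 0),1⟩] .nil .nil))))))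
noncomputable def col23 : Tr Cl := (.node 163 [⟨68,(Int.ofNat 1),1⟩] (.node 109 [⟨23,(Int.ofNat 1),1⟩] (.node 55 [⟨8,(Int.negSucc 0),1⟩] (.node 4 [⟨31,(Int.ofNat 0),1⟩] (.node 2 [⟨31,(Int.negSucc 0),1⟩] (.node 1 [⟨31,(Int.ofNat 0),1⟩] (.node 0 [⟨31,(Int.ofNat 0),1⟩] .nil .nil) .nil) (.node 3 [⟨31,(Int.ofNat 1),1⟩] .nil .nil)) (.node 6 [⟨31,(Int.ofNat 1),1⟩] (.node 5 [⟨31,(Int.negSucc 0),1⟩] .nil .nil) (.node 7 [⟨31,(Int.ofNat 0),1⟩] .nil .nil))) (.node 76 [⟨14,(Int.negSucc 0),1⟩] (.node 59 [⟨11,(Int.ofNat 1),1⟩] (.node 56 [⟨9,(Int.negSucc 0),1⟩] .nil .nil) (.node 62 [⟨12,(Int.ofNat 1),1⟩] .nil .nil)) (.node 84 [⟨19,(Int.negSucc 0),1⟩] (.node 81 [⟨16,(Int.negSucc 0),1⟩] .nil .nil) (.node 98 [⟨22,(Int.ofNat 1),1⟩] .nil .nil)))) (.node 141 [⟨41,(Int.ofNat 1),1⟩] (.node 129 [⟨32,(Int.ofNat 1),1⟩] (.node 120 [⟨29,(Int.negSucc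 0),1⟩] (.node 112 [⟨26,(Int.ofNat 1),1⟩] .nil .nil) (.node 124 [⟨30,(Int.ofNat 1),1⟩] .nil .nil)) (.node 138 [⟨35,(Int.ofNat 1),1⟩] (.node 130 [⟨33,(Int.negSucc 0),1⟩] .nil .nil) (.node 139 [⟨38,(Int.negSucc 0),1⟩] .nil .nil))) (.node 153 [⟨51,(Int.ofNat 1),1⟩] (.node 150 [⟨45,(Int.ofNat 1),1⟩] (.node 142 [⟨42,(Int.negSucc 0),1⟩] .nil .nil) (.node 151 [⟨48,(Int.negSucc 0),1⟩] .nil .nil)) (.node 160 [⟨64,(Int.ofNat 1),1⟩] (.node 154 [⟨52,(Int.negSucc 0),1⟩] .nil .nil) (.node 162 [⟨67,(Int.negSucc 0),1⟩] .nil .nil))))) (.node 220 [⟨117,(Int.negSucc 0),1⟩] (.node 191 [⟨95,(Int.negSucc 0),1⟩] (.node 184 [⟨89,(Int.ofNat 1),1⟩] (.node 169 [⟨73,(Int.ofNat 1),1⟩] (.node 166 [⟨71,(Int.negSucc 0),1⟩] (.node 165 [⟨70,(Int.ofNat 1),1⟩] .nil .nil) .nil) (.node 182 [⟨86,(Int.negSucc 0),1⟩] .nil .nil)) (.node 187 [⟨92,(Int.negSucc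 0),1⟩] (.node 185 [⟨90,(Int.negSucc 0),1⟩] .nil .nil) (.node 188 [⟨93,(Int.ofNat 1),1⟩] .nil .nil))) (.node 210 [⟨105,(Int.negSucc 0),1⟩] (.node 204 [⟨102,(Int.negSucc 0),1⟩] (.node 203 [⟨101,(Int.ofNat 1),1⟩] .nil .nil) (.node 207 [⟨104,(Int.ofNat 1),1⟩] .nil .nil)) (.node 214 [⟨114,(Int.negSucc 0),1⟩] (.node 213 [⟨113,(Int.ofNat 1),1⟩] .nil .nil) (.node 217 [⟨116,(Int.ofNat 1),1⟩] .nil .nil)))) (.node 233 [⟨157,(Int.negSucc 0),1⟩] (.node 225 [⟨131,(Int.negSucc 0),1⟩] (.node 223 [⟨126,(Int.negSucc 0),1⟩] (.node 222 [⟨125,(Int.ofNat 1),1⟩] .nil .nil) (.node 224 [⟨0,(Int.negSucc 0),1⟩, ⟨1,(Int.negSucc 1),1⟩, ⟨2,(Int.negSucc 1),1⟩, ⟨3,(Int.negSucc 3),1⟩, ⟨4,(Int.negSucc 2),1⟩, ⟨5,(Int.negSucc 1),1⟩, ⟨6,(Int.negSucc 1),1⟩, ⟨7,(Int.negSucc 0),1⟩, ⟨31,(Int.negSucc 0),2⟩] .nil .nil)) (.node 229 [⟨143,(Int.negSucc 0),1⟩]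 (.node 226 [⟨135,(Int.ofNat 1),1⟩] .nil .nil) (.node 232 [⟨146,(Int.negSucc 0),1⟩] .nil .nil))) (.node 243 [⟨193,(Int.negSucc 0),1⟩] (.node 239 [⟨174,(Int.ofNat 1),1⟩] (.node 236 [⟨171,(Int.ofNat 1),1⟩] .nil .nil) (.node 241 [⟨179,(Int.ofNat 1),1⟩] .nil .nil)) (.node 246 [⟨199,(Int.ofNat 1),1⟩] (.node 244 [⟨196,(Int.negSucc 0),1⟩] .nil .nil) (.node 247 [⟨200,(Int.ofNat 1),1⟩] .nil .nil))))))
noncomputable def col24 : Tr Cl := (.node 163 [⟨69,(Int.ofNat 1),1⟩] (.node 108 [⟨23,(Int.negSucc 0),1⟩] (.node 54 [⟨8,(Int.ofNat 1),1⟩] (.node 4 [⟨32,(Int.ofNat 0),1⟩] (.node 2 [⟨32,(Int.negSucc 0),1⟩] (.node 1 [⟨32,(Int.ofNat 0),1⟩] (.node 0 [⟨32,(Int.ofNat 0),1⟩] .nil .nil) .nil) (.node 3 [⟨32,(Int.ofNat 1),1⟩] .nil .nil)) (.node 6 [⟨32,(Int.negSucc 0),1⟩] (.node 5 [⟨32,(Int.ofNat 0),1⟩] .nil .nil) (.node 7 [⟨32,(Int.ofNat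 1),1⟩] .nil .nil))) (.node 75 [⟨14,(Int.ofNat 1),1⟩] (.node 58 [⟨11,(Int.negSucc 0),1⟩] (.node 56 [⟨10,(Int.negSucc 0),1⟩] .nil .nil) (.node 61 [⟨12,(Int.negSucc 0),1⟩] .nil .nil)) (.node 84 [⟨20,(Int.negSucc 0),1⟩] (.node 80 [⟨16,(Int.ofNat 1),1⟩] .nil .nil) (.node 97 [⟨22,(Int.negSucc 0),1⟩] .nil .nil)))) (.node 140 [⟨41,(Int.ofNat 1),1⟩] (.node 126 [⟨31,(Int.ofNat 1),1⟩] (.node 119 [⟨29,(Int.ofNat 1),1⟩] (.node 112 [⟨27,(Int.ofNat 1),1⟩] .nil .nil) (.node 123 [⟨30,(Int.negSucc 0),1⟩] .nil .nil)) (.node 138 [⟨36,(Int.ofNat 1),1⟩] (.node 128 [⟨33,(Int.ofNat 1),1⟩] .nil .nil) (.node 139 [⟨39,(Int.negSucc 0),1⟩] .nil .nil))) (.node 152 [⟨51,(Int.ofNat 1),1⟩] (.node 150 [⟨46,(Int.ofNat 1),1⟩] (.node 142 [⟨43,(Int.negSucc 0),1⟩] .nil .nil) (.node 151 [⟨49,(Int.negSucc 0),1⟩] .nil .nil)) (.node 160 [⟨65,(Int.ofNat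 1),1⟩] (.node 154 [⟨53,(Int.negSucc 0),1⟩] .nil .nil) (.node 161 [⟨67,(Int.negSucc 0),1⟩] .nil .nil))))) (.node 219 [⟨117,(Int.negSucc 0),1⟩] (.node 190 [⟨95,(Int.negSucc 0),1⟩] (.node 183 [⟨89,(Int.ofNat 1),1⟩] (.node 168 [⟨73,(Int.ofNat 1),1⟩] (.node 166 [⟨72,(Int.negSucc 0),1⟩] (.node 164 [⟨70,(Int.ofNat 1),1⟩] .nil .nil) .nil) (.node 182 [⟨87,(Int.negSucc 0),1⟩] .nil .nil)) (.node 186 [⟨92,(Int.negSucc 0),1⟩] (.node 185 [⟨91,(Int.negSucc 0),1⟩] .nil .nil) (.node 188 [⟨94,(Int.ofNat 1),1⟩] .nil .nil))) (.node 209 [⟨105,(Int.negSucc 0),1⟩] (.node 204 [⟨103,(Int.negSucc 0),1⟩] (.node 202 [⟨101,(Int.ofNat 1),1⟩] .nil .nil) (.node 206 [⟨104,(Int.ofNat 1),1⟩] .nil .nil)) (.node 214 [⟨115,(Int.negSucc 0),1⟩] (.node 212 [⟨113,(Int.ofNat 1),1⟩] .nil .nil) (.node 216 [⟨116,(Int.ofNat 1),1⟩] .nil .nil)))) (.node 233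 [⟨158,(Int.ofNat 1),1⟩] (.node 225 [⟨132,(Int.ofNat 1),1⟩] (.node 223 [⟨0,(Int.negSucc 0),1⟩, ⟨1,(Int.negSucc 1),1⟩, ⟨2,(Int.negSucc 1),1⟩, ⟨3,(Int.negSucc 3),1⟩, ⟨4,(Int.negSucc 2),1⟩, ⟨5,(Int.negSucc 1),1⟩, ⟨6,(Int.negSucc 0),1⟩, ⟨7,(Int.negSucc 0),1⟩, ⟨32,(Int.negSucc 0),2⟩] (.node 222 [⟨127,(Int.negSucc 0),1⟩] .nil .nil) (.node 224 [⟨129,(Int.negSucc 0),1⟩] .nil .nil)) (.node 228 [⟨143,(Int.negSucc 0),1⟩] (.node 226 [⟨136,(Int.negSucc 0),1⟩] .nil .nil) (.node 232 [⟨147,(Int.ofNat 1),1⟩] .nil .nil))) (.node 243 [⟨194,(Int.ofNat 1),1⟩] (.node 239 [⟨175,(Int.negSucc 0),1⟩] (.node 235 [⟨171,(Int.ofNat 1),1⟩] .nil .nil) (.node 241 [⟨180,(Int.negSucc 0),1⟩] .nil .nil)) (.node 245 [⟨199,(Int.ofNat 1),1⟩] (.node 244 [⟨197,(Int.ofNat 1),1⟩] .nil .nil) (.node 247 [⟨201,(Int.negSucc 0),1⟩] .nil .nil))))))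
noncomputable def col25 : Tr Cl := (.node 162 [⟨69,(Int.ofNat 1),1⟩] (.node 107 [⟨23,(Int.ofNat 1),1⟩] (.node 54 [⟨9,(Int.ofNat 1),1⟩] (.node 4 [⟨33,(Int.ofNat 0),1⟩] (.node 2 [⟨33,(Int.negSucc 0),1⟩] (.node 1 [⟨33,(Int.ofNat 0),1⟩] (.node 0 [⟨33,(Int.ofNat 0),1⟩] .nil .nil) .nil) (.node 3 [⟨33,(Int.ofNat 1),1⟩] .nil .nil)) (.node 6 [⟨33,(Int.ofNat 0),1⟩] (.node 5 [⟨33,(Int.ofNat 0),1⟩] .nil .nil) (.node 7 [⟨33,(Int.negSucc 0),1⟩] .nil .nil))) (.node 74 [⟨14,(Int.negSucc 0),1⟩] (.node 57 [⟨11,(Int.ofNat 1),1⟩] (.node 55 [⟨10,(Int.ofNat 1),1⟩] .nil .nil) (.node 60 [⟨12,(Int.ofNat 1),1⟩] .nil .nil)) (.node 84 [⟨21,(Int.negSucc 0),1⟩] (.node 79 [⟨16,(Int.negSucc 0),1⟩] .nil .nil) (.node 96 [⟨22,(Int.ofNat 1),1⟩] .nil .nil)))) (.node 140 [⟨42,(Int.ofNat 1),1⟩] (.node 125 [⟨31,(Int.negSucc 0),1⟩] (.node 118 [⟨29,(Int.negSucc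 0),1⟩] (.node 112 [⟨28,(Int.ofNat 1),1⟩] .nil .nil) (.node 122 [⟨30,(Int.ofNat 1),1⟩] .nil .nil)) (.node 138 [⟨37,(Int.ofNat 1),1⟩] (.node 127 [⟨32,(Int.ofNat 1),1⟩] .nil .nil) (.node 139 [⟨40,(Int.negSucc 0),1⟩] .nil .nil))) (.node 152 [⟨52,(Int.ofNat 1),1⟩] (.node 150 [⟨47,(Int.ofNat 1),1⟩] (.node 141 [⟨43,(Int.negSucc 0),1⟩] .nil .nil) (.node 151 [⟨50,(Int.negSucc 0),1⟩] .nil .nil)) (.node 160 [⟨66,(Int.ofNat 1),1⟩] (.node 153 [⟨53,(Int.negSucc 0),1⟩] .nil .nil) (.node 161 [⟨68,(Int.negSucc 0),1⟩] .nil .nil))))) (.node 218 [⟨117,(Int.negSucc 0),1⟩] (.node 189 [⟨95,(Int.negSucc 0),1⟩] (.node 183 [⟨90,(Int.ofNat 1),1⟩] (.node 167 [⟨73,(Int.ofNat 1),1⟩] (.node 165 [⟨72,(Int.negSucc 0),1⟩] (.node 164 [⟨71,(Int.ofNat 1),1⟩] .nil .nil) .nil) (.node 182 [⟨88,(Int.negSucc 0),1⟩] .nil .nil)) (.node 186 [⟨93,(Int.negSucc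 0),1⟩] (.node 184 [⟨91,(Int.negSucc 0),1⟩] .nil .nil) (.node 187 [⟨94,(Int.ofNat 1),1⟩] .nil .nil))) (.node 208 [⟨105,(Int.negSucc 0),1⟩] (.node 203 [⟨103,(Int.negSucc 0),1⟩] (.node 202 [⟨102,(Int.ofNat 1),1⟩] .nil .nil) (.node 205 [⟨104,(Int.ofNat 1),1⟩] .nil .nil)) (.node 213 [⟨115,(Int.negSucc 0),1⟩] (.node 212 [⟨114,(Int.ofNat 1),1⟩] .nil .nil) (.node 215 [⟨116,(Int.ofNat 1),1⟩] .nil .nil)))) (.node 233 [⟨159,(Int.negSucc 0),1⟩] (.node 225 [⟨133,(Int.negSucc 0),1⟩] (.node 223 [⟨128,(Int.negSucc 0),1⟩] (.node 222 [⟨0,(Int.negSucc 0),1⟩, ⟨1,(Int.negSucc 1),1⟩, ⟨2,(Int.negSucc 1),1⟩, ⟨3,(Int.negSucc 3),1⟩, ⟨4,(Int.negSucc 2),1⟩, ⟨5,(Int.negSucc 1),1⟩, ⟨6,(Int.negSucc 0),1⟩, ⟨7,(Int.ofNat 0),1⟩, ⟨33,(Int.negSucc 0),2⟩] .nil .nil) (.node 224 [⟨130,(Int.ofNat 1),1⟩] .nil .nil)) (.node 227 [⟨143,(Int.negSucc 0),1⟩]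 (.node 226 [⟨137,(Int.ofNat 1),1⟩] .nil .nil) (.node 232 [⟨148,(Int.negSucc 0),1⟩] .nil .nil))) (.node 243 [⟨195,(Int.negSucc 0),1⟩] (.node 239 [⟨176,(Int.ofNat 1),1⟩] (.node 234 [⟨171,(Int.ofNat 1),1⟩] .nil .nil) (.node 241 [⟨181,(Int.ofNat 1),1⟩] .nil .nil)) (.node 245 [⟨200,(Int.negSucc 0),1⟩] (.node 244 [⟨198,(Int.negSucc 0),1⟩] .nil .nil) (.node 246 [⟨201,(Int.negSucc 0),1⟩] .nil .nil))))))
noncomputable def col26 : Tr Cl := (.node 159 [⟨66,(Int.ofNat 1),1⟩] (.node 110 [⟨24,(Int.negSucc 0),1⟩] (.node 51 [⟨8,(Int.negSucc 0),1⟩] (.node 4 [⟨34,(Int.ofNat 0),1⟩] (.node 2 [⟨34,(Int.ofNat 0),1⟩] (.node 1 [⟨34,(Int.ofNat 1),1⟩] (.node 0 [⟨34,(Int.ofNat 0),1⟩] .nil .nil) .nil) (.node 3 [⟨34,(Int.negSucc 0),1⟩] .nil .nil)) (.node 6 [⟨34,(Int.ofNat 0),1⟩] (.node 5 [⟨34,(Int.ofNat 1),1⟩] .nil .nil) (.node 7 [⟨34,(Int.ofNat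 0),1⟩] .nil .nil))) (.node 73 [⟨14,(Int.negSucc 0),1⟩] (.node 53 [⟨10,(Int.negSucc 0),1⟩] (.node 52 [⟨9,(Int.negSucc 0),1⟩] .nil .nil) (.node 63 [⟨13,(Int.negSucc 0),1⟩] .nil .nil)) (.node 83 [⟨18,(Int.ofNat 1),1⟩] (.node 82 [⟨17,(Int.ofNat 1),1⟩] .nil .nil) (.node 95 [⟨22,(Int.ofNat 1),1⟩] .nil .nil)))) (.node 136 [⟨39,(Int.negSucc 0),1⟩] (.node 131 [⟨35,(Int.ofNat 1),1⟩] (.node 116 [⟨29,(Int.ofNat 1),1⟩] (.node 111 [⟨25,(Int.negSucc 0),1⟩] .nil .nil) (.node 117 [⟨30,(Int.ofNat 1),1⟩] .nil .nil)) (.node 133 [⟨37,(Int.ofNat 1),1⟩] (.node 132 [⟨36,(Int.negSucc 0),1⟩] .nil .nil) (.node 135 [⟨38,(Int.ofNat 1),1⟩] .nil .nil))) (.node 153 [⟨55,(Int.ofNat 1),1⟩] (.node 149 [⟨44,(Int.ofNat 1),1⟩] (.node 137 [⟨40,(Int.ofNat 1),1⟩] .nil .nil) (.node 152 [⟨54,(Int.negSucc 0),1⟩] .nil .nil)) (.node 157 [⟨64,(Int.ofNat 1),1⟩]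 (.node 154 [⟨56,(Int.negSucc 0),1⟩] .nil .nil) (.node 158 [⟨65,(Int.negSucc 0),1⟩] .nil .nil))))) (.node 218 [⟨122,(Int.negSucc 0),1⟩] (.node 191 [⟨98,(Int.negSucc 0),1⟩] (.node 180 [⟨87,(Int.ofNat 1),1⟩] (.node 169 [⟨76,(Int.ofNat 1),1⟩] (.node 168 [⟨75,(Int.negSucc 0),1⟩] (.node 167 [⟨74,(Int.ofNat 1),1⟩] .nil .nil) .nil) (.node 179 [⟨86,(Int.negSucc 0),1⟩] .nil .nil)) (.node 189 [⟨96,(Int.negSucc 0),1⟩] (.node 181 [⟨88,(Int.negSucc 0),1⟩] .nil .nil) (.node 190 [⟨97,(Int.ofNat 1),1⟩] .nil .nil))) (.node 211 [⟨106,(Int.negSucc 0),1⟩] (.node 200 [⟨102,(Int.negSucc 0),1⟩] (.node 199 [⟨101,(Int.ofNat 1),1⟩] .nil .nil) (.node 201 [⟨103,(Int.ofNat 1),1⟩] .nil .nil)) (.node 216 [⟨119,(Int.ofNat 1),1⟩] (.node 215 [⟨118,(Int.negSucc 0),1⟩] .nil .nil) (.node 217 [⟨120,(Int.negSucc 0),1⟩] .nil .nil)))) (.node 233 [⟨160,(Int.negSucc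 0),1⟩] (.node 225 [⟨138,(Int.negSucc 0),1⟩] (.node 220 [⟨124,(Int.negSucc 0),1⟩] (.node 219 [⟨123,(Int.ofNat 1),1⟩] .nil .nil) (.node 221 [⟨0,(Int.negSucc 0),1⟩, ⟨1,(Int.negSucc 1),1⟩, ⟨2,(Int.negSucc 1),1⟩, ⟨3,(Int.negSucc 2),1⟩, ⟨4,(Int.negSucc 2),1⟩, ⟨5,(Int.negSucc 2),1⟩, ⟨6,(Int.negSucc 1),1⟩, ⟨7,(Int.negSucc 0),1⟩, ⟨34,(Int.negSucc 0),2⟩] .nil .nil)) (.node 230 [⟨144,(Int.ofNat 1),1⟩] (.node 226 [⟨139,(Int.negSucc 0),1⟩] .nil .nil) (.node 231 [⟨145,(Int.ofNat 1),1⟩] .nil .nil))) (.node 242 [⟨192,(Int.ofNat 1),1⟩] (.node 238 [⟨173,(Int.negSucc 0),1⟩] (.node 237 [⟨172,(Int.negSucc 0),1⟩] .nil .nil) (.node 241 [⟨182,(Int.ofNat 1),1⟩] .nil .nil)) (.node 246 [⟨203,(Int.ofNat 1),1⟩] (.node 245 [⟨202,(Int.ofNat 1),1⟩] .nil .nil) (.node 247 [⟨204,(Int.ofNat 1),1⟩] .nil .nil))))))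
noncomputable def col27 : Tr Cl := (.node 159 [⟨68,(Int.ofNat 1),1⟩] (.node 109 [⟨24,(Int.ofNat 1),1⟩] (.node 49 [⟨8,(Int.ofNat 1),1⟩] (.node 4 [⟨35,(Int.ofNat 1),1⟩] (.node 2 [⟨35,(Int.ofNat 0),1⟩] (.node 1 [⟨35,(Int.ofNat 1),1⟩] (.node 0 [⟨35,(Int.ofNat 0),1⟩] .nil .nil) .nil) (.node 3 [⟨35,(Int.negSucc 0),1⟩] .nil .nil)) (.node 6 [⟨35,(Int.ofNat 1),1⟩] (.node 5 [⟨35,(Int.negSucc 0),1⟩] .nil .nil) (.node 7 [⟨35,(Int.ofNat 0),1⟩] .nil .nil))) (.node 72 [⟨14,(Int.ofNat 1),1⟩] (.node 53 [⟨11,(Int.negSucc 0),1⟩] (.node 50 [⟨9,(Int.ofNat 1),1⟩] .nil .nil) (.node 62 [⟨13,(Int.ofNat 1),1⟩] .nil .nil)) (.node 83 [⟨19,(Int.ofNat 1),1⟩] (.node 81 [⟨17,(Int.negSucc 0),1⟩] .nil .nil) (.node 94 [⟨22,(Int.negSucc 0),1⟩] .nil .nil)))) (.node 136 [⟨41,(Int.negSucc 0),1⟩] (.node 124 [⟨34,(Int.ofNat 1),1⟩] (.node 115 [⟨29,(Int.negSucc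 0),1⟩] (.node 111 [⟨26,(Int.negSucc 0),1⟩] .nil .nil) (.node 117 [⟨31,(Int.ofNat 1),1⟩] .nil .nil)) (.node 130 [⟨37,(Int.negSucc 0),1⟩] (.node 129 [⟨36,(Int.ofNat 1),1⟩] .nil .nil) (.node 134 [⟨38,(Int.ofNat 1),1⟩] .nil .nil))) (.node 153 [⟨57,(Int.ofNat 1),1⟩] (.node 149 [⟨45,(Int.ofNat 1),1⟩] (.node 137 [⟨42,(Int.ofNat 1),1⟩] .nil .nil) (.node 151 [⟨54,(Int.negSucc 0),1⟩] .nil .nil)) (.node 156 [⟨64,(Int.ofNat 1),1⟩] (.node 154 [⟨58,(Int.negSucc 0),1⟩] .nil .nil) (.node 158 [⟨67,(Int.negSucc 0),1⟩] .nil .nil))))) (.node 218 [⟨125,(Int.ofNat 1),1⟩] (.node 191 [⟨99,(Int.negSucc 0),1⟩] (.node 180 [⟨89,(Int.ofNat 1),1⟩] (.node 169 [⟨77,(Int.ofNat 1),1⟩] (.node 166 [⟨75,(Int.negSucc 0),1⟩] (.node 165 [⟨74,(Int.ofNat 1),1⟩] .nil .nil) .nil) (.node 178 [⟨86,(Int.negSucc 0),1⟩] .nil .nil)) (.node 187 [⟨96,(Int.negSucc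 0),1⟩] (.node 181 [⟨90,(Int.negSucc 0),1⟩] .nil .nil) (.node 188 [⟨97,(Int.ofNat 1),1⟩] .nil .nil))) (.node 210 [⟨106,(Int.negSucc 0),1⟩] (.node 198 [⟨102,(Int.negSucc 0),1⟩] (.node 197 [⟨101,(Int.ofNat 1),1⟩] .nil .nil) (.node 201 [⟨104,(Int.ofNat 1),1⟩] .nil .nil)) (.node 214 [⟨119,(Int.ofNat 1),1⟩] (.node 213 [⟨118,(Int.negSucc 0),1⟩] .nil .nil) (.node 217 [⟨121,(Int.negSucc 0),1⟩] .nil .nil)))) (.node 233 [⟨161,(Int.ofNat 1),1⟩] (.node 224 [⟨138,(Int.negSucc 0),1⟩] (.node 220 [⟨0,(Int.negSucc 0),1⟩, ⟨1,(Int.negSucc 1),1⟩, ⟨2,(Int.negSucc 1),1⟩, ⟨3,(Int.negSucc 2),1⟩, ⟨4,(Int.negSucc 2),1⟩, ⟨5,(Int.negSucc 1),1⟩, ⟨6,(Int.negSucc 1),1⟩, ⟨7,(Int.negSucc 0),1⟩, ⟨35,(Int.negSucc 0),2⟩] (.node 219 [⟨126,(Int.negSucc 0),1⟩] .nil .nil) (.node 221 [⟨131,(Int.negSucc 0),1⟩] .nil .nil)) (.node 229 [⟨144,(Int.ofNat 1),1⟩]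 (.node 226 [⟨140,(Int.ofNat 1),1⟩] .nil .nil) (.node 231 [⟨146,(Int.negSucc 0),1⟩] .nil .nil))) (.node 242 [⟨193,(Int.negSucc 0),1⟩] (.node 238 [⟨174,(Int.ofNat 1),1⟩] (.node 236 [⟨172,(Int.negSucc 0),1⟩] .nil .nil) (.node 241 [⟨183,(Int.negSucc 0),1⟩] .nil .nil)) (.node 246 [⟨205,(Int.negSucc 0),1⟩] (.node 244 [⟨202,(Int.ofNat 1),1⟩] .nil .nil) (.node 247 [⟨206,(Int.negSucc 0),1⟩] .nil .nil))))))
noncomputable def col28 : Tr Cl := (.node 159 [⟨69,(Int.ofNat 1),1⟩] (.node 108 [⟨24,(Int.negSucc 0),1⟩] (.node 48 [⟨8,(Int.negSucc 0),1⟩] (.node 4 [⟨36,(Int.ofNat 1),1⟩] (.node 2 [⟨36,(Int.ofNat 0),1⟩] (.node 1 [⟨36,(Int.ofNat 1),1⟩] (.node 0 [⟨36,(Int.ofNat 0),1⟩] .nil .nil) .nil) (.node 3 [⟨36,(Int.negSucc 0),1⟩] .nil .nil)) (.node 6 [⟨36,(Int.negSucc 0),1⟩] (.node 5 [⟨36,(Int.ofNat 0),1⟩] .nil .nil) (.node 7 [⟨36,(Int.ofNat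 1),1⟩] .nil .nil))) (.node 71 [⟨14,(Int.negSucc 0),1⟩] (.node 52 [⟨11,(Int.ofNat 1),1⟩] (.node 50 [⟨10,(Int.ofNat 1),1⟩] .nil .nil) (.node 61 [⟨13,(Int.negSucc 0),1⟩] .nil .nil)) (.node 83 [⟨20,(Int.ofNat 1),1⟩] (.node 80 [⟨17,(Int.ofNat 1),1⟩] .nil .nil) (.node 93 [⟨22,(Int.ofNat 1),1⟩] .nil .nil)))) (.node 135 [⟨41,(Int.negSucc 0),1⟩] (.node 123 [⟨34,(Int.negSucc 0),1⟩] (.node 114 [⟨29,(Int.ofNat 1),1⟩] (.node 111 [⟨27,(Int.negSucc 0),1⟩] .nil .nil) (.node 117 [⟨32,(Int.ofNat 1),1⟩] .nil .nil)) (.node 128 [⟨37,(Int.ofNat 1),1⟩] (.node 126 [⟨35,(Int.ofNat 1),1⟩] .nil .nil) (.node 134 [⟨39,(Int.ofNat 1),1⟩] .nil .nil))) (.node 152 [⟨57,(Int.ofNat 1),1⟩] (.node 149 [⟨46,(Int.ofNat 1),1⟩] (.node 137 [⟨43,(Int.ofNat 1),1⟩] .nil .nil) (.node 151 [⟨55,(Int.negSucc 0),1⟩] .nil .nil)) (.node 156 [⟨65,(Int.ofNat 1),1⟩]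 (.node 154 [⟨59,(Int.negSucc 0),1⟩] .nil .nil) (.node 157 [⟨67,(Int.negSucc 0),1⟩] .nil .nil))))) (.node 218 [⟨127,(Int.negSucc 0),1⟩] (.node 190 [⟨99,(Int.negSucc 0),1⟩] (.node 179 [⟨89,(Int.ofNat 1),1⟩] (.node 168 [⟨77,(Int.ofNat 1),1⟩] (.node 166 [⟨76,(Int.negSucc 0),1⟩] (.node 164 [⟨74,(Int.ofNat 1),1⟩] .nil .nil) .nil) (.node 178 [⟨87,(Int.negSucc 0),1⟩] .nil .nil)) (.node 186 [⟨96,(Int.negSucc 0),1⟩] (.node 181 [⟨91,(Int.negSucc 0),1⟩] .nil .nil) (.node 188 [⟨98,(Int.ofNat 1),1⟩] .nil .nil))) (.node 209 [⟨106,(Int.negSucc 0),1⟩] (.node 198 [⟨103,(Int.negSucc 0),1⟩] (.node 196 [⟨101,(Int.ofNat 1),1⟩] .nil .nil) (.node 200 [⟨104,(Int.ofNat 1),1⟩] .nil .nil)) (.node 214 [⟨120,(Int.ofNat 1),1⟩] (.node 212 [⟨118,(Int.negSucc 0),1⟩] .nil .nil) (.node 216 [⟨121,(Int.negSucc 0),1⟩] .nil .nil)))) (.node 233 [⟨162,(Int.negSucc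 0),1⟩] (.node 223 [⟨138,(Int.negSucc 0),1⟩] (.node 220 [⟨129,(Int.negSucc 0),1⟩] (.node 219 [⟨0,(Int.negSucc 0),1⟩, ⟨1,(Int.negSucc 1),1⟩, ⟨2,(Int.negSucc 1),1⟩, ⟨3,(Int.negSucc 2),1⟩, ⟨4,(Int.negSucc 2),1⟩, ⟨5,(Int.negSucc 1),1⟩, ⟨6,(Int.negSucc 0),1⟩, ⟨7,(Int.negSucc 0),1⟩, ⟨36,(Int.negSucc 0),2⟩] .nil .nil) (.node 221 [⟨132,(Int.ofNat 1),1⟩] .nil .nil)) (.node 228 [⟨144,(Int.ofNat 1),1⟩] (.node 226 [⟨141,(Int.negSucc 0),1⟩] .nil .nil) (.node 231 [⟨147,(Int.ofNat 1),1⟩] .nil .nil))) (.node 242 [⟨194,(Int.ofNat 1),1⟩] (.node 238 [⟨175,(Int.negSucc 0),1⟩] (.node 235 [⟨172,(Int.negSucc 0),1⟩] .nil .nil) (.node 241 [⟨184,(Int.ofNat 1),1⟩] .nil .nil)) (.node 245 [⟨205,(Int.negSucc 0),1⟩] (.node 244 [⟨203,(Int.negSucc 0),1⟩] .nil .nil) (.node 247 [⟨207,(Int.ofNat 1),1⟩] .nil .nil))))))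
noncomputable def col29 : Tr Cl := (.node 158 [⟨69,(Int.ofNat 1),1⟩] (.node 107 [⟨24,(Int.ofNat 1),1⟩] (.node 48 [⟨9,(Int.negSucc 0),1⟩] (.node 4 [⟨37,(Int.ofNat 1),1⟩] (.node 2 [⟨37,(Int.ofNat 0),1⟩] (.node 1 [⟨37,(Int.ofNat 1),1⟩] (.node 0 [⟨37,(Int.ofNat 0),1⟩] .nil .nil) .nil) (.node 3 [⟨37,(Int.negSucc 0),1⟩] .nil .nil)) (.node 6 [⟨37,(Int.ofNat 0),1⟩] (.node 5 [⟨37,(Int.ofNat 0),1⟩] .nil .nil) (.node 7 [⟨37,(Int.negSucc 0),1⟩] .nil .nil))) (.node 70 [⟨14,(Int.ofNat 1),1⟩] (.node 51 [⟨11,(Int.negSucc 0),1⟩] (.node 49 [⟨10,(Int.negSucc 0),1⟩] .nil .nil) (.node 60 [⟨13,(Int.ofNat 1),1⟩] .nil .nil)) (.node 83 [⟨21,(Int.ofNat 1),1⟩] (.node 79 [⟨17,(Int.negSucc 0),1⟩] .nil .nil) (.node 92 [⟨22,(Int.negSucc 0),1⟩] .nil .nil)))) (.node 135 [⟨42,(Int.negSucc 0),1⟩] (.node 122 [⟨34,(Int.ofNat 1),1⟩] (.node 113 [⟨29,(Int.negSucc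 0),1⟩] (.node 111 [⟨28,(Int.negSucc 0),1⟩] .nil .nil) (.node 117 [⟨33,(Int.ofNat 1),1⟩] .nil .nil)) (.node 127 [⟨36,(Int.ofNat 1),1⟩] (.node 125 [⟨35,(Int.negSucc 0),1⟩] .nil .nil) (.node 134 [⟨40,(Int.ofNat 1),1⟩] .nil .nil))) (.node 152 [⟨58,(Int.ofNat 1),1⟩] (.node 149 [⟨47,(Int.ofNat 1),1⟩] (.node 136 [⟨43,(Int.ofNat 1),1⟩] .nil .nil) (.node 151 [⟨56,(Int.negSucc 0),1⟩] .nil .nil)) (.node 156 [⟨66,(Int.ofNat 1),1⟩] (.node 153 [⟨59,(Int.negSucc 0),1⟩] .nil .nil) (.node 157 [⟨68,(Int.negSucc 0),1⟩] .nil .nil))))) (.node 218 [⟨0,(Int.negSucc 0),1⟩, ⟨1,(Int.negSucc 1),1⟩, ⟨2,(Int.negSucc 1),1⟩, ⟨3,(Int.negSucc 2),1⟩, ⟨4,(Int.negSucc 2),1⟩, ⟨5,(Int.negSucc 1),1⟩, ⟨6,(Int.negSucc 0),1⟩, ⟨7,(Int.ofNat 0),1⟩, ⟨37,(Int.negSucc 0),2⟩] (.node 189 [⟨99,(Int.negSucc 0),1⟩] (.node 179 [⟨90,(Int.ofNat 1),1⟩] (.node 167 [⟨77,(Int.ofNat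 1),1⟩] (.node 165 [⟨76,(Int.negSucc 0),1⟩] (.node 164 [⟨75,(Int.ofNat 1),1⟩] .nil .nil) .nil) (.node 178 [⟨88,(Int.negSucc 0),1⟩] .nil .nil)) (.node 186 [⟨97,(Int.negSucc 0),1⟩] (.node 180 [⟨91,(Int.negSucc 0),1⟩] .nil .nil) (.node 187 [⟨98,(Int.ofNat 1),1⟩] .nil .nil))) (.node 208 [⟨106,(Int.negSucc 0),1⟩] (.node 197 [⟨103,(Int.negSucc 0),1⟩] (.node 196 [⟨102,(Int.ofNat 1),1⟩] .nil .nil) (.node 199 [⟨104,(Int.ofNat 1),1⟩] .nil .nil)) (.node 213 [⟨120,(Int.ofNat 1),1⟩] (.node 212 [⟨119,(Int.negSucc 0),1⟩] .nil .nil) (.node 215 [⟨121,(Int.negSucc 0),1⟩] .nil .nil)))) (.node 233 [⟨163,(Int.ofNat 1),1⟩] (.node 222 [⟨138,(Int.negSucc 0),1⟩] (.node 220 [⟨130,(Int.ofNat 1),1⟩] (.node 219 [⟨128,(Int.negSucc 0),1⟩] .nil .nil) (.node 221 [⟨133,(Int.negSucc 0),1⟩] .nil .nil)) (.node 227 [⟨144,(Int.ofNat 1),1⟩] (.node 226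 [⟨142,(Int.ofNat 1),1⟩] .nil .nil) (.node 231 [⟨148,(Int.negSucc 0),1⟩] .nil .nil))) (.node 242 [⟨195,(Int.negSucc 0),1⟩] (.node 238 [⟨176,(Int.ofNat 1),1⟩] (.node 234 [⟨172,(Int.negSucc 0),1⟩] .nil .nil) (.node 241 [⟨185,(Int.negSucc 0),1⟩] .nil .nil)) (.node 245 [⟨206,(Int.ofNat 1),1⟩] (.node 244 [⟨204,(Int.ofNat 1),1⟩] .nil .nil) (.node 246 [⟨207,(Int.ofNat 1),1⟩] .nil .nil))))))
noncomputable def col30 : Tr Cl := (.node 159 [⟨71,(Int.ofNat 1),1⟩] (.node 109 [⟨25,(Int.ofNat 1),1⟩] (.node 46 [⟨8,(Int.negSucc 0),1⟩] (.node 4 [⟨38,(Int.negSucc 0),1⟩] (.node 2 [⟨38,(Int.ofNat 0),1⟩] (.node 1 [⟨38,(Int.ofNat 1),1⟩] (.node 0 [⟨38,(Int.ofNat 0),1⟩] .nil .nil) .nil) (.node 3 [⟨38,(Int.ofNat 0),1⟩] .nil .nil)) (.node 6 [⟨38,(Int.ofNat 1),1⟩] (.node 5 [⟨38,(Int.ofNat 0),1⟩] .nil .nil) (.node 7 [⟨38,(Int.ofNat 0),1⟩]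 .nil .nil))) (.node 69 [⟨14,(Int.negSucc 0),1⟩] (.node 53 [⟨12,(Int.negSucc 0),1⟩] (.node 47 [⟨9,(Int.negSucc 0),1⟩] .nil .nil) (.node 59 [⟨13,(Int.negSucc 0),1⟩] .nil .nil)) (.node 82 [⟨19,(Int.negSucc 0),1⟩] (.node 81 [⟨18,(Int.negSucc 0),1⟩] .nil .nil) (.node 91 [⟨22,(Int.ofNat 1),1⟩] .nil .nil)))) (.node 132 [⟨41,(Int.ofNat 1),1⟩] (.node 120 [⟨34,(Int.ofNat 1),1⟩] (.node 115 [⟨30,(Int.negSucc 0),1⟩] (.node 110 [⟨26,(Int.ofNat 1),1⟩] .nil .nil) (.node 116 [⟨31,(Int.negSucc 0),1⟩] .nil .nil)) (.node 129 [⟨39,(Int.ofNat 1),1⟩] (.node 121 [⟨35,(Int.ofNat 1),1⟩] .nil .nil) (.node 130 [⟨40,(Int.negSucc 0),1⟩] .nil .nil))) (.node 153 [⟨60,(Int.ofNat 1),1⟩] (.node 149 [⟨48,(Int.ofNat 1),1⟩] (.node 133 [⟨42,(Int.negSucc 0),1⟩] .nil .nil) (.node 150 [⟨54,(Int.negSucc 0),1⟩] .nil .nil)) (.node 155 [⟨64,(Int.ofNat 1),1⟩]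 (.node 154 [⟨61,(Int.negSucc 0),1⟩] .nil .nil) (.node 158 [⟨70,(Int.negSucc 0),1⟩] .nil .nil))))) (.node 216 [⟨126,(Int.negSucc 0),1⟩] (.node 191 [⟨100,(Int.negSucc 0),1⟩] (.node 180 [⟨92,(Int.ofNat 1),1⟩] (.node 169 [⟨78,(Int.ofNat 1),1⟩] (.node 163 [⟨75,(Int.negSucc 0),1⟩] (.node 162 [⟨74,(Int.ofNat 1),1⟩] .nil .nil) .nil) (.node 177 [⟨86,(Int.negSucc 0),1⟩] .nil .nil)) (.node 184 [⟨96,(Int.negSucc 0),1⟩] (.node 181 [⟨93,(Int.negSucc 0),1⟩] .nil .nil) (.node 185 [⟨97,(Int.ofNat 1),1⟩] .nil .nil))) (.node 207 [⟨106,(Int.negSucc 0),1⟩] (.node 195 [⟨102,(Int.negSucc 0),1⟩] (.node 194 [⟨101,(Int.ofNat 1),1⟩] .nil .nil) (.node 201 [⟨105,(Int.ofNat 1),1⟩] .nil .nil)) (.node 214 [⟨123,(Int.negSucc 0),1⟩] (.node 213 [⟨122,(Int.ofNat 1),1⟩] .nil .nil) (.node 215 [⟨125,(Int.ofNat 1),1⟩] .nil .nil)))) (.node 233 [⟨164,(Int.negSucc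 0),1⟩] (.node 224 [⟨139,(Int.ofNat 1),1⟩] (.node 220 [⟨134,(Int.negSucc 0),1⟩] (.node 217 [⟨0,(Int.negSucc 0),1⟩, ⟨1,(Int.negSucc 1),1⟩, ⟨2,(Int.negSucc 1),1⟩, ⟨3,(Int.negSucc 2),1⟩, ⟨4,(Int.negSucc 1),1⟩, ⟨5,(Int.negSucc 1),1⟩, ⟨6,(Int.negSucc 1),1⟩, ⟨7,(Int.negSucc 0),1⟩, ⟨38,(Int.negSucc 0),2⟩] .nil .nil) (.node 221 [⟨135,(Int.negSucc 0),1⟩] .nil .nil)) (.node 229 [⟨145,(Int.negSucc 0),1⟩] (.node 225 [⟨140,(Int.ofNat 1),1⟩] .nil .nil) (.node 230 [⟨146,(Int.negSucc 0),1⟩] .nil .nil))) (.node 242 [⟨196,(Int.ofNat 1),1⟩] (.node 237 [⟨174,(Int.ofNat 1),1⟩] (.node 236 [⟨173,(Int.ofNat 1),1⟩] .nil .nil) (.node 241 [⟨186,(Int.ofNat 1),1⟩] .nil .nil)) (.node 246 [⟨208,(Int.ofNat 1),1⟩] (.node 243 [⟨202,(Int.ofNat 1),1⟩] .nil .nil) (.node 247 [⟨209,(Int.ofNat 1),1⟩] .nil .nil))))))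
noncomputable def col31 : Tr Cl := (.node 159 [⟨72,(Int.ofNat 1),1⟩] (.node 108 [⟨25,(Int.negSucc 0),1⟩] (.node 45 [⟨8,(Int.ofNat 1),1⟩] (.node 4 [⟨39,(Int.negSucc 0),1⟩] (.node 2 [⟨39,(Int.ofNat 0),1⟩] (.node 1 [⟨39,(Int.ofNat 1),1⟩] (.node 0 [⟨39,(Int.ofNat 0),1⟩] .nil .nil) .nil) (.node 3 [⟨39,(Int.ofNat 0),1⟩] .nil .nil)) (.node 6 [⟨39,(Int.negSucc 0),1⟩] (.node 5 [⟨39,(Int.ofNat 1),1⟩] .nil .nil) (.node 7 [⟨39,(Int.ofNat 1),1⟩] .nil .nil))) (.node 68 [⟨14,(Int.ofNat 1),1⟩] (.node 52 [⟨12,(Int.ofNat 1),1⟩] (.node 47 [⟨10,(Int.negSucc 0),1⟩] .nil .nil) (.node 58 [⟨13,(Int.ofNat 1),1⟩] .nil .nil)) (.node 82 [⟨20,(Int.negSucc 0),1⟩] (.node 80 [⟨18,(Int.ofNat 1),1⟩] .nil .nil) (.node 90 [⟨22,(Int.negSucc 0),1⟩] .nil .nil)))) (.node 131 [⟨41,(Int.ofNat 1),1⟩] (.node 119 [⟨34,(Int.negSucc 0),1⟩] (.node 114 [⟨30,(Int.ofNat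 1),1⟩] (.node 110 [⟨27,(Int.ofNat 1),1⟩] .nil .nil) (.node 116 [⟨32,(Int.negSucc 0),1⟩] .nil .nil)) (.node 126 [⟨38,(Int.ofNat 1),1⟩] (.node 121 [⟨36,(Int.ofNat 1),1⟩] .nil .nil) (.node 128 [⟨40,(Int.ofNat 1),1⟩] .nil .nil))) (.node 152 [⟨60,(Int.ofNat 1),1⟩] (.node 149 [⟨49,(Int.ofNat 1),1⟩] (.node 133 [⟨43,(Int.negSucc 0),1⟩] .nil .nil) (.node 150 [⟨55,(Int.negSucc 0),1⟩] .nil .nil)) (.node 155 [⟨65,(Int.ofNat 1),1⟩] (.node 154 [⟨62,(Int.negSucc 0),1⟩] .nil .nil) (.node 157 [⟨70,(Int.negSucc 0),1⟩] .nil .nil))))) (.node 216 [⟨0,(Int.negSucc 0),1⟩, ⟨1,(Int.negSucc 1),1⟩, ⟨2,(Int.negSucc 1),1⟩, ⟨3,(Int.negSucc 2),1⟩, ⟨4,(Int.negSucc 1),1⟩, ⟨5,(Int.negSucc 1),1⟩, ⟨6,(Int.negSucc 0),1⟩, ⟨7,(Int.negSucc 0),1⟩, ⟨39,(Int.negSucc 0),2⟩] (.node 190 [⟨100,(Int.negSucc 0),1⟩] (.node 179 [⟨92,(Int.ofNat 1),1⟩] (.node 168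 [⟨78,(Int.ofNat 1),1⟩] (.node 163 [⟨76,(Int.negSucc 0),1⟩] (.node 161 [⟨74,(Int.ofNat 1),1⟩] .nil .nil) .nil) (.node 177 [⟨87,(Int.negSucc 0),1⟩] .nil .nil)) (.node 183 [⟨96,(Int.negSucc 0),1⟩] (.node 181 [⟨94,(Int.negSucc 0),1⟩] .nil .nil) (.node 185 [⟨98,(Int.ofNat 1),1⟩] .nil .nil))) (.node 206 [⟨106,(Int.negSucc 0),1⟩] (.node 195 [⟨103,(Int.negSucc 0),1⟩] (.node 193 [⟨101,(Int.ofNat 1),1⟩] .nil .nil) (.node 200 [⟨105,(Int.ofNat 1),1⟩] .nil .nil)) (.node 214 [⟨124,(Int.negSucc 0),1⟩] (.node 212 [⟨122,(Int.ofNat 1),1⟩] .nil .nil) (.node 215 [⟨127,(Int.negSucc 0),1⟩] .nil .nil)))) (.node 233 [⟨165,(Int.ofNat 1),1⟩] (.node 223 [⟨139,(Int.ofNat 1),1⟩] (.node 219 [⟨134,(Int.negSucc 0),1⟩] (.node 217 [⟨129,(Int.negSucc 0),1⟩] .nil .nil) (.node 221 [⟨136,(Int.ofNat 1),1⟩] .nil .nil)) (.node 228 [⟨145,(Int.negSucc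 0),1⟩] (.node 225 [⟨141,(Int.negSucc 0),1⟩] .nil .nil) (.node 230 [⟨147,(Int.ofNat 1),1⟩] .nil .nil))) (.node 242 [⟨197,(Int.negSucc 0),1⟩] (.node 237 [⟨175,(Int.negSucc 0),1⟩] (.node 235 [⟨173,(Int.ofNat 1),1⟩] .nil .nil) (.node 241 [⟨187,(Int.negSucc 0),1⟩] .nil .nil)) (.node 245 [⟨208,(Int.ofNat 1),1⟩] (.node 243 [⟨203,(Int.negSucc 0),1⟩] .nil .nil) (.node 247 [⟨210,(Int.negSucc 0),1⟩] .nil .nil))))))
noncomputable def col32 : Tr Cl := (.node 158 [⟨72,(Int.ofNat 1),1⟩] (.node 107 [⟨25,(Int.ofNat 1),1⟩] (.node 45 [⟨9,(Int.ofNat 1),1⟩] (.node 4 [⟨40,(Int.negSucc 0),1⟩] (.node 2 [⟨40,(Int.ofNat 0),1⟩] (.node 1 [⟨40,(Int.ofNat 1),1⟩] (.node 0 [⟨40,(Int.ofNat 0),1⟩] .nil .nil) .nil) (.node 3 [⟨40,(Int.ofNat 0),1⟩] .nil .nil)) (.node 6 [⟨40,(Int.ofNat 0),1⟩] (.node 5 [⟨40,(Int.ofNat 1),1⟩] .nil .nil) (.node 7 [⟨40,(Int.negSucc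 0),1⟩] .nil .nil))) (.node 67 [⟨14,(Int.negSucc 0),1⟩] (.node 51 [⟨12,(Int.negSucc 0),1⟩] (.node 46 [⟨10,(Int.ofNat 1),1⟩] .nil .nil) (.node 57 [⟨13,(Int.negSucc 0),1⟩] .nil .nil)) (.node 82 [⟨21,(Int.negSucc 0),1⟩] (.node 79 [⟨18,(Int.negSucc 0),1⟩] .nil .nil) (.node 89 [⟨22,(Int.ofNat 1),1⟩] .nil .nil)))) (.node 131 [⟨42,(Int.ofNat 1),1⟩] (.node 118 [⟨34,(Int.ofNat 1),1⟩] (.node 113 [⟨30,(Int.negSucc 0),1⟩] (.node 110 [⟨28,(Int.ofNat 1),1⟩] .nil .nil) (.node 116 [⟨33,(Int.negSucc 0),1⟩] .nil .nil)) (.node 125 [⟨38,(Int.negSucc 0),1⟩] (.node 121 [⟨37,(Int.ofNat 1),1⟩] .nil .nil) (.node 127 [⟨39,(Int.ofNat 1),1⟩] .nil .nil))) (.node 152 [⟨61,(Int.ofNat 1),1⟩] (.node 149 [⟨50,(Int.ofNat 1),1⟩] (.node 132 [⟨43,(Int.negSucc 0),1⟩] .nil .nil) (.node 150 [⟨56,(Int.negSucc 0),1⟩] .nil .nil)) (.node 155 [⟨66,(Int.ofNat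 1),1⟩] (.node 153 [⟨62,(Int.negSucc 0),1⟩] .nil .nil) (.node 157 [⟨71,(Int.negSucc 0),1⟩] .nil .nil))))) (.node 216 [⟨128,(Int.negSucc 0),1⟩] (.node 189 [⟨100,(Int.negSucc 0),1⟩] (.node 179 [⟨93,(Int.ofNat 1),1⟩] (.node 167 [⟨78,(Int.ofNat 1),1⟩] (.node 162 [⟨76,(Int.negSucc 0),1⟩] (.node 161 [⟨75,(Int.ofNat 1),1⟩] .nil .nil) .nil) (.node 177 [⟨88,(Int.negSucc 0),1⟩] .nil .nil)) (.node 183 [⟨97,(Int.negSucc 0),1⟩] (.node 180 [⟨94,(Int.negSucc 0),1⟩] .nil .nil) (.node 184 [⟨98,(Int.ofNat 1),1⟩] .nil .nil))) (.node 205 [⟨106,(Int.negSucc 0),1⟩] (.node 194 [⟨103,(Int.negSucc 0),1⟩] (.node 193 [⟨102,(Int.ofNat 1),1⟩] .nil .nil) (.node 199 [⟨105,(Int.ofNat 1),1⟩] .nil .nil)) (.node 213 [⟨124,(Int.negSucc 0),1⟩] (.node 212 [⟨123,(Int.ofNat 1),1⟩] .nil .nil) (.node 215 [⟨0,(Int.negSucc 0),1⟩, ⟨1,(Int.negSucc 1),1⟩, ⟨2,(Int.negSucc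 1),1⟩, ⟨3,(Int.negSucc 2),1⟩, ⟨4,(Int.negSucc 1),1⟩, ⟨5,(Int.negSucc 1),1⟩, ⟨6,(Int.negSucc 0),1⟩, ⟨7,(Int.ofNat 0),1⟩, ⟨40,(Int.negSucc 0),2⟩] .nil .nil)))) (.node 233 [⟨166,(Int.negSucc 0),1⟩] (.node 222 [⟨139,(Int.ofNat 1),1⟩] (.node 218 [⟨134,(Int.negSucc 0),1⟩] (.node 217 [⟨130,(Int.ofNat 1),1⟩] .nil .nil) (.node 221 [⟨137,(Int.negSucc 0),1⟩] .nil .nil)) (.node 227 [⟨145,(Int.negSucc 0),1⟩] (.node 225 [⟨142,(Int.ofNat 1),1⟩] .nil .nil) (.node 230 [⟨148,(Int.negSucc 0),1⟩] .nil .nil))) (.node 242 [⟨198,(Int.ofNat 1),1⟩] (.node 237 [⟨176,(Int.ofNat 1),1⟩] (.node 234 [⟨173,(Int.ofNat 1),1⟩] .nil .nil) (.node 241 [⟨188,(Int.ofNat 1),1⟩] .nil .nil)) (.node 245 [⟨209,(Int.negSucc 0),1⟩] (.node 243 [⟨204,(Int.ofNat 1),1⟩] .nil .nil) (.node 246 [⟨210,(Int.negSucc 0),1⟩] .nil .nil))))))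
noncomputable def col33 : Tr Cl := (.node 159 [⟨73,(Int.ofNat 1),1⟩] (.node 108 [⟨26,(Int.negSucc 0),1⟩] (.node 44 [⟨8,(Int.negSucc 0),1⟩] (.node 4 [⟨41,(Int.ofNat 0),1⟩] (.node 2 [⟨41,(Int.ofNat 0),1⟩] (.node 1 [⟨41,(Int.ofNat 1),1⟩] (.node 0 [⟨41,(Int.ofNat 0),1⟩] .nil .nil) .nil) (.node 3 [⟨41,(Int.ofNat 0),1⟩] .nil .nil)) (.node 6 [⟨41,(Int.ofNat 0),1⟩] (.node 5 [⟨41,(Int.negSucc 0),1⟩] .nil .nil) (.node 7 [⟨41,(Int.ofNat 1),1⟩] .nil .nil))) (.node 66 [⟨14,(Int.negSucc 0),1⟩] (.node 50 [⟨12,(Int.negSucc 0),1⟩] (.node 47 [⟨11,(Int.negSucc 0),1⟩] .nil .nil) (.node 56 [⟨13,(Int.negSucc 0),1⟩] .nil .nil)) (.node 81 [⟨20,(Int.ofNat 1),1⟩] (.node 80 [⟨19,(Int.ofNat 1),1⟩] .nil .nil) (.node 88 [⟨22,(Int.ofNat 1),1⟩] .nil .nil)))) (.node 128 [⟨42,(Int.ofNat 1),1⟩] (.node 119 [⟨35,(Int.negSucc 0),1⟩] (.node 114 [⟨31,(Int.ofNat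 1),1⟩] (.node 109 [⟨27,(Int.negSucc 0),1⟩] .nil .nil) (.node 115 [⟨32,(Int.ofNat 1),1⟩] .nil .nil)) (.node 123 [⟨38,(Int.ofNat 1),1⟩] (.node 120 [⟨36,(Int.negSucc 0),1⟩] .nil .nil) (.node 124 [⟨39,(Int.ofNat 1),1⟩] .nil .nil))) (.node 151 [⟨60,(Int.ofNat 1),1⟩] (.node 149 [⟨51,(Int.ofNat 1),1⟩] (.node 130 [⟨43,(Int.ofNat 1),1⟩] .nil .nil) (.node 150 [⟨57,(Int.negSucc 0),1⟩] .nil .nil)) (.node 155 [⟨67,(Int.ofNat 1),1⟩] (.node 154 [⟨63,(Int.negSucc 0),1⟩] .nil .nil) (.node 156 [⟨70,(Int.negSucc 0),1⟩] .nil .nil))))) (.node 216 [⟨131,(Int.negSucc 0),1⟩] (.node 188 [⟨100,(Int.negSucc 0),1⟩] (.node 178 [⟨92,(Int.ofNat 1),1⟩] (.node 166 [⟨78,(Int.ofNat 1),1⟩] (.node 163 [⟨77,(Int.negSucc 0),1⟩] (.node 160 [⟨74,(Int.ofNat 1),1⟩] .nil .nil) .nil) (.node 177 [⟨89,(Int.negSucc 0),1⟩] .nil .nil)) (.node 182 [⟨96,(Int.negSucc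 0),1⟩] (.node 181 [⟨95,(Int.negSucc 0),1⟩] .nil .nil) (.node 185 [⟨99,(Int.ofNat 1),1⟩] .nil .nil))) (.node 204 [⟨106,(Int.negSucc 0),1⟩] (.node 195 [⟨104,(Int.negSucc 0),1⟩] (.node 192 [⟨101,(Int.ofNat 1),1⟩] .nil .nil) (.node 198 [⟨105,(Int.ofNat 1),1⟩] .nil .nil)) (.node 213 [⟨127,(Int.negSucc 0),1⟩] (.node 212 [⟨125,(Int.negSucc 0),1⟩] .nil .nil) (.node 214 [⟨0,(Int.negSucc 0),1⟩, ⟨1,(Int.negSucc 1),1⟩, ⟨2,(Int.negSucc 1),1⟩, ⟨3,(Int.negSucc 2),1⟩, ⟨4,(Int.negSucc 1),1⟩, ⟨5,(Int.negSucc 0),1⟩, ⟨6,(Int.negSucc 0),1⟩, ⟨7,(Int.negSucc 0),1⟩, ⟨41,(Int.negSucc 0),2⟩] .nil .nil)))) (.node 233 [⟨167,(Int.negSucc 0),1⟩] (.node 223 [⟨140,(Int.negSucc 0),1⟩] (.node 219 [⟨135,(Int.ofNat 1),1⟩] (.node 217 [⟨132,(Int.negSucc 0),1⟩] .nil .nil) (.node 220 [⟨136,(Int.ofNat 1),1⟩] .nil .nil)) (.node 228 [⟨146,(Int.ofNat 1),1⟩]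 (.node 224 [⟨141,(Int.negSucc 0),1⟩] .nil .nil) (.node 229 [⟨147,(Int.ofNat 1),1⟩] .nil .nil))) (.node 242 [⟨199,(Int.ofNat 1),1⟩] (.node 236 [⟨175,(Int.negSucc 0),1⟩] (.node 235 [⟨174,(Int.negSucc 0),1⟩] .nil .nil) (.node 241 [⟨189,(Int.ofNat 1),1⟩] .nil .nil)) (.node 244 [⟨208,(Int.ofNat 1),1⟩] (.node 243 [⟨205,(Int.ofNat 1),1⟩] .nil .nil) (.node 247 [⟨211,(Int.ofNat 1),1⟩] .nil .nil))))))
noncomputable def col34 : Tr Cl := (.node 158 [⟨73,(Int.ofNat 1),1⟩] (.node 107 [⟨26,(Int.ofNat 1),1⟩] (.node 44 [⟨9,(Int.negSucc 0),1⟩] (.node 4 [⟨42,(Int.ofNat 0),1⟩] (.node 2 [⟨42,(Int.ofNat 0),1⟩] (.node 1 [⟨42,(Int.ofNat 1),1⟩] (.node 0 [⟨42,(Int.ofNat 0),1⟩] .nil .nil) .nil) (.node 3 [⟨42,(Int.ofNat 0),1⟩] .nil .nil)) (.node 6 [⟨42,(Int.ofNat 1),1⟩] (.node 5 [⟨42,(Int.negSucc 0),1⟩] .nil .nil) (.node 7 [⟨42,(Int.negSucc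 0),1⟩] .nil .nil))) (.node 65 [⟨14,(Int.ofNat 1),1⟩] (.node 49 [⟨12,(Int.ofNat 1),1⟩] (.node 46 [⟨11,(Int.ofNat 1),1⟩] .nil .nil) (.node 55 [⟨13,(Int.ofNat 1),1⟩] .nil .nil)) (.node 81 [⟨21,(Int.ofNat 1),1⟩] (.node 79 [⟨19,(Int.negSucc 0),1⟩] .nil .nil) (.node 87 [⟨22,(Int.negSucc 0),1⟩] .nil .nil)))) (.node 127 [⟨41,(Int.ofNat 1),1⟩] (.node 118 [⟨35,(Int.ofNat 1),1⟩] (.node 113 [⟨31,(Int.negSucc 0),1⟩] (.node 109 [⟨28,(Int.negSucc 0),1⟩] .nil .nil) (.node 115 [⟨33,(Int.ofNat 1),1⟩] .nil .nil)) (.node 122 [⟨38,(Int.negSucc 0),1⟩] (.node 120 [⟨37,(Int.negSucc 0),1⟩] .nil .nil) (.node 124 [⟨40,(Int.ofNat 1),1⟩] .nil .nil))) (.node 151 [⟨61,(Int.ofNat 1),1⟩] (.node 149 [⟨52,(Int.ofNat 1),1⟩] (.node 129 [⟨43,(Int.ofNat 1),1⟩] .nil .nil) (.node 150 [⟨58,(Int.negSucc 0),1⟩] .nil .nil)) (.node 155 [⟨68,(Int.ofNat 1),1⟩]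 (.node 153 [⟨63,(Int.negSucc 0),1⟩] .nil .nil) (.node 156 [⟨71,(Int.negSucc 0),1⟩] .nil .nil))))) (.node 215 [⟨131,(Int.negSucc 0),1⟩] (.node 187 [⟨100,(Int.negSucc 0),1⟩] (.node 178 [⟨93,(Int.ofNat 1),1⟩] (.node 165 [⟨78,(Int.ofNat 1),1⟩] (.node 162 [⟨77,(Int.negSucc 0),1⟩] (.node 160 [⟨75,(Int.ofNat 1),1⟩] .nil .nil) .nil) (.node 177 [⟨90,(Int.negSucc 0),1⟩] .nil .nil)) (.node 182 [⟨97,(Int.negSucc 0),1⟩] (.node 180 [⟨95,(Int.negSucc 0),1⟩] .nil .nil) (.node 184 [⟨99,(Int.ofNat 1),1⟩] .nil .nil))) (.node 203 [⟨106,(Int.negSucc 0),1⟩] (.node 194 [⟨104,(Int.negSucc 0),1⟩] (.node 192 [⟨102,(Int.ofNat 1),1⟩] .nil .nil) (.node 197 [⟨105,(Int.ofNat 1),1⟩] .nil .nil)) (.node 213 [⟨0,(Int.negSucc 0),1⟩, ⟨1,(Int.negSucc 1),1⟩, ⟨2,(Int.negSucc 1),1⟩, ⟨3,(Int.negSucc 2),1⟩, ⟨4,(Int.negSucc 1),1⟩, ⟨5,(Int.negSucc 0),1⟩,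 ⟨6,(Int.negSucc 0),1⟩, ⟨7,(Int.ofNat 0),1⟩, ⟨42,(Int.negSucc 0),2⟩] (.node 212 [⟨126,(Int.negSucc 0),1⟩] .nil .nil) (.node 214 [⟨128,(Int.negSucc 0),1⟩] .nil .nil)))) (.node 233 [⟨168,(Int.ofNat 1),1⟩] (.node 222 [⟨140,(Int.negSucc 0),1⟩] (.node 218 [⟨135,(Int.ofNat 1),1⟩] (.node 217 [⟨133,(Int.ofNat 1),1⟩] .nil .nil) (.node 220 [⟨137,(Int.negSucc 0),1⟩] .nil .nil)) (.node 227 [⟨146,(Int.ofNat 1),1⟩] (.node 224 [⟨142,(Int.ofNat 1),1⟩] .nil .nil) (.node 229 [⟨148,(Int.negSucc 0),1⟩] .nil .nil))) (.node 242 [⟨200,(Int.negSucc 0),1⟩] (.node 236 [⟨176,(Int.ofNat 1),1⟩] (.node 234 [⟨174,(Int.negSucc 0),1⟩] .nil .nil) (.node 241 [⟨190,(Int.negSucc 0),1⟩] .nil .nil)) (.node 244 [⟨209,(Int.negSucc 0),1⟩] (.node 243 [⟨206,(Int.negSucc 0),1⟩] .nil .nil) (.node 246 [⟨211,(Int.ofNat 1),1⟩] .nil .nil))))))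
noncomputable def col35 : Tr Cl := (.node 157 [⟨73,(Int.ofNat 1),1⟩] (.node 107 [⟨27,(Int.ofNat 1),1⟩] (.node 44 [⟨10,(Int.negSucc 0),1⟩] (.node 4 [⟨43,(Int.ofNat 0),1⟩] (.node 2 [⟨43,(Int.ofNat 0),1⟩] (.node 1 [⟨43,(Int.ofNat 1),1⟩] (.node 0 [⟨43,(Int.ofNat 0),1⟩] .nil .nil) .nil) (.node 3 [⟨43,(Int.ofNat 0),1⟩] .nil .nil)) (.node 6 [⟨43,(Int.negSucc 0),1⟩] (.node 5 [⟨43,(Int.ofNat 0),1⟩] .nil .nil) (.node 7 [⟨43,(Int.ofNat 0),1⟩] .nil .nil))) (.node 64 [⟨14,(Int.negSucc 0),1⟩] (.node 48 [⟨12,(Int.negSucc 0),1⟩] (.node 45 [⟨11,(Int.negSucc 0),1⟩] .nil .nil) (.node 54 [⟨13,(Int.negSucc 0),1⟩] .nil .nil)) (.node 80 [⟨21,(Int.negSucc 0),1⟩] (.node 79 [⟨20,(Int.negSucc 0),1⟩] .nil .nil) (.node 86 [⟨22,(Int.ofNat 1),1⟩] .nil .nil)))) (.node 125 [⟨41,(Int.ofNat 1),1⟩] (.node 118 [⟨36,(Int.ofNat 1),1⟩] (.node 113 [⟨32,(Int.negSucc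 0),1⟩] (.node 108 [⟨28,(Int.ofNat 1),1⟩] .nil .nil) (.node 114 [⟨33,(Int.negSucc 0),1⟩] .nil .nil)) (.node 122 [⟨39,(Int.negSucc 0),1⟩] (.node 119 [⟨37,(Int.ofNat 1),1⟩] .nil .nil) (.node 123 [⟨40,(Int.negSucc 0),1⟩] .nil .nil))) (.node 151 [⟨62,(Int.ofNat 1),1⟩] (.node 149 [⟨53,(Int.ofNat 1),1⟩] (.node 126 [⟨42,(Int.ofNat 1),1⟩] .nil .nil) (.node 150 [⟨59,(Int.negSucc 0),1⟩] .nil .nil)) (.node 155 [⟨69,(Int.ofNat 1),1⟩] (.node 152 [⟨63,(Int.negSucc 0),1⟩] .nil .nil) (.node 156 [⟨72,(Int.negSucc 0),1⟩] .nil .nil))))) (.node 215 [⟨132,(Int.ofNat 1),1⟩] (.node 186 [⟨100,(Int.negSucc 0),1⟩] (.node 178 [⟨94,(Int.ofNat 1),1⟩] (.node 164 [⟨78,(Int.ofNat 1),1⟩] (.node 161 [⟨77,(Int.negSucc 0),1⟩] (.node 160 [⟨76,(Int.ofNat 1),1⟩] .nil .nil) .nil) (.node 177 [⟨91,(Int.negSucc 0),1⟩] .nil .nil)) (.node 182 [⟨98,(Int.negSucc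 0),1⟩] (.node 179 [⟨95,(Int.negSucc 0),1⟩] .nil .nil) (.node 183 [⟨99,(Int.ofNat 1),1⟩] .nil .nil))) (.node 202 [⟨106,(Int.negSucc 0),1⟩] (.node 193 [⟨104,(Int.negSucc 0),1⟩] (.node 192 [⟨103,(Int.ofNat 1),1⟩] .nil .nil) (.node 196 [⟨105,(Int.ofNat 1),1⟩] .nil .nil)) (.node 213 [⟨129,(Int.negSucc 0),1⟩] (.node 212 [⟨0,(Int.negSucc 0),1⟩, ⟨1,(Int.negSucc 1),1⟩, ⟨2,(Int.negSucc 1),1⟩, ⟨3,(Int.negSucc 2),1⟩, ⟨4,(Int.negSucc 1),1⟩, ⟨5,(Int.negSucc 0),1⟩, ⟨6,(Int.ofNat 0),1⟩, ⟨7,(Int.ofNat 0),1⟩, ⟨43,(Int.negSucc 0),2⟩] .nil .nil) (.node 214 [⟨130,(Int.negSucc 0),1⟩] .nil .nil)))) (.node 233 [⟨169,(Int.negSucc 0),1⟩] (.node 222 [⟨141,(Int.ofNat 1),1⟩] (.node 218 [⟨136,(Int.negSucc 0),1⟩] (.node 216 [⟨133,(Int.ofNat 1),1⟩] .nil .nil) (.node 219 [⟨137,(Int.negSucc 0),1⟩] .nil .nil)) (.node 227 [⟨147,(Int.negSucc 0),1⟩]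 (.node 223 [⟨142,(Int.ofNat 1),1⟩] .nil .nil) (.node 228 [⟨148,(Int.negSucc 0),1⟩] .nil .nil))) (.node 242 [⟨201,(Int.ofNat 1),1⟩] (.node 235 [⟨176,(Int.ofNat 1),1⟩] (.node 234 [⟨175,(Int.ofNat 1),1⟩] .nil .nil) (.node 241 [⟨191,(Int.ofNat 1),1⟩] .nil .nil)) (.node 244 [⟨210,(Int.ofNat 1),1⟩] (.node 243 [⟨207,(Int.ofNat 1),1⟩] .nil .nil) (.node 245 [⟨211,(Int.ofNat 1),1⟩] .nil .nil))))))
noncomputable def col36 : Tr Cl := (.node 148 [⟨66,(Int.ofNat 1),1⟩] (.node 99 [⟨24,(Int.ofNat 1),1⟩] (.node 41 [⟨8,(Int.ofNat 1),1⟩] (.node 4 [⟨44,(Int.ofNat 0),1⟩] (.node 2 [⟨44,(Int.ofNat 0),1⟩] (.node 1 [⟨44,(Int.negSucc 0),1⟩] (.node 0 [⟨44,(Int.ofNat 0),1⟩] .nil .nil) .nil) (.node 3 [⟨44,(Int.ofNat 0),1⟩] .nil .nil)) (.node 6 [⟨44,(Int.ofNat 0),1⟩] (.node 5 [⟨44,(Int.ofNat 1),1⟩] .nil .nil) (.node 7 [⟨44,(Int.ofNat 0),1⟩]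 .nil .nil))) (.node 73 [⟨16,(Int.negSucc 0),1⟩] (.node 43 [⟨10,(Int.ofNat 1),1⟩] (.node 42 [⟨9,(Int.ofNat 1),1⟩] .nil .nil) (.node 63 [⟨15,(Int.negSucc 0),1⟩] .nil .nil)) (.node 78 [⟨18,(Int.negSucc 0),1⟩] (.node 77 [⟨17,(Int.negSucc 0),1⟩] .nil .nil) (.node 95 [⟨23,(Int.ofNat 1),1⟩] .nil .nil)))) (.node 135 [⟨48,(Int.ofNat 1),1⟩] (.node 106 [⟨34,(Int.ofNat 1),1⟩] (.node 104 [⟨29,(Int.ofNat 1),1⟩] (.node 100 [⟨25,(Int.ofNat 1),1⟩] .nil .nil) (.node 105 [⟨30,(Int.ofNat 1),1⟩] .nil .nil)) (.node 132 [⟨46,(Int.negSucc 0),1⟩] (.node 131 [⟨45,(Int.ofNat 1),1⟩] .nil .nil) (.node 133 [⟨47,(Int.ofNat 1),1⟩] .nil .nil))) (.node 141 [⟨55,(Int.negSucc 0),1⟩] (.node 137 [⟨50,(Int.ofNat 1),1⟩] (.node 136 [⟨49,(Int.negSucc 0),1⟩] .nil .nil) (.node 140 [⟨54,(Int.ofNat 1),1⟩] .nil .nil)) (.node 146 [⟨64,(Int.ofNat 1),1⟩] (.node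 142 [⟨56,(Int.ofNat 1),1⟩] .nil .nil) (.node 147 [⟨65,(Int.negSucc 0),1⟩] .nil .nil))))) (.node 209 [⟨123,(Int.ofNat 1),1⟩] (.node 191 [⟨109,(Int.negSucc 0),1⟩] (.node 175 [⟨87,(Int.ofNat 1),1⟩] (.node 169 [⟨81,(Int.ofNat 1),1⟩] (.node 168 [⟨80,(Int.negSucc 0),1⟩] (.node 167 [⟨79,(Int.ofNat 1),1⟩] .nil .nil) .nil) (.node 174 [⟨86,(Int.negSucc 0),1⟩] .nil .nil)) (.node 189 [⟨107,(Int.negSucc 0),1⟩] (.node 176 [⟨88,(Int.negSucc 0),1⟩] .nil .nil) (.node 190 [⟨108,(Int.ofNat 1),1⟩] .nil .nil))) (.node 205 [⟨118,(Int.negSucc 0),1⟩] (.node 200 [⟨114,(Int.ofNat 1),1⟩] (.node 199 [⟨113,(Int.negSucc 0),1⟩] .nil .nil) (.node 201 [⟨115,(Int.negSucc 0),1⟩] .nil .nil)) (.node 207 [⟨120,(Int.negSucc 0),1⟩] (.node 206 [⟨119,(Int.ofNat 1),1⟩] .nil .nil) (.node 208 [⟨122,(Int.negSucc 0),1⟩] .nil .nil)))) (.node 232 [⟨160,(Int.negSucc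 0),1⟩] (.node 225 [⟨150,(Int.negSucc 0),1⟩] (.node 211 [⟨0,(Int.negSucc 0),1⟩, ⟨1,(Int.negSucc 0),1⟩, ⟨2,(Int.negSucc 1),1⟩, ⟨3,(Int.negSucc 2),1⟩, ⟨4,(Int.negSucc 2),1⟩, ⟨5,(Int.negSucc 2),1⟩, ⟨6,(Int.negSucc 1),1⟩, ⟨7,(Int.negSucc 0),1⟩, ⟨44,(Int.negSucc 0),2⟩] (.node 210 [⟨124,(Int.negSucc 0),1⟩] .nil .nil) (.node 221 [⟨149,(Int.negSucc 0),1⟩] .nil .nil)) (.node 230 [⟨155,(Int.negSucc 0),1⟩] (.node 226 [⟨151,(Int.negSucc 0),1⟩] .nil .nil) (.node 231 [⟨156,(Int.negSucc 0),1⟩] .nil .nil))) (.node 240 [⟨192,(Int.ofNat 1),1⟩] (.node 238 [⟨178,(Int.ofNat 1),1⟩] (.node 237 [⟨177,(Int.ofNat 1),1⟩] .nil .nil) (.node 239 [⟨182,(Int.ofNat 1),1⟩] .nil .nil)) (.node 246 [⟨213,(Int.negSucc 0),1⟩] (.node 245 [⟨212,(Int.negSucc 0),1⟩] .nil .nil) (.node 247 [⟨214,(Int.negSucc 0),1⟩] .nil .nil))))))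
noncomputable def col37 : Tr Cl := (.node 148 [⟨68,(Int.ofNat 1),1⟩] (.node 98 [⟨24,(Int.negSucc 0),1⟩] (.node 39 [⟨8,(Int.negSucc 0),1⟩] (.node 4 [⟨45,(Int.ofNat 1),1⟩] (.node 2 [⟨45,(Int.ofNat 0),1⟩] (.node 1 [⟨45,(Int.negSucc 0),1⟩] (.node 0 [⟨45,(Int.ofNat 0),1⟩] .nil .nil) .nil) (.node 3 [⟨45,(Int.ofNat 0),1⟩] .nil .nil)) (.node 6 [⟨45,(Int.ofNat 1),1⟩] (.node 5 [⟨45,(Int.negSucc 0),1⟩] .nil .nil) (.node 7 [⟨45,(Int.ofNat 0),1⟩] .nil .nil))) (.node 72 [⟨16,(Int.ofNat 1),1⟩] (.node 43 [⟨11,(Int.ofNat 1),1⟩] (.node 40 [⟨9,(Int.negSucc 0),1⟩] .nil .nil) (.node 62 [⟨15,(Int.ofNat 1),1⟩] .nil .nil)) (.node 78 [⟨19,(Int.negSucc 0),1⟩] (.node 76 [⟨17,(Int.ofNat 1),1⟩] .nil .nil) (.node 94 [⟨23,(Int.negSucc 0),1⟩] .nil .nil)))) (.node 134 [⟨48,(Int.ofNat 1),1⟩] (.node 106 [⟨35,(Int.ofNat 1),1⟩] (.node 103 [⟨29,(Int.negSucc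 0),1⟩] (.node 100 [⟨26,(Int.ofNat 1),1⟩] .nil .nil) (.node 105 [⟨31,(Int.ofNat 1),1⟩] .nil .nil)) (.node 129 [⟨46,(Int.ofNat 1),1⟩] (.node 124 [⟨44,(Int.ofNat 1),1⟩] .nil .nil) (.node 130 [⟨47,(Int.negSucc 0),1⟩] .nil .nil))) (.node 141 [⟨57,(Int.negSucc 0),1⟩] (.node 137 [⟨52,(Int.ofNat 1),1⟩] (.node 136 [⟨51,(Int.negSucc 0),1⟩] .nil .nil) (.node 139 [⟨54,(Int.ofNat 1),1⟩] .nil .nil)) (.node 145 [⟨64,(Int.ofNat 1),1⟩] (.node 142 [⟨58,(Int.ofNat 1),1⟩] .nil .nil) (.node 147 [⟨67,(Int.negSucc 0),1⟩] .nil .nil))))) (.node 209 [⟨126,(Int.negSucc 0),1⟩] (.node 191 [⟨110,(Int.negSucc 0),1⟩] (.node 175 [⟨89,(Int.ofNat 1),1⟩] (.node 169 [⟨82,(Int.ofNat 1),1⟩] (.node 166 [⟨80,(Int.negSucc 0),1⟩] (.node 165 [⟨79,(Int.ofNat 1),1⟩] .nil .nil) .nil) (.node 173 [⟨86,(Int.negSucc 0),1⟩] .nil .nil)) (.node 187 [⟨107,(Int.negSucc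 0),1⟩] (.node 176 [⟨90,(Int.negSucc 0),1⟩] .nil .nil) (.node 188 [⟨108,(Int.ofNat 1),1⟩] .nil .nil))) (.node 203 [⟨118,(Int.negSucc 0),1⟩] (.node 198 [⟨114,(Int.ofNat 1),1⟩] (.node 197 [⟨113,(Int.negSucc 0),1⟩] .nil .nil) (.node 201 [⟨116,(Int.negSucc 0),1⟩] .nil .nil)) (.node 207 [⟨121,(Int.negSucc 0),1⟩] (.node 204 [⟨119,(Int.ofNat 1),1⟩] .nil .nil) (.node 208 [⟨125,(Int.ofNat 1),1⟩] .nil .nil)))) (.node 232 [⟨161,(Int.ofNat 1),1⟩] (.node 224 [⟨150,(Int.negSucc 0),1⟩] (.node 211 [⟨131,(Int.negSucc 0),1⟩] (.node 210 [⟨0,(Int.negSucc 0),1⟩, ⟨1,(Int.negSucc 0),1⟩, ⟨2,(Int.negSucc 1),1⟩, ⟨3,(Int.negSucc 2),1⟩, ⟨4,(Int.negSucc 2),1⟩, ⟨5,(Int.negSucc 1),1⟩, ⟨6,(Int.negSucc 1),1⟩, ⟨7,(Int.negSucc 0),1⟩, ⟨45,(Int.negSucc 0),2⟩] .nil .nil) (.node 220 [⟨149,(Int.negSucc 0),1⟩] .nil .nil)) (.node 229 [⟨155,(Int.negSucc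 0),1⟩] (.node 226 [⟨152,(Int.ofNat 1),1⟩] .nil .nil) (.node 231 [⟨157,(Int.ofNat 1),1⟩] .nil .nil))) (.node 240 [⟨193,(Int.negSucc 0),1⟩] (.node 238 [⟨179,(Int.negSucc 0),1⟩] (.node 236 [⟨177,(Int.ofNat 1),1⟩] .nil .nil) (.node 239 [⟨183,(Int.negSucc 0),1⟩] .nil .nil)) (.node 246 [⟨215,(Int.ofNat 1),1⟩] (.node 244 [⟨212,(Int.negSucc 0),1⟩] .nil .nil) (.node 247 [⟨216,(Int.ofNat 1),1⟩] .nil .nil))))))
noncomputable def col38 : Tr Cl := (.node 148 [⟨69,(Int.ofNat 1),1⟩] (.node 97 [⟨24,(Int.ofNat 1),1⟩] (.node 38 [⟨8,(Int.ofNat 1),1⟩] (.node 4 [⟨46,(Int.ofNat 1),1⟩] (.node 2 [⟨46,(Int.ofNat 0),1⟩] (.node 1 [⟨46,(Int.negSucc 0),1⟩] (.node 0 [⟨46,(Int.ofNat 0),1⟩] .nil .nil) .nil) (.node 3 [⟨46,(Int.ofNat 0),1⟩] .nil .nil)) (.node 6 [⟨46,(Int.negSucc 0),1⟩] (.node 5 [⟨46,(Int.ofNat 0),1⟩] .nil .nil) (.node 7 [⟨46,(Int.ofNat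 1),1⟩] .nil .nil))) (.node 71 [⟨16,(Int.negSucc 0),1⟩] (.node 42 [⟨11,(Int.negSucc 0),1⟩] (.node 40 [⟨10,(Int.negSucc 0),1⟩] .nil .nil) (.node 61 [⟨15,(Int.negSucc 0),1⟩] .nil .nil)) (.node 78 [⟨20,(Int.negSucc 0),1⟩] (.node 75 [⟨17,(Int.negSucc 0),1⟩] .nil .nil) (.node 93 [⟨23,(Int.ofNat 1),1⟩] .nil .nil)))) (.node 134 [⟨49,(Int.ofNat 1),1⟩] (.node 106 [⟨36,(Int.ofNat 1),1⟩] (.node 102 [⟨29,(Int.ofNat 1),1⟩] (.node 100 [⟨27,(Int.ofNat 1),1⟩] .nil .nil) (.node 105 [⟨32,(Int.ofNat 1),1⟩] .nil .nil)) (.node 126 [⟨45,(Int.ofNat 1),1⟩] (.node 123 [⟨44,(Int.negSucc 0),1⟩] .nil .nil) (.node 128 [⟨47,(Int.ofNat 1),1⟩] .nil .nil))) (.node 140 [⟨57,(Int.negSucc 0),1⟩] (.node 137 [⟨53,(Int.ofNat 1),1⟩] (.node 135 [⟨51,(Int.negSucc 0),1⟩] .nil .nil) (.node 139 [⟨55,(Int.ofNat 1),1⟩] .nil .nil)) (.node 145 [⟨65,(Int.ofNat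 1),1⟩] (.node 142 [⟨59,(Int.ofNat 1),1⟩] .nil .nil) (.node 146 [⟨67,(Int.negSucc 0),1⟩] .nil .nil))))) (.node 209 [⟨0,(Int.negSucc 0),1⟩, ⟨1,(Int.negSucc 0),1⟩, ⟨2,(Int.negSucc 1),1⟩, ⟨3,(Int.negSucc 2),1⟩, ⟨4,(Int.negSucc 2),1⟩, ⟨5,(Int.negSucc 1),1⟩, ⟨6,(Int.negSucc 0),1⟩, ⟨7,(Int.negSucc 0),1⟩, ⟨46,(Int.negSucc 0),2⟩] (.node 190 [⟨110,(Int.negSucc 0),1⟩] (.node 174 [⟨89,(Int.ofNat 1),1⟩] (.node 168 [⟨82,(Int.ofNat 1),1⟩] (.node 166 [⟨81,(Int.negSucc 0),1⟩] (.node 164 [⟨79,(Int.ofNat 1),1⟩] .nil .nil) .nil) (.node 173 [⟨87,(Int.negSucc 0),1⟩] .nil .nil)) (.node 186 [⟨107,(Int.negSucc 0),1⟩] (.node 176 [⟨91,(Int.negSucc 0),1⟩] .nil .nil) (.node 188 [⟨109,(Int.ofNat 1),1⟩] .nil .nil))) (.node 202 [⟨118,(Int.negSucc 0),1⟩] (.node 198 [⟨115,(Int.ofNat 1),1⟩] (.node 196 [⟨113,(Int.negSucc 0),1⟩] .nil .nil) (.node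 200 [⟨116,(Int.negSucc 0),1⟩] .nil .nil)) (.node 206 [⟨121,(Int.negSucc 0),1⟩] (.node 204 [⟨120,(Int.ofNat 1),1⟩] .nil .nil) (.node 208 [⟨127,(Int.negSucc 0),1⟩] .nil .nil)))) (.node 232 [⟨162,(Int.negSucc 0),1⟩] (.node 223 [⟨150,(Int.negSucc 0),1⟩] (.node 211 [⟨132,(Int.ofNat 1),1⟩] (.node 210 [⟨129,(Int.negSucc 0),1⟩] .nil .nil) (.node 219 [⟨149,(Int.negSucc 0),1⟩] .nil .nil)) (.node 228 [⟨155,(Int.negSucc 0),1⟩] (.node 226 [⟨153,(Int.negSucc 0),1⟩] .nil .nil) (.node 231 [⟨158,(Int.negSucc 0),1⟩] .nil .nil))) (.node 240 [⟨194,(Int.ofNat 1),1⟩] (.node 238 [⟨180,(Int.ofNat 1),1⟩] (.node 235 [⟨177,(Int.ofNat 1),1⟩] .nil .nil) (.node 239 [⟨184,(Int.ofNat 1),1⟩] .nil .nil)) (.node 245 [⟨215,(Int.ofNat 1),1⟩] (.node 244 [⟨213,(Int.ofNat 1),1⟩] .nil .nil) (.node 247 [⟨217,(Int.negSucc 0),1⟩] .nil .nil))))))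
noncomputable def col39 : Tr Cl := (.node 147 [⟨69,(Int.ofNat 1),1⟩] (.node 96 [⟨24,(Int.negSucc 0),1⟩] (.node 38 [⟨9,(Int.ofNat 1),1⟩] (.node 4 [⟨47,(Int.ofNat 1),1⟩] (.node 2 [⟨47,(Int.ofNat 0),1⟩] (.node 1 [⟨47,(Int.negSucc 0),1⟩] (.node 0 [⟨47,(Int.ofNat 0),1⟩] .nil .nil) .nil) (.node 3 [⟨47,(Int.ofNat 0),1⟩] .nil .nil)) (.node 6 [⟨47,(Int.ofNat 0),1⟩] (.node 5 [⟨47,(Int.ofNat 0),1⟩] .nil .nil) (.node 7 [⟨47,(Int.negSucc 0),1⟩] .nil .nil))) (.node 70 [⟨16,(Int.ofNat 1),1⟩] (.node 41 [⟨11,(Int.ofNat 1),1⟩] (.node 39 [⟨10,(Int.ofNat 1),1⟩] .nil .nil) (.node 60 [⟨15,(Int.ofNat 1),1⟩] .nil .nil)) (.node 78 [⟨21,(Int.negSucc 0),1⟩] (.node 74 [⟨17,(Int.ofNat 1),1⟩] .nil .nil) (.node 92 [⟨23,(Int.negSucc 0),1⟩] .nil .nil)))) (.node 134 [⟨50,(Int.ofNat 1),1⟩] (.node 106 [⟨37,(Int.ofNat 1),1⟩] (.node 101 [⟨29,(Int.negSucc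 0),1⟩] (.node 100 [⟨28,(Int.ofNat 1),1⟩] .nil .nil) (.node 105 [⟨33,(Int.ofNat 1),1⟩] .nil .nil)) (.node 125 [⟨45,(Int.negSucc 0),1⟩] (.node 122 [⟨44,(Int.ofNat 1),1⟩] .nil .nil) (.node 127 [⟨46,(Int.ofNat 1),1⟩] .nil .nil))) (.node 140 [⟨58,(Int.negSucc 0),1⟩] (.node 136 [⟨53,(Int.ofNat 1),1⟩] (.node 135 [⟨52,(Int.negSucc 0),1⟩] .nil .nil) (.node 139 [⟨56,(Int.ofNat 1),1⟩] .nil .nil)) (.node 145 [⟨66,(Int.ofNat 1),1⟩] (.node 141 [⟨59,(Int.ofNat 1),1⟩] .nil .nil) (.node 146 [⟨68,(Int.negSucc 0),1⟩] .nil .nil))))) (.node 209 [⟨128,(Int.negSucc 0),1⟩] (.node 189 [⟨110,(Int.negSucc 0),1⟩] (.node 174 [⟨90,(Int.ofNat 1),1⟩] (.node 167 [⟨82,(Int.ofNat 1),1⟩] (.node 165 [⟨81,(Int.negSucc 0),1⟩] (.node 164 [⟨80,(Int.ofNat 1),1⟩] .nil .nil) .nil) (.node 173 [⟨88,(Int.negSucc 0),1⟩] .nil .nil)) (.node 186 [⟨108,(Int.negSucc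 0),1⟩] (.node 175 [⟨91,(Int.negSucc 0),1⟩] .nil .nil) (.node 187 [⟨109,(Int.ofNat 1),1⟩] .nil .nil))) (.node 202 [⟨119,(Int.negSucc 0),1⟩] (.node 197 [⟨115,(Int.ofNat 1),1⟩] (.node 196 [⟨114,(Int.negSucc 0),1⟩] .nil .nil) (.node 199 [⟨116,(Int.negSucc 0),1⟩] .nil .nil)) (.node 205 [⟨121,(Int.negSucc 0),1⟩] (.node 203 [⟨120,(Int.ofNat 1),1⟩] .nil .nil) (.node 208 [⟨0,(Int.negSucc 0),1⟩, ⟨1,(Int.negSucc 0),1⟩, ⟨2,(Int.negSucc 1),1⟩, ⟨3,(Int.negSucc 2),1⟩, ⟨4,(Int.negSucc 2),1⟩, ⟨5,(Int.negSucc 1),1⟩, ⟨6,(Int.negSucc 0),1⟩, ⟨7,(Int.ofNat 0),1⟩, ⟨47,(Int.negSucc 0),2⟩] .nil .nil)))) (.node 232 [⟨163,(Int.ofNat 1),1⟩] (.node 222 [⟨150,(Int.negSucc 0),1⟩] (.node 211 [⟨133,(Int.negSucc 0),1⟩] (.node 210 [⟨130,(Int.ofNat 1),1⟩] .nil .nil) (.node 218 [⟨149,(Int.negSucc 0),1⟩] .nil .nil)) (.node 227 [⟨155,(Int.negSucc 0),1⟩]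 (.node 226 [⟨154,(Int.ofNat 1),1⟩] .nil .nil) (.node 231 [⟨159,(Int.ofNat 1),1⟩] .nil .nil))) (.node 240 [⟨195,(Int.negSucc 0),1⟩] (.node 238 [⟨181,(Int.negSucc 0),1⟩] (.node 234 [⟨177,(Int.ofNat 1),1⟩] .nil .nil) (.node 239 [⟨185,(Int.negSucc 0),1⟩] .nil .nil)) (.node 245 [⟨216,(Int.negSucc 0),1⟩] (.node 244 [⟨214,(Int.negSucc 0),1⟩] .nil .nil) (.node 246 [⟨217,(Int.negSucc 0),1⟩] .nil .nil))))))
noncomputable def col40 : Tr Cl := (.node 148 [⟨71,(Int.ofNat 1),1⟩] (.node 98 [⟨25,(Int.negSucc 0),1⟩] (.node 36 [⟨8,(Int.ofNat 1),1⟩] (.node 4 [⟨48,(Int.negSucc 0),1⟩] (.node 2 [⟨48,(Int.ofNat 0),1⟩] (.node 1 [⟨48,(Int.negSucc 0),1⟩] (.node 0 [⟨48,(Int.ofNat 0),1⟩] .nil .nil) .nil) (.node 3 [⟨48,(Int.ofNat 1),1⟩] .nil .nil)) (.node 6 [⟨48,(Int.ofNat 1),1⟩] (.node 5 [⟨48,(Int.ofNat 0),1⟩] .nil .nil) (.node 7 [⟨48,(Int.ofNat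 0),1⟩] .nil .nil))) (.node 69 [⟨16,(Int.negSucc 0),1⟩] (.node 43 [⟨12,(Int.ofNat 1),1⟩] (.node 37 [⟨9,(Int.ofNat 1),1⟩] .nil .nil) (.node 59 [⟨15,(Int.negSucc 0),1⟩] .nil .nil)) (.node 77 [⟨19,(Int.ofNat 1),1⟩] (.node 76 [⟨18,(Int.ofNat 1),1⟩] .nil .nil) (.node 91 [⟨23,(Int.ofNat 1),1⟩] .nil .nil)))) (.node 130 [⟨50,(Int.negSucc 0),1⟩] (.node 106 [⟨38,(Int.ofNat 1),1⟩] (.node 103 [⟨30,(Int.negSucc 0),1⟩] (.node 99 [⟨26,(Int.negSucc 0),1⟩] .nil .nil) (.node 104 [⟨31,(Int.negSucc 0),1⟩] .nil .nil)) (.node 121 [⟨45,(Int.ofNat 1),1⟩] (.node 120 [⟨44,(Int.ofNat 1),1⟩] .nil .nil) (.node 129 [⟨49,(Int.ofNat 1),1⟩] .nil .nil))) (.node 141 [⟨60,(Int.negSucc 0),1⟩] (.node 133 [⟨52,(Int.negSucc 0),1⟩] (.node 132 [⟨51,(Int.ofNat 1),1⟩] .nil .nil) (.node 138 [⟨54,(Int.ofNat 1),1⟩] .nil .nil)) (.node 144 [⟨64,(Int.ofNat 1),1⟩]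 (.node 142 [⟨61,(Int.ofNat 1),1⟩] .nil .nil) (.node 147 [⟨70,(Int.negSucc 0),1⟩] .nil .nil))))) (.node 207 [⟨0,(Int.negSucc 0),1⟩, ⟨1,(Int.negSucc 0),1⟩, ⟨2,(Int.negSucc 1),1⟩, ⟨3,(Int.negSucc 2),1⟩, ⟨4,(Int.negSucc 1),1⟩, ⟨5,(Int.negSucc 1),1⟩, ⟨6,(Int.negSucc 1),1⟩, ⟨7,(Int.negSucc 0),1⟩, ⟨48,(Int.negSucc 0),2⟩] (.node 191 [⟨111,(Int.negSucc 0),1⟩] (.node 175 [⟨92,(Int.ofNat 1),1⟩] (.node 169 [⟨83,(Int.ofNat 1),1⟩] (.node 163 [⟨80,(Int.negSucc 0),1⟩] (.node 162 [⟨79,(Int.ofNat 1),1⟩] .nil .nil) .nil) (.node 172 [⟨86,(Int.negSucc 0),1⟩] .nil .nil)) (.node 184 [⟨107,(Int.negSucc 0),1⟩] (.node 176 [⟨93,(Int.negSucc 0),1⟩] .nil .nil) (.node 185 [⟨108,(Int.ofNat 1),1⟩] .nil .nil))) (.node 203 [⟨122,(Int.ofNat 1),1⟩] (.node 195 [⟨114,(Int.ofNat 1),1⟩] (.node 194 [⟨113,(Int.negSucc 0),1⟩] .nil .nil) (.node 201 [⟨117,(Int.negSucc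 0),1⟩] .nil .nil)) (.node 205 [⟨125,(Int.ofNat 1),1⟩] (.node 204 [⟨123,(Int.negSucc 0),1⟩] .nil .nil) (.node 206 [⟨126,(Int.negSucc 0),1⟩] .nil .nil)))) (.node 232 [⟨164,(Int.negSucc 0),1⟩] (.node 224 [⟨151,(Int.ofNat 1),1⟩] (.node 211 [⟨135,(Int.negSucc 0),1⟩] (.node 210 [⟨134,(Int.negSucc 0),1⟩] .nil .nil) (.node 217 [⟨149,(Int.negSucc 0),1⟩] .nil .nil)) (.node 229 [⟨156,(Int.ofNat 1),1⟩] (.node 225 [⟨152,(Int.ofNat 1),1⟩] .nil .nil) (.node 230 [⟨157,(Int.ofNat 1),1⟩] .nil .nil))) (.node 240 [⟨196,(Int.ofNat 1),1⟩] (.node 237 [⟨179,(Int.negSucc 0),1⟩] (.node 236 [⟨178,(Int.negSucc 0),1⟩] .nil .nil) (.node 239 [⟨186,(Int.ofNat 1),1⟩] .nil .nil)) (.node 246 [⟨218,(Int.negSucc 0),1⟩] (.node 243 [⟨212,(Int.negSucc 0),1⟩] .nil .nil) (.node 247 [⟨219,(Int.negSucc 0),1⟩] .nil .nil))))))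
noncomputable def col41 : Tr Cl := (.node 148 [⟨72,(Int.ofNat 1),1⟩] (.node 97 [⟨25,(Int.ofNat 1),1⟩] (.node 35 [⟨8,(Int.negSucc 0),1⟩] (.node 4 [⟨49,(Int.negSucc 0),1⟩] (.node 2 [⟨49,(Int.ofNat 0),1⟩] (.node 1 [⟨49,(Int.negSucc 0),1⟩] (.node 0 [⟨49,(Int.ofNat 0),1⟩] .nil .nil) .nil) (.node 3 [⟨49,(Int.ofNat 1),1⟩] .nil .nil)) (.node 6 [⟨49,(Int.negSucc 0),1⟩] (.node 5 [⟨49,(Int.ofNat 1),1⟩] .nil .nil) (.node 7 [⟨49,(Int.ofNat 1),1⟩] .nil .nil))) (.node 68 [⟨16,(Int.ofNat 1),1⟩] (.node 42 [⟨12,(Int.negSucc 0),1⟩] (.node 37 [⟨10,(Int.ofNat 1),1⟩] .nil .nil) (.node 58 [⟨15,(Int.ofNat 1),1⟩] .nil .nil)) (.node 77 [⟨20,(Int.ofNat 1),1⟩] (.node 75 [⟨18,(Int.negSucc 0),1⟩] .nil .nil) (.node 90 [⟨23,(Int.negSucc 0),1⟩] .nil .nil)))) (.node 128 [⟨50,(Int.ofNat 1),1⟩] (.node 106 [⟨39,(Int.ofNat 1),1⟩] (.node 102 [⟨30,(Int.ofNat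 1),1⟩] (.node 99 [⟨27,(Int.negSucc 0),1⟩] .nil .nil) (.node 104 [⟨32,(Int.negSucc 0),1⟩] .nil .nil)) (.node 121 [⟨46,(Int.ofNat 1),1⟩] (.node 119 [⟨44,(Int.negSucc 0),1⟩] .nil .nil) (.node 126 [⟨48,(Int.ofNat 1),1⟩] .nil .nil))) (.node 140 [⟨60,(Int.negSucc 0),1⟩] (.node 133 [⟨53,(Int.negSucc 0),1⟩] (.node 131 [⟨51,(Int.ofNat 1),1⟩] .nil .nil) (.node 138 [⟨55,(Int.ofNat 1),1⟩] .nil .nil)) (.node 144 [⟨65,(Int.ofNat 1),1⟩] (.node 142 [⟨62,(Int.ofNat 1),1⟩] .nil .nil) (.node 146 [⟨70,(Int.negSucc 0),1⟩] .nil .nil))))) (.node 207 [⟨129,(Int.negSucc 0),1⟩] (.node 190 [⟨111,(Int.negSucc 0),1⟩] (.node 174 [⟨92,(Int.ofNat 1),1⟩] (.node 168 [⟨83,(Int.ofNat 1),1⟩] (.node 163 [⟨81,(Int.negSucc 0),1⟩] (.node 161 [⟨79,(Int.ofNat 1),1⟩] .nil .nil) .nil) (.node 172 [⟨87,(Int.negSucc 0),1⟩] .nil .nil)) (.node 183 [⟨107,(Int.negSucc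 0),1⟩] (.node 176 [⟨94,(Int.negSucc 0),1⟩] .nil .nil) (.node 185 [⟨109,(Int.ofNat 1),1⟩] .nil .nil))) (.node 202 [⟨122,(Int.ofNat 1),1⟩] (.node 195 [⟨115,(Int.ofNat 1),1⟩] (.node 193 [⟨113,(Int.negSucc 0),1⟩] .nil .nil) (.node 200 [⟨117,(Int.negSucc 0),1⟩] .nil .nil)) (.node 205 [⟨127,(Int.negSucc 0),1⟩] (.node 204 [⟨124,(Int.negSucc 0),1⟩] .nil .nil) (.node 206 [⟨0,(Int.negSucc 0),1⟩, ⟨1,(Int.negSucc 0),1⟩, ⟨2,(Int.negSucc 1),1⟩, ⟨3,(Int.negSucc 2),1⟩, ⟨4,(Int.negSucc 1),1⟩, ⟨5,(Int.negSucc 1),1⟩, ⟨6,(Int.negSucc 0),1⟩, ⟨7,(Int.negSucc 0),1⟩, ⟨49,(Int.negSucc 0),2⟩] .nil .nil)))) (.node 232 [⟨165,(Int.ofNat 1),1⟩] (.node 223 [⟨151,(Int.ofNat 1),1⟩] (.node 211 [⟨136,(Int.ofNat 1),1⟩] (.node 209 [⟨134,(Int.negSucc 0),1⟩] .nil .nil) (.node 216 [⟨149,(Int.negSucc 0),1⟩] .nil .nil)) (.node 228 [⟨156,(Int.ofNat 1),1⟩]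 (.node 225 [⟨153,(Int.negSucc 0),1⟩] .nil .nil) (.node 230 [⟨158,(Int.negSucc 0),1⟩] .nil .nil))) (.node 240 [⟨197,(Int.negSucc 0),1⟩] (.node 237 [⟨180,(Int.ofNat 1),1⟩] (.node 235 [⟨178,(Int.negSucc 0),1⟩] .nil .nil) (.node 239 [⟨187,(Int.negSucc 0),1⟩] .nil .nil)) (.node 245 [⟨218,(Int.negSucc 0),1⟩] (.node 243 [⟨213,(Int.ofNat 1),1⟩] .nil .nil) (.node 247 [⟨220,(Int.ofNat 1),1⟩] .nil .nil))))))
noncomputable def col42 : Tr Cl := (.node 147 [⟨72,(Int.ofNat 1),1⟩] (.node 96 [⟨25,(Int.negSucc 0),1⟩] (.node 35 [⟨9,(Int.negSucc 0),1⟩] (.node 4 [⟨50,(Int.negSucc 0),1⟩] (.node 2 [⟨50,(Int.ofNat 0),1⟩] (.node 1 [⟨50,(Int.negSucc 0),1⟩] (.node 0 [⟨50,(Int.ofNat 0),1⟩] .nil .nil) .nil) (.node 3 [⟨50,(Int.ofNat 1),1⟩] .nil .nil)) (.node 6 [⟨50,(Int.ofNat 0),1⟩] (.node 5 [⟨50,(Int.ofNat 1),1⟩] .nil .nil) (.node 7 [⟨50,(Int.negSucc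 0),1⟩] .nil .nil))) (.node 67 [⟨16,(Int.negSucc 0),1⟩] (.node 41 [⟨12,(Int.ofNat 1),1⟩] (.node 36 [⟨10,(Int.negSucc 0),1⟩] .nil .nil) (.node 57 [⟨15,(Int.negSucc 0),1⟩] .nil .nil)) (.node 77 [⟨21,(Int.ofNat 1),1⟩] (.node 74 [⟨18,(Int.ofNat 1),1⟩] .nil .nil) (.node 89 [⟨23,(Int.ofNat 1),1⟩] .nil .nil)))) (.node 127 [⟨49,(Int.ofNat 1),1⟩] (.node 106 [⟨40,(Int.ofNat 1),1⟩] (.node 101 [⟨30,(Int.negSucc 0),1⟩] (.node 99 [⟨28,(Int.negSucc 0),1⟩] .nil .nil) (.node 104 [⟨33,(Int.negSucc 0),1⟩] .nil .nil)) (.node 121 [⟨47,(Int.ofNat 1),1⟩] (.node 118 [⟨44,(Int.ofNat 1),1⟩] .nil .nil) (.node 125 [⟨48,(Int.negSucc 0),1⟩] .nil .nil))) (.node 140 [⟨61,(Int.negSucc 0),1⟩] (.node 132 [⟨53,(Int.negSucc 0),1⟩] (.node 131 [⟨52,(Int.ofNat 1),1⟩] .nil .nil) (.node 138 [⟨56,(Int.ofNat 1),1⟩] .nil .nil)) (.node 144 [⟨66,(Int.ofNat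 1),1⟩] (.node 141 [⟨62,(Int.ofNat 1),1⟩] .nil .nil) (.node 146 [⟨71,(Int.negSucc 0),1⟩] .nil .nil))))) (.node 207 [⟨130,(Int.ofNat 1),1⟩] (.node 189 [⟨111,(Int.negSucc 0),1⟩] (.node 174 [⟨93,(Int.ofNat 1),1⟩] (.node 167 [⟨83,(Int.ofNat 1),1⟩] (.node 162 [⟨81,(Int.negSucc 0),1⟩] (.node 161 [⟨80,(Int.ofNat 1),1⟩] .nil .nil) .nil) (.node 172 [⟨88,(Int.negSucc 0),1⟩] .nil .nil)) (.node 183 [⟨108,(Int.negSucc 0),1⟩] (.node 175 [⟨94,(Int.negSucc 0),1⟩] .nil .nil) (.node 184 [⟨109,(Int.ofNat 1),1⟩] .nil .nil))) (.node 202 [⟨123,(Int.ofNat 1),1⟩] (.node 194 [⟨115,(Int.ofNat 1),1⟩] (.node 193 [⟨114,(Int.negSucc 0),1⟩] .nil .nil) (.node 199 [⟨117,(Int.negSucc 0),1⟩] .nil .nil)) (.node 205 [⟨0,(Int.negSucc 0),1⟩, ⟨1,(Int.negSucc 0),1⟩, ⟨2,(Int.negSucc 1),1⟩, ⟨3,(Int.negSucc 2),1⟩, ⟨4,(Int.negSucc 1),1⟩, ⟨5,(Int.negSucc 1),1⟩,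 ⟨6,(Int.negSucc 0),1⟩, ⟨7,(Int.ofNat 0),1⟩, ⟨50,(Int.negSucc 0),2⟩] (.node 203 [⟨124,(Int.negSucc 0),1⟩] .nil .nil) (.node 206 [⟨128,(Int.negSucc 0),1⟩] .nil .nil)))) (.node 232 [⟨166,(Int.negSucc 0),1⟩] (.node 222 [⟨151,(Int.ofNat 1),1⟩] (.node 211 [⟨137,(Int.negSucc 0),1⟩] (.node 208 [⟨134,(Int.negSucc 0),1⟩] .nil .nil) (.node 215 [⟨149,(Int.negSucc 0),1⟩] .nil .nil)) (.node 227 [⟨156,(Int.ofNat 1),1⟩] (.node 225 [⟨154,(Int.ofNat 1),1⟩] .nil .nil) (.node 230 [⟨159,(Int.ofNat 1),1⟩] .nil .nil))) (.node 240 [⟨198,(Int.ofNat 1),1⟩] (.node 237 [⟨181,(Int.negSucc 0),1⟩] (.node 234 [⟨178,(Int.negSucc 0),1⟩] .nil .nil) (.node 239 [⟨188,(Int.ofNat 1),1⟩] .nil .nil)) (.node 245 [⟨219,(Int.ofNat 1),1⟩] (.node 243 [⟨214,(Int.negSucc 0),1⟩] .nil .nil) (.node 246 [⟨220,(Int.ofNat 1),1⟩] .nil .nil))))))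
noncomputable def col43 : Tr Cl := (.node 148 [⟨73,(Int.ofNat 1),1⟩] (.node 97 [⟨26,(Int.ofNat 1),1⟩] (.node 34 [⟨8,(Int.ofNat 1),1⟩] (.node 4 [⟨51,(Int.ofNat 0),1⟩] (.node 2 [⟨51,(Int.ofNat 0),1⟩] (.node 1 [⟨51,(Int.negSucc 0),1⟩] (.node 0 [⟨51,(Int.ofNat 0),1⟩] .nil .nil) .nil) (.node 3 [⟨51,(Int.ofNat 1),1⟩] .nil .nil)) (.node 6 [⟨51,(Int.ofNat 0),1⟩] (.node 5 [⟨51,(Int.negSucc 0),1⟩] .nil .nil) (.node 7 [⟨51,(Int.ofNat 1),1⟩] .nil .nil))) (.node 66 [⟨16,(Int.negSucc 0),1⟩] (.node 40 [⟨12,(Int.ofNat 1),1⟩] (.node 37 [⟨11,(Int.ofNat 1),1⟩] .nil .nil) (.node 56 [⟨15,(Int.negSucc 0),1⟩] .nil .nil)) (.node 76 [⟨20,(Int.negSucc 0),1⟩] (.node 75 [⟨19,(Int.negSucc 0),1⟩] .nil .nil) (.node 88 [⟨23,(Int.ofNat 1),1⟩] .nil .nil)))) (.node 124 [⟨49,(Int.ofNat 1),1⟩] (.node 106 [⟨41,(Int.ofNat 1),1⟩] (.node 102 [⟨31,(Int.ofNat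 1),1⟩] (.node 98 [⟨27,(Int.ofNat 1),1⟩] .nil .nil) (.node 103 [⟨32,(Int.ofNat 1),1⟩] .nil .nil)) (.node 120 [⟨46,(Int.negSucc 0),1⟩] (.node 119 [⟨45,(Int.negSucc 0),1⟩] .nil .nil) (.node 123 [⟨48,(Int.ofNat 1),1⟩] .nil .nil))) (.node 139 [⟨60,(Int.negSucc 0),1⟩] (.node 130 [⟨53,(Int.ofNat 1),1⟩] (.node 128 [⟨52,(Int.ofNat 1),1⟩] .nil .nil) (.node 138 [⟨57,(Int.ofNat 1),1⟩] .nil .nil)) (.node 144 [⟨67,(Int.ofNat 1),1⟩] (.node 142 [⟨63,(Int.ofNat 1),1⟩] .nil .nil) (.node 145 [⟨70,(Int.negSucc 0),1⟩] .nil .nil))))) (.node 207 [⟨132,(Int.negSucc 0),1⟩] (.node 188 [⟨111,(Int.negSucc 0),1⟩] (.node 173 [⟨92,(Int.ofNat 1),1⟩] (.node 166 [⟨83,(Int.ofNat 1),1⟩] (.node 163 [⟨82,(Int.negSucc 0),1⟩] (.node 160 [⟨79,(Int.ofNat 1),1⟩] .nil .nil) .nil) (.node 172 [⟨89,(Int.negSucc 0),1⟩] .nil .nil)) (.node 182 [⟨107,(Int.negSucc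 0),1⟩] (.node 176 [⟨95,(Int.negSucc 0),1⟩] .nil .nil) (.node 185 [⟨110,(Int.ofNat 1),1⟩] .nil .nil))) (.node 202 [⟨125,(Int.negSucc 0),1⟩] (.node 195 [⟨116,(Int.ofNat 1),1⟩] (.node 192 [⟨113,(Int.negSucc 0),1⟩] .nil .nil) (.node 198 [⟨117,(Int.negSucc 0),1⟩] .nil .nil)) (.node 204 [⟨0,(Int.negSucc 0),1⟩, ⟨1,(Int.negSucc 0),1⟩, ⟨2,(Int.negSucc 1),1⟩, ⟨3,(Int.negSucc 2),1⟩, ⟨4,(Int.negSucc 1),1⟩, ⟨5,(Int.negSucc 0),1⟩, ⟨6,(Int.negSucc 0),1⟩, ⟨7,(Int.negSucc 0),1⟩, ⟨51,(Int.negSucc 0),2⟩] (.node 203 [⟨127,(Int.negSucc 0),1⟩] .nil .nil) (.node 206 [⟨131,(Int.negSucc 0),1⟩] .nil .nil)))) (.node 232 [⟨167,(Int.negSucc 0),1⟩] (.node 223 [⟨152,(Int.negSucc 0),1⟩] (.node 210 [⟨136,(Int.ofNat 1),1⟩] (.node 209 [⟨135,(Int.ofNat 1),1⟩] .nil .nil) (.node 214 [⟨149,(Int.negSucc 0),1⟩] .nil .nil)) (.node 228 [⟨157,(Int.negSucc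 0),1⟩] (.node 224 [⟨153,(Int.negSucc 0),1⟩] .nil .nil) (.node 229 [⟨158,(Int.negSucc 0),1⟩] .nil .nil))) (.node 240 [⟨199,(Int.ofNat 1),1⟩] (.node 236 [⟨180,(Int.ofNat 1),1⟩] (.node 235 [⟨179,(Int.ofNat 1),1⟩] .nil .nil) (.node 239 [⟨189,(Int.ofNat 1),1⟩] .nil .nil)) (.node 244 [⟨218,(Int.negSucc 0),1⟩] (.node 243 [⟨215,(Int.negSucc 0),1⟩] .nil .nil) (.node 247 [⟨221,(Int.negSucc 0),1⟩] .nil .nil))))))
noncomputable def col44 : Tr Cl := (.node 147 [⟨73,(Int.ofNat 1),1⟩] (.node 96 [⟨26,(Int.negSucc 0),1⟩] (.node 34 [⟨9,(Int.ofNat 1),1⟩] (.node 4 [⟨52,(Int.ofNat 0),1⟩] (.node 2 [⟨52,(Int.ofNat 0),1⟩] (.node 1 [⟨52,(Int.negSucc 0),1⟩] (.node 0 [⟨52,(Int.ofNat 0),1⟩] .nil .nil) .nil) (.node 3 [⟨52,(Int.ofNat 1),1⟩] .nil .nil)) (.node 6 [⟨52,(Int.ofNat 1),1⟩] (.node 5 [⟨52,(Int.negSucc 0),1⟩] .nil .nil) (.node 7 [⟨52,(Int.negSucc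 0),1⟩] .nil .nil))) (.node 65 [⟨16,(Int.ofNat 1),1⟩] (.node 39 [⟨12,(Int.negSucc 0),1⟩] (.node 36 [⟨11,(Int.negSucc 0),1⟩] .nil .nil) (.node 55 [⟨15,(Int.ofNat 1),1⟩] .nil .nil)) (.node 76 [⟨21,(Int.negSucc 0),1⟩] (.node 74 [⟨19,(Int.ofNat 1),1⟩] .nil .nil) (.node 87 [⟨23,(Int.negSucc 0),1⟩] .nil .nil)))) (.node 124 [⟨50,(Int.ofNat 1),1⟩] (.node 106 [⟨42,(Int.ofNat 1),1⟩] (.node 101 [⟨31,(Int.negSucc 0),1⟩] (.node 98 [⟨28,(Int.ofNat 1),1⟩] .nil .nil) (.node 103 [⟨33,(Int.ofNat 1),1⟩] .nil .nil)) (.node 120 [⟨47,(Int.negSucc 0),1⟩] (.node 118 [⟨45,(Int.ofNat 1),1⟩] .nil .nil) (.node 122 [⟨48,(Int.negSucc 0),1⟩] .nil .nil))) (.node 139 [⟨61,(Int.negSucc 0),1⟩] (.node 129 [⟨53,(Int.ofNat 1),1⟩] (.node 127 [⟨51,(Int.ofNat 1),1⟩] .nil .nil) (.node 138 [⟨58,(Int.ofNat 1),1⟩] .nil .nil)) (.node 144 [⟨68,(Int.ofNat 1),1⟩]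 (.node 141 [⟨63,(Int.ofNat 1),1⟩] .nil .nil) (.node 145 [⟨71,(Int.negSucc 0),1⟩] .nil .nil))))) (.node 207 [⟨133,(Int.ofNat 1),1⟩] (.node 187 [⟨111,(Int.negSucc 0),1⟩] (.node 173 [⟨93,(Int.ofNat 1),1⟩] (.node 165 [⟨83,(Int.ofNat 1),1⟩] (.node 162 [⟨82,(Int.negSucc 0),1⟩] (.node 160 [⟨80,(Int.ofNat 1),1⟩] .nil .nil) .nil) (.node 172 [⟨90,(Int.negSucc 0),1⟩] .nil .nil)) (.node 182 [⟨108,(Int.negSucc 0),1⟩] (.node 175 [⟨95,(Int.negSucc 0),1⟩] .nil .nil) (.node 184 [⟨110,(Int.ofNat 1),1⟩] .nil .nil))) (.node 202 [⟨126,(Int.negSucc 0),1⟩] (.node 194 [⟨116,(Int.ofNat 1),1⟩] (.node 192 [⟨114,(Int.negSucc 0),1⟩] .nil .nil) (.node 197 [⟨117,(Int.negSucc 0),1⟩] .nil .nil)) (.node 204 [⟨128,(Int.negSucc 0),1⟩] (.node 203 [⟨0,(Int.negSucc 0),1⟩, ⟨1,(Int.negSucc 0),1⟩, ⟨2,(Int.negSucc 1),1⟩, ⟨3,(Int.negSucc 2),1⟩, ⟨4,(Int.negSucc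 1),1⟩, ⟨5,(Int.negSucc 0),1⟩, ⟨6,(Int.negSucc 0),1⟩, ⟨7,(Int.ofNat 0),1⟩, ⟨52,(Int.negSucc 0),2⟩] .nil .nil) (.node 205 [⟨131,(Int.negSucc 0),1⟩] .nil .nil)))) (.node 232 [⟨168,(Int.ofNat 1),1⟩] (.node 222 [⟨152,(Int.negSucc 0),1⟩] (.node 210 [⟨137,(Int.negSucc 0),1⟩] (.node 208 [⟨135,(Int.ofNat 1),1⟩] .nil .nil) (.node 213 [⟨149,(Int.negSucc 0),1⟩] .nil .nil)) (.node 227 [⟨157,(Int.negSucc 0),1⟩] (.node 224 [⟨154,(Int.ofNat 1),1⟩] .nil .nil) (.node 229 [⟨159,(Int.ofNat 1),1⟩] .nil .nil))) (.node 240 [⟨200,(Int.negSucc 0),1⟩] (.node 236 [⟨181,(Int.negSucc 0),1⟩] (.node 234 [⟨179,(Int.ofNat 1),1⟩] .nil .nil) (.node 239 [⟨190,(Int.negSucc 0),1⟩] .nil .nil)) (.node 244 [⟨219,(Int.ofNat 1),1⟩] (.node 243 [⟨216,(Int.ofNat 1),1⟩] .nil .nil) (.node 246 [⟨221,(Int.negSucc 0),1⟩] .nil .nil))))))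
noncomputable def col45 : Tr Cl := (.node 146 [⟨73,(Int.ofNat 1),1⟩] (.node 96 [⟨27,(Int.negSucc 0),1⟩] (.node 34 [⟨10,(Int.ofNat 1),1⟩] (.node 4 [⟨53,(Int.ofNat 0),1⟩] (.node 2 [⟨53,(Int.ofNat 0),1⟩] (.node 1 [⟨53,(Int.negSucc 0),1⟩] (.node 0 [⟨53,(Int.ofNat 0),1⟩] .nil .nil) .nil) (.node 3 [⟨53,(Int.ofNat 1),1⟩] .nil .nil)) (.node 6 [⟨53,(Int.negSucc 0),1⟩] (.node 5 [⟨53,(Int.ofNat 0),1⟩] .nil .nil) (.node 7 [⟨53,(Int.ofNat 0),1⟩] .nil .nil))) (.node 64 [⟨16,(Int.negSucc 0),1⟩] (.node 38 [⟨12,(Int.ofNat 1),1⟩] (.node 35 [⟨11,(Int.ofNat 1),1⟩] .nil .nil) (.node 54 [⟨15,(Int.negSucc 0),1⟩] .nil .nil)) (.node 75 [⟨21,(Int.ofNat 1),1⟩] (.node 74 [⟨20,(Int.ofNat 1),1⟩] .nil .nil) (.node 86 [⟨23,(Int.ofNat 1),1⟩] .nil .nil)))) (.node 123 [⟨50,(Int.negSucc 0),1⟩] (.node 106 [⟨43,(Int.ofNat 1),1⟩] (.node 101 [⟨32,(Int.negSucc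 0),1⟩] (.node 97 [⟨28,(Int.negSucc 0),1⟩] .nil .nil) (.node 102 [⟨33,(Int.negSucc 0),1⟩] .nil .nil)) (.node 119 [⟨47,(Int.ofNat 1),1⟩] (.node 118 [⟨46,(Int.ofNat 1),1⟩] .nil .nil) (.node 122 [⟨49,(Int.negSucc 0),1⟩] .nil .nil))) (.node 139 [⟨62,(Int.negSucc 0),1⟩] (.node 126 [⟨52,(Int.ofNat 1),1⟩] (.node 125 [⟨51,(Int.ofNat 1),1⟩] .nil .nil) (.node 138 [⟨59,(Int.ofNat 1),1⟩] .nil .nil)) (.node 144 [⟨69,(Int.ofNat 1),1⟩] (.node 140 [⟨63,(Int.ofNat 1),1⟩] .nil .nil) (.node 145 [⟨72,(Int.negSucc 0),1⟩] .nil .nil))))) (.node 206 [⟨133,(Int.ofNat 1),1⟩] (.node 186 [⟨111,(Int.negSucc 0),1⟩] (.node 173 [⟨94,(Int.ofNat 1),1⟩] (.node 164 [⟨83,(Int.ofNat 1),1⟩] (.node 161 [⟨82,(Int.negSucc 0),1⟩] (.node 160 [⟨81,(Int.ofNat 1),1⟩] .nil .nil) .nil) (.node 172 [⟨91,(Int.negSucc 0),1⟩] .nil .nil)) (.node 182 [⟨109,(Int.negSucc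 0),1⟩] (.node 174 [⟨95,(Int.negSucc 0),1⟩] .nil .nil) (.node 183 [⟨110,(Int.ofNat 1),1⟩] .nil .nil))) (.node 202 [⟨0,(Int.negSucc 0),1⟩, ⟨1,(Int.negSucc 0),1⟩, ⟨2,(Int.negSucc 1),1⟩, ⟨3,(Int.negSucc 2),1⟩, ⟨4,(Int.negSucc 1),1⟩, ⟨5,(Int.negSucc 0),1⟩, ⟨6,(Int.ofNat 0),1⟩, ⟨7,(Int.ofNat 0),1⟩, ⟨53,(Int.negSucc 0),2⟩] (.node 193 [⟨116,(Int.ofNat 1),1⟩] (.node 192 [⟨115,(Int.negSucc 0),1⟩] .nil .nil) (.node 196 [⟨117,(Int.negSucc 0),1⟩] .nil .nil)) (.node 204 [⟨130,(Int.negSucc 0),1⟩] (.node 203 [⟨129,(Int.negSucc 0),1⟩] .nil .nil) (.node 205 [⟨132,(Int.ofNat 1),1⟩] .nil .nil)))) (.node 232 [⟨169,(Int.negSucc 0),1⟩] (.node 222 [⟨153,(Int.ofNat 1),1⟩] (.node 209 [⟨137,(Int.negSucc 0),1⟩] (.node 208 [⟨136,(Int.negSucc 0),1⟩] .nil .nil) (.node 212 [⟨149,(Int.negSucc 0),1⟩] .nil .nil)) (.node 227 [⟨158,(Int.ofNat 1),1⟩]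 (.node 223 [⟨154,(Int.ofNat 1),1⟩] .nil .nil) (.node 228 [⟨159,(Int.ofNat 1),1⟩] .nil .nil))) (.node 240 [⟨201,(Int.ofNat 1),1⟩] (.node 235 [⟨181,(Int.negSucc 0),1⟩] (.node 234 [⟨180,(Int.negSucc 0),1⟩] .nil .nil) (.node 239 [⟨191,(Int.ofNat 1),1⟩] .nil .nil)) (.node 244 [⟨220,(Int.negSucc 0),1⟩] (.node 243 [⟨217,(Int.negSucc 0),1⟩] .nil .nil) (.node 245 [⟨221,(Int.negSucc 0),1⟩] .nil .nil))))))
noncomputable def col46 : Tr Cl := (.node 148 [⟨75,(Int.ofNat 1),1⟩] (.node 94 [⟨25,(Int.ofNat 1),1⟩] (.node 32 [⟨8,(Int.negSucc 0),1⟩] (.node 4 [⟨54,(Int.ofNat 0),1⟩] (.node 2 [⟨54,(Int.ofNat 1),1⟩] (.node 1 [⟨54,(Int.ofNat 0),1⟩] (.node 0 [⟨54,(Int.ofNat 0),1⟩] .nil .nil) .nil) (.node 3 [⟨54,(Int.negSucc 0),1⟩] .nil .nil)) (.node 6 [⟨54,(Int.ofNat 1),1⟩] (.node 5 [⟨54,(Int.ofNat 0),1⟩] .nil .nil) (.node 7 [⟨54,(Int.ofNat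 0),1⟩] .nil .nil))) (.node 69 [⟨17,(Int.negSucc 0),1⟩] (.node 43 [⟨13,(Int.ofNat 1),1⟩] (.node 33 [⟨9,(Int.negSucc 0),1⟩] .nil .nil) (.node 53 [⟨15,(Int.ofNat 1),1⟩] .nil .nil)) (.node 73 [⟨19,(Int.negSucc 0),1⟩] (.node 72 [⟨18,(Int.negSucc 0),1⟩] .nil .nil) (.node 91 [⟨24,(Int.ofNat 1),1⟩] .nil .nil)))) (.node 129 [⟨55,(Int.ofNat 1),1⟩] (.node 105 [⟨38,(Int.negSucc 0),1⟩] (.node 103 [⟨34,(Int.negSucc 0),1⟩] (.node 95 [⟨26,(Int.ofNat 1),1⟩] .nil .nil) (.node 104 [⟨35,(Int.negSucc 0),1⟩] .nil .nil)) (.node 116 [⟨45,(Int.ofNat 1),1⟩] (.node 115 [⟨44,(Int.ofNat 1),1⟩] .nil .nil) (.node 117 [⟨48,(Int.ofNat 1),1⟩] .nil .nil))) (.node 136 [⟨60,(Int.ofNat 1),1⟩] (.node 132 [⟨57,(Int.ofNat 1),1⟩] (.node 130 [⟨56,(Int.negSucc 0),1⟩] .nil .nil) (.node 133 [⟨58,(Int.negSucc 0),1⟩] .nil .nil)) (.node 143 [⟨64,(Int.ofNat 1),1⟩]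 (.node 137 [⟨61,(Int.negSucc 0),1⟩] .nil .nil) (.node 147 [⟨74,(Int.negSucc 0),1⟩] .nil .nil))))) (.node 207 [⟨138,(Int.negSucc 0),1⟩] (.node 191 [⟨112,(Int.negSucc 0),1⟩] (.node 175 [⟨96,(Int.ofNat 1),1⟩] (.node 169 [⟨84,(Int.ofNat 1),1⟩] (.node 159 [⟨80,(Int.negSucc 0),1⟩] (.node 158 [⟨79,(Int.ofNat 1),1⟩] .nil .nil) .nil) (.node 171 [⟨86,(Int.negSucc 0),1⟩] .nil .nil)) (.node 180 [⟨107,(Int.negSucc 0),1⟩] (.node 176 [⟨97,(Int.negSucc 0),1⟩] .nil .nil) (.node 181 [⟨108,(Int.ofNat 1),1⟩] .nil .nil))) (.node 198 [⟨123,(Int.negSucc 0),1⟩] (.node 195 [⟨119,(Int.negSucc 0),1⟩] (.node 194 [⟨118,(Int.ofNat 1),1⟩] .nil .nil) (.node 197 [⟨122,(Int.ofNat 1),1⟩] .nil .nil)) (.node 200 [⟨126,(Int.negSucc 0),1⟩] (.node 199 [⟨125,(Int.ofNat 1),1⟩] .nil .nil) (.node 201 [⟨0,(Int.negSucc 0),1⟩, ⟨1,(Int.negSucc 0),1⟩, ⟨2,(Int.negSucc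 1),1⟩, ⟨3,(Int.negSucc 1),1⟩, ⟨4,(Int.negSucc 1),1⟩, ⟨5,(Int.negSucc 1),1⟩, ⟨6,(Int.negSucc 1),1⟩, ⟨7,(Int.negSucc 0),1⟩, ⟨54,(Int.negSucc 0),2⟩] .nil .nil)))) (.node 231 [⟨164,(Int.negSucc 0),1⟩] (.node 220 [⟨151,(Int.ofNat 1),1⟩] (.node 211 [⟨140,(Int.negSucc 0),1⟩] (.node 210 [⟨139,(Int.negSucc 0),1⟩] .nil .nil) (.node 217 [⟨150,(Int.ofNat 1),1⟩] .nil .nil)) (.node 229 [⟨160,(Int.negSucc 0),1⟩] (.node 221 [⟨152,(Int.ofNat 1),1⟩] .nil .nil) (.node 230 [⟨161,(Int.negSucc 0),1⟩] .nil .nil))) (.node 240 [⟨202,(Int.negSucc 0),1⟩] (.node 237 [⟨183,(Int.ofNat 1),1⟩] (.node 236 [⟨182,(Int.ofNat 1),1⟩] .nil .nil) (.node 238 [⟨186,(Int.ofNat 1),1⟩] .nil .nil)) (.node 246 [⟨222,(Int.ofNat 1),1⟩] (.node 242 [⟨212,(Int.negSucc 0),1⟩] .nil .nil) (.node 247 [⟨223,(Int.ofNat 1),1⟩] .nil .nil))))))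
noncomputable def col47 : Tr Cl := (.node 148 [⟨76,(Int.ofNat 1),1⟩] (.node 93 [⟨25,(Int.negSucc 0),1⟩] (.node 31 [⟨8,(Int.ofNat 1),1⟩] (.node 4 [⟨55,(Int.ofNat 0),1⟩] (.node 2 [⟨55,(Int.ofNat 1),1⟩] (.node 1 [⟨55,(Int.ofNat 0),1⟩] (.node 0 [⟨55,(Int.ofNat 0),1⟩] .nil .nil) .nil) (.node 3 [⟨55,(Int.negSucc 0),1⟩] .nil .nil)) (.node 6 [⟨55,(Int.negSucc 0),1⟩] (.node 5 [⟨55,(Int.ofNat 1),1⟩] .nil .nil) (.node 7 [⟨55,(Int.ofNat 1),1⟩] .nil .nil))) (.node 68 [⟨17,(Int.ofNat 1),1⟩] (.node 42 [⟨13,(Int.negSucc 0),1⟩] (.node 33 [⟨10,(Int.negSucc 0),1⟩] .nil .nil) (.node 52 [⟨15,(Int.negSucc 0),1⟩] .nil .nil)) (.node 73 [⟨20,(Int.negSucc 0),1⟩] (.node 71 [⟨18,(Int.ofNat 1),1⟩] .nil .nil) (.node 90 [⟨24,(Int.negSucc 0),1⟩] .nil .nil)))) (.node 126 [⟨54,(Int.ofNat 1),1⟩] (.node 105 [⟨39,(Int.negSucc 0),1⟩] (.node 102 [⟨34,(Int.ofNat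 1),1⟩] (.node 95 [⟨27,(Int.ofNat 1),1⟩] .nil .nil) (.node 104 [⟨36,(Int.negSucc 0),1⟩] .nil .nil)) (.node 116 [⟨46,(Int.ofNat 1),1⟩] (.node 114 [⟨44,(Int.negSucc 0),1⟩] .nil .nil) (.node 117 [⟨49,(Int.ofNat 1),1⟩] .nil .nil))) (.node 135 [⟨60,(Int.ofNat 1),1⟩] (.node 131 [⟨57,(Int.ofNat 1),1⟩] (.node 128 [⟨56,(Int.ofNat 1),1⟩] .nil .nil) (.node 133 [⟨59,(Int.negSucc 0),1⟩] .nil .nil)) (.node 143 [⟨65,(Int.ofNat 1),1⟩] (.node 137 [⟨62,(Int.negSucc 0),1⟩] .nil .nil) (.node 146 [⟨74,(Int.negSucc 0),1⟩] .nil .nil))))) (.node 206 [⟨138,(Int.negSucc 0),1⟩] (.node 190 [⟨112,(Int.negSucc 0),1⟩] (.node 174 [⟨96,(Int.ofNat 1),1⟩] (.node 168 [⟨84,(Int.ofNat 1),1⟩] (.node 159 [⟨81,(Int.negSucc 0),1⟩] (.node 157 [⟨79,(Int.ofNat 1),1⟩] .nil .nil) .nil) (.node 171 [⟨87,(Int.negSucc 0),1⟩] .nil .nil)) (.node 179 [⟨107,(Int.negSucc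 0),1⟩] (.node 176 [⟨98,(Int.negSucc 0),1⟩] .nil .nil) (.node 181 [⟨109,(Int.ofNat 1),1⟩] .nil .nil))) (.node 198 [⟨124,(Int.negSucc 0),1⟩] (.node 195 [⟨120,(Int.negSucc 0),1⟩] (.node 193 [⟨118,(Int.ofNat 1),1⟩] .nil .nil) (.node 196 [⟨122,(Int.ofNat 1),1⟩] .nil .nil)) (.node 200 [⟨0,(Int.negSucc 0),1⟩, ⟨1,(Int.negSucc 0),1⟩, ⟨2,(Int.negSucc 1),1⟩, ⟨3,(Int.negSucc 1),1⟩, ⟨4,(Int.negSucc 1),1⟩, ⟨5,(Int.negSucc 1),1⟩, ⟨6,(Int.negSucc 0),1⟩, ⟨7,(Int.negSucc 0),1⟩, ⟨55,(Int.negSucc 0),2⟩] (.node 199 [⟨127,(Int.negSucc 0),1⟩] .nil .nil) (.node 201 [⟨129,(Int.negSucc 0),1⟩] .nil .nil)))) (.node 231 [⟨165,(Int.ofNat 1),1⟩] (.node 219 [⟨151,(Int.ofNat 1),1⟩] (.node 211 [⟨141,(Int.ofNat 1),1⟩] (.node 209 [⟨139,(Int.negSucc 0),1⟩] .nil .nil) (.node 216 [⟨150,(Int.ofNat 1),1⟩] .nil .nil)) (.node 228 [⟨160,(Int.negSucc 0),1⟩]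 (.node 221 [⟨153,(Int.negSucc 0),1⟩] .nil .nil) (.node 230 [⟨162,(Int.ofNat 1),1⟩] .nil .nil))) (.node 240 [⟨203,(Int.ofNat 1),1⟩] (.node 237 [⟨184,(Int.negSucc 0),1⟩] (.node 235 [⟨182,(Int.ofNat 1),1⟩] .nil .nil) (.node 238 [⟨187,(Int.negSucc 0),1⟩] .nil .nil)) (.node 245 [⟨222,(Int.ofNat 1),1⟩] (.node 242 [⟨213,(Int.ofNat 1),1⟩] .nil .nil) (.node 247 [⟨224,(Int.negSucc 0),1⟩] .nil .nil))))))
noncomputable def col48 : Tr Cl := (.node 147 [⟨76,(Int.ofNat 1),1⟩] (.node 92 [⟨25,(Int.ofNat 1),1⟩] (.node 31 [⟨9,(Int.ofNat 1),1⟩] (.node 4 [⟨56,(Int.ofNat 0),1⟩] (.node 2 [⟨56,(Int.ofNat 1),1⟩] (.node 1 [⟨56,(Int.ofNat 0),1⟩] (.node 0 [⟨56,(Int.ofNat 0),1⟩] .nil .nil) .nil) (.node 3 [⟨56,(Int.negSucc 0),1⟩] .nil .nil)) (.node 6 [⟨56,(Int.ofNat 0),1⟩] (.node 5 [⟨56,(Int.ofNat 1),1⟩] .nil .nil) (.node 7 [⟨56,(Int.negSucc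 0),1⟩] .nil .nil))) (.node 67 [⟨17,(Int.negSucc 0),1⟩] (.node 41 [⟨13,(Int.ofNat 1),1⟩] (.node 32 [⟨10,(Int.ofNat 1),1⟩] .nil .nil) (.node 51 [⟨15,(Int.ofNat 1),1⟩] .nil .nil)) (.node 73 [⟨21,(Int.negSucc 0),1⟩] (.node 70 [⟨18,(Int.negSucc 0),1⟩] .nil .nil) (.node 89 [⟨24,(Int.ofNat 1),1⟩] .nil .nil)))) (.node 125 [⟨54,(Int.negSucc 0),1⟩] (.node 105 [⟨40,(Int.negSucc 0),1⟩] (.node 101 [⟨34,(Int.negSucc 0),1⟩] (.node 95 [⟨28,(Int.ofNat 1),1⟩] .nil .nil) (.node 104 [⟨37,(Int.negSucc 0),1⟩] .nil .nil)) (.node 116 [⟨47,(Int.ofNat 1),1⟩] (.node 113 [⟨44,(Int.ofNat 1),1⟩] .nil .nil) (.node 117 [⟨50,(Int.ofNat 1),1⟩] .nil .nil))) (.node 135 [⟨61,(Int.ofNat 1),1⟩] (.node 131 [⟨58,(Int.ofNat 1),1⟩] (.node 127 [⟨55,(Int.ofNat 1),1⟩] .nil .nil) (.node 132 [⟨59,(Int.negSucc 0),1⟩] .nil .nil)) (.node 143 [⟨66,(Int.ofNat 1),1⟩]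 (.node 136 [⟨62,(Int.negSucc 0),1⟩] .nil .nil) (.node 146 [⟨75,(Int.negSucc 0),1⟩] .nil .nil))))) (.node 205 [⟨138,(Int.negSucc 0),1⟩] (.node 189 [⟨112,(Int.negSucc 0),1⟩] (.node 174 [⟨97,(Int.ofNat 1),1⟩] (.node 167 [⟨84,(Int.ofNat 1),1⟩] (.node 158 [⟨81,(Int.negSucc 0),1⟩] (.node 157 [⟨80,(Int.ofNat 1),1⟩] .nil .nil) .nil) (.node 171 [⟨88,(Int.negSucc 0),1⟩] .nil .nil)) (.node 179 [⟨108,(Int.negSucc 0),1⟩] (.node 175 [⟨98,(Int.negSucc 0),1⟩] .nil .nil) (.node 180 [⟨109,(Int.ofNat 1),1⟩] .nil .nil))) (.node 197 [⟨124,(Int.negSucc 0),1⟩] (.node 194 [⟨120,(Int.negSucc 0),1⟩] (.node 193 [⟨119,(Int.ofNat 1),1⟩] .nil .nil) (.node 196 [⟨123,(Int.ofNat 1),1⟩] .nil .nil)) (.node 200 [⟨128,(Int.negSucc 0),1⟩] (.node 199 [⟨0,(Int.negSucc 0),1⟩, ⟨1,(Int.negSucc 0),1⟩, ⟨2,(Int.negSucc 1),1⟩, ⟨3,(Int.negSucc 1),1⟩, ⟨4,(Int.negSucc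 1),1⟩, ⟨5,(Int.negSucc 1),1⟩, ⟨6,(Int.negSucc 0),1⟩, ⟨7,(Int.ofNat 0),1⟩, ⟨56,(Int.negSucc 0),2⟩] .nil .nil) (.node 201 [⟨130,(Int.ofNat 1),1⟩] .nil .nil)))) (.node 231 [⟨166,(Int.negSucc 0),1⟩] (.node 218 [⟨151,(Int.ofNat 1),1⟩] (.node 211 [⟨142,(Int.negSucc 0),1⟩] (.node 208 [⟨139,(Int.negSucc 0),1⟩] .nil .nil) (.node 215 [⟨150,(Int.ofNat 1),1⟩] .nil .nil)) (.node 227 [⟨160,(Int.negSucc 0),1⟩] (.node 221 [⟨154,(Int.ofNat 1),1⟩] .nil .nil) (.node 230 [⟨163,(Int.negSucc 0),1⟩] .nil .nil))) (.node 240 [⟨204,(Int.negSucc 0),1⟩] (.node 237 [⟨185,(Int.ofNat 1),1⟩] (.node 234 [⟨182,(Int.ofNat 1),1⟩] .nil .nil) (.node 238 [⟨188,(Int.ofNat 1),1⟩] .nil .nil)) (.node 245 [⟨223,(Int.negSucc 0),1⟩] (.node 242 [⟨214,(Int.negSucc 0),1⟩] .nil .nil) (.node 246 [⟨224,(Int.negSucc 0),1⟩] .nil .nil))))))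
noncomputable def col49 : Tr Cl := (.node 148 [⟨77,(Int.ofNat 1),1⟩] (.node 93 [⟨26,(Int.negSucc 0),1⟩] (.node 30 [⟨8,(Int.negSucc 0),1⟩] (.node 4 [⟨57,(Int.ofNat 1),1⟩] (.node 2 [⟨57,(Int.ofNat 1),1⟩] (.node 1 [⟨57,(Int.ofNat 0),1⟩] (.node 0 [⟨57,(Int.ofNat 0),1⟩] .nil .nil) .nil) (.node 3 [⟨57,(Int.negSucc 0),1⟩] .nil .nil)) (.node 6 [⟨57,(Int.ofNat 0),1⟩] (.node 5 [⟨57,(Int.negSucc 0),1⟩] .nil .nil) (.node 7 [⟨57,(Int.ofNat 1),1⟩] .nil .nil))) (.node 66 [⟨17,(Int.negSucc 0),1⟩] (.node 40 [⟨13,(Int.ofNat 1),1⟩] (.node 33 [⟨11,(Int.negSucc 0),1⟩] .nil .nil) (.node 50 [⟨15,(Int.ofNat 1),1⟩] .nil .nil)) (.node 72 [⟨20,(Int.ofNat 1),1⟩] (.node 71 [⟨19,(Int.ofNat 1),1⟩] .nil .nil) (.node 88 [⟨24,(Int.ofNat 1),1⟩] .nil .nil)))) (.node 123 [⟨54,(Int.ofNat 1),1⟩] (.node 105 [⟨41,(Int.negSucc 0),1⟩] (.node 102 [⟨35,(Int.ofNat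 1),1⟩] (.node 94 [⟨27,(Int.negSucc 0),1⟩] .nil .nil) (.node 103 [⟨36,(Int.ofNat 1),1⟩] .nil .nil)) (.node 115 [⟨46,(Int.negSucc 0),1⟩] (.node 114 [⟨45,(Int.negSucc 0),1⟩] .nil .nil) (.node 117 [⟨51,(Int.ofNat 1),1⟩] .nil .nil))) (.node 134 [⟨60,(Int.ofNat 1),1⟩] (.node 128 [⟨58,(Int.ofNat 1),1⟩] (.node 124 [⟨55,(Int.ofNat 1),1⟩] .nil .nil) (.node 130 [⟨59,(Int.ofNat 1),1⟩] .nil .nil)) (.node 143 [⟨67,(Int.ofNat 1),1⟩] (.node 137 [⟨63,(Int.negSucc 0),1⟩] .nil .nil) (.node 145 [⟨74,(Int.negSucc 0),1⟩] .nil .nil))))) (.node 204 [⟨138,(Int.negSucc 0),1⟩] (.node 188 [⟨112,(Int.negSucc 0),1⟩] (.node 173 [⟨96,(Int.ofNat 1),1⟩] (.node 166 [⟨84,(Int.ofNat 1),1⟩] (.node 159 [⟨82,(Int.negSucc 0),1⟩] (.node 156 [⟨79,(Int.ofNat 1),1⟩] .nil .nil) .nil) (.node 171 [⟨89,(Int.negSucc 0),1⟩] .nil .nil)) (.node 178 [⟨107,(Int.negSucc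 0),1⟩] (.node 176 [⟨99,(Int.negSucc 0),1⟩] .nil .nil) (.node 181 [⟨110,(Int.ofNat 1),1⟩] .nil .nil))) (.node 197 [⟨127,(Int.negSucc 0),1⟩] (.node 195 [⟨121,(Int.negSucc 0),1⟩] (.node 192 [⟨118,(Int.ofNat 1),1⟩] .nil .nil) (.node 196 [⟨125,(Int.negSucc 0),1⟩] .nil .nil)) (.node 200 [⟨131,(Int.negSucc 0),1⟩] (.node 198 [⟨0,(Int.negSucc 0),1⟩, ⟨1,(Int.negSucc 0),1⟩, ⟨2,(Int.negSucc 1),1⟩, ⟨3,(Int.negSucc 1),1⟩, ⟨4,(Int.negSucc 1),1⟩, ⟨5,(Int.negSucc 0),1⟩, ⟨6,(Int.negSucc 0),1⟩, ⟨7,(Int.negSucc 0),1⟩, ⟨57,(Int.negSucc 0),2⟩] .nil .nil) (.node 201 [⟨132,(Int.negSucc 0),1⟩] .nil .nil)))) (.node 231 [⟨167,(Int.negSucc 0),1⟩] (.node 219 [⟨152,(Int.negSucc 0),1⟩] (.node 210 [⟨141,(Int.ofNat 1),1⟩] (.node 209 [⟨140,(Int.ofNat 1),1⟩] .nil .nil) (.node 214 [⟨150,(Int.ofNat 1),1⟩] .nil .nil)) (.node 228 [⟨161,(Int.ofNat 1),1⟩]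 (.node 220 [⟨153,(Int.negSucc 0),1⟩] .nil .nil) (.node 229 [⟨162,(Int.ofNat 1),1⟩] .nil .nil))) (.node 240 [⟨205,(Int.negSucc 0),1⟩] (.node 236 [⟨184,(Int.negSucc 0),1⟩] (.node 235 [⟨183,(Int.negSucc 0),1⟩] .nil .nil) (.node 238 [⟨189,(Int.ofNat 1),1⟩] .nil .nil)) (.node 244 [⟨222,(Int.ofNat 1),1⟩] (.node 242 [⟨215,(Int.negSucc 0),1⟩] .nil .nil) (.node 247 [⟨225,(Int.ofNat 1),1⟩] .nil .nil))))))
noncomputable def col50 : Tr Cl := (.node 147 [⟨77,(Int.ofNat 1),1⟩] (.node 92 [⟨26,(Int.ofNat 1),1⟩] (.node 30 [⟨9,(Int.negSucc 0),1⟩] (.node 4 [⟨58,(Int.ofNat 1),1⟩] (.node 2 [⟨58,(Int.ofNat 1),1⟩] (.node 1 [⟨58,(Int.ofNat 0),1⟩] (.node 0 [⟨58,(Int.ofNat 0),1⟩] .nil .nil) .nil) (.node 3 [⟨58,(Int.negSucc 0),1⟩] .nil .nil)) (.node 6 [⟨58,(Int.ofNat 1),1⟩] (.node 5 [⟨58,(Int.negSucc 0),1⟩] .nil .nil) (.node 7 [⟨58,(Int.negSucc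 0),1⟩] .nil .nil))) (.node 65 [⟨17,(Int.ofNat 1),1⟩] (.node 39 [⟨13,(Int.negSucc 0),1⟩] (.node 32 [⟨11,(Int.ofNat 1),1⟩] .nil .nil) (.node 49 [⟨15,(Int.negSucc 0),1⟩] .nil .nil)) (.node 72 [⟨21,(Int.ofNat 1),1⟩] (.node 70 [⟨19,(Int.negSucc 0),1⟩] .nil .nil) (.node 87 [⟨24,(Int.negSucc 0),1⟩] .nil .nil)))) (.node 122 [⟨54,(Int.negSucc 0),1⟩] (.node 105 [⟨42,(Int.negSucc 0),1⟩] (.node 101 [⟨35,(Int.negSucc 0),1⟩] (.node 94 [⟨28,(Int.negSucc 0),1⟩] .nil .nil) (.node 103 [⟨37,(Int.ofNat 1),1⟩] .nil .nil)) (.node 115 [⟨47,(Int.negSucc 0),1⟩] (.node 113 [⟨45,(Int.ofNat 1),1⟩] .nil .nil) (.node 117 [⟨52,(Int.ofNat 1),1⟩] .nil .nil))) (.node 134 [⟨61,(Int.ofNat 1),1⟩] (.node 127 [⟨57,(Int.ofNat 1),1⟩] (.node 124 [⟨56,(Int.ofNat 1),1⟩] .nil .nil) (.node 129 [⟨59,(Int.ofNat 1),1⟩] .nil .nil)) (.node 143 [⟨68,(Int.ofNat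 1),1⟩] (.node 136 [⟨63,(Int.negSucc 0),1⟩] .nil .nil) (.node 145 [⟨75,(Int.negSucc 0),1⟩] .nil .nil))))) (.node 203 [⟨138,(Int.negSucc 0),1⟩] (.node 187 [⟨112,(Int.negSucc 0),1⟩] (.node 173 [⟨97,(Int.ofNat 1),1⟩] (.node 165 [⟨84,(Int.ofNat 1),1⟩] (.node 158 [⟨82,(Int.negSucc 0),1⟩] (.node 156 [⟨80,(Int.ofNat 1),1⟩] .nil .nil) .nil) (.node 171 [⟨90,(Int.negSucc 0),1⟩] .nil .nil)) (.node 178 [⟨108,(Int.negSucc 0),1⟩] (.node 175 [⟨99,(Int.negSucc 0),1⟩] .nil .nil) (.node 180 [⟨110,(Int.ofNat 1),1⟩] .nil .nil))) (.node 197 [⟨0,(Int.negSucc 0),1⟩, ⟨1,(Int.negSucc 0),1⟩, ⟨2,(Int.negSucc 1),1⟩, ⟨3,(Int.negSucc 1),1⟩, ⟨4,(Int.negSucc 1),1⟩, ⟨5,(Int.negSucc 0),1⟩, ⟨6,(Int.negSucc 0),1⟩, ⟨7,(Int.ofNat 0),1⟩, ⟨58,(Int.negSucc 0),2⟩] (.node 194 [⟨121,(Int.negSucc 0),1⟩] (.node 192 [⟨119,(Int.ofNat 1),1⟩] .nil .nil) (.node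 196 [⟨126,(Int.negSucc 0),1⟩] .nil .nil)) (.node 199 [⟨131,(Int.negSucc 0),1⟩] (.node 198 [⟨128,(Int.negSucc 0),1⟩] .nil .nil) (.node 201 [⟨133,(Int.ofNat 1),1⟩] .nil .nil)))) (.node 231 [⟨168,(Int.ofNat 1),1⟩] (.node 218 [⟨152,(Int.negSucc 0),1⟩] (.node 210 [⟨142,(Int.negSucc 0),1⟩] (.node 208 [⟨140,(Int.ofNat 1),1⟩] .nil .nil) (.node 213 [⟨150,(Int.ofNat 1),1⟩] .nil .nil)) (.node 227 [⟨161,(Int.ofNat 1),1⟩] (.node 220 [⟨154,(Int.ofNat 1),1⟩] .nil .nil) (.node 229 [⟨163,(Int.negSucc 0),1⟩] .nil .nil))) (.node 240 [⟨206,(Int.ofNat 1),1⟩] (.node 236 [⟨185,(Int.ofNat 1),1⟩] (.node 234 [⟨183,(Int.negSucc 0),1⟩] .nil .nil) (.node 238 [⟨190,(Int.negSucc 0),1⟩] .nil .nil)) (.node 244 [⟨223,(Int.negSucc 0),1⟩] (.node 242 [⟨216,(Int.ofNat 1),1⟩] .nil .nil) (.node 246 [⟨225,(Int.ofNat 1),1⟩] .nil .nil))))))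
noncomputable def col51 : Tr Cl := (.node 146 [⟨77,(Int.ofNat 1),1⟩] (.node 92 [⟨27,(Int.ofNat 1),1⟩] (.node 30 [⟨10,(Int.negSucc 0),1⟩] (.node 4 [⟨59,(Int.ofNat 1),1⟩] (.node 2 [⟨59,(Int.ofNat 1),1⟩] (.node 1 [⟨59,(Int.ofNat 0),1⟩] (.node 0 [⟨59,(Int.ofNat 0),1⟩] .nil .nil) .nil) (.node 3 [⟨59,(Int.negSucc 0),1⟩] .nil .nil)) (.node 6 [⟨59,(Int.negSucc 0),1⟩] (.node 5 [⟨59,(Int.ofNat 0),1⟩] .nil .nil) (.node 7 [⟨59,(Int.ofNat 0),1⟩] .nil .nil))) (.node 64 [⟨17,(Int.negSucc 0),1⟩] (.node 38 [⟨13,(Int.ofNat 1),1⟩] (.node 31 [⟨11,(Int.negSucc 0),1⟩] .nil .nil) (.node 48 [⟨15,(Int.ofNat 1),1⟩] .nil .nil)) (.node 71 [⟨21,(Int.negSucc 0),1⟩] (.node 70 [⟨20,(Int.negSucc 0),1⟩] .nil .nil) (.node 86 [⟨24,(Int.ofNat 1),1⟩] .nil .nil)))) (.node 122 [⟨55,(Int.negSucc 0),1⟩] (.node 105 [⟨43,(Int.negSucc 0),1⟩] (.node 101 [⟨36,(Int.negSucc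 0),1⟩] (.node 93 [⟨28,(Int.ofNat 1),1⟩] .nil .nil) (.node 102 [⟨37,(Int.negSucc 0),1⟩] .nil .nil)) (.node 114 [⟨47,(Int.ofNat 1),1⟩] (.node 113 [⟨46,(Int.ofNat 1),1⟩] .nil .nil) (.node 117 [⟨53,(Int.ofNat 1),1⟩] .nil .nil))) (.node 134 [⟨62,(Int.ofNat 1),1⟩] (.node 125 [⟨57,(Int.ofNat 1),1⟩] (.node 123 [⟨56,(Int.negSucc 0),1⟩] .nil .nil) (.node 126 [⟨58,(Int.ofNat 1),1⟩] .nil .nil)) (.node 143 [⟨69,(Int.ofNat 1),1⟩] (.node 135 [⟨63,(Int.negSucc 0),1⟩] .nil .nil) (.node 145 [⟨76,(Int.negSucc 0),1⟩] .nil .nil))))) (.node 202 [⟨138,(Int.negSucc 0),1⟩] (.node 186 [⟨112,(Int.negSucc 0),1⟩] (.node 173 [⟨98,(Int.ofNat 1),1⟩] (.node 164 [⟨84,(Int.ofNat 1),1⟩] (.node 157 [⟨82,(Int.negSucc 0),1⟩] (.node 156 [⟨81,(Int.ofNat 1),1⟩] .nil .nil) .nil) (.node 171 [⟨91,(Int.negSucc 0),1⟩] .nil .nil)) (.node 178 [⟨109,(Int.negSucc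 0),1⟩] (.node 174 [⟨99,(Int.negSucc 0),1⟩] .nil .nil) (.node 179 [⟨110,(Int.ofNat 1),1⟩] .nil .nil))) (.node 197 [⟨129,(Int.negSucc 0),1⟩] (.node 193 [⟨121,(Int.negSucc 0),1⟩] (.node 192 [⟨120,(Int.ofNat 1),1⟩] .nil .nil) (.node 196 [⟨0,(Int.negSucc 0),1⟩, ⟨1,(Int.negSucc 0),1⟩, ⟨2,(Int.negSucc 1),1⟩, ⟨3,(Int.negSucc 1),1⟩, ⟨4,(Int.negSucc 1),1⟩, ⟨5,(Int.negSucc 0),1⟩, ⟨6,(Int.ofNat 0),1⟩, ⟨7,(Int.ofNat 0),1⟩, ⟨59,(Int.negSucc 0),2⟩] .nil .nil)) (.node 199 [⟨132,(Int.ofNat 1),1⟩] (.node 198 [⟨130,(Int.negSucc 0),1⟩] .nil .nil) (.node 200 [⟨133,(Int.ofNat 1),1⟩] .nil .nil)))) (.node 231 [⟨169,(Int.negSucc 0),1⟩] (.node 218 [⟨153,(Int.ofNat 1),1⟩] (.node 209 [⟨142,(Int.negSucc 0),1⟩] (.node 208 [⟨141,(Int.negSucc 0),1⟩] .nil .nil) (.node 212 [⟨150,(Int.ofNat 1),1⟩] .nil .nil)) (.node 227 [⟨162,(Int.negSucc 0),1⟩]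 (.node 219 [⟨154,(Int.ofNat 1),1⟩] .nil .nil) (.node 228 [⟨163,(Int.negSucc 0),1⟩] .nil .nil))) (.node 240 [⟨207,(Int.negSucc 0),1⟩] (.node 235 [⟨185,(Int.ofNat 1),1⟩] (.node 234 [⟨184,(Int.ofNat 1),1⟩] .nil .nil) (.node 238 [⟨191,(Int.ofNat 1),1⟩] .nil .nil)) (.node 244 [⟨224,(Int.ofNat 1),1⟩] (.node 242 [⟨217,(Int.negSucc 0),1⟩] .nil .nil) (.node 245 [⟨225,(Int.ofNat 1),1⟩] .nil .nil))))))
noncomputable def col52 : Tr Cl := (.node 148 [⟨78,(Int.ofNat 1),1⟩] (.node 90 [⟨26,(Int.ofNat 1),1⟩] (.node 29 [⟨8,(Int.ofNat 1),1⟩] (.node 4 [⟨60,(Int.negSucc 0),1⟩] (.node 2 [⟨60,(Int.ofNat 1),1⟩] (.node 1 [⟨60,(Int.ofNat 0),1⟩] (.node 0 [⟨60,(Int.ofNat 0),1⟩] .nil .nil) .nil) (.node 3 [⟨60,(Int.ofNat 0),1⟩] .nil .nil)) (.node 6 [⟨60,(Int.ofNat 0),1⟩] (.node 5 [⟨60,(Int.ofNat 0),1⟩] .nil .nil) (.node 7 [⟨60,(Int.ofNat 1),1⟩]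 .nil .nil))) (.node 66 [⟨18,(Int.negSucc 0),1⟩] (.node 37 [⟨13,(Int.negSucc 0),1⟩] (.node 33 [⟨12,(Int.negSucc 0),1⟩] .nil .nil) (.node 47 [⟨15,(Int.negSucc 0),1⟩] .nil .nil)) (.node 69 [⟨20,(Int.negSucc 0),1⟩] (.node 68 [⟨19,(Int.negSucc 0),1⟩] .nil .nil) (.node 88 [⟨25,(Int.ofNat 1),1⟩] .nil .nil)))) (.node 119 [⟨54,(Int.ofNat 1),1⟩] (.node 104 [⟨41,(Int.ofNat 1),1⟩] (.node 102 [⟨38,(Int.ofNat 1),1⟩] (.node 91 [⟨27,(Int.ofNat 1),1⟩] .nil .nil) (.node 103 [⟨39,(Int.ofNat 1),1⟩] .nil .nil)) (.node 115 [⟨49,(Int.negSucc 0),1⟩] (.node 114 [⟨48,(Int.negSucc 0),1⟩] .nil .nil) (.node 116 [⟨51,(Int.negSucc 0),1⟩] .nil .nil))) (.node 130 [⟨62,(Int.ofNat 1),1⟩] (.node 121 [⟨57,(Int.ofNat 1),1⟩] (.node 120 [⟨55,(Int.ofNat 1),1⟩] .nil .nil) (.node 128 [⟨61,(Int.ofNat 1),1⟩] .nil .nil)) (.node 143 [⟨70,(Int.ofNat 1),1⟩]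 (.node 133 [⟨63,(Int.ofNat 1),1⟩] .nil .nil) (.node 144 [⟨74,(Int.negSucc 0),1⟩] .nil .nil))))) (.node 204 [⟨139,(Int.ofNat 1),1⟩] (.node 185 [⟨112,(Int.negSucc 0),1⟩] (.node 172 [⟨96,(Int.ofNat 1),1⟩] (.node 163 [⟨84,(Int.ofNat 1),1⟩] (.node 159 [⟨83,(Int.negSucc 0),1⟩] (.node 155 [⟨79,(Int.ofNat 1),1⟩] .nil .nil) .nil) (.node 171 [⟨92,(Int.negSucc 0),1⟩] .nil .nil)) (.node 177 [⟨107,(Int.negSucc 0),1⟩] (.node 176 [⟨100,(Int.negSucc 0),1⟩] .nil .nil) (.node 181 [⟨111,(Int.ofNat 1),1⟩] .nil .nil))) (.node 195 [⟨0,(Int.negSucc 0),1⟩, ⟨1,(Int.negSucc 0),1⟩, ⟨2,(Int.negSucc 1),1⟩, ⟨3,(Int.negSucc 1),1⟩, ⟨4,(Int.negSucc 0),1⟩, ⟨5,(Int.negSucc 0),1⟩, ⟨6,(Int.negSucc 0),1⟩, ⟨7,(Int.negSucc 0),1⟩, ⟨60,(Int.negSucc 0),2⟩] (.node 193 [⟨125,(Int.negSucc 0),1⟩] (.node 192 [⟨122,(Int.negSucc 0),1⟩] .nil .nil) (.node 194 [⟨127,(Int.negSucc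 0),1⟩] .nil .nil)) (.node 200 [⟨135,(Int.negSucc 0),1⟩] (.node 198 [⟨134,(Int.negSucc 0),1⟩] .nil .nil) (.node 201 [⟨136,(Int.negSucc 0),1⟩] .nil .nil)))) (.node 230 [⟨167,(Int.negSucc 0),1⟩] (.node 216 [⟨152,(Int.negSucc 0),1⟩] (.node 207 [⟨141,(Int.ofNat 1),1⟩] (.node 206 [⟨140,(Int.ofNat 1),1⟩] .nil .nil) (.node 214 [⟨151,(Int.negSucc 0),1⟩] .nil .nil)) (.node 228 [⟨164,(Int.negSucc 0),1⟩] (.node 217 [⟨153,(Int.negSucc 0),1⟩] .nil .nil) (.node 229 [⟨165,(Int.negSucc 0),1⟩] .nil .nil))) (.node 240 [⟨208,(Int.ofNat 1),1⟩] (.node 236 [⟨187,(Int.ofNat 1),1⟩] (.node 235 [⟨186,(Int.ofNat 1),1⟩] .nil .nil) (.node 237 [⟨189,(Int.ofNat 1),1⟩] .nil .nil)) (.node 243 [⟨222,(Int.ofNat 1),1⟩] (.node 242 [⟨218,(Int.ofNat 1),1⟩] .nil .nil) (.node 247 [⟨226,(Int.negSucc 0),1⟩] .nil .nil))))))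
noncomputable def col53 : Tr Cl := (.node 147 [⟨78,(Int.ofNat 1),1⟩] (.node 89 [⟨26,(Int.negSucc 0),1⟩] (.node 29 [⟨9,(Int.ofNat 1),1⟩] (.node 4 [⟨61,(Int.negSucc 0),1⟩] (.node 2 [⟨61,(Int.ofNat 1),1⟩] (.node 1 [⟨61,(Int.ofNat 0),1⟩] (.node 0 [⟨61,(Int.ofNat 0),1⟩] .nil .nil) .nil) (.node 3 [⟨61,(Int.ofNat 0),1⟩] .nil .nil)) (.node 6 [⟨61,(Int.ofNat 1),1⟩] (.node 5 [⟨61,(Int.ofNat 0),1⟩] .nil .nil) (.node 7 [⟨61,(Int.negSucc 0),1⟩] .nil .nil))) (.node 65 [⟨18,(Int.ofNat 1),1⟩] (.node 36 [⟨13,(Int.ofNat 1),1⟩] (.node 32 [⟨12,(Int.ofNat 1),1⟩] .nil .nil) (.node 46 [⟨15,(Int.ofNat 1),1⟩] .nil .nil)) (.node 69 [⟨21,(Int.negSucc 0),1⟩] (.node 67 [⟨19,(Int.ofNat 1),1⟩] .nil .nil) (.node 87 [⟨25,(Int.negSucc 0),1⟩] .nil .nil)))) (.node 118 [⟨54,(Int.negSucc 0),1⟩] (.node 104 [⟨42,(Int.ofNat 1),1⟩] (.node 101 [⟨38,(Int.negSucc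 0),1⟩] (.node 91 [⟨28,(Int.ofNat 1),1⟩] .nil .nil) (.node 103 [⟨40,(Int.ofNat 1),1⟩] .nil .nil)) (.node 115 [⟨50,(Int.negSucc 0),1⟩] (.node 113 [⟨48,(Int.ofNat 1),1⟩] .nil .nil) (.node 116 [⟨52,(Int.negSucc 0),1⟩] .nil .nil))) (.node 129 [⟨62,(Int.ofNat 1),1⟩] (.node 121 [⟨58,(Int.ofNat 1),1⟩] (.node 120 [⟨56,(Int.ofNat 1),1⟩] .nil .nil) (.node 127 [⟨60,(Int.ofNat 1),1⟩] .nil .nil)) (.node 143 [⟨71,(Int.ofNat 1),1⟩] (.node 132 [⟨63,(Int.ofNat 1),1⟩] .nil .nil) (.node 144 [⟨75,(Int.negSucc 0),1⟩] .nil .nil))))) (.node 203 [⟨139,(Int.ofNat 1),1⟩] (.node 184 [⟨112,(Int.negSucc 0),1⟩] (.node 172 [⟨97,(Int.ofNat 1),1⟩] (.node 162 [⟨84,(Int.ofNat 1),1⟩] (.node 158 [⟨83,(Int.negSucc 0),1⟩] (.node 155 [⟨80,(Int.ofNat 1),1⟩] .nil .nil) .nil) (.node 171 [⟨93,(Int.negSucc 0),1⟩] .nil .nil)) (.node 177 [⟨108,(Int.negSucc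 0),1⟩] (.node 175 [⟨100,(Int.negSucc 0),1⟩] .nil .nil) (.node 180 [⟨111,(Int.ofNat 1),1⟩] .nil .nil))) (.node 195 [⟨128,(Int.negSucc 0),1⟩] (.node 193 [⟨126,(Int.negSucc 0),1⟩] (.node 192 [⟨123,(Int.negSucc 0),1⟩] .nil .nil) (.node 194 [⟨0,(Int.negSucc 0),1⟩, ⟨1,(Int.negSucc 0),1⟩, ⟨2,(Int.negSucc 1),1⟩, ⟨3,(Int.negSucc 1),1⟩, ⟨4,(Int.negSucc 0),1⟩, ⟨5,(Int.negSucc 0),1⟩, ⟨6,(Int.negSucc 0),1⟩, ⟨7,(Int.ofNat 0),1⟩, ⟨61,(Int.negSucc 0),2⟩] .nil .nil)) (.node 199 [⟨135,(Int.negSucc 0),1⟩] (.node 197 [⟨134,(Int.negSucc 0),1⟩] .nil .nil) (.node 201 [⟨137,(Int.ofNat 1),1⟩] .nil .nil)))) (.node 230 [⟨168,(Int.ofNat 1),1⟩] (.node 215 [⟨152,(Int.negSucc 0),1⟩] (.node 207 [⟨142,(Int.negSucc 0),1⟩] (.node 205 [⟨140,(Int.ofNat 1),1⟩] .nil .nil) (.node 213 [⟨151,(Int.negSucc 0),1⟩] .nil .nil)) (.node 227 [⟨164,(Int.negSucc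 0),1⟩] (.node 217 [⟨154,(Int.ofNat 1),1⟩] .nil .nil) (.node 229 [⟨166,(Int.ofNat 1),1⟩] .nil .nil))) (.node 240 [⟨209,(Int.negSucc 0),1⟩] (.node 236 [⟨188,(Int.negSucc 0),1⟩] (.node 234 [⟨186,(Int.ofNat 1),1⟩] .nil .nil) (.node 237 [⟨190,(Int.negSucc 0),1⟩] .nil .nil)) (.node 243 [⟨223,(Int.negSucc 0),1⟩] (.node 242 [⟨219,(Int.negSucc 0),1⟩] .nil .nil) (.node 246 [⟨226,(Int.negSucc 0),1⟩] .nil .nil))))))
noncomputable def col54 : Tr Cl := (.node 146 [⟨78,(Int.ofNat 1),1⟩] (.node 89 [⟨27,(Int.negSucc 0),1⟩] (.node 29 [⟨10,(Int.ofNat 1),1⟩] (.node 4 [⟨62,(Int.negSucc 0),1⟩] (.node 2 [⟨62,(Int.ofNat 1),1⟩] (.node 1 [⟨62,(Int.ofNat 0),1⟩] (.node 0 [⟨62,(Int.ofNat 0),1⟩] .nil .nil) .nil) (.node 3 [⟨62,(Int.ofNat 0),1⟩] .nil .nil)) (.node 6 [⟨62,(Int.negSucc 0),1⟩] (.node 5 [⟨62,(Int.ofNat 1),1⟩] .nil .nil) (.node 7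 [⟨62,(Int.ofNat 0),1⟩] .nil .nil))) (.node 64 [⟨18,(Int.negSucc 0),1⟩] (.node 35 [⟨13,(Int.negSucc 0),1⟩] (.node 31 [⟨12,(Int.negSucc 0),1⟩] .nil .nil) (.node 45 [⟨15,(Int.negSucc 0),1⟩] .nil .nil)) (.node 68 [⟨21,(Int.ofNat 1),1⟩] (.node 67 [⟨20,(Int.ofNat 1),1⟩] .nil .nil) (.node 86 [⟨25,(Int.ofNat 1),1⟩] .nil .nil)))) (.node 118 [⟨55,(Int.negSucc 0),1⟩] (.node 104 [⟨43,(Int.ofNat 1),1⟩] (.node 101 [⟨39,(Int.negSucc 0),1⟩] (.node 90 [⟨28,(Int.negSucc 0),1⟩] .nil .nil) (.node 102 [⟨40,(Int.negSucc 0),1⟩] .nil .nil)) (.node 114 [⟨50,(Int.ofNat 1),1⟩] (.node 113 [⟨49,(Int.ofNat 1),1⟩] .nil .nil) (.node 116 [⟨53,(Int.negSucc 0),1⟩] .nil .nil))) (.node 126 [⟨61,(Int.ofNat 1),1⟩] (.node 121 [⟨59,(Int.ofNat 1),1⟩] (.node 119 [⟨56,(Int.negSucc 0),1⟩] .nil .nil) (.node 125 [⟨60,(Int.ofNat 1),1⟩] .nil .nil)) (.node 143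 [⟨72,(Int.ofNat 1),1⟩] (.node 131 [⟨63,(Int.ofNat 1),1⟩] .nil .nil) (.node 144 [⟨76,(Int.negSucc 0),1⟩] .nil .nil))))) (.node 202 [⟨139,(Int.ofNat 1),1⟩] (.node 183 [⟨112,(Int.negSucc 0),1⟩] (.node 172 [⟨98,(Int.ofNat 1),1⟩] (.node 161 [⟨84,(Int.ofNat 1),1⟩] (.node 157 [⟨83,(Int.negSucc 0),1⟩] (.node 155 [⟨81,(Int.ofNat 1),1⟩] .nil .nil) .nil) (.node 171 [⟨94,(Int.negSucc 0),1⟩] .nil .nil)) (.node 177 [⟨109,(Int.negSucc 0),1⟩] (.node 174 [⟨100,(Int.negSucc 0),1⟩] .nil .nil) (.node 179 [⟨111,(Int.ofNat 1),1⟩] .nil .nil))) (.node 195 [⟨130,(Int.negSucc 0),1⟩] (.node 193 [⟨0,(Int.negSucc 0),1⟩, ⟨1,(Int.negSucc 0),1⟩, ⟨2,(Int.negSucc 1),1⟩, ⟨3,(Int.negSucc 1),1⟩, ⟨4,(Int.negSucc 0),1⟩, ⟨5,(Int.negSucc 0),1⟩, ⟨6,(Int.ofNat 0),1⟩, ⟨7,(Int.ofNat 0),1⟩, ⟨62,(Int.negSucc 0),2⟩] (.node 192 [⟨124,(Int.negSucc 0),1⟩] .nil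 .nil) (.node 194 [⟨129,(Int.negSucc 0),1⟩] .nil .nil)) (.node 199 [⟨136,(Int.ofNat 1),1⟩] (.node 196 [⟨134,(Int.negSucc 0),1⟩] .nil .nil) (.node 200 [⟨137,(Int.ofNat 1),1⟩] .nil .nil)))) (.node 230 [⟨169,(Int.negSucc 0),1⟩] (.node 215 [⟨153,(Int.ofNat 1),1⟩] (.node 206 [⟨142,(Int.negSucc 0),1⟩] (.node 205 [⟨141,(Int.negSucc 0),1⟩] .nil .nil) (.node 212 [⟨151,(Int.negSucc 0),1⟩] .nil .nil)) (.node 227 [⟨165,(Int.ofNat 1),1⟩] (.node 216 [⟨154,(Int.ofNat 1),1⟩] .nil .nil) (.node 228 [⟨166,(Int.ofNat 1),1⟩] .nil .nil))) (.node 240 [⟨210,(Int.ofNat 1),1⟩] (.node 235 [⟨188,(Int.negSucc 0),1⟩] (.node 234 [⟨187,(Int.negSucc 0),1⟩] .nil .nil) (.node 237 [⟨191,(Int.ofNat 1),1⟩] .nil .nil)) (.node 243 [⟨224,(Int.ofNat 1),1⟩] (.node 242 [⟨220,(Int.ofNat 1),1⟩] .nil .nil) (.node 245 [⟨226,(Int.negSucc 0),1⟩] .nil .nil))))))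
noncomputable def col55 : Tr Cl := (.node 145 [⟨78,(Int.ofNat 1),1⟩] (.node 87 [⟨27,(Int.ofNat 1),1⟩] (.node 29 [⟨11,(Int.ofNat 1),1⟩] (.node 4 [⟨63,(Int.ofNat 0),1⟩] (.node 2 [⟨63,(Int.ofNat 1),1⟩] (.node 1 [⟨63,(Int.ofNat 0),1⟩] (.node 0 [⟨63,(Int.ofNat 0),1⟩] .nil .nil) .nil) (.node 3 [⟨63,(Int.ofNat 0),1⟩] .nil .nil)) (.node 6 [⟨63,(Int.ofNat 0),1⟩] (.node 5 [⟨63,(Int.negSucc 0),1⟩] .nil .nil) (.node 7 [⟨63,(Int.ofNat 0),1⟩] .nil .nil))) (.node 64 [⟨19,(Int.negSucc 0),1⟩] (.node 34 [⟨13,(Int.ofNat 1),1⟩] (.node 30 [⟨12,(Int.ofNat 1),1⟩] .nil .nil) (.node 44 [⟨15,(Int.ofNat 1),1⟩] .nil .nil)) (.node 66 [⟨21,(Int.negSucc 0),1⟩] (.node 65 [⟨20,(Int.negSucc 0),1⟩] .nil .nil) (.node 86 [⟨26,(Int.ofNat 1),1⟩] .nil .nil)))) (.node 118 [⟨57,(Int.negSucc 0),1⟩] (.node 103 [⟨43,(Int.negSucc 0),1⟩] (.node 101 [⟨41,(Int.negSucc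 0),1⟩] (.node 88 [⟨28,(Int.ofNat 1),1⟩] .nil .nil) (.node 102 [⟨42,(Int.negSucc 0),1⟩] .nil .nil)) (.node 114 [⟨52,(Int.ofNat 1),1⟩] (.node 113 [⟨51,(Int.ofNat 1),1⟩] .nil .nil) (.node 115 [⟨53,(Int.ofNat 1),1⟩] .nil .nil))) (.node 123 [⟨61,(Int.ofNat 1),1⟩] (.node 120 [⟨59,(Int.negSucc 0),1⟩] (.node 119 [⟨58,(Int.negSucc 0),1⟩] .nil .nil) (.node 122 [⟨60,(Int.ofNat 1),1⟩] .nil .nil)) (.node 143 [⟨73,(Int.ofNat 1),1⟩] (.node 124 [⟨62,(Int.ofNat 1),1⟩] .nil .nil) (.node 144 [⟨77,(Int.negSucc 0),1⟩] .nil .nil))))) (.node 202 [⟨140,(Int.negSucc 0),1⟩] (.node 182 [⟨112,(Int.negSucc 0),1⟩] (.node 172 [⟨99,(Int.ofNat 1),1⟩] (.node 160 [⟨84,(Int.ofNat 1),1⟩] (.node 156 [⟨83,(Int.negSucc 0),1⟩] (.node 155 [⟨82,(Int.ofNat 1),1⟩] .nil .nil) .nil) (.node 171 [⟨95,(Int.negSucc 0),1⟩] .nil .nil)) (.node 177 [⟨110,(Int.negSucc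 0),1⟩] (.node 173 [⟨100,(Int.negSucc 0),1⟩] .nil .nil) (.node 178 [⟨111,(Int.ofNat 1),1⟩] .nil .nil))) (.node 195 [⟨133,(Int.negSucc 0),1⟩] (.node 193 [⟨131,(Int.negSucc 0),1⟩] (.node 192 [⟨0,(Int.negSucc 0),1⟩, ⟨1,(Int.negSucc 0),1⟩, ⟨2,(Int.negSucc 1),1⟩, ⟨3,(Int.negSucc 1),1⟩, ⟨4,(Int.negSucc 0),1⟩, ⟨5,(Int.ofNat 0),1⟩, ⟨6,(Int.ofNat 0),1⟩, ⟨7,(Int.ofNat 0),1⟩, ⟨63,(Int.negSucc 0),2⟩] .nil .nil) (.node 194 [⟨132,(Int.negSucc 0),1⟩] .nil .nil)) (.node 197 [⟨136,(Int.ofNat 1),1⟩] (.node 196 [⟨135,(Int.ofNat 1),1⟩] .nil .nil) (.node 198 [⟨137,(Int.ofNat 1),1⟩] .nil .nil)))) (.node 229 [⟨169,(Int.negSucc 0),1⟩] (.node 213 [⟨153,(Int.ofNat 1),1⟩] (.node 204 [⟨142,(Int.negSucc 0),1⟩] (.node 203 [⟨141,(Int.negSucc 0),1⟩] .nil .nil) (.node 212 [⟨152,(Int.ofNat 1),1⟩] .nil .nil)) (.node 227 [⟨167,(Int.negSucc 0),1⟩]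 (.node 214 [⟨154,(Int.ofNat 1),1⟩] .nil .nil) (.node 228 [⟨168,(Int.negSucc 0),1⟩] .nil .nil))) (.node 240 [⟨211,(Int.negSucc 0),1⟩] (.node 235 [⟨190,(Int.ofNat 1),1⟩] (.node 234 [⟨189,(Int.ofNat 1),1⟩] .nil .nil) (.node 236 [⟨191,(Int.ofNat 1),1⟩] .nil .nil)) (.node 243 [⟨225,(Int.negSucc 0),1⟩] (.node 242 [⟨221,(Int.negSucc 0),1⟩] .nil .nil) (.node 244 [⟨226,(Int.negSucc 0),1⟩] .nil .nil))))))
noncomputable def col56 : Tr Cl := (.node 142 [⟨75,(Int.negSucc 0),1⟩] (.node 94 [⟨30,(Int.ofNat 1),1⟩] (.node 27 [⟨8,(Int.ofNat 1),1⟩] (.node 4 [⟨64,(Int.ofNat 0),1⟩] (.node 2 [⟨64,(Int.negSucc 0),1⟩] (.node 1 [⟨64,(Int.ofNat 0),1⟩] (.node 0 [⟨64,(Int.ofNat 1),1⟩] .nil .nil) .nil) (.node 3 [⟨64,(Int.ofNat 0),1⟩] .nil .nil)) (.node 6 [⟨64,(Int.ofNat 1),1⟩] (.node 5 [⟨64,(Int.ofNat 0),1⟩] .nil .nil) (.node 7 [⟨64,(Int.ofNat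 0),1⟩] .nil .nil))) (.node 59 [⟨17,(Int.ofNat 1),1⟩] (.node 43 [⟨14,(Int.ofNat 1),1⟩] (.node 28 [⟨9,(Int.ofNat 1),1⟩] .nil .nil) (.node 53 [⟨16,(Int.ofNat 1),1⟩] .nil .nil)) (.node 63 [⟨19,(Int.ofNat 1),1⟩] (.node 62 [⟨18,(Int.ofNat 1),1⟩] .nil .nil) (.node 91 [⟨29,(Int.ofNat 1),1⟩] .nil .nil)))) (.node 112 [⟨54,(Int.ofNat 1),1⟩] (.node 100 [⟨38,(Int.ofNat 1),1⟩] (.node 98 [⟨34,(Int.ofNat 1),1⟩] (.node 95 [⟨31,(Int.ofNat 1),1⟩] .nil .nil) (.node 99 [⟨35,(Int.ofNat 1),1⟩] .nil .nil)) (.node 110 [⟨45,(Int.ofNat 1),1⟩] (.node 109 [⟨44,(Int.ofNat 1),1⟩] .nil .nil) (.node 111 [⟨48,(Int.ofNat 1),1⟩] .nil .nil))) (.node 133 [⟨68,(Int.negSucc 0),1⟩] (.node 130 [⟨66,(Int.negSucc 0),1⟩] (.node 129 [⟨65,(Int.ofNat 1),1⟩] .nil .nil) (.node 132 [⟨67,(Int.ofNat 1),1⟩] .nil .nil)) (.node 137 [⟨71,(Int.negSucc 0),1⟩] (.node 136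 [⟨70,(Int.ofNat 1),1⟩] .nil .nil) (.node 141 [⟨74,(Int.ofNat 1),1⟩] .nil .nil))))) (.node 207 [⟨144,(Int.negSucc 0),1⟩] (.node 184 [⟨118,(Int.ofNat 1),1⟩] (.node 175 [⟨101,(Int.ofNat 1),1⟩] (.node 169 [⟨85,(Int.ofNat 1),1⟩] (.node 154 [⟨80,(Int.negSucc 0),1⟩] (.node 153 [⟨79,(Int.ofNat 1),1⟩] .nil .nil) .nil) (.node 170 [⟨86,(Int.negSucc 0),1⟩] .nil .nil)) (.node 180 [⟨113,(Int.ofNat 1),1⟩] (.node 176 [⟨102,(Int.negSucc 0),1⟩] .nil .nil) (.node 181 [⟨114,(Int.negSucc 0),1⟩] .nil .nil))) (.node 189 [⟨125,(Int.ofNat 1),1⟩] (.node 187 [⟨122,(Int.ofNat 1),1⟩] (.node 185 [⟨119,(Int.negSucc 0),1⟩] .nil .nil) (.node 188 [⟨123,(Int.negSucc 0),1⟩] .nil .nil)) (.node 191 [⟨0,(Int.negSucc 0),1⟩, ⟨1,(Int.negSucc 0),1⟩, ⟨2,(Int.negSucc 0),1⟩, ⟨3,(Int.negSucc 1),1⟩, ⟨4,(Int.negSucc 1),1⟩, ⟨5,(Int.negSucc 1),1⟩, ⟨6,(Int.negSucc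 1),1⟩, ⟨7,(Int.negSucc 0),1⟩, ⟨64,(Int.negSucc 0),2⟩] (.node 190 [⟨126,(Int.negSucc 0),1⟩] .nil .nil) (.node 201 [⟨143,(Int.negSucc 0),1⟩] .nil .nil)))) (.node 226 [⟨164,(Int.negSucc 0),1⟩] (.node 220 [⟨156,(Int.negSucc 0),1⟩] (.node 211 [⟨146,(Int.negSucc 0),1⟩] (.node 210 [⟨145,(Int.negSucc 0),1⟩] .nil .nil) (.node 217 [⟨155,(Int.negSucc 0),1⟩] .nil .nil)) (.node 224 [⟨160,(Int.negSucc 0),1⟩] (.node 221 [⟨157,(Int.negSucc 0),1⟩] .nil .nil) (.node 225 [⟨161,(Int.negSucc 0),1⟩] .nil .nil))) (.node 239 [⟨202,(Int.negSucc 0),1⟩] (.node 237 [⟨193,(Int.negSucc 0),1⟩] (.node 236 [⟨192,(Int.negSucc 0),1⟩] .nil .nil) (.node 238 [⟨196,(Int.negSucc 0),1⟩] .nil .nil)) (.node 246 [⟨227,(Int.negSucc 0),1⟩] (.node 241 [⟨212,(Int.negSucc 0),1⟩] .nil .nil) (.node 247 [⟨228,(Int.negSucc 0),1⟩] .nil .nil))))))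
noncomputable def col57 : Tr Cl := (.node 142 [⟨76,(Int.negSucc 0),1⟩] (.node 93 [⟨30,(Int.negSucc 0),1⟩] (.node 26 [⟨8,(Int.negSucc 0),1⟩] (.node 4 [⟨65,(Int.ofNat 0),1⟩] (.node 2 [⟨65,(Int.negSucc 0),1⟩] (.node 1 [⟨65,(Int.ofNat 0),1⟩] (.node 0 [⟨65,(Int.ofNat 1),1⟩] .nil .nil) .nil) (.node 3 [⟨65,(Int.ofNat 0),1⟩] .nil .nil)) (.node 6 [⟨65,(Int.negSucc 0),1⟩] (.node 5 [⟨65,(Int.ofNat 1),1⟩] .nil .nil) (.node 7 [⟨65,(Int.ofNat 1),1⟩] .nil .nil))) (.node 58 [⟨17,(Int.negSucc 0),1⟩] (.node 42 [⟨14,(Int.negSucc 0),1⟩] (.node 28 [⟨10,(Int.ofNat 1),1⟩] .nil .nil) (.node 52 [⟨16,(Int.negSucc 0),1⟩] .nil .nil)) (.node 63 [⟨20,(Int.ofNat 1),1⟩] (.node 61 [⟨18,(Int.negSucc 0),1⟩] .nil .nil) (.node 90 [⟨29,(Int.negSucc 0),1⟩] .nil .nil)))) (.node 112 [⟨55,(Int.ofNat 1),1⟩] (.node 100 [⟨39,(Int.ofNat 1),1⟩] (.node 97 [⟨34,(Int.negSucc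 0),1⟩] (.node 95 [⟨32,(Int.ofNat 1),1⟩] .nil .nil) (.node 99 [⟨36,(Int.ofNat 1),1⟩] .nil .nil)) (.node 110 [⟨46,(Int.ofNat 1),1⟩] (.node 108 [⟨44,(Int.negSucc 0),1⟩] .nil .nil) (.node 111 [⟨49,(Int.ofNat 1),1⟩] .nil .nil))) (.node 133 [⟨69,(Int.negSucc 0),1⟩] (.node 128 [⟨66,(Int.ofNat 1),1⟩] (.node 126 [⟨64,(Int.ofNat 1),1⟩] .nil .nil) (.node 131 [⟨67,(Int.ofNat 1),1⟩] .nil .nil)) (.node 137 [⟨72,(Int.negSucc 0),1⟩] (.node 135 [⟨70,(Int.ofNat 1),1⟩] .nil .nil) (.node 140 [⟨74,(Int.ofNat 1),1⟩] .nil .nil))))) (.node 206 [⟨144,(Int.negSucc 0),1⟩] (.node 183 [⟨118,(Int.ofNat 1),1⟩] (.node 174 [⟨101,(Int.ofNat 1),1⟩] (.node 168 [⟨85,(Int.ofNat 1),1⟩] (.node 154 [⟨81,(Int.negSucc 0),1⟩] (.node 152 [⟨79,(Int.ofNat 1),1⟩] .nil .nil) .nil) (.node 170 [⟨87,(Int.negSucc 0),1⟩] .nil .nil)) (.node 179 [⟨113,(Int.ofNat 1),1⟩]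 (.node 176 [⟨103,(Int.negSucc 0),1⟩] .nil .nil) (.node 181 [⟨115,(Int.negSucc 0),1⟩] .nil .nil))) (.node 189 [⟨127,(Int.negSucc 0),1⟩] (.node 186 [⟨122,(Int.ofNat 1),1⟩] (.node 185 [⟨120,(Int.negSucc 0),1⟩] .nil .nil) (.node 188 [⟨124,(Int.negSucc 0),1⟩] .nil .nil)) (.node 191 [⟨129,(Int.negSucc 0),1⟩] (.node 190 [⟨0,(Int.negSucc 0),1⟩, ⟨1,(Int.negSucc 0),1⟩, ⟨2,(Int.negSucc 0),1⟩, ⟨3,(Int.negSucc 1),1⟩, ⟨4,(Int.negSucc 1),1⟩, ⟨5,(Int.negSucc 1),1⟩, ⟨6,(Int.negSucc 0),1⟩, ⟨7,(Int.negSucc 0),1⟩, ⟨65,(Int.negSucc 0),2⟩] .nil .nil) (.node 200 [⟨143,(Int.negSucc 0),1⟩] .nil .nil)))) (.node 226 [⟨165,(Int.ofNat 1),1⟩] (.node 219 [⟨156,(Int.negSucc 0),1⟩] (.node 211 [⟨147,(Int.ofNat 1),1⟩] (.node 209 [⟨145,(Int.negSucc 0),1⟩] .nil .nil) (.node 216 [⟨155,(Int.negSucc 0),1⟩] .nil .nil)) (.node 223 [⟨160,(Int.negSucc 0),1⟩]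 (.node 221 [⟨158,(Int.ofNat 1),1⟩] .nil .nil) (.node 225 [⟨162,(Int.ofNat 1),1⟩] .nil .nil))) (.node 239 [⟨203,(Int.ofNat 1),1⟩] (.node 237 [⟨194,(Int.ofNat 1),1⟩] (.node 235 [⟨192,(Int.negSucc 0),1⟩] .nil .nil) (.node 238 [⟨197,(Int.ofNat 1),1⟩] .nil .nil)) (.node 245 [⟨227,(Int.negSucc 0),1⟩] (.node 241 [⟨213,(Int.ofNat 1),1⟩] .nil .nil) (.node 247 [⟨229,(Int.ofNat 1),1⟩] .nil .nil))))))
noncomputable def col58 : Tr Cl := (.node 141 [⟨76,(Int.negSucc 0),1⟩] (.node 92 [⟨30,(Int.ofNat 1),1⟩] (.node 26 [⟨9,(Int.negSucc 0),1⟩] (.node 4 [⟨66,(Int.ofNat 0),1⟩] (.node 2 [⟨66,(Int.negSucc 0),1⟩] (.node 1 [⟨66,(Int.ofNat 0),1⟩] (.node 0 [⟨66,(Int.ofNat 1),1⟩] .nil .nil) .nil) (.node 3 [⟨66,(Int.ofNat 0),1⟩] .nil .nil)) (.node 6 [⟨66,(Int.ofNat 0),1⟩] (.node 5 [⟨66,(Int.ofNat 1),1⟩] .nil .nil) (.node 7 [⟨66,(Int.negSucc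 0),1⟩] .nil .nil))) (.node 57 [⟨17,(Int.ofNat 1),1⟩] (.node 41 [⟨14,(Int.ofNat 1),1⟩] (.node 27 [⟨10,(Int.negSucc 0),1⟩] .nil .nil) (.node 51 [⟨16,(Int.ofNat 1),1⟩] .nil .nil)) (.node 63 [⟨21,(Int.ofNat 1),1⟩] (.node 60 [⟨18,(Int.ofNat 1),1⟩] .nil .nil) (.node 89 [⟨29,(Int.ofNat 1),1⟩] .nil .nil)))) (.node 112 [⟨56,(Int.ofNat 1),1⟩] (.node 100 [⟨40,(Int.ofNat 1),1⟩] (.node 96 [⟨34,(Int.ofNat 1),1⟩] (.node 95 [⟨33,(Int.ofNat 1),1⟩] .nil .nil) (.node 99 [⟨37,(Int.ofNat 1),1⟩] .nil .nil)) (.node 110 [⟨47,(Int.ofNat 1),1⟩] (.node 107 [⟨44,(Int.ofNat 1),1⟩] .nil .nil) (.node 111 [⟨50,(Int.ofNat 1),1⟩] .nil .nil))) (.node 132 [⟨69,(Int.negSucc 0),1⟩] (.node 127 [⟨65,(Int.ofNat 1),1⟩] (.node 125 [⟨64,(Int.negSucc 0),1⟩] .nil .nil) (.node 131 [⟨68,(Int.ofNat 1),1⟩] .nil .nil)) (.node 136 [⟨72,(Int.negSucc 0),1⟩] (.node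 135 [⟨71,(Int.ofNat 1),1⟩] .nil .nil) (.node 140 [⟨75,(Int.ofNat 1),1⟩] .nil .nil))))) (.node 205 [⟨144,(Int.negSucc 0),1⟩] (.node 183 [⟨119,(Int.ofNat 1),1⟩] (.node 174 [⟨102,(Int.ofNat 1),1⟩] (.node 167 [⟨85,(Int.ofNat 1),1⟩] (.node 153 [⟨81,(Int.negSucc 0),1⟩] (.node 152 [⟨80,(Int.ofNat 1),1⟩] .nil .nil) .nil) (.node 170 [⟨88,(Int.negSucc 0),1⟩] .nil .nil)) (.node 179 [⟨114,(Int.ofNat 1),1⟩] (.node 175 [⟨103,(Int.negSucc 0),1⟩] .nil .nil) (.node 180 [⟨115,(Int.negSucc 0),1⟩] .nil .nil))) (.node 189 [⟨0,(Int.negSucc 0),1⟩, ⟨1,(Int.negSucc 0),1⟩, ⟨2,(Int.negSucc 0),1⟩, ⟨3,(Int.negSucc 1),1⟩, ⟨4,(Int.negSucc 1),1⟩, ⟨5,(Int.negSucc 1),1⟩, ⟨6,(Int.negSucc 0),1⟩, ⟨7,(Int.ofNat 0),1⟩, ⟨66,(Int.negSucc 0),2⟩] (.node 186 [⟨123,(Int.ofNat 1),1⟩] (.node 184 [⟨120,(Int.negSucc 0),1⟩] .nil .nil) (.node 187 [⟨124,(Int.negSucc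 0),1⟩] .nil .nil)) (.node 191 [⟨130,(Int.ofNat 1),1⟩] (.node 190 [⟨128,(Int.negSucc 0),1⟩] .nil .nil) (.node 199 [⟨143,(Int.negSucc 0),1⟩] .nil .nil)))) (.node 226 [⟨166,(Int.negSucc 0),1⟩] (.node 218 [⟨156,(Int.negSucc 0),1⟩] (.node 211 [⟨148,(Int.negSucc 0),1⟩] (.node 208 [⟨145,(Int.negSucc 0),1⟩] .nil .nil) (.node 215 [⟨155,(Int.negSucc 0),1⟩] .nil .nil)) (.node 222 [⟨160,(Int.negSucc 0),1⟩] (.node 221 [⟨159,(Int.negSucc 0),1⟩] .nil .nil) (.node 225 [⟨163,(Int.negSucc 0),1⟩] .nil .nil))) (.node 239 [⟨204,(Int.negSucc 0),1⟩] (.node 237 [⟨195,(Int.negSucc 0),1⟩] (.node 234 [⟨192,(Int.negSucc 0),1⟩] .nil .nil) (.node 238 [⟨198,(Int.negSucc 0),1⟩] .nil .nil)) (.node 245 [⟨228,(Int.ofNat 1),1⟩] (.node 241 [⟨214,(Int.negSucc 0),1⟩] .nil .nil) (.node 246 [⟨229,(Int.ofNat 1),1⟩] .nil .nil))))))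
noncomputable def col59 : Tr Cl := (.node 142 [⟨77,(Int.negSucc 0),1⟩] (.node 93 [⟨31,(Int.negSucc 0),1⟩] (.node 25 [⟨8,(Int.ofNat 1),1⟩] (.node 4 [⟨67,(Int.ofNat 1),1⟩] (.node 2 [⟨67,(Int.negSucc 0),1⟩] (.node 1 [⟨67,(Int.ofNat 0),1⟩] (.node 0 [⟨67,(Int.ofNat 1),1⟩] .nil .nil) .nil) (.node 3 [⟨67,(Int.ofNat 0),1⟩] .nil .nil)) (.node 6 [⟨67,(Int.ofNat 0),1⟩] (.node 5 [⟨67,(Int.negSucc 0),1⟩] .nil .nil) (.node 7 [⟨67,(Int.ofNat 1),1⟩] .nil .nil))) (.node 56 [⟨17,(Int.ofNat 1),1⟩] (.node 40 [⟨14,(Int.ofNat 1),1⟩] (.node 28 [⟨11,(Int.ofNat 1),1⟩] .nil .nil) (.node 50 [⟨16,(Int.ofNat 1),1⟩] .nil .nil)) (.node 62 [⟨20,(Int.negSucc 0),1⟩] (.node 61 [⟨19,(Int.negSucc 0),1⟩] .nil .nil) (.node 88 [⟨29,(Int.ofNat 1),1⟩] .nil .nil)))) (.node 112 [⟨57,(Int.ofNat 1),1⟩] (.node 100 [⟨41,(Int.ofNat 1),1⟩] (.node 97 [⟨35,(Int.negSucc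 0),1⟩] (.node 94 [⟨32,(Int.negSucc 0),1⟩] .nil .nil) (.node 98 [⟨36,(Int.negSucc 0),1⟩] .nil .nil)) (.node 109 [⟨46,(Int.negSucc 0),1⟩] (.node 108 [⟨45,(Int.negSucc 0),1⟩] .nil .nil) (.node 111 [⟨51,(Int.ofNat 1),1⟩] .nil .nil))) (.node 130 [⟨69,(Int.ofNat 1),1⟩] (.node 124 [⟨65,(Int.ofNat 1),1⟩] (.node 123 [⟨64,(Int.ofNat 1),1⟩] .nil .nil) (.node 128 [⟨68,(Int.ofNat 1),1⟩] .nil .nil)) (.node 137 [⟨73,(Int.negSucc 0),1⟩] (.node 134 [⟨70,(Int.ofNat 1),1⟩] .nil .nil) (.node 139 [⟨74,(Int.ofNat 1),1⟩] .nil .nil))))) (.node 204 [⟨144,(Int.negSucc 0),1⟩] (.node 182 [⟨118,(Int.ofNat 1),1⟩] (.node 173 [⟨101,(Int.ofNat 1),1⟩] (.node 166 [⟨85,(Int.ofNat 1),1⟩] (.node 154 [⟨82,(Int.negSucc 0),1⟩] (.node 151 [⟨79,(Int.ofNat 1),1⟩] .nil .nil) .nil) (.node 170 [⟨89,(Int.negSucc 0),1⟩] .nil .nil)) (.node 178 [⟨113,(Int.ofNat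 1),1⟩] (.node 176 [⟨104,(Int.negSucc 0),1⟩] .nil .nil) (.node 181 [⟨116,(Int.negSucc 0),1⟩] .nil .nil))) (.node 188 [⟨0,(Int.negSucc 0),1⟩, ⟨1,(Int.negSucc 0),1⟩, ⟨2,(Int.negSucc 0),1⟩, ⟨3,(Int.negSucc 1),1⟩, ⟨4,(Int.negSucc 1),1⟩, ⟨5,(Int.negSucc 0),1⟩, ⟨6,(Int.negSucc 0),1⟩, ⟨7,(Int.negSucc 0),1⟩, ⟨67,(Int.negSucc 0),2⟩] (.node 186 [⟨125,(Int.negSucc 0),1⟩] (.node 185 [⟨121,(Int.negSucc 0),1⟩] .nil .nil) (.node 187 [⟨127,(Int.negSucc 0),1⟩] .nil .nil)) (.node 191 [⟨132,(Int.negSucc 0),1⟩] (.node 190 [⟨131,(Int.negSucc 0),1⟩] .nil .nil) (.node 198 [⟨143,(Int.negSucc 0),1⟩] .nil .nil)))) (.node 226 [⟨167,(Int.negSucc 0),1⟩] (.node 219 [⟨157,(Int.ofNat 1),1⟩] (.node 210 [⟨147,(Int.ofNat 1),1⟩] (.node 209 [⟨146,(Int.ofNat 1),1⟩] .nil .nil) (.node 214 [⟨155,(Int.negSucc 0),1⟩] .nil .nil)) (.node 223 [⟨161,(Int.ofNat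 1),1⟩] (.node 220 [⟨158,(Int.ofNat 1),1⟩] .nil .nil) (.node 224 [⟨162,(Int.ofNat 1),1⟩] .nil .nil))) (.node 239 [⟨205,(Int.negSucc 0),1⟩] (.node 236 [⟨194,(Int.ofNat 1),1⟩] (.node 235 [⟨193,(Int.ofNat 1),1⟩] .nil .nil) (.node 238 [⟨199,(Int.negSucc 0),1⟩] .nil .nil)) (.node 244 [⟨227,(Int.negSucc 0),1⟩] (.node 241 [⟨215,(Int.negSucc 0),1⟩] .nil .nil) (.node 247 [⟨230,(Int.negSucc 0),1⟩] .nil .nil))))))
noncomputable def col60 : Tr Cl := (.node 141 [⟨77,(Int.negSucc 0),1⟩] (.node 92 [⟨31,(Int.ofNat 1),1⟩] (.node 25 [⟨9,(Int.ofNat 1),1⟩] (.node 4 [⟨68,(Int.ofNat 1),1⟩] (.node 2 [⟨68,(Int.negSucc 0),1⟩] (.node 1 [⟨68,(Int.ofNat 0),1⟩] (.node 0 [⟨68,(Int.ofNat 1),1⟩] .nil .nil) .nil) (.node 3 [⟨68,(Int.ofNat 0),1⟩] .nil .nil)) (.node 6 [⟨68,(Int.ofNat 1),1⟩] (.node 5 [⟨68,(Int.negSucc 0),1⟩] .nil .nil) (.node 7 [⟨68,(Int.negSucc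 0),1⟩] .nil .nil))) (.node 55 [⟨17,(Int.negSucc 0),1⟩] (.node 39 [⟨14,(Int.negSucc 0),1⟩] (.node 27 [⟨11,(Int.negSucc 0),1⟩] .nil .nil) (.node 49 [⟨16,(Int.negSucc 0),1⟩] .nil .nil)) (.node 62 [⟨21,(Int.negSucc 0),1⟩] (.node 60 [⟨19,(Int.ofNat 1),1⟩] .nil .nil) (.node 87 [⟨29,(Int.negSucc 0),1⟩] .nil .nil)))) (.node 112 [⟨58,(Int.ofNat 1),1⟩] (.node 100 [⟨42,(Int.ofNat 1),1⟩] (.node 96 [⟨35,(Int.ofNat 1),1⟩] (.node 94 [⟨33,(Int.negSucc 0),1⟩] .nil .nil) (.node 98 [⟨37,(Int.negSucc 0),1⟩] .nil .nil)) (.node 109 [⟨47,(Int.negSucc 0),1⟩] (.node 107 [⟨45,(Int.ofNat 1),1⟩] .nil .nil) (.node 111 [⟨52,(Int.ofNat 1),1⟩] .nil .nil))) (.node 129 [⟨69,(Int.ofNat 1),1⟩] (.node 124 [⟨66,(Int.ofNat 1),1⟩] (.node 122 [⟨64,(Int.negSucc 0),1⟩] .nil .nil) (.node 127 [⟨67,(Int.ofNat 1),1⟩] .nil .nil)) (.node 136 [⟨73,(Int.negSucc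 0),1⟩] (.node 134 [⟨71,(Int.ofNat 1),1⟩] .nil .nil) (.node 139 [⟨75,(Int.ofNat 1),1⟩] .nil .nil))))) (.node 203 [⟨144,(Int.negSucc 0),1⟩] (.node 182 [⟨119,(Int.ofNat 1),1⟩] (.node 173 [⟨102,(Int.ofNat 1),1⟩] (.node 165 [⟨85,(Int.ofNat 1),1⟩] (.node 153 [⟨82,(Int.negSucc 0),1⟩] (.node 151 [⟨80,(Int.ofNat 1),1⟩] .nil .nil) .nil) (.node 170 [⟨90,(Int.negSucc 0),1⟩] .nil .nil)) (.node 178 [⟨114,(Int.ofNat 1),1⟩] (.node 175 [⟨104,(Int.negSucc 0),1⟩] .nil .nil) (.node 180 [⟨116,(Int.negSucc 0),1⟩] .nil .nil))) (.node 188 [⟨128,(Int.negSucc 0),1⟩] (.node 186 [⟨126,(Int.negSucc 0),1⟩] (.node 184 [⟨121,(Int.negSucc 0),1⟩] .nil .nil) (.node 187 [⟨0,(Int.negSucc 0),1⟩, ⟨1,(Int.negSucc 0),1⟩, ⟨2,(Int.negSucc 0),1⟩, ⟨3,(Int.negSucc 1),1⟩, ⟨4,(Int.negSucc 1),1⟩, ⟨5,(Int.negSucc 0),1⟩, ⟨6,(Int.negSucc 0),1⟩, ⟨7,(Int.ofNat 0),1⟩,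 ⟨68,(Int.negSucc 0),2⟩] .nil .nil)) (.node 191 [⟨133,(Int.ofNat 1),1⟩] (.node 189 [⟨131,(Int.negSucc 0),1⟩] .nil .nil) (.node 197 [⟨143,(Int.negSucc 0),1⟩] .nil .nil)))) (.node 226 [⟨168,(Int.ofNat 1),1⟩] (.node 218 [⟨157,(Int.ofNat 1),1⟩] (.node 210 [⟨148,(Int.negSucc 0),1⟩] (.node 208 [⟨146,(Int.ofNat 1),1⟩] .nil .nil) (.node 213 [⟨155,(Int.negSucc 0),1⟩] .nil .nil)) (.node 222 [⟨161,(Int.ofNat 1),1⟩] (.node 220 [⟨159,(Int.negSucc 0),1⟩] .nil .nil) (.node 224 [⟨163,(Int.negSucc 0),1⟩] .nil .nil))) (.node 239 [⟨206,(Int.ofNat 1),1⟩] (.node 236 [⟨195,(Int.negSucc 0),1⟩] (.node 234 [⟨193,(Int.ofNat 1),1⟩] .nil .nil) (.node 238 [⟨200,(Int.ofNat 1),1⟩] .nil .nil)) (.node 244 [⟨228,(Int.ofNat 1),1⟩] (.node 241 [⟨216,(Int.ofNat 1),1⟩] .nil .nil) (.node 246 [⟨230,(Int.negSucc 0),1⟩] .nil .nil))))))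
noncomputable def col61 : Tr Cl := (.node 140 [⟨77,(Int.negSucc 0),1⟩] (.node 92 [⟨32,(Int.ofNat 1),1⟩] (.node 25 [⟨10,(Int.ofNat 1),1⟩] (.node 4 [⟨69,(Int.ofNat 1),1⟩] (.node 2 [⟨69,(Int.negSucc 0),1⟩] (.node 1 [⟨69,(Int.ofNat 0),1⟩] (.node 0 [⟨69,(Int.ofNat 1),1⟩] .nil .nil) .nil) (.node 3 [⟨69,(Int.ofNat 0),1⟩] .nil .nil)) (.node 6 [⟨69,(Int.negSucc 0),1⟩] (.node 5 [⟨69,(Int.ofNat 0),1⟩] .nil .nil) (.node 7 [⟨69,(Int.ofNat 0),1⟩] .nil .nil))) (.node 54 [⟨17,(Int.ofNat 1),1⟩] (.node 38 [⟨14,(Int.ofNat 1),1⟩] (.node 26 [⟨11,(Int.ofNat 1),1⟩] .nil .nil) (.node 48 [⟨16,(Int.ofNat 1),1⟩] .nil .nil)) (.node 61 [⟨21,(Int.ofNat 1),1⟩] (.node 60 [⟨20,(Int.ofNat 1),1⟩] .nil .nil) (.node 86 [⟨29,(Int.ofNat 1),1⟩] .nil .nil)))) (.node 112 [⟨59,(Int.ofNat 1),1⟩] (.node 100 [⟨43,(Int.ofNat 1),1⟩] (.node 96 [⟨36,(Int.ofNat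 1),1⟩] (.node 93 [⟨33,(Int.ofNat 1),1⟩] .nil .nil) (.node 97 [⟨37,(Int.ofNat 1),1⟩] .nil .nil)) (.node 108 [⟨47,(Int.ofNat 1),1⟩] (.node 107 [⟨46,(Int.ofNat 1),1⟩] .nil .nil) (.node 111 [⟨53,(Int.ofNat 1),1⟩] .nil .nil))) (.node 126 [⟨68,(Int.ofNat 1),1⟩] (.node 123 [⟨66,(Int.negSucc 0),1⟩] (.node 122 [⟨65,(Int.negSucc 0),1⟩] .nil .nil) (.node 125 [⟨67,(Int.ofNat 1),1⟩] .nil .nil)) (.node 135 [⟨73,(Int.negSucc 0),1⟩] (.node 134 [⟨72,(Int.ofNat 1),1⟩] .nil .nil) (.node 139 [⟨76,(Int.ofNat 1),1⟩] .nil .nil))))) (.node 202 [⟨144,(Int.negSucc 0),1⟩] (.node 182 [⟨120,(Int.ofNat 1),1⟩] (.node 173 [⟨103,(Int.ofNat 1),1⟩] (.node 164 [⟨85,(Int.ofNat 1),1⟩] (.node 152 [⟨82,(Int.negSucc 0),1⟩] (.node 151 [⟨81,(Int.ofNat 1),1⟩] .nil .nil) .nil) (.node 170 [⟨91,(Int.negSucc 0),1⟩] .nil .nil)) (.node 178 [⟨115,(Int.ofNat 1),1⟩]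 (.node 174 [⟨104,(Int.negSucc 0),1⟩] .nil .nil) (.node 179 [⟨116,(Int.negSucc 0),1⟩] .nil .nil))) (.node 188 [⟨130,(Int.negSucc 0),1⟩] (.node 186 [⟨0,(Int.negSucc 0),1⟩, ⟨1,(Int.negSucc 0),1⟩, ⟨2,(Int.negSucc 0),1⟩, ⟨3,(Int.negSucc 1),1⟩, ⟨4,(Int.negSucc 1),1⟩, ⟨5,(Int.negSucc 0),1⟩, ⟨6,(Int.ofNat 0),1⟩, ⟨7,(Int.ofNat 0),1⟩, ⟨69,(Int.negSucc 0),2⟩] (.node 183 [⟨121,(Int.negSucc 0),1⟩] .nil .nil) (.node 187 [⟨129,(Int.negSucc 0),1⟩] .nil .nil)) (.node 190 [⟨133,(Int.ofNat 1),1⟩] (.node 189 [⟨132,(Int.ofNat 1),1⟩] .nil .nil) (.node 196 [⟨143,(Int.negSucc 0),1⟩] .nil .nil)))) (.node 226 [⟨169,(Int.negSucc 0),1⟩] (.node 218 [⟨158,(Int.negSucc 0),1⟩] (.node 209 [⟨148,(Int.negSucc 0),1⟩] (.node 208 [⟨147,(Int.negSucc 0),1⟩] .nil .nil) (.node 212 [⟨155,(Int.negSucc 0),1⟩] .nil .nil)) (.node 222 [⟨162,(Int.negSucc 0),1⟩]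 (.node 219 [⟨159,(Int.negSucc 0),1⟩] .nil .nil) (.node 223 [⟨163,(Int.negSucc 0),1⟩] .nil .nil))) (.node 239 [⟨207,(Int.negSucc 0),1⟩] (.node 235 [⟨195,(Int.negSucc 0),1⟩] (.node 234 [⟨194,(Int.negSucc 0),1⟩] .nil .nil) (.node 238 [⟨201,(Int.negSucc 0),1⟩] .nil .nil)) (.node 244 [⟨229,(Int.negSucc 0),1⟩] (.node 241 [⟨217,(Int.negSucc 0),1⟩] .nil .nil) (.node 245 [⟨230,(Int.negSucc 0),1⟩] .nil .nil))))))
noncomputable def col62 : Tr Cl := (.node 142 [⟨78,(Int.negSucc 0),1⟩] (.node 90 [⟨31,(Int.ofNat 1),1⟩] (.node 24 [⟨8,(Int.negSucc 0),1⟩] (.node 4 [⟨70,(Int.negSucc 0),1⟩] (.node 2 [⟨70,(Int.negSucc 0),1⟩] (.node 1 [⟨70,(Int.ofNat 0),1⟩] (.node 0 [⟨70,(Int.ofNat 1),1⟩] .nil .nil) .nil) (.node 3 [⟨70,(Int.ofNat 1),1⟩] .nil .nil)) (.node 6 [⟨70,(Int.ofNat 0),1⟩] (.node 5 [⟨70,(Int.ofNat 0),1⟩] .nil .nil) (.node 7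 [⟨70,(Int.ofNat 1),1⟩] .nil .nil))) (.node 56 [⟨18,(Int.ofNat 1),1⟩] (.node 37 [⟨14,(Int.negSucc 0),1⟩] (.node 28 [⟨12,(Int.ofNat 1),1⟩] .nil .nil) (.node 47 [⟨16,(Int.negSucc 0),1⟩] .nil .nil)) (.node 59 [⟨20,(Int.ofNat 1),1⟩] (.node 58 [⟨19,(Int.ofNat 1),1⟩] .nil .nil) (.node 88 [⟨30,(Int.ofNat 1),1⟩] .nil .nil)))) (.node 112 [⟨60,(Int.ofNat 1),1⟩] (.node 99 [⟨41,(Int.negSucc 0),1⟩] (.node 97 [⟨38,(Int.negSucc 0),1⟩] (.node 91 [⟨32,(Int.ofNat 1),1⟩] .nil .nil) (.node 98 [⟨39,(Int.negSucc 0),1⟩] .nil .nil)) (.node 109 [⟨49,(Int.negSucc 0),1⟩] (.node 108 [⟨48,(Int.negSucc 0),1⟩] .nil .nil) (.node 110 [⟨51,(Int.negSucc 0),1⟩] .nil .nil))) (.node 128 [⟨71,(Int.ofNat 1),1⟩] (.node 120 [⟨65,(Int.ofNat 1),1⟩] (.node 119 [⟨64,(Int.ofNat 1),1⟩] .nil .nil) (.node 121 [⟨67,(Int.ofNat 1),1⟩] .nil .nil)) (.node 133 [⟨73,(Int.ofNat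 1),1⟩] (.node 130 [⟨72,(Int.ofNat 1),1⟩] .nil .nil) (.node 138 [⟨74,(Int.ofNat 1),1⟩] .nil .nil))))) (.node 204 [⟨145,(Int.ofNat 1),1⟩] (.node 182 [⟨122,(Int.negSucc 0),1⟩] (.node 172 [⟨101,(Int.ofNat 1),1⟩] (.node 163 [⟨85,(Int.ofNat 1),1⟩] (.node 154 [⟨83,(Int.negSucc 0),1⟩] (.node 150 [⟨79,(Int.ofNat 1),1⟩] .nil .nil) .nil) (.node 170 [⟨92,(Int.negSucc 0),1⟩] .nil .nil)) (.node 177 [⟨113,(Int.ofNat 1),1⟩] (.node 176 [⟨105,(Int.negSucc 0),1⟩] .nil .nil) (.node 181 [⟨117,(Int.negSucc 0),1⟩] .nil .nil))) (.node 188 [⟨134,(Int.negSucc 0),1⟩] (.node 184 [⟨127,(Int.negSucc 0),1⟩] (.node 183 [⟨125,(Int.negSucc 0),1⟩] .nil .nil) (.node 185 [⟨0,(Int.negSucc 0),1⟩, ⟨1,(Int.negSucc 0),1⟩, ⟨2,(Int.negSucc 0),1⟩, ⟨3,(Int.negSucc 1),1⟩, ⟨4,(Int.negSucc 0),1⟩, ⟨5,(Int.negSucc 0),1⟩, ⟨6,(Int.negSucc 0),1⟩, ⟨7,(Int.negSucc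 0),1⟩, ⟨70,(Int.negSucc 0),2⟩] .nil .nil)) (.node 191 [⟨136,(Int.negSucc 0),1⟩] (.node 190 [⟨135,(Int.negSucc 0),1⟩] .nil .nil) (.node 195 [⟨143,(Int.negSucc 0),1⟩] .nil .nil)))) (.node 225 [⟨167,(Int.negSucc 0),1⟩] (.node 216 [⟨157,(Int.ofNat 1),1⟩] (.node 207 [⟨147,(Int.ofNat 1),1⟩] (.node 206 [⟨146,(Int.ofNat 1),1⟩] .nil .nil) (.node 214 [⟨156,(Int.ofNat 1),1⟩] .nil .nil)) (.node 223 [⟨164,(Int.negSucc 0),1⟩] (.node 217 [⟨158,(Int.ofNat 1),1⟩] .nil .nil) (.node 224 [⟨165,(Int.negSucc 0),1⟩] .nil .nil))) (.node 239 [⟨208,(Int.ofNat 1),1⟩] (.node 236 [⟨197,(Int.negSucc 0),1⟩] (.node 235 [⟨196,(Int.negSucc 0),1⟩] .nil .nil) (.node 237 [⟨199,(Int.negSucc 0),1⟩] .nil .nil)) (.node 243 [⟨227,(Int.negSucc 0),1⟩] (.node 241 [⟨218,(Int.ofNat 1),1⟩] .nil .nil) (.node 247 [⟨231,(Int.ofNat 1),1⟩] .nil .nil))))))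
noncomputable def col63 : Tr Cl := (.node 141 [⟨78,(Int.negSucc 0),1⟩] (.node 89 [⟨31,(Int.negSucc 0),1⟩] (.node 24 [⟨9,(Int.negSucc 0),1⟩] (.node 4 [⟨71,(Int.negSucc 0),1⟩] (.node 2 [⟨71,(Int.negSucc 0),1⟩] (.node 1 [⟨71,(Int.ofNat 0),1⟩] (.node 0 [⟨71,(Int.ofNat 1),1⟩] .nil .nil) .nil) (.node 3 [⟨71,(Int.ofNat 1),1⟩] .nil .nil)) (.node 6 [⟨71,(Int.ofNat 1),1⟩] (.node 5 [⟨71,(Int.ofNat 0),1⟩] .nil .nil) (.node 7 [⟨71,(Int.negSucc 0),1⟩] .nil .nil))) (.node 55 [⟨18,(Int.negSucc 0),1⟩] (.node 36 [⟨14,(Int.ofNat 1),1⟩] (.node 27 [⟨12,(Int.negSucc 0),1⟩] .nil .nil) (.node 46 [⟨16,(Int.ofNat 1),1⟩] .nil .nil)) (.node 59 [⟨21,(Int.ofNat 1),1⟩] (.node 57 [⟨19,(Int.negSucc 0),1⟩] .nil .nil) (.node 87 [⟨30,(Int.negSucc 0),1⟩] .nil .nil)))) (.node 112 [⟨61,(Int.ofNat 1),1⟩] (.node 99 [⟨42,(Int.negSucc 0),1⟩] (.node 96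 [⟨38,(Int.ofNat 1),1⟩] (.node 91 [⟨33,(Int.ofNat 1),1⟩] .nil .nil) (.node 98 [⟨40,(Int.negSucc 0),1⟩] .nil .nil)) (.node 109 [⟨50,(Int.negSucc 0),1⟩] (.node 107 [⟨48,(Int.ofNat 1),1⟩] .nil .nil) (.node 110 [⟨52,(Int.negSucc 0),1⟩] .nil .nil))) (.node 127 [⟨70,(Int.ofNat 1),1⟩] (.node 120 [⟨66,(Int.ofNat 1),1⟩] (.node 118 [⟨64,(Int.negSucc 0),1⟩] .nil .nil) (.node 121 [⟨68,(Int.ofNat 1),1⟩] .nil .nil)) (.node 132 [⟨73,(Int.ofNat 1),1⟩] (.node 129 [⟨72,(Int.ofNat 1),1⟩] .nil .nil) (.node 138 [⟨75,(Int.ofNat 1),1⟩] .nil .nil))))) (.node 203 [⟨145,(Int.ofNat 1),1⟩] (.node 182 [⟨123,(Int.negSucc 0),1⟩] (.node 172 [⟨102,(Int.ofNat 1),1⟩] (.node 162 [⟨85,(Int.ofNat 1),1⟩] (.node 153 [⟨83,(Int.negSucc 0),1⟩] (.node 150 [⟨80,(Int.ofNat 1),1⟩] .nil .nil) .nil) (.node 170 [⟨93,(Int.negSucc 0),1⟩] .nil .nil)) (.node 177 [⟨114,(Int.ofNat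 1),1⟩] (.node 175 [⟨105,(Int.negSucc 0),1⟩] .nil .nil) (.node 180 [⟨117,(Int.negSucc 0),1⟩] .nil .nil))) (.node 187 [⟨134,(Int.negSucc 0),1⟩] (.node 184 [⟨0,(Int.negSucc 0),1⟩, ⟨1,(Int.negSucc 0),1⟩, ⟨2,(Int.negSucc 0),1⟩, ⟨3,(Int.negSucc 1),1⟩, ⟨4,(Int.negSucc 0),1⟩, ⟨5,(Int.negSucc 0),1⟩, ⟨6,(Int.negSucc 0),1⟩, ⟨7,(Int.ofNat 0),1⟩, ⟨71,(Int.negSucc 0),2⟩] (.node 183 [⟨126,(Int.negSucc 0),1⟩] .nil .nil) (.node 185 [⟨128,(Int.negSucc 0),1⟩] .nil .nil)) (.node 191 [⟨137,(Int.ofNat 1),1⟩] (.node 189 [⟨135,(Int.negSucc 0),1⟩] .nil .nil) (.node 194 [⟨143,(Int.negSucc 0),1⟩] .nil .nil)))) (.node 225 [⟨168,(Int.ofNat 1),1⟩] (.node 215 [⟨157,(Int.ofNat 1),1⟩] (.node 207 [⟨148,(Int.negSucc 0),1⟩] (.node 205 [⟨146,(Int.ofNat 1),1⟩] .nil .nil) (.node 213 [⟨156,(Int.ofNat 1),1⟩] .nil .nil)) (.node 222 [⟨164,(Int.negSucc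 0),1⟩] (.node 217 [⟨159,(Int.negSucc 0),1⟩] .nil .nil) (.node 224 [⟨166,(Int.ofNat 1),1⟩] .nil .nil))) (.node 239 [⟨209,(Int.negSucc 0),1⟩] (.node 236 [⟨198,(Int.ofNat 1),1⟩] (.node 234 [⟨196,(Int.negSucc 0),1⟩] .nil .nil) (.node 237 [⟨200,(Int.ofNat 1),1⟩] .nil .nil)) (.node 243 [⟨228,(Int.ofNat 1),1⟩] (.node 241 [⟨219,(Int.negSucc 0),1⟩] .nil .nil) (.node 246 [⟨231,(Int.ofNat 1),1⟩] .nil .nil))))))
noncomputable def col64 : Tr Cl := (.node 140 [⟨78,(Int.negSucc 0),1⟩] (.node 89 [⟨32,(Int.negSucc 0),1⟩] (.node 24 [⟨10,(Int.negSucc 0),1⟩] (.node 4 [⟨72,(Int.negSucc 0),1⟩] (.node 2 [⟨72,(Int.negSucc 0),1⟩] (.node 1 [⟨72,(Int.ofNat 0),1⟩] (.node 0 [⟨72,(Int.ofNat 1),1⟩] .nil .nil) .nil) (.node 3 [⟨72,(Int.ofNat 1),1⟩] .nil .nil)) (.node 6 [⟨72,(Int.negSucc 0),1⟩] (.node 5 [⟨72,(Int.ofNat 1),1⟩] .nil .nil) (.node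 7 [⟨72,(Int.ofNat 0),1⟩] .nil .nil))) (.node 54 [⟨18,(Int.ofNat 1),1⟩] (.node 35 [⟨14,(Int.negSucc 0),1⟩] (.node 26 [⟨12,(Int.ofNat 1),1⟩] .nil .nil) (.node 45 [⟨16,(Int.negSucc 0),1⟩] .nil .nil)) (.node 58 [⟨21,(Int.negSucc 0),1⟩] (.node 57 [⟨20,(Int.negSucc 0),1⟩] .nil .nil) (.node 86 [⟨30,(Int.ofNat 1),1⟩] .nil .nil)))) (.node 112 [⟨62,(Int.ofNat 1),1⟩] (.node 99 [⟨43,(Int.negSucc 0),1⟩] (.node 96 [⟨39,(Int.ofNat 1),1⟩] (.node 90 [⟨33,(Int.negSucc 0),1⟩] .nil .nil) (.node 97 [⟨40,(Int.ofNat 1),1⟩] .nil .nil)) (.node 108 [⟨50,(Int.ofNat 1),1⟩] (.node 107 [⟨49,(Int.ofNat 1),1⟩] .nil .nil) (.node 110 [⟨53,(Int.negSucc 0),1⟩] .nil .nil))) (.node 125 [⟨70,(Int.ofNat 1),1⟩] (.node 119 [⟨66,(Int.negSucc 0),1⟩] (.node 118 [⟨65,(Int.negSucc 0),1⟩] .nil .nil) (.node 121 [⟨69,(Int.ofNat 1),1⟩] .nil .nil)) (.node 131 [⟨73,(Int.ofNat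 1),1⟩] (.node 126 [⟨71,(Int.ofNat 1),1⟩] .nil .nil) (.node 138 [⟨76,(Int.ofNat 1),1⟩] .nil .nil))))) (.node 202 [⟨145,(Int.ofNat 1),1⟩] (.node 182 [⟨124,(Int.negSucc 0),1⟩] (.node 172 [⟨103,(Int.ofNat 1),1⟩] (.node 161 [⟨85,(Int.ofNat 1),1⟩] (.node 152 [⟨83,(Int.negSucc 0),1⟩] (.node 150 [⟨81,(Int.ofNat 1),1⟩] .nil .nil) .nil) (.node 170 [⟨94,(Int.negSucc 0),1⟩] .nil .nil)) (.node 177 [⟨115,(Int.ofNat 1),1⟩] (.node 174 [⟨105,(Int.negSucc 0),1⟩] .nil .nil) (.node 179 [⟨117,(Int.negSucc 0),1⟩] .nil .nil))) (.node 186 [⟨134,(Int.negSucc 0),1⟩] (.node 184 [⟨129,(Int.negSucc 0),1⟩] (.node 183 [⟨0,(Int.negSucc 0),1⟩, ⟨1,(Int.negSucc 0),1⟩, ⟨2,(Int.negSucc 0),1⟩, ⟨3,(Int.negSucc 1),1⟩, ⟨4,(Int.negSucc 0),1⟩, ⟨5,(Int.negSucc 0),1⟩, ⟨6,(Int.ofNat 0),1⟩, ⟨7,(Int.ofNat 0),1⟩, ⟨72,(Int.negSucc 0),2⟩] .nil .nil) (.node 185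 [⟨130,(Int.negSucc 0),1⟩] .nil .nil)) (.node 190 [⟨137,(Int.ofNat 1),1⟩] (.node 189 [⟨136,(Int.ofNat 1),1⟩] .nil .nil) (.node 193 [⟨143,(Int.negSucc 0),1⟩] .nil .nil)))) (.node 225 [⟨169,(Int.negSucc 0),1⟩] (.node 215 [⟨158,(Int.negSucc 0),1⟩] (.node 206 [⟨148,(Int.negSucc 0),1⟩] (.node 205 [⟨147,(Int.negSucc 0),1⟩] .nil .nil) (.node 212 [⟨156,(Int.ofNat 1),1⟩] .nil .nil)) (.node 222 [⟨165,(Int.ofNat 1),1⟩] (.node 216 [⟨159,(Int.negSucc 0),1⟩] .nil .nil) (.node 223 [⟨166,(Int.ofNat 1),1⟩] .nil .nil))) (.node 239 [⟨210,(Int.ofNat 1),1⟩] (.node 235 [⟨198,(Int.ofNat 1),1⟩] (.node 234 [⟨197,(Int.ofNat 1),1⟩] .nil .nil) (.node 237 [⟨201,(Int.negSucc 0),1⟩] .nil .nil)) (.node 243 [⟨229,(Int.negSucc 0),1⟩] (.node 241 [⟨220,(Int.ofNat 1),1⟩] .nil .nil) (.node 245 [⟨231,(Int.ofNat 1),1⟩] .nil .nil))))))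
noncomputable def col65 : Tr Cl := (.node 139 [⟨78,(Int.negSucc 0),1⟩] (.node 87 [⟨32,(Int.ofNat 1),1⟩] (.node 24 [⟨11,(Int.negSucc 0),1⟩] (.node 4 [⟨73,(Int.ofNat 0),1⟩] (.node 2 [⟨73,(Int.negSucc 0),1⟩] (.node 1 [⟨73,(Int.ofNat 0),1⟩] (.node 0 [⟨73,(Int.ofNat 1),1⟩] .nil .nil) .nil) (.node 3 [⟨73,(Int.ofNat 1),1⟩] .nil .nil)) (.node 6 [⟨73,(Int.ofNat 0),1⟩] (.node 5 [⟨73,(Int.negSucc 0),1⟩] .nil .nil) (.node 7 [⟨73,(Int.ofNat 0),1⟩] .nil .nil))) (.node 54 [⟨19,(Int.ofNat 1),1⟩] (.node 34 [⟨14,(Int.ofNat 1),1⟩] (.node 25 [⟨12,(Int.negSucc 0),1⟩] .nil .nil) (.node 44 [⟨16,(Int.ofNat 1),1⟩] .nil .nil)) (.node 56 [⟨21,(Int.ofNat 1),1⟩] (.node 55 [⟨20,(Int.ofNat 1),1⟩] .nil .nil) (.node 86 [⟨31,(Int.ofNat 1),1⟩] .nil .nil)))) (.node 112 [⟨63,(Int.ofNat 1),1⟩] (.node 98 [⟨43,(Int.ofNat 1),1⟩] (.node 96 [⟨41,(Int.ofNat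 1),1⟩] (.node 88 [⟨33,(Int.ofNat 1),1⟩] .nil .nil) (.node 97 [⟨42,(Int.ofNat 1),1⟩] .nil .nil)) (.node 108 [⟨52,(Int.ofNat 1),1⟩] (.node 107 [⟨51,(Int.ofNat 1),1⟩] .nil .nil) (.node 109 [⟨53,(Int.ofNat 1),1⟩] .nil .nil))) (.node 122 [⟨70,(Int.ofNat 1),1⟩] (.node 119 [⟨68,(Int.negSucc 0),1⟩] (.node 118 [⟨67,(Int.negSucc 0),1⟩] .nil .nil) (.node 120 [⟨69,(Int.negSucc 0),1⟩] .nil .nil)) (.node 124 [⟨72,(Int.ofNat 1),1⟩] (.node 123 [⟨71,(Int.ofNat 1),1⟩] .nil .nil) (.node 138 [⟨77,(Int.ofNat 1),1⟩] .nil .nil))))) (.node 202 [⟨146,(Int.negSucc 0),1⟩] (.node 182 [⟨0,(Int.negSucc 0),1⟩, ⟨1,(Int.negSucc 0),1⟩, ⟨2,(Int.negSucc 0),1⟩, ⟨3,(Int.negSucc 1),1⟩, ⟨4,(Int.negSucc 0),1⟩, ⟨5,(Int.ofNat 0),1⟩, ⟨6,(Int.ofNat 0),1⟩, ⟨7,(Int.ofNat 0),1⟩, ⟨73,(Int.negSucc 0),2⟩] (.node 172 [⟨104,(Int.ofNat 1),1⟩] (.node 160 [⟨85,(Int.ofNat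 1),1⟩] (.node 151 [⟨83,(Int.negSucc 0),1⟩] (.node 150 [⟨82,(Int.ofNat 1),1⟩] .nil .nil) .nil) (.node 170 [⟨95,(Int.negSucc 0),1⟩] .nil .nil)) (.node 177 [⟨116,(Int.ofNat 1),1⟩] (.node 173 [⟨105,(Int.negSucc 0),1⟩] .nil .nil) (.node 178 [⟨117,(Int.negSucc 0),1⟩] .nil .nil))) (.node 186 [⟨135,(Int.ofNat 1),1⟩] (.node 184 [⟨132,(Int.negSucc 0),1⟩] (.node 183 [⟨131,(Int.negSucc 0),1⟩] .nil .nil) (.node 185 [⟨133,(Int.negSucc 0),1⟩] .nil .nil)) (.node 188 [⟨137,(Int.ofNat 1),1⟩] (.node 187 [⟨136,(Int.ofNat 1),1⟩] .nil .nil) (.node 192 [⟨143,(Int.negSucc 0),1⟩] .nil .nil)))) (.node 224 [⟨169,(Int.negSucc 0),1⟩] (.node 213 [⟨158,(Int.negSucc 0),1⟩] (.node 204 [⟨148,(Int.negSucc 0),1⟩] (.node 203 [⟨147,(Int.negSucc 0),1⟩] .nil .nil) (.node 212 [⟨157,(Int.negSucc 0),1⟩] .nil .nil)) (.node 222 [⟨167,(Int.negSucc 0),1⟩]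 (.node 214 [⟨159,(Int.negSucc 0),1⟩] .nil .nil) (.node 223 [⟨168,(Int.negSucc 0),1⟩] .nil .nil))) (.node 239 [⟨211,(Int.negSucc 0),1⟩] (.node 235 [⟨200,(Int.negSucc 0),1⟩] (.node 234 [⟨199,(Int.negSucc 0),1⟩] .nil .nil) (.node 236 [⟨201,(Int.negSucc 0),1⟩] .nil .nil)) (.node 243 [⟨230,(Int.ofNat 1),1⟩] (.node 241 [⟨221,(Int.negSucc 0),1⟩] .nil .nil) (.node 244 [⟨231,(Int.ofNat 1),1⟩] .nil .nil))))))
noncomputable def col66 : Tr Cl := (.node 137 [⟨78,(Int.ofNat 1),1⟩] (.node 90 [⟨35,(Int.ofNat 1),1⟩] (.node 23 [⟨8,(Int.ofNat 1),1⟩] (.node 4 [⟨74,(Int.ofNat 0),1⟩] (.node 2 [⟨74,(Int.ofNat 0),1⟩] (.node 1 [⟨74,(Int.ofNat 1),1⟩] (.node 0 [⟨74,(Int.ofNat 1),1⟩] .nil .nil) .nil) (.node 3 [⟨74,(Int.negSucc 0),1⟩] .nil .nil)) (.node 6 [⟨74,(Int.ofNat 0),1⟩] (.node 5 [⟨74,(Int.ofNat 0),1⟩] .nil .nil) (.node 7 [⟨74,(Int.ofNat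 1),1⟩] .nil .nil))) (.node 50 [⟨18,(Int.negSucc 0),1⟩] (.node 33 [⟨14,(Int.ofNat 1),1⟩] (.node 28 [⟨13,(Int.ofNat 1),1⟩] .nil .nil) (.node 47 [⟨17,(Int.negSucc 0),1⟩] .nil .nil)) (.node 53 [⟨20,(Int.negSucc 0),1⟩] (.node 52 [⟨19,(Int.negSucc 0),1⟩] .nil .nil) (.node 88 [⟨34,(Int.ofNat 1),1⟩] .nil .nil)))) (.node 111 [⟨60,(Int.negSucc 0),1⟩] (.node 95 [⟨41,(Int.ofNat 1),1⟩] (.node 93 [⟨38,(Int.ofNat 1),1⟩] (.node 91 [⟨36,(Int.ofNat 1),1⟩] .nil .nil) (.node 94 [⟨39,(Int.ofNat 1),1⟩] .nil .nil)) (.node 109 [⟨55,(Int.negSucc 0),1⟩] (.node 108 [⟨54,(Int.negSucc 0),1⟩] .nil .nil) (.node 110 [⟨57,(Int.negSucc 0),1⟩] .nil .nil))) (.node 117 [⟨70,(Int.ofNat 1),1⟩] (.node 115 [⟨65,(Int.ofNat 1),1⟩] (.node 114 [⟨64,(Int.ofNat 1),1⟩] .nil .nil) (.node 116 [⟨67,(Int.ofNat 1),1⟩] .nil .nil)) (.node 130 [⟨76,(Int.ofNat 1),1⟩]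 (.node 128 [⟨75,(Int.ofNat 1),1⟩] .nil .nil) (.node 133 [⟨77,(Int.ofNat 1),1⟩] .nil .nil))))) (.node 198 [⟨145,(Int.ofNat 1),1⟩] (.node 179 [⟨125,(Int.negSucc 0),1⟩] (.node 171 [⟨101,(Int.ofNat 1),1⟩] (.node 159 [⟨85,(Int.ofNat 1),1⟩] (.node 154 [⟨84,(Int.negSucc 0),1⟩] (.node 149 [⟨79,(Int.ofNat 1),1⟩] .nil .nil) .nil) (.node 170 [⟨96,(Int.negSucc 0),1⟩] .nil .nil)) (.node 177 [⟨118,(Int.negSucc 0),1⟩] (.node 176 [⟨106,(Int.negSucc 0),1⟩] .nil .nil) (.node 178 [⟨122,(Int.negSucc 0),1⟩] .nil .nil))) (.node 188 [⟨139,(Int.negSucc 0),1⟩] (.node 181 [⟨0,(Int.negSucc 0),1⟩, ⟨1,(Int.negSucc 0),1⟩, ⟨2,(Int.negSucc 0),1⟩, ⟨3,(Int.negSucc 0),1⟩, ⟨4,(Int.negSucc 0),1⟩, ⟨5,(Int.negSucc 0),1⟩, ⟨6,(Int.negSucc 0),1⟩, ⟨7,(Int.negSucc 0),1⟩, ⟨74,(Int.negSucc 0),2⟩] (.node 180 [⟨127,(Int.negSucc 0),1⟩] .nil .nil) (.node 185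 [⟨138,(Int.negSucc 0),1⟩] .nil .nil)) (.node 191 [⟨141,(Int.negSucc 0),1⟩] (.node 190 [⟨140,(Int.negSucc 0),1⟩] .nil .nil) (.node 195 [⟨144,(Int.ofNat 1),1⟩] .nil .nil)))) (.node 221 [⟨167,(Int.negSucc 0),1⟩] (.node 216 [⟨161,(Int.negSucc 0),1⟩] (.node 201 [⟨147,(Int.ofNat 1),1⟩] (.node 200 [⟨146,(Int.ofNat 1),1⟩] .nil .nil) (.node 214 [⟨160,(Int.negSucc 0),1⟩] .nil .nil)) (.node 219 [⟨164,(Int.negSucc 0),1⟩] (.node 217 [⟨162,(Int.negSucc 0),1⟩] .nil .nil) (.node 220 [⟨165,(Int.negSucc 0),1⟩] .nil .nil))) (.node 238 [⟨208,(Int.ofNat 1),1⟩] (.node 236 [⟨203,(Int.ofNat 1),1⟩] (.node 235 [⟨202,(Int.ofNat 1),1⟩] .nil .nil) (.node 237 [⟨205,(Int.ofNat 1),1⟩] .nil .nil)) (.node 242 [⟨227,(Int.negSucc 0),1⟩] (.node 241 [⟨222,(Int.negSucc 0),1⟩] .nil .nil) (.node 247 [⟨232,(Int.negSucc 0),1⟩] .nil .nil))))))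
noncomputable def col67 : Tr Cl := (.node 136 [⟨78,(Int.ofNat 1),1⟩] (.node 89 [⟨35,(Int.negSucc 0),1⟩] (.node 23 [⟨9,(Int.ofNat 1),1⟩] (.node 4 [⟨75,(Int.ofNat 0),1⟩] (.node 2 [⟨75,(Int.ofNat 0),1⟩] (.node 1 [⟨75,(Int.ofNat 1),1⟩] (.node 0 [⟨75,(Int.ofNat 1),1⟩] .nil .nil) .nil) (.node 3 [⟨75,(Int.negSucc 0),1⟩] .nil .nil)) (.node 6 [⟨75,(Int.ofNat 1),1⟩] (.node 5 [⟨75,(Int.ofNat 0),1⟩] .nil .nil) (.node 7 [⟨75,(Int.negSucc 0),1⟩] .nil .nil))) (.node 49 [⟨18,(Int.ofNat 1),1⟩] (.node 32 [⟨14,(Int.negSucc 0),1⟩] (.node 27 [⟨13,(Int.negSucc 0),1⟩] .nil .nil) (.node 46 [⟨17,(Int.ofNat 1),1⟩] .nil .nil)) (.node 53 [⟨21,(Int.negSucc 0),1⟩] (.node 51 [⟨19,(Int.ofNat 1),1⟩] .nil .nil) (.node 87 [⟨34,(Int.negSucc 0),1⟩] .nil .nil)))) (.node 111 [⟨61,(Int.negSucc 0),1⟩] (.node 95 [⟨42,(Int.ofNat 1),1⟩] (.node 92 [⟨38,(Int.negSucc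 0),1⟩] (.node 91 [⟨37,(Int.ofNat 1),1⟩] .nil .nil) (.node 94 [⟨40,(Int.ofNat 1),1⟩] .nil .nil)) (.node 109 [⟨56,(Int.negSucc 0),1⟩] (.node 107 [⟨54,(Int.ofNat 1),1⟩] .nil .nil) (.node 110 [⟨58,(Int.negSucc 0),1⟩] .nil .nil))) (.node 117 [⟨71,(Int.ofNat 1),1⟩] (.node 115 [⟨66,(Int.ofNat 1),1⟩] (.node 113 [⟨64,(Int.negSucc 0),1⟩] .nil .nil) (.node 116 [⟨68,(Int.ofNat 1),1⟩] .nil .nil)) (.node 129 [⟨76,(Int.ofNat 1),1⟩] (.node 127 [⟨74,(Int.ofNat 1),1⟩] .nil .nil) (.node 132 [⟨77,(Int.ofNat 1),1⟩] .nil .nil))))) (.node 197 [⟨145,(Int.ofNat 1),1⟩] (.node 179 [⟨126,(Int.negSucc 0),1⟩] (.node 171 [⟨102,(Int.ofNat 1),1⟩] (.node 158 [⟨85,(Int.ofNat 1),1⟩] (.node 153 [⟨84,(Int.negSucc 0),1⟩] (.node 149 [⟨80,(Int.ofNat 1),1⟩] .nil .nil) .nil) (.node 170 [⟨97,(Int.negSucc 0),1⟩] .nil .nil)) (.node 177 [⟨119,(Int.negSucc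 0),1⟩] (.node 175 [⟨106,(Int.negSucc 0),1⟩] .nil .nil) (.node 178 [⟨123,(Int.negSucc 0),1⟩] .nil .nil))) (.node 187 [⟨139,(Int.negSucc 0),1⟩] (.node 181 [⟨128,(Int.negSucc 0),1⟩] (.node 180 [⟨0,(Int.negSucc 0),1⟩, ⟨1,(Int.negSucc 0),1⟩, ⟨2,(Int.negSucc 0),1⟩, ⟨3,(Int.negSucc 0),1⟩, ⟨4,(Int.negSucc 0),1⟩, ⟨5,(Int.negSucc 0),1⟩, ⟨6,(Int.negSucc 0),1⟩, ⟨7,(Int.ofNat 0),1⟩, ⟨75,(Int.negSucc 0),2⟩] .nil .nil) (.node 184 [⟨138,(Int.negSucc 0),1⟩] .nil .nil)) (.node 191 [⟨142,(Int.ofNat 1),1⟩] (.node 189 [⟨140,(Int.negSucc 0),1⟩] .nil .nil) (.node 194 [⟨144,(Int.ofNat 1),1⟩] .nil .nil)))) (.node 221 [⟨168,(Int.ofNat 1),1⟩] (.node 215 [⟨161,(Int.negSucc 0),1⟩] (.node 201 [⟨148,(Int.negSucc 0),1⟩] (.node 199 [⟨146,(Int.ofNat 1),1⟩] .nil .nil) (.node 213 [⟨160,(Int.negSucc 0),1⟩] .nil .nil)) (.node 218 [⟨164,(Int.negSucc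 0),1⟩] (.node 217 [⟨163,(Int.ofNat 1),1⟩] .nil .nil) (.node 220 [⟨166,(Int.ofNat 1),1⟩] .nil .nil))) (.node 238 [⟨209,(Int.negSucc 0),1⟩] (.node 236 [⟨204,(Int.negSucc 0),1⟩] (.node 234 [⟨202,(Int.ofNat 1),1⟩] .nil .nil) (.node 237 [⟨206,(Int.negSucc 0),1⟩] .nil .nil)) (.node 242 [⟨228,(Int.ofNat 1),1⟩] (.node 241 [⟨223,(Int.ofNat 1),1⟩] .nil .nil) (.node 246 [⟨232,(Int.negSucc 0),1⟩] .nil .nil))))))
noncomputable def col68 : Tr Cl := (.node 135 [⟨78,(Int.ofNat 1),1⟩] (.node 89 [⟨36,(Int.negSucc 0),1⟩] (.node 23 [⟨10,(Int.ofNat 1),1⟩] (.node 4 [⟨76,(Int.ofNat 0),1⟩] (.node 2 [⟨76,(Int.ofNat 0),1⟩] (.node 1 [⟨76,(Int.ofNat 1),1⟩] (.node 0 [⟨76,(Int.ofNat 1),1⟩] .nil .nil) .nil) (.node 3 [⟨76,(Int.negSucc 0),1⟩] .nil .nil)) (.node 6 [⟨76,(Int.negSucc 0),1⟩] (.node 5 [⟨76,(Int.ofNat 1),1⟩] .nil .nil) (.node 7 [⟨76,(Int.ofNat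 0),1⟩] .nil .nil))) (.node 48 [⟨18,(Int.negSucc 0),1⟩] (.node 31 [⟨14,(Int.ofNat 1),1⟩] (.node 26 [⟨13,(Int.ofNat 1),1⟩] .nil .nil) (.node 45 [⟨17,(Int.negSucc 0),1⟩] .nil .nil)) (.node 52 [⟨21,(Int.ofNat 1),1⟩] (.node 51 [⟨20,(Int.ofNat 1),1⟩] .nil .nil) (.node 86 [⟨34,(Int.ofNat 1),1⟩] .nil .nil)))) (.node 111 [⟨62,(Int.negSucc 0),1⟩] (.node 95 [⟨43,(Int.ofNat 1),1⟩] (.node 92 [⟨39,(Int.negSucc 0),1⟩] (.node 90 [⟨37,(Int.negSucc 0),1⟩] .nil .nil) (.node 93 [⟨40,(Int.negSucc 0),1⟩] .nil .nil)) (.node 108 [⟨56,(Int.ofNat 1),1⟩] (.node 107 [⟨55,(Int.ofNat 1),1⟩] .nil .nil) (.node 110 [⟨59,(Int.negSucc 0),1⟩] .nil .nil))) (.node 117 [⟨72,(Int.ofNat 1),1⟩] (.node 114 [⟨66,(Int.negSucc 0),1⟩] (.node 113 [⟨65,(Int.negSucc 0),1⟩] .nil .nil) (.node 116 [⟨69,(Int.ofNat 1),1⟩] .nil .nil)) (.node 126 [⟨75,(Int.ofNat 1),1⟩]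 (.node 125 [⟨74,(Int.ofNat 1),1⟩] .nil .nil) (.node 131 [⟨77,(Int.ofNat 1),1⟩] .nil .nil))))) (.node 196 [⟨145,(Int.ofNat 1),1⟩] (.node 179 [⟨0,(Int.negSucc 0),1⟩, ⟨1,(Int.negSucc 0),1⟩, ⟨2,(Int.negSucc 0),1⟩, ⟨3,(Int.negSucc 0),1⟩, ⟨4,(Int.negSucc 0),1⟩, ⟨5,(Int.negSucc 0),1⟩, ⟨6,(Int.ofNat 0),1⟩, ⟨7,(Int.ofNat 0),1⟩, ⟨76,(Int.negSucc 0),2⟩] (.node 171 [⟨103,(Int.ofNat 1),1⟩] (.node 157 [⟨85,(Int.ofNat 1),1⟩] (.node 152 [⟨84,(Int.negSucc 0),1⟩] (.node 149 [⟨81,(Int.ofNat 1),1⟩] .nil .nil) .nil) (.node 170 [⟨98,(Int.negSucc 0),1⟩] .nil .nil)) (.node 177 [⟨120,(Int.negSucc 0),1⟩] (.node 174 [⟨106,(Int.negSucc 0),1⟩] .nil .nil) (.node 178 [⟨124,(Int.negSucc 0),1⟩] .nil .nil))) (.node 186 [⟨139,(Int.negSucc 0),1⟩] (.node 181 [⟨130,(Int.negSucc 0),1⟩] (.node 180 [⟨129,(Int.negSucc 0),1⟩] .nil .nil) (.node 183 [⟨138,(Int.negSucc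 0),1⟩] .nil .nil)) (.node 190 [⟨142,(Int.ofNat 1),1⟩] (.node 189 [⟨141,(Int.ofNat 1),1⟩] .nil .nil) (.node 193 [⟨144,(Int.ofNat 1),1⟩] .nil .nil)))) (.node 221 [⟨169,(Int.negSucc 0),1⟩] (.node 215 [⟨162,(Int.ofNat 1),1⟩] (.node 200 [⟨148,(Int.negSucc 0),1⟩] (.node 199 [⟨147,(Int.negSucc 0),1⟩] .nil .nil) (.node 212 [⟨160,(Int.negSucc 0),1⟩] .nil .nil)) (.node 218 [⟨165,(Int.ofNat 1),1⟩] (.node 216 [⟨163,(Int.ofNat 1),1⟩] .nil .nil) (.node 219 [⟨166,(Int.ofNat 1),1⟩] .nil .nil))) (.node 238 [⟨210,(Int.ofNat 1),1⟩] (.node 235 [⟨204,(Int.negSucc 0),1⟩] (.node 234 [⟨203,(Int.negSucc 0),1⟩] .nil .nil) (.node 237 [⟨207,(Int.ofNat 1),1⟩] .nil .nil)) (.node 242 [⟨229,(Int.negSucc 0),1⟩] (.node 241 [⟨224,(Int.negSucc 0),1⟩] .nil .nil) (.node 245 [⟨232,(Int.negSucc 0),1⟩] .nil .nil))))))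
noncomputable def col69 : Tr Cl := (.node 134 [⟨78,(Int.ofNat 1),1⟩] (.node 87 [⟨36,(Int.ofNat 1),1⟩] (.node 23 [⟨11,(Int.ofNat 1),1⟩] (.node 4 [⟨77,(Int.ofNat 1),1⟩] (.node 2 [⟨77,(Int.ofNat 0),1⟩] (.node 1 [⟨77,(Int.ofNat 1),1⟩] (.node 0 [⟨77,(Int.ofNat 1),1⟩] .nil .nil) .nil) (.node 3 [⟨77,(Int.negSucc 0),1⟩] .nil .nil)) (.node 6 [⟨77,(Int.ofNat 0),1⟩] (.node 5 [⟨77,(Int.negSucc 0),1⟩] .nil .nil) (.node 7 [⟨77,(Int.ofNat 0),1⟩] .nil .nil))) (.node 48 [⟨19,(Int.negSucc 0),1⟩] (.node 30 [⟨14,(Int.negSucc 0),1⟩] (.node 25 [⟨13,(Int.negSucc 0),1⟩] .nil .nil) (.node 44 [⟨17,(Int.ofNat 1),1⟩] .nil .nil)) (.node 50 [⟨21,(Int.negSucc 0),1⟩] (.node 49 [⟨20,(Int.negSucc 0),1⟩] .nil .nil) (.node 86 [⟨35,(Int.ofNat 1),1⟩] .nil .nil)))) (.node 111 [⟨63,(Int.negSucc 0),1⟩] (.node 94 [⟨43,(Int.negSucc 0),1⟩] (.node 92 [⟨41,(Int.negSucc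 0),1⟩] (.node 88 [⟨37,(Int.ofNat 1),1⟩] .nil .nil) (.node 93 [⟨42,(Int.negSucc 0),1⟩] .nil .nil)) (.node 108 [⟨58,(Int.ofNat 1),1⟩] (.node 107 [⟨57,(Int.ofNat 1),1⟩] .nil .nil) (.node 109 [⟨59,(Int.ofNat 1),1⟩] .nil .nil))) (.node 117 [⟨73,(Int.ofNat 1),1⟩] (.node 114 [⟨68,(Int.negSucc 0),1⟩] (.node 113 [⟨67,(Int.negSucc 0),1⟩] .nil .nil) (.node 115 [⟨69,(Int.negSucc 0),1⟩] .nil .nil)) (.node 123 [⟨75,(Int.ofNat 1),1⟩] (.node 122 [⟨74,(Int.ofNat 1),1⟩] .nil .nil) (.node 124 [⟨76,(Int.ofNat 1),1⟩] .nil .nil))))) (.node 196 [⟨146,(Int.negSucc 0),1⟩] (.node 179 [⟨131,(Int.negSucc 0),1⟩] (.node 171 [⟨104,(Int.ofNat 1),1⟩] (.node 156 [⟨85,(Int.ofNat 1),1⟩] (.node 151 [⟨84,(Int.negSucc 0),1⟩] (.node 149 [⟨82,(Int.ofNat 1),1⟩] .nil .nil) .nil) (.node 170 [⟨99,(Int.negSucc 0),1⟩] .nil .nil)) (.node 177 [⟨121,(Int.negSucc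 0),1⟩] (.node 173 [⟨106,(Int.negSucc 0),1⟩] .nil .nil) (.node 178 [⟨0,(Int.negSucc 0),1⟩, ⟨1,(Int.negSucc 0),1⟩, ⟨2,(Int.negSucc 0),1⟩, ⟨3,(Int.negSucc 0),1⟩, ⟨4,(Int.negSucc 0),1⟩, ⟨5,(Int.ofNat 0),1⟩, ⟨6,(Int.ofNat 0),1⟩, ⟨7,(Int.ofNat 0),1⟩, ⟨77,(Int.negSucc 0),2⟩] .nil .nil))) (.node 186 [⟨140,(Int.ofNat 1),1⟩] (.node 181 [⟨133,(Int.negSucc 0),1⟩] (.node 180 [⟨132,(Int.negSucc 0),1⟩] .nil .nil) (.node 182 [⟨138,(Int.negSucc 0),1⟩] .nil .nil)) (.node 188 [⟨142,(Int.ofNat 1),1⟩] (.node 187 [⟨141,(Int.ofNat 1),1⟩] .nil .nil) (.node 192 [⟨144,(Int.ofNat 1),1⟩] .nil .nil)))) (.node 220 [⟨169,(Int.negSucc 0),1⟩] (.node 213 [⟨162,(Int.ofNat 1),1⟩] (.node 198 [⟨148,(Int.negSucc 0),1⟩] (.node 197 [⟨147,(Int.negSucc 0),1⟩] .nil .nil) (.node 212 [⟨161,(Int.ofNat 1),1⟩] .nil .nil)) (.node 218 [⟨167,(Int.negSucc 0),1⟩]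 (.node 214 [⟨163,(Int.ofNat 1),1⟩] .nil .nil) (.node 219 [⟨168,(Int.negSucc 0),1⟩] .nil .nil))) (.node 238 [⟨211,(Int.negSucc 0),1⟩] (.node 235 [⟨206,(Int.ofNat 1),1⟩] (.node 234 [⟨205,(Int.ofNat 1),1⟩] .nil .nil) (.node 236 [⟨207,(Int.ofNat 1),1⟩] .nil .nil)) (.node 242 [⟨230,(Int.ofNat 1),1⟩] (.node 241 [⟨225,(Int.ofNat 1),1⟩] .nil .nil) (.node 244 [⟨232,(Int.negSucc 0),1⟩] .nil .nil))))))
noncomputable def col70 : Tr Cl := (.node 121 [⟨77,(Int.ofNat 1),1⟩] (.node 87 [⟨39,(Int.ofNat 1),1⟩] (.node 23 [⟨12,(Int.ofNat 1),1⟩] (.node 4 [⟨78,(Int.negSucc 0),1⟩] (.node 2 [⟨78,(Int.ofNat 0),1⟩] (.node 1 [⟨78,(Int.ofNat 1),1⟩] (.node 0 [⟨78,(Int.ofNat 1),1⟩] .nil .nil) .nil) (.node 3 [⟨78,(Int.ofNat 0),1⟩] .nil .nil)) (.node 6 [⟨78,(Int.ofNat 0),1⟩] (.node 5 [⟨78,(Int.ofNat 0),1⟩] .nil .nil) (.node 7 [⟨78,(Int.ofNat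 0),1⟩] .nil .nil))) (.node 45 [⟨19,(Int.ofNat 1),1⟩] (.node 29 [⟨14,(Int.ofNat 1),1⟩] (.node 24 [⟨13,(Int.ofNat 1),1⟩] .nil .nil) (.node 44 [⟨18,(Int.ofNat 1),1⟩] .nil .nil)) (.node 47 [⟨21,(Int.ofNat 1),1⟩] (.node 46 [⟨20,(Int.ofNat 1),1⟩] .nil .nil) (.node 86 [⟨38,(Int.ofNat 1),1⟩] .nil .nil)))) (.node 110 [⟨63,(Int.ofNat 1),1⟩] (.node 91 [⟨43,(Int.ofNat 1),1⟩] (.node 89 [⟨41,(Int.ofNat 1),1⟩] (.node 88 [⟨40,(Int.ofNat 1),1⟩] .nil .nil) (.node 90 [⟨42,(Int.ofNat 1),1⟩] .nil .nil)) (.node 108 [⟨61,(Int.ofNat 1),1⟩] (.node 107 [⟨60,(Int.ofNat 1),1⟩] .nil .nil) (.node 109 [⟨62,(Int.ofNat 1),1⟩] .nil .nil))) (.node 116 [⟨73,(Int.negSucc 0),1⟩] (.node 114 [⟨71,(Int.negSucc 0),1⟩] (.node 113 [⟨70,(Int.negSucc 0),1⟩] .nil .nil) (.node 115 [⟨72,(Int.negSucc 0),1⟩] .nil .nil)) (.node 119 [⟨75,(Int.ofNat 1),1⟩] (.node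 118 [⟨74,(Int.ofNat 1),1⟩] .nil .nil) (.node 120 [⟨76,(Int.ofNat 1),1⟩] .nil .nil))))) (.node 193 [⟨146,(Int.negSucc 0),1⟩] (.node 179 [⟨135,(Int.negSucc 0),1⟩] (.node 171 [⟨105,(Int.ofNat 1),1⟩] (.node 155 [⟨85,(Int.ofNat 1),1⟩] (.node 150 [⟨84,(Int.negSucc 0),1⟩] (.node 149 [⟨83,(Int.ofNat 1),1⟩] .nil .nil) .nil) (.node 170 [⟨100,(Int.negSucc 0),1⟩] .nil .nil)) (.node 177 [⟨0,(Int.negSucc 0),1⟩, ⟨1,(Int.negSucc 0),1⟩, ⟨2,(Int.negSucc 0),1⟩, ⟨3,(Int.negSucc 0),1⟩, ⟨4,(Int.ofNat 0),1⟩, ⟨5,(Int.ofNat 0),1⟩, ⟨6,(Int.ofNat 0),1⟩, ⟨7,(Int.ofNat 0),1⟩, ⟨78,(Int.negSucc 0),2⟩] (.node 172 [⟨106,(Int.negSucc 0),1⟩] .nil .nil) (.node 178 [⟨134,(Int.negSucc 0),1⟩] .nil .nil))) (.node 183 [⟨140,(Int.ofNat 1),1⟩] (.node 181 [⟨137,(Int.negSucc 0),1⟩] (.node 180 [⟨136,(Int.negSucc 0),1⟩] .nil .nil) (.node 182 [⟨139,(Int.ofNat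 1),1⟩] .nil .nil)) (.node 185 [⟨142,(Int.ofNat 1),1⟩] (.node 184 [⟨141,(Int.ofNat 1),1⟩] .nil .nil) (.node 192 [⟨145,(Int.negSucc 0),1⟩] .nil .nil)))) (.node 217 [⟨169,(Int.negSucc 0),1⟩] (.node 213 [⟨165,(Int.negSucc 0),1⟩] (.node 195 [⟨148,(Int.negSucc 0),1⟩] (.node 194 [⟨147,(Int.negSucc 0),1⟩] .nil .nil) (.node 212 [⟨164,(Int.negSucc 0),1⟩] .nil .nil)) (.node 215 [⟨167,(Int.negSucc 0),1⟩] (.node 214 [⟨166,(Int.negSucc 0),1⟩] .nil .nil) (.node 216 [⟨168,(Int.negSucc 0),1⟩] .nil .nil))) (.node 237 [⟨211,(Int.negSucc 0),1⟩] (.node 235 [⟨209,(Int.negSucc 0),1⟩] (.node 234 [⟨208,(Int.negSucc 0),1⟩] .nil .nil) (.node 236 [⟨210,(Int.negSucc 0),1⟩] .nil .nil)) (.node 242 [⟨231,(Int.negSucc 0),1⟩] (.node 241 [⟨226,(Int.negSucc 0),1⟩] .nil .nil) (.node 243 [⟨232,(Int.negSucc 0),1⟩] .nil .nil))))))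
noncomputable def col71 : Tr Cl := (.node 133 [⟨82,(Int.ofNat 1),1⟩] (.node 90 [⟨45,(Int.ofNat 1),1⟩] (.node 22 [⟨8,(Int.negSucc 0),1⟩] (.node 4 [⟨79,(Int.ofNat 0),1⟩] (.node 2 [⟨79,(Int.ofNat 0),1⟩] (.node 1 [⟨79,(Int.negSucc 0),1⟩] (.node 0 [⟨79,(Int.ofNat 1),1⟩] .nil .nil) .nil) (.node 3 [⟨79,(Int.ofNat 0),1⟩] .nil .nil)) (.node 6 [⟨79,(Int.ofNat 0),1⟩] (.node 5 [⟨79,(Int.ofNat 0),1⟩] .nil .nil) (.node 7 [⟨79,(Int.ofNat 1),1⟩] .nil .nil))) (.node 40 [⟨18,(Int.ofNat 1),1⟩] (.node 33 [⟨16,(Int.ofNat 1),1⟩] (.node 28 [⟨15,(Int.ofNat 1),1⟩] .nil .nil) (.node 37 [⟨17,(Int.ofNat 1),1⟩] .nil .nil)) (.node 43 [⟨20,(Int.ofNat 1),1⟩] (.node 42 [⟨19,(Int.ofNat 1),1⟩] .nil .nil) (.node 88 [⟨44,(Int.ofNat 1),1⟩] .nil .nil)))) (.node 100 [⟨60,(Int.ofNat 1),1⟩] (.node 95 [⟨51,(Int.ofNat 1),1⟩] (.node 93 [⟨48,(Int.ofNat 1),1⟩]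 (.node 91 [⟨46,(Int.ofNat 1),1⟩] .nil .nil) (.node 94 [⟨49,(Int.ofNat 1),1⟩] .nil .nil)) (.node 98 [⟨55,(Int.ofNat 1),1⟩] (.node 97 [⟨54,(Int.ofNat 1),1⟩] .nil .nil) (.node 99 [⟨57,(Int.ofNat 1),1⟩] .nil .nil))) (.node 105 [⟨70,(Int.ofNat 1),1⟩] (.node 103 [⟨65,(Int.ofNat 1),1⟩] (.node 102 [⟨64,(Int.ofNat 1),1⟩] .nil .nil) (.node 104 [⟨67,(Int.ofNat 1),1⟩] .nil .nil)) (.node 128 [⟨80,(Int.ofNat 1),1⟩] (.node 106 [⟨74,(Int.ofNat 1),1⟩] .nil .nil) (.node 130 [⟨81,(Int.ofNat 1),1⟩] .nil .nil))))) (.node 198 [⟨156,(Int.negSucc 0),1⟩] (.node 175 [⟨127,(Int.negSucc 0),1⟩] (.node 171 [⟨113,(Int.negSucc 0),1⟩] (.node 148 [⟨85,(Int.ofNat 1),1⟩] (.node 142 [⟨84,(Int.ofNat 1),1⟩] (.node 137 [⟨83,(Int.ofNat 1),1⟩] .nil .nil) .nil) (.node 170 [⟨107,(Int.negSucc 0),1⟩] .nil .nil)) (.node 173 [⟨122,(Int.negSucc 0),1⟩] (.node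 172 [⟨118,(Int.negSucc 0),1⟩] .nil .nil) (.node 174 [⟨125,(Int.negSucc 0),1⟩] .nil .nil))) (.node 188 [⟨151,(Int.negSucc 0),1⟩] (.node 181 [⟨149,(Int.negSucc 0),1⟩] (.node 176 [⟨0,(Int.negSucc 0),1⟩, ⟨1,(Int.ofNat 0),1⟩, ⟨2,(Int.negSucc 0),1⟩, ⟨3,(Int.negSucc 0),1⟩, ⟨4,(Int.negSucc 0),1⟩, ⟨5,(Int.negSucc 0),1⟩, ⟨6,(Int.negSucc 0),1⟩, ⟨7,(Int.negSucc 0),1⟩, ⟨79,(Int.negSucc 0),2⟩] .nil .nil) (.node 185 [⟨150,(Int.negSucc 0),1⟩] .nil .nil)) (.node 191 [⟨153,(Int.negSucc 0),1⟩] (.node 190 [⟨152,(Int.negSucc 0),1⟩] .nil .nil) (.node 195 [⟨155,(Int.negSucc 0),1⟩] .nil .nil)))) (.node 211 [⟨167,(Int.negSucc 0),1⟩] (.node 206 [⟨161,(Int.negSucc 0),1⟩] (.node 201 [⟨158,(Int.negSucc 0),1⟩] (.node 200 [⟨157,(Int.negSucc 0),1⟩] .nil .nil) (.node 204 [⟨160,(Int.negSucc 0),1⟩] .nil .nil)) (.node 209 [⟨164,(Int.negSucc 0),1⟩]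 (.node 207 [⟨162,(Int.negSucc 0),1⟩] .nil .nil) (.node 210 [⟨165,(Int.negSucc 0),1⟩] .nil .nil))) (.node 238 [⟨218,(Int.negSucc 0),1⟩] (.node 236 [⟨213,(Int.negSucc 0),1⟩] (.node 235 [⟨212,(Int.negSucc 0),1⟩] .nil .nil) (.node 237 [⟨215,(Int.negSucc 0),1⟩] .nil .nil)) (.node 240 [⟨227,(Int.negSucc 0),1⟩] (.node 239 [⟨222,(Int.negSucc 0),1⟩] .nil .nil) (.node 247 [⟨233,(Int.ofNat 1),1⟩] .nil .nil))))))
noncomputable def col72 : Tr Cl := (.node 132 [⟨82,(Int.ofNat 1),1⟩] (.node 89 [⟨45,(Int.negSucc 0),1⟩] (.node 22 [⟨9,(Int.negSucc 0),1⟩] (.node 4 [⟨80,(Int.ofNat 0),1⟩] (.node 2 [⟨80,(Int.ofNat 0),1⟩] (.node 1 [⟨80,(Int.negSucc 0),1⟩] (.node 0 [⟨80,(Int.ofNat 1),1⟩] .nil .nil) .nil) (.node 3 [⟨80,(Int.ofNat 0),1⟩] .nil .nil)) (.node 6 [⟨80,(Int.ofNat 1),1⟩] (.node 5 [⟨80,(Int.ofNat 0),1⟩] .nil .nil) (.node 7 [⟨80,(Int.negSucc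 0),1⟩] .nil .nil))) (.node 39 [⟨18,(Int.negSucc 0),1⟩] (.node 32 [⟨16,(Int.negSucc 0),1⟩] (.node 27 [⟨15,(Int.negSucc 0),1⟩] .nil .nil) (.node 36 [⟨17,(Int.negSucc 0),1⟩] .nil .nil)) (.node 43 [⟨21,(Int.ofNat 1),1⟩] (.node 41 [⟨19,(Int.negSucc 0),1⟩] .nil .nil) (.node 87 [⟨44,(Int.negSucc 0),1⟩] .nil .nil)))) (.node 100 [⟨61,(Int.ofNat 1),1⟩] (.node 95 [⟨52,(Int.ofNat 1),1⟩] (.node 92 [⟨48,(Int.negSucc 0),1⟩] (.node 91 [⟨47,(Int.ofNat 1),1⟩] .nil .nil) (.node 94 [⟨50,(Int.ofNat 1),1⟩] .nil .nil)) (.node 98 [⟨56,(Int.ofNat 1),1⟩] (.node 96 [⟨54,(Int.negSucc 0),1⟩] .nil .nil) (.node 99 [⟨58,(Int.ofNat 1),1⟩] .nil .nil))) (.node 105 [⟨71,(Int.ofNat 1),1⟩] (.node 103 [⟨66,(Int.ofNat 1),1⟩] (.node 101 [⟨64,(Int.negSucc 0),1⟩] .nil .nil) (.node 104 [⟨68,(Int.ofNat 1),1⟩] .nil .nil)) (.node 127 [⟨79,(Int.ofNat 1),1⟩]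 (.node 106 [⟨75,(Int.ofNat 1),1⟩] .nil .nil) (.node 129 [⟨81,(Int.ofNat 1),1⟩] .nil .nil))))) (.node 197 [⟨156,(Int.negSucc 0),1⟩] (.node 175 [⟨0,(Int.negSucc 0),1⟩, ⟨1,(Int.ofNat 0),1⟩, ⟨2,(Int.negSucc 0),1⟩, ⟨3,(Int.negSucc 0),1⟩, ⟨4,(Int.negSucc 0),1⟩, ⟨5,(Int.negSucc 0),1⟩, ⟨6,(Int.negSucc 0),1⟩, ⟨7,(Int.ofNat 0),1⟩, ⟨80,(Int.negSucc 0),2⟩] (.node 171 [⟨114,(Int.negSucc 0),1⟩] (.node 147 [⟨85,(Int.ofNat 1),1⟩] (.node 141 [⟨84,(Int.ofNat 1),1⟩] (.node 136 [⟨83,(Int.ofNat 1),1⟩] .nil .nil) .nil) (.node 170 [⟨108,(Int.negSucc 0),1⟩] .nil .nil)) (.node 173 [⟨123,(Int.negSucc 0),1⟩] (.node 172 [⟨119,(Int.negSucc 0),1⟩] .nil .nil) (.node 174 [⟨126,(Int.negSucc 0),1⟩] .nil .nil))) (.node 187 [⟨151,(Int.negSucc 0),1⟩] (.node 180 [⟨149,(Int.negSucc 0),1⟩] (.node 176 [⟨128,(Int.negSucc 0),1⟩] .nil .nil) (.node 184 [⟨150,(Int.negSucc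 0),1⟩] .nil .nil)) (.node 191 [⟨154,(Int.ofNat 1),1⟩] (.node 189 [⟨152,(Int.negSucc 0),1⟩] .nil .nil) (.node 194 [⟨155,(Int.negSucc 0),1⟩] .nil .nil)))) (.node 211 [⟨168,(Int.ofNat 1),1⟩] (.node 205 [⟨161,(Int.negSucc 0),1⟩] (.node 201 [⟨159,(Int.ofNat 1),1⟩] (.node 199 [⟨157,(Int.negSucc 0),1⟩] .nil .nil) (.node 203 [⟨160,(Int.negSucc 0),1⟩] .nil .nil)) (.node 208 [⟨164,(Int.negSucc 0),1⟩] (.node 207 [⟨163,(Int.ofNat 1),1⟩] .nil .nil) (.node 210 [⟨166,(Int.ofNat 1),1⟩] .nil .nil))) (.node 238 [⟨219,(Int.ofNat 1),1⟩] (.node 236 [⟨214,(Int.ofNat 1),1⟩] (.node 234 [⟨212,(Int.negSucc 0),1⟩] .nil .nil) (.node 237 [⟨216,(Int.ofNat 1),1⟩] .nil .nil)) (.node 240 [⟨228,(Int.ofNat 1),1⟩] (.node 239 [⟨223,(Int.ofNat 1),1⟩] .nil .nil) (.node 246 [⟨233,(Int.ofNat 1),1⟩] .nil .nil))))))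
noncomputable def col73 : Tr Cl := (.node 131 [⟨82,(Int.ofNat 1),1⟩] (.node 89 [⟨46,(Int.negSucc 0),1⟩] (.node 22 [⟨10,(Int.negSucc 0),1⟩] (.node 4 [⟨81,(Int.ofNat 0),1⟩] (.node 2 [⟨81,(Int.ofNat 0),1⟩] (.node 1 [⟨81,(Int.negSucc 0),1⟩] (.node 0 [⟨81,(Int.ofNat 1),1⟩] .nil .nil) .nil) (.node 3 [⟨81,(Int.ofNat 0),1⟩] .nil .nil)) (.node 6 [⟨81,(Int.negSucc 0),1⟩] (.node 5 [⟨81,(Int.ofNat 1),1⟩] .nil .nil) (.node 7 [⟨81,(Int.ofNat 0),1⟩] .nil .nil))) (.node 38 [⟨18,(Int.ofNat 1),1⟩] (.node 31 [⟨16,(Int.ofNat 1),1⟩] (.node 26 [⟨15,(Int.ofNat 1),1⟩] .nil .nil) (.node 35 [⟨17,(Int.ofNat 1),1⟩] .nil .nil)) (.node 42 [⟨21,(Int.negSucc 0),1⟩] (.node 41 [⟨20,(Int.negSucc 0),1⟩] .nil .nil) (.node 86 [⟨44,(Int.ofNat 1),1⟩] .nil .nil)))) (.node 100 [⟨62,(Int.ofNat 1),1⟩] (.node 95 [⟨53,(Int.ofNat 1),1⟩] (.node 92 [⟨49,(Int.negSucc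 0),1⟩] (.node 90 [⟨47,(Int.negSucc 0),1⟩] .nil .nil) (.node 93 [⟨50,(Int.negSucc 0),1⟩] .nil .nil)) (.node 97 [⟨56,(Int.negSucc 0),1⟩] (.node 96 [⟨55,(Int.negSucc 0),1⟩] .nil .nil) (.node 99 [⟨59,(Int.ofNat 1),1⟩] .nil .nil))) (.node 105 [⟨72,(Int.ofNat 1),1⟩] (.node 102 [⟨66,(Int.negSucc 0),1⟩] (.node 101 [⟨65,(Int.negSucc 0),1⟩] .nil .nil) (.node 104 [⟨69,(Int.ofNat 1),1⟩] .nil .nil)) (.node 125 [⟨79,(Int.ofNat 1),1⟩] (.node 106 [⟨76,(Int.ofNat 1),1⟩] .nil .nil) (.node 126 [⟨80,(Int.ofNat 1),1⟩] .nil .nil))))) (.node 196 [⟨156,(Int.negSucc 0),1⟩] (.node 175 [⟨129,(Int.negSucc 0),1⟩] (.node 171 [⟨115,(Int.negSucc 0),1⟩] (.node 146 [⟨85,(Int.ofNat 1),1⟩] (.node 140 [⟨84,(Int.ofNat 1),1⟩] (.node 135 [⟨83,(Int.ofNat 1),1⟩] .nil .nil) .nil) (.node 170 [⟨109,(Int.negSucc 0),1⟩] .nil .nil)) (.node 173 [⟨124,(Int.negSucc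 0),1⟩] (.node 172 [⟨120,(Int.negSucc 0),1⟩] .nil .nil) (.node 174 [⟨0,(Int.negSucc 0),1⟩, ⟨1,(Int.ofNat 0),1⟩, ⟨2,(Int.negSucc 0),1⟩, ⟨3,(Int.negSucc 0),1⟩, ⟨4,(Int.negSucc 0),1⟩, ⟨5,(Int.negSucc 0),1⟩, ⟨6,(Int.ofNat 0),1⟩, ⟨7,(Int.ofNat 0),1⟩, ⟨81,(Int.negSucc 0),2⟩] .nil .nil))) (.node 186 [⟨151,(Int.negSucc 0),1⟩] (.node 179 [⟨149,(Int.negSucc 0),1⟩] (.node 176 [⟨130,(Int.negSucc 0),1⟩] .nil .nil) (.node 183 [⟨150,(Int.negSucc 0),1⟩] .nil .nil)) (.node 190 [⟨154,(Int.ofNat 1),1⟩] (.node 189 [⟨153,(Int.ofNat 1),1⟩] .nil .nil) (.node 193 [⟨155,(Int.negSucc 0),1⟩] .nil .nil)))) (.node 211 [⟨169,(Int.negSucc 0),1⟩] (.node 205 [⟨162,(Int.ofNat 1),1⟩] (.node 200 [⟨159,(Int.ofNat 1),1⟩] (.node 199 [⟨158,(Int.ofNat 1),1⟩] .nil .nil) (.node 202 [⟨160,(Int.negSucc 0),1⟩] .nil .nil)) (.node 208 [⟨165,(Int.ofNat 1),1⟩]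 (.node 206 [⟨163,(Int.ofNat 1),1⟩] .nil .nil) (.node 209 [⟨166,(Int.ofNat 1),1⟩] .nil .nil))) (.node 238 [⟨220,(Int.negSucc 0),1⟩] (.node 235 [⟨214,(Int.ofNat 1),1⟩] (.node 234 [⟨213,(Int.ofNat 1),1⟩] .nil .nil) (.node 237 [⟨217,(Int.negSucc 0),1⟩] .nil .nil)) (.node 240 [⟨229,(Int.negSucc 0),1⟩] (.node 239 [⟨224,(Int.negSucc 0),1⟩] .nil .nil) (.node 245 [⟨233,(Int.ofNat 1),1⟩] .nil .nil))))))
noncomputable def col74 : Tr Cl := (.node 124 [⟨81,(Int.ofNat 1),1⟩] (.node 87 [⟨46,(Int.ofNat 1),1⟩] (.node 22 [⟨11,(Int.negSucc 0),1⟩] (.node 4 [⟨82,(Int.ofNat 1),1⟩] (.node 2 [⟨82,(Int.ofNat 0),1⟩] (.node 1 [⟨82,(Int.negSucc 0),1⟩] (.node 0 [⟨82,(Int.ofNat 1),1⟩] .nil .nil) .nil) (.node 3 [⟨82,(Int.ofNat 0),1⟩] .nil .nil)) (.node 6 [⟨82,(Int.ofNat 0),1⟩] (.node 5 [⟨82,(Int.negSucc 0),1⟩] .nil .nil) (.node 7 [⟨82,(Int.ofNat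 0),1⟩] .nil .nil))) (.node 38 [⟨19,(Int.ofNat 1),1⟩] (.node 30 [⟨16,(Int.negSucc 0),1⟩] (.node 25 [⟨15,(Int.negSucc 0),1⟩] .nil .nil) (.node 34 [⟨17,(Int.negSucc 0),1⟩] .nil .nil)) (.node 40 [⟨21,(Int.ofNat 1),1⟩] (.node 39 [⟨20,(Int.ofNat 1),1⟩] .nil .nil) (.node 86 [⟨45,(Int.ofNat 1),1⟩] .nil .nil)))) (.node 100 [⟨63,(Int.ofNat 1),1⟩] (.node 94 [⟨53,(Int.negSucc 0),1⟩] (.node 92 [⟨51,(Int.negSucc 0),1⟩] (.node 88 [⟨47,(Int.ofNat 1),1⟩] .nil .nil) (.node 93 [⟨52,(Int.negSucc 0),1⟩] .nil .nil)) (.node 97 [⟨58,(Int.negSucc 0),1⟩] (.node 96 [⟨57,(Int.negSucc 0),1⟩] .nil .nil) (.node 98 [⟨59,(Int.negSucc 0),1⟩] .nil .nil))) (.node 105 [⟨73,(Int.ofNat 1),1⟩] (.node 102 [⟨68,(Int.negSucc 0),1⟩] (.node 101 [⟨67,(Int.negSucc 0),1⟩] .nil .nil) (.node 103 [⟨69,(Int.negSucc 0),1⟩] .nil .nil)) (.node 122 [⟨79,(Int.ofNat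 1),1⟩] (.node 106 [⟨77,(Int.ofNat 1),1⟩] .nil .nil) (.node 123 [⟨80,(Int.ofNat 1),1⟩] .nil .nil))))) (.node 196 [⟨157,(Int.ofNat 1),1⟩] (.node 175 [⟨132,(Int.negSucc 0),1⟩] (.node 171 [⟨116,(Int.negSucc 0),1⟩] (.node 145 [⟨85,(Int.ofNat 1),1⟩] (.node 139 [⟨84,(Int.ofNat 1),1⟩] (.node 134 [⟨83,(Int.ofNat 1),1⟩] .nil .nil) .nil) (.node 170 [⟨110,(Int.negSucc 0),1⟩] .nil .nil)) (.node 173 [⟨0,(Int.negSucc 0),1⟩, ⟨1,(Int.ofNat 0),1⟩, ⟨2,(Int.negSucc 0),1⟩, ⟨3,(Int.negSucc 0),1⟩, ⟨4,(Int.negSucc 0),1⟩, ⟨5,(Int.ofNat 0),1⟩, ⟨6,(Int.ofNat 0),1⟩, ⟨7,(Int.ofNat 0),1⟩, ⟨82,(Int.negSucc 0),2⟩] (.node 172 [⟨121,(Int.negSucc 0),1⟩] .nil .nil) (.node 174 [⟨131,(Int.negSucc 0),1⟩] .nil .nil))) (.node 186 [⟨152,(Int.ofNat 1),1⟩] (.node 178 [⟨149,(Int.negSucc 0),1⟩] (.node 176 [⟨133,(Int.negSucc 0),1⟩] .nil .nil) (.node 182 [⟨150,(Int.negSucc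 0),1⟩] .nil .nil)) (.node 188 [⟨154,(Int.ofNat 1),1⟩] (.node 187 [⟨153,(Int.ofNat 1),1⟩] .nil .nil) (.node 192 [⟨155,(Int.negSucc 0),1⟩] .nil .nil)))) (.node 210 [⟨169,(Int.negSucc 0),1⟩] (.node 203 [⟨162,(Int.ofNat 1),1⟩] (.node 198 [⟨159,(Int.ofNat 1),1⟩] (.node 197 [⟨158,(Int.ofNat 1),1⟩] .nil .nil) (.node 202 [⟨161,(Int.ofNat 1),1⟩] .nil .nil)) (.node 208 [⟨167,(Int.negSucc 0),1⟩] (.node 204 [⟨163,(Int.ofNat 1),1⟩] .nil .nil) (.node 209 [⟨168,(Int.negSucc 0),1⟩] .nil .nil))) (.node 238 [⟨221,(Int.ofNat 1),1⟩] (.node 235 [⟨216,(Int.negSucc 0),1⟩] (.node 234 [⟨215,(Int.negSucc 0),1⟩] .nil .nil) (.node 236 [⟨217,(Int.negSucc 0),1⟩] .nil .nil)) (.node 240 [⟨230,(Int.ofNat 1),1⟩] (.node 239 [⟨225,(Int.ofNat 1),1⟩] .nil .nil) (.node 244 [⟨233,(Int.ofNat 1),1⟩] .nil .nil))))))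
noncomputable def col75 : Tr Cl := (.node 120 [⟨81,(Int.ofNat 1),1⟩] (.node 87 [⟨49,(Int.ofNat 1),1⟩] (.node 22 [⟨12,(Int.negSucc 0),1⟩] (.node 4 [⟨83,(Int.negSucc 0),1⟩] (.node 2 [⟨83,(Int.ofNat 0),1⟩] (.node 1 [⟨83,(Int.negSucc 0),1⟩] (.node 0 [⟨83,(Int.ofNat 1),1⟩] .nil .nil) .nil) (.node 3 [⟨83,(Int.ofNat 1),1⟩] .nil .nil)) (.node 6 [⟨83,(Int.ofNat 0),1⟩] (.node 5 [⟨83,(Int.ofNat 0),1⟩] .nil .nil) (.node 7 [⟨83,(Int.ofNat 0),1⟩] .nil .nil))) (.node 35 [⟨19,(Int.negSucc 0),1⟩] (.node 29 [⟨16,(Int.ofNat 1),1⟩] (.node 24 [⟨15,(Int.ofNat 1),1⟩] .nil .nil) (.node 34 [⟨18,(Int.negSucc 0),1⟩] .nil .nil)) (.node 37 [⟨21,(Int.negSucc 0),1⟩] (.node 36 [⟨20,(Int.negSucc 0),1⟩] .nil .nil) (.node 86 [⟨48,(Int.ofNat 1),1⟩] .nil .nil)))) (.node 99 [⟨63,(Int.negSucc 0),1⟩] (.node 91 [⟨53,(Int.ofNat 1),1⟩] (.node 89 [⟨51,(Int.ofNat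 1),1⟩] (.node 88 [⟨50,(Int.ofNat 1),1⟩] .nil .nil) (.node 90 [⟨52,(Int.ofNat 1),1⟩] .nil .nil)) (.node 97 [⟨61,(Int.negSucc 0),1⟩] (.node 96 [⟨60,(Int.negSucc 0),1⟩] .nil .nil) (.node 98 [⟨62,(Int.negSucc 0),1⟩] .nil .nil))) (.node 104 [⟨73,(Int.negSucc 0),1⟩] (.node 102 [⟨71,(Int.negSucc 0),1⟩] (.node 101 [⟨70,(Int.negSucc 0),1⟩] .nil .nil) (.node 103 [⟨72,(Int.negSucc 0),1⟩] .nil .nil)) (.node 118 [⟨79,(Int.ofNat 1),1⟩] (.node 106 [⟨78,(Int.ofNat 1),1⟩] .nil .nil) (.node 119 [⟨80,(Int.ofNat 1),1⟩] .nil .nil))))) (.node 193 [⟨157,(Int.ofNat 1),1⟩] (.node 175 [⟨136,(Int.negSucc 0),1⟩] (.node 171 [⟨117,(Int.negSucc 0),1⟩] (.node 144 [⟨85,(Int.ofNat 1),1⟩] (.node 138 [⟨84,(Int.ofNat 1),1⟩] (.node 121 [⟨82,(Int.ofNat 1),1⟩] .nil .nil) .nil) (.node 170 [⟨111,(Int.negSucc 0),1⟩] .nil .nil)) (.node 173 [⟨134,(Int.negSucc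 0),1⟩] (.node 172 [⟨0,(Int.negSucc 0),1⟩, ⟨1,(Int.ofNat 0),1⟩, ⟨2,(Int.negSucc 0),1⟩, ⟨3,(Int.negSucc 0),1⟩, ⟨4,(Int.ofNat 0),1⟩, ⟨5,(Int.ofNat 0),1⟩, ⟨6,(Int.ofNat 0),1⟩, ⟨7,(Int.ofNat 0),1⟩, ⟨83,(Int.negSucc 0),2⟩] .nil .nil) (.node 174 [⟨135,(Int.negSucc 0),1⟩] .nil .nil))) (.node 183 [⟨152,(Int.ofNat 1),1⟩] (.node 177 [⟨149,(Int.negSucc 0),1⟩] (.node 176 [⟨137,(Int.negSucc 0),1⟩] .nil .nil) (.node 182 [⟨151,(Int.ofNat 1),1⟩] .nil .nil)) (.node 185 [⟨154,(Int.ofNat 1),1⟩] (.node 184 [⟨153,(Int.ofNat 1),1⟩] .nil .nil) (.node 192 [⟨156,(Int.ofNat 1),1⟩] .nil .nil)))) (.node 207 [⟨169,(Int.negSucc 0),1⟩] (.node 203 [⟨165,(Int.negSucc 0),1⟩] (.node 195 [⟨159,(Int.ofNat 1),1⟩] (.node 194 [⟨158,(Int.ofNat 1),1⟩] .nil .nil) (.node 202 [⟨164,(Int.negSucc 0),1⟩] .nil .nil)) (.node 205 [⟨167,(Int.negSucc 0),1⟩] (.node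 204 [⟨166,(Int.negSucc 0),1⟩] .nil .nil) (.node 206 [⟨168,(Int.negSucc 0),1⟩] .nil .nil))) (.node 237 [⟨221,(Int.ofNat 1),1⟩] (.node 235 [⟨219,(Int.ofNat 1),1⟩] (.node 234 [⟨218,(Int.ofNat 1),1⟩] .nil .nil) (.node 236 [⟨220,(Int.ofNat 1),1⟩] .nil .nil)) (.node 240 [⟨231,(Int.negSucc 0),1⟩] (.node 239 [⟨226,(Int.negSucc 0),1⟩] .nil .nil) (.node 243 [⟨233,(Int.ofNat 1),1⟩] .nil .nil))))))
noncomputable def col76 : Tr Cl := (.node 115 [⟨81,(Int.ofNat 1),1⟩] (.node 87 [⟨55,(Int.ofNat 1),1⟩] (.node 22 [⟨13,(Int.negSucc 0),1⟩] (.node 4 [⟨84,(Int.ofNat 0),1⟩] (.node 2 [⟨84,(Int.ofNat 1),1⟩] (.node 1 [⟨84,(Int.ofNat 0),1⟩] (.node 0 [⟨84,(Int.ofNat 1),1⟩] .nil .nil) .nil) (.node 3 [⟨84,(Int.negSucc 0),1⟩] .nil .nil)) (.node 6 [⟨84,(Int.ofNat 0),1⟩] (.node 5 [⟨84,(Int.ofNat 0),1⟩] .nil .nil) (.node 7 [⟨84,(Int.ofNat 0),1⟩]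 .nil .nil))) (.node 31 [⟨19,(Int.ofNat 1),1⟩] (.node 29 [⟨17,(Int.ofNat 1),1⟩] (.node 23 [⟨15,(Int.negSucc 0),1⟩] .nil .nil) (.node 30 [⟨18,(Int.ofNat 1),1⟩] .nil .nil)) (.node 33 [⟨21,(Int.ofNat 1),1⟩] (.node 32 [⟨20,(Int.ofNat 1),1⟩] .nil .nil) (.node 86 [⟨54,(Int.ofNat 1),1⟩] .nil .nil)))) (.node 95 [⟨63,(Int.ofNat 1),1⟩] (.node 91 [⟨59,(Int.ofNat 1),1⟩] (.node 89 [⟨57,(Int.ofNat 1),1⟩] (.node 88 [⟨56,(Int.ofNat 1),1⟩] .nil .nil) (.node 90 [⟨58,(Int.ofNat 1),1⟩] .nil .nil)) (.node 93 [⟨61,(Int.ofNat 1),1⟩] (.node 92 [⟨60,(Int.ofNat 1),1⟩] .nil .nil) (.node 94 [⟨62,(Int.ofNat 1),1⟩] .nil .nil))) (.node 104 [⟨77,(Int.negSucc 0),1⟩] (.node 102 [⟨75,(Int.negSucc 0),1⟩] (.node 101 [⟨74,(Int.negSucc 0),1⟩] .nil .nil) (.node 103 [⟨76,(Int.negSucc 0),1⟩] .nil .nil)) (.node 113 [⟨79,(Int.ofNat 1),1⟩] (.node 105 [⟨78,(Int.negSucc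 0),1⟩] .nil .nil) (.node 114 [⟨80,(Int.ofNat 1),1⟩] .nil .nil))))) (.node 193 [⟨161,(Int.negSucc 0),1⟩] (.node 175 [⟨141,(Int.negSucc 0),1⟩] (.node 171 [⟨0,(Int.negSucc 0),1⟩, ⟨1,(Int.ofNat 0),1⟩, ⟨2,(Int.negSucc 0),1⟩, ⟨3,(Int.ofNat 0),1⟩, ⟨4,(Int.ofNat 0),1⟩, ⟨5,(Int.ofNat 0),1⟩, ⟨6,(Int.ofNat 0),1⟩, ⟨7,(Int.ofNat 0),1⟩, ⟨84,(Int.negSucc 0),2⟩] (.node 143 [⟨85,(Int.ofNat 1),1⟩] (.node 117 [⟨83,(Int.ofNat 1),1⟩] (.node 116 [⟨82,(Int.ofNat 1),1⟩] .nil .nil) .nil) (.node 170 [⟨112,(Int.negSucc 0),1⟩] .nil .nil)) (.node 173 [⟨139,(Int.negSucc 0),1⟩] (.node 172 [⟨138,(Int.negSucc 0),1⟩] .nil .nil) (.node 174 [⟨140,(Int.negSucc 0),1⟩] .nil .nil))) (.node 179 [⟨152,(Int.ofNat 1),1⟩] (.node 177 [⟨150,(Int.ofNat 1),1⟩] (.node 176 [⟨142,(Int.negSucc 0),1⟩] .nil .nil) (.node 178 [⟨151,(Int.ofNat 1),1⟩] .nil .nil)) (.node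 181 [⟨154,(Int.ofNat 1),1⟩] (.node 180 [⟨153,(Int.ofNat 1),1⟩] .nil .nil) (.node 192 [⟨160,(Int.negSucc 0),1⟩] .nil .nil)))) (.node 201 [⟨169,(Int.negSucc 0),1⟩] (.node 197 [⟨165,(Int.negSucc 0),1⟩] (.node 195 [⟨163,(Int.negSucc 0),1⟩] (.node 194 [⟨162,(Int.negSucc 0),1⟩] .nil .nil) (.node 196 [⟨164,(Int.negSucc 0),1⟩] .nil .nil)) (.node 199 [⟨167,(Int.negSucc 0),1⟩] (.node 198 [⟨166,(Int.negSucc 0),1⟩] .nil .nil) (.node 200 [⟨168,(Int.negSucc 0),1⟩] .nil .nil))) (.node 237 [⟨225,(Int.negSucc 0),1⟩] (.node 235 [⟨223,(Int.negSucc 0),1⟩] (.node 234 [⟨222,(Int.negSucc 0),1⟩] .nil .nil) (.node 236 [⟨224,(Int.negSucc 0),1⟩] .nil .nil)) (.node 240 [⟨232,(Int.ofNat 1),1⟩] (.node 238 [⟨226,(Int.negSucc 0),1⟩] .nil .nil) (.node 242 [⟨233,(Int.ofNat 1),1⟩] .nil .nil))))))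
noncomputable def col77 : Tr Cl := (.node 109 [⟨81,(Int.ofNat 1),1⟩] (.node 87 [⟨65,(Int.ofNat 1),1⟩] (.node 22 [⟨14,(Int.negSucc 0),1⟩] (.node 4 [⟨85,(Int.ofNat 0),1⟩] (.node 2 [⟨85,(Int.negSucc 0),1⟩] (.node 1 [⟨85,(Int.ofNat 0),1⟩] (.node 0 [⟨85,(Int.ofNat 2),1⟩] .nil .nil) .nil) (.node 3 [⟨85,(Int.ofNat 0),1⟩] .nil .nil)) (.node 6 [⟨85,(Int.ofNat 0),1⟩] (.node 5 [⟨85,(Int.ofNat 0),1⟩] .nil .nil) (.node 7 [⟨85,(Int.ofNat 0),1⟩] .nil .nil))) (.node 26 [⟨19,(Int.negSucc 0),1⟩] (.node 24 [⟨17,(Int.negSucc 0),1⟩] (.node 23 [⟨16,(Int.negSucc 0),1⟩] .nil .nil) (.node 25 [⟨18,(Int.negSucc 0),1⟩] .nil .nil)) (.node 28 [⟨21,(Int.negSucc 0),1⟩] (.node 27 [⟨20,(Int.negSucc 0),1⟩] .nil .nil) (.node 86 [⟨64,(Int.ofNat 1),1⟩] .nil .nil)))) (.node 95 [⟨73,(Int.ofNat 1),1⟩] (.node 91 [⟨69,(Int.ofNat 1),1⟩] (.node 89 [⟨67,(Int.ofNat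 1),1⟩] (.node 88 [⟨66,(Int.ofNat 1),1⟩] .nil .nil) (.node 90 [⟨68,(Int.ofNat 1),1⟩] .nil .nil)) (.node 93 [⟨71,(Int.ofNat 1),1⟩] (.node 92 [⟨70,(Int.ofNat 1),1⟩] .nil .nil) (.node 94 [⟨72,(Int.ofNat 1),1⟩] .nil .nil))) (.node 99 [⟨77,(Int.ofNat 1),1⟩] (.node 97 [⟨75,(Int.ofNat 1),1⟩] (.node 96 [⟨74,(Int.ofNat 1),1⟩] .nil .nil) (.node 98 [⟨76,(Int.ofNat 1),1⟩] .nil .nil)) (.node 107 [⟨79,(Int.ofNat 1),1⟩] (.node 100 [⟨78,(Int.ofNat 1),1⟩] .nil .nil) (.node 108 [⟨80,(Int.ofNat 1),1⟩] .nil .nil))))) (.node 183 [⟨161,(Int.negSucc 0),1⟩] (.node 175 [⟨147,(Int.negSucc 0),1⟩] (.node 171 [⟨143,(Int.negSucc 0),1⟩] (.node 112 [⟨84,(Int.ofNat 1),1⟩] (.node 111 [⟨83,(Int.ofNat 1),1⟩] (.node 110 [⟨82,(Int.ofNat 1),1⟩] .nil .nil) .nil) (.node 170 [⟨0,(Int.negSucc 0),1⟩, ⟨1,(Int.ofNat 0),1⟩, ⟨2,(Int.ofNat 0),1⟩, ⟨3,(Int.ofNat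 0),1⟩, ⟨4,(Int.ofNat 0),1⟩, ⟨5,(Int.ofNat 0),1⟩, ⟨6,(Int.ofNat 0),1⟩, ⟨7,(Int.ofNat 0),1⟩, ⟨85,(Int.negSucc 0),2⟩] .nil .nil)) (.node 173 [⟨145,(Int.negSucc 0),1⟩] (.node 172 [⟨144,(Int.negSucc 0),1⟩] .nil .nil) (.node 174 [⟨146,(Int.negSucc 0),1⟩] .nil .nil))) (.node 179 [⟨157,(Int.negSucc 0),1⟩] (.node 177 [⟨155,(Int.negSucc 0),1⟩] (.node 176 [⟨148,(Int.negSucc 0),1⟩] .nil .nil) (.node 178 [⟨156,(Int.negSucc 0),1⟩] .nil .nil)) (.node 181 [⟨159,(Int.negSucc 0),1⟩] (.node 180 [⟨158,(Int.negSucc 0),1⟩] .nil .nil) (.node 182 [⟨160,(Int.negSucc 0),1⟩] .nil .nil)))) (.node 191 [⟨169,(Int.negSucc 0),1⟩] (.node 187 [⟨165,(Int.negSucc 0),1⟩] (.node 185 [⟨163,(Int.negSucc 0),1⟩] (.node 184 [⟨162,(Int.negSucc 0),1⟩] .nil .nil) (.node 186 [⟨164,(Int.negSucc 0),1⟩] .nil .nil)) (.node 189 [⟨167,(Int.negSucc 0),1⟩] (.node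 188 [⟨166,(Int.negSucc 0),1⟩] .nil .nil) (.node 190 [⟨168,(Int.negSucc 0),1⟩] .nil .nil))) (.node 237 [⟨230,(Int.ofNat 1),1⟩] (.node 235 [⟨228,(Int.ofNat 1),1⟩] (.node 234 [⟨227,(Int.ofNat 1),1⟩] .nil .nil) (.node 236 [⟨229,(Int.ofNat 1),1⟩] .nil .nil)) (.node 239 [⟨232,(Int.ofNat 1),1⟩] (.node 238 [⟨231,(Int.ofNat 1),1⟩] .nil .nil) (.node 241 [⟨233,(Int.ofNat 1),1⟩] .nil .nil))))))
noncomputable def col78 : Tr Cl := (.node 141 [⟨96,(Int.ofNat 1),1⟩] (.node 72 [⟨30,(Int.negSucc 0),1⟩] (.node 20 [⟨8,(Int.ofNat 1),1⟩] (.node 4 [⟨86,(Int.ofNat 0),1⟩] (.node 2 [⟨86,(Int.ofNat 0),1⟩] (.node 1 [⟨86,(Int.ofNat 0),1⟩] (.node 0 [⟨86,(Int.negSucc 0),1⟩] .nil .nil) .nil) (.node 3 [⟨86,(Int.ofNat 0),1⟩] .nil .nil)) (.node 6 [⟨86,(Int.ofNat 1),1⟩] (.node 5 [⟨86,(Int.ofNat 0),1⟩] .nil .nil) (.node 7 [⟨86,(Int.ofNat 0),1⟩] .nil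 .nil))) (.node 59 [⟨24,(Int.negSucc 0),1⟩] (.node 43 [⟨22,(Int.negSucc 0),1⟩] (.node 21 [⟨9,(Int.ofNat 1),1⟩] .nil .nil) (.node 53 [⟨23,(Int.negSucc 0),1⟩] .nil .nil)) (.node 63 [⟨26,(Int.negSucc 0),1⟩] (.node 62 [⟨25,(Int.negSucc 0),1⟩] .nil .nil) (.node 69 [⟨29,(Int.negSucc 0),1⟩] .nil .nil)))) (.node 84 [⟨54,(Int.negSucc 0),1⟩] (.node 78 [⟨38,(Int.negSucc 0),1⟩] (.node 76 [⟨34,(Int.negSucc 0),1⟩] (.node 73 [⟨31,(Int.negSucc 0),1⟩] .nil .nil) (.node 77 [⟨35,(Int.negSucc 0),1⟩] .nil .nil)) (.node 82 [⟨45,(Int.negSucc 0),1⟩] (.node 81 [⟨44,(Int.negSucc 0),1⟩] .nil .nil) (.node 83 [⟨48,(Int.negSucc 0),1⟩] .nil .nil))) (.node 132 [⟨89,(Int.ofNat 1),1⟩] (.node 129 [⟨87,(Int.ofNat 1),1⟩] (.node 85 [⟨64,(Int.negSucc 0),1⟩] .nil .nil) (.node 130 [⟨88,(Int.negSucc 0),1⟩] .nil .nil)) (.node 136 [⟨92,(Int.ofNat 1),1⟩]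 (.node 133 [⟨90,(Int.negSucc 0),1⟩] .nil .nil) (.node 137 [⟨93,(Int.negSucc 0),1⟩] .nil .nil))))) (.node 207 [⟨172,(Int.ofNat 1),1⟩] (.node 163 [⟨119,(Int.negSucc 0),1⟩] (.node 154 [⟨108,(Int.negSucc 0),1⟩] (.node 148 [⟨102,(Int.negSucc 0),1⟩] (.node 147 [⟨101,(Int.ofNat 1),1⟩] (.node 142 [⟨97,(Int.negSucc 0),1⟩] .nil .nil) .nil) (.node 153 [⟨107,(Int.ofNat 1),1⟩] .nil .nil)) (.node 159 [⟨114,(Int.negSucc 0),1⟩] (.node 158 [⟨113,(Int.ofNat 1),1⟩] .nil .nil) (.node 162 [⟨118,(Int.ofNat 1),1⟩] .nil .nil))) (.node 168 [⟨126,(Int.negSucc 0),1⟩] (.node 166 [⟨123,(Int.negSucc 0),1⟩] (.node 165 [⟨122,(Int.ofNat 1),1⟩] .nil .nil) (.node 167 [⟨125,(Int.ofNat 1),1⟩] .nil .nil)) (.node 191 [⟨170,(Int.ofNat 1),1⟩] (.node 169 [⟨0,(Int.ofNat 0),1⟩, ⟨1,(Int.negSucc 0),1⟩, ⟨2,(Int.negSucc 0),1⟩, ⟨3,(Int.negSucc 1),1⟩, ⟨4,(Int.negSucc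 1),1⟩, ⟨5,(Int.negSucc 1),1⟩, ⟨6,(Int.negSucc 1),1⟩, ⟨7,(Int.negSucc 0),1⟩, ⟨86,(Int.negSucc 0),2⟩] .nil .nil) (.node 201 [⟨171,(Int.ofNat 1),1⟩] .nil .nil)))) (.node 226 [⟨186,(Int.ofNat 1),1⟩] (.node 220 [⟨178,(Int.ofNat 1),1⟩] (.node 211 [⟨174,(Int.ofNat 1),1⟩] (.node 210 [⟨173,(Int.ofNat 1),1⟩] .nil .nil) (.node 217 [⟨177,(Int.ofNat 1),1⟩] .nil .nil)) (.node 224 [⟨182,(Int.ofNat 1),1⟩] (.node 221 [⟨179,(Int.ofNat 1),1⟩] .nil .nil) (.node 225 [⟨183,(Int.ofNat 1),1⟩] .nil .nil))) (.node 232 [⟨202,(Int.ofNat 1),1⟩] (.node 230 [⟨193,(Int.ofNat 1),1⟩] (.node 229 [⟨192,(Int.ofNat 1),1⟩] .nil .nil) (.node 231 [⟨196,(Int.ofNat 1),1⟩] .nil .nil)) (.node 246 [⟨234,(Int.negSucc 0),1⟩] (.node 233 [⟨212,(Int.ofNat 1),1⟩] .nil .nil) (.node 247 [⟨235,(Int.negSucc 0),1⟩] .nil .nil))))))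
noncomputable def col79 : Tr Cl := (.node 140 [⟨96,(Int.ofNat 1),1⟩] (.node 71 [⟨30,(Int.ofNat 1),1⟩] (.node 19 [⟨8,(Int.negSucc 0),1⟩] (.node 4 [⟨87,(Int.ofNat 0),1⟩] (.node 2 [⟨87,(Int.ofNat 0),1⟩] (.node 1 [⟨87,(Int.ofNat 0),1⟩] (.node 0 [⟨87,(Int.negSucc 0),1⟩] .nil .nil) .nil) (.node 3 [⟨87,(Int.ofNat 0),1⟩] .nil .nil)) (.node 6 [⟨87,(Int.negSucc 0),1⟩] (.node 5 [⟨87,(Int.ofNat 1),1⟩] .nil .nil) (.node 7 [⟨87,(Int.ofNat 1),1⟩] .nil .nil))) (.node 58 [⟨24,(Int.ofNat 1),1⟩] (.node 42 [⟨22,(Int.ofNat 1),1⟩] (.node 21 [⟨10,(Int.ofNat 1),1⟩] .nil .nil) (.node 52 [⟨23,(Int.ofNat 1),1⟩] .nil .nil)) (.node 63 [⟨27,(Int.negSucc 0),1⟩] (.node 61 [⟨25,(Int.ofNat 1),1⟩] .nil .nil) (.node 68 [⟨29,(Int.ofNat 1),1⟩] .nil .nil)))) (.node 84 [⟨55,(Int.negSucc 0),1⟩] (.node 78 [⟨39,(Int.negSucc 0),1⟩] (.node 75 [⟨34,(Int.ofNat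 1),1⟩] (.node 73 [⟨32,(Int.negSucc 0),1⟩] .nil .nil) (.node 77 [⟨36,(Int.negSucc 0),1⟩] .nil .nil)) (.node 82 [⟨46,(Int.negSucc 0),1⟩] (.node 80 [⟨44,(Int.ofNat 1),1⟩] .nil .nil) (.node 83 [⟨49,(Int.negSucc 0),1⟩] .nil .nil))) (.node 131 [⟨89,(Int.ofNat 1),1⟩] (.node 126 [⟨86,(Int.ofNat 1),1⟩] (.node 85 [⟨65,(Int.negSucc 0),1⟩] .nil .nil) (.node 128 [⟨88,(Int.ofNat 1),1⟩] .nil .nil)) (.node 135 [⟨92,(Int.ofNat 1),1⟩] (.node 133 [⟨91,(Int.negSucc 0),1⟩] .nil .nil) (.node 137 [⟨94,(Int.negSucc 0),1⟩] .nil .nil))))) (.node 206 [⟨172,(Int.ofNat 1),1⟩] (.node 163 [⟨120,(Int.negSucc 0),1⟩] (.node 154 [⟨109,(Int.negSucc 0),1⟩] (.node 148 [⟨103,(Int.negSucc 0),1⟩] (.node 146 [⟨101,(Int.ofNat 1),1⟩] (.node 142 [⟨98,(Int.negSucc 0),1⟩] .nil .nil) .nil) (.node 152 [⟨107,(Int.ofNat 1),1⟩] .nil .nil)) (.node 159 [⟨115,(Int.negSucc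 0),1⟩] (.node 157 [⟨113,(Int.ofNat 1),1⟩] .nil .nil) (.node 161 [⟨118,(Int.ofNat 1),1⟩] .nil .nil))) (.node 168 [⟨0,(Int.ofNat 0),1⟩, ⟨1,(Int.negSucc 0),1⟩, ⟨2,(Int.negSucc 0),1⟩, ⟨3,(Int.negSucc 1),1⟩, ⟨4,(Int.negSucc 1),1⟩, ⟨5,(Int.negSucc 1),1⟩, ⟨6,(Int.negSucc 0),1⟩, ⟨7,(Int.negSucc 0),1⟩, ⟨87,(Int.negSucc 0),2⟩] (.node 166 [⟨124,(Int.negSucc 0),1⟩] (.node 164 [⟨122,(Int.ofNat 1),1⟩] .nil .nil) (.node 167 [⟨127,(Int.negSucc 0),1⟩] .nil .nil)) (.node 190 [⟨170,(Int.ofNat 1),1⟩] (.node 169 [⟨129,(Int.negSucc 0),1⟩] .nil .nil) (.node 200 [⟨171,(Int.ofNat 1),1⟩] .nil .nil)))) (.node 226 [⟨187,(Int.negSucc 0),1⟩] (.node 219 [⟨178,(Int.ofNat 1),1⟩] (.node 211 [⟨175,(Int.negSucc 0),1⟩] (.node 209 [⟨173,(Int.ofNat 1),1⟩] .nil .nil) (.node 216 [⟨177,(Int.ofNat 1),1⟩] .nil .nil)) (.node 223 [⟨182,(Int.ofNat 1),1⟩] (.node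 221 [⟨180,(Int.negSucc 0),1⟩] .nil .nil) (.node 225 [⟨184,(Int.negSucc 0),1⟩] .nil .nil))) (.node 232 [⟨203,(Int.negSucc 0),1⟩] (.node 230 [⟨194,(Int.negSucc 0),1⟩] (.node 228 [⟨192,(Int.ofNat 1),1⟩] .nil .nil) (.node 231 [⟨197,(Int.negSucc 0),1⟩] .nil .nil)) (.node 245 [⟨234,(Int.negSucc 0),1⟩] (.node 233 [⟨213,(Int.negSucc 0),1⟩] .nil .nil) (.node 247 [⟨236,(Int.ofNat 1),1⟩] .nil .nil))))))
noncomputable def col80 : Tr Cl := (.node 140 [⟨97,(Int.ofNat 1),1⟩] (.node 70 [⟨30,(Int.negSucc 0),1⟩] (.node 19 [⟨9,(Int.negSucc 0),1⟩] (.node 4 [⟨88,(Int.ofNat 0),1⟩] (.node 2 [⟨88,(Int.ofNat 0),1⟩] (.node 1 [⟨88,(Int.ofNat 0),1⟩] (.node 0 [⟨88,(Int.negSucc 0),1⟩] .nil .nil) .nil) (.node 3 [⟨88,(Int.ofNat 0),1⟩] .nil .nil)) (.node 6 [⟨88,(Int.ofNat 0),1⟩] (.node 5 [⟨88,(Int.ofNat 1),1⟩] .nil .nil) (.node 7 [⟨88,(Int.negSucc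 0),1⟩] .nil .nil))) (.node 57 [⟨24,(Int.negSucc 0),1⟩] (.node 41 [⟨22,(Int.negSucc 0),1⟩] (.node 20 [⟨10,(Int.negSucc 0),1⟩] .nil .nil) (.node 51 [⟨23,(Int.negSucc 0),1⟩] .nil .nil)) (.node 63 [⟨28,(Int.negSucc 0),1⟩] (.node 60 [⟨25,(Int.negSucc 0),1⟩] .nil .nil) (.node 67 [⟨29,(Int.negSucc 0),1⟩] .nil .nil)))) (.node 84 [⟨56,(Int.negSucc 0),1⟩] (.node 78 [⟨40,(Int.negSucc 0),1⟩] (.node 74 [⟨34,(Int.negSucc 0),1⟩] (.node 73 [⟨33,(Int.negSucc 0),1⟩] .nil .nil) (.node 77 [⟨37,(Int.negSucc 0),1⟩] .nil .nil)) (.node 82 [⟨47,(Int.negSucc 0),1⟩] (.node 79 [⟨44,(Int.negSucc 0),1⟩] .nil .nil) (.node 83 [⟨50,(Int.negSucc 0),1⟩] .nil .nil))) (.node 131 [⟨90,(Int.ofNat 1),1⟩] (.node 125 [⟨86,(Int.negSucc 0),1⟩] (.node 85 [⟨66,(Int.negSucc 0),1⟩] .nil .nil) (.node 127 [⟨87,(Int.ofNat 1),1⟩] .nil .nil)) (.node 135 [⟨93,(Int.ofNat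 1),1⟩] (.node 132 [⟨91,(Int.negSucc 0),1⟩] .nil .nil) (.node 136 [⟨94,(Int.negSucc 0),1⟩] .nil .nil))))) (.node 205 [⟨172,(Int.ofNat 1),1⟩] (.node 162 [⟨120,(Int.negSucc 0),1⟩] (.node 153 [⟨109,(Int.negSucc 0),1⟩] (.node 147 [⟨103,(Int.negSucc 0),1⟩] (.node 146 [⟨102,(Int.ofNat 1),1⟩] (.node 141 [⟨98,(Int.negSucc 0),1⟩] .nil .nil) .nil) (.node 152 [⟨108,(Int.ofNat 1),1⟩] .nil .nil)) (.node 158 [⟨115,(Int.negSucc 0),1⟩] (.node 157 [⟨114,(Int.ofNat 1),1⟩] .nil .nil) (.node 161 [⟨119,(Int.ofNat 1),1⟩] .nil .nil))) (.node 168 [⟨128,(Int.negSucc 0),1⟩] (.node 165 [⟨124,(Int.negSucc 0),1⟩] (.node 164 [⟨123,(Int.ofNat 1),1⟩] .nil .nil) (.node 167 [⟨0,(Int.ofNat 0),1⟩, ⟨1,(Int.negSucc 0),1⟩, ⟨2,(Int.negSucc 0),1⟩, ⟨3,(Int.negSucc 1),1⟩, ⟨4,(Int.negSucc 1),1⟩, ⟨5,(Int.negSucc 1),1⟩, ⟨6,(Int.negSucc 0),1⟩, ⟨7,(Int.ofNat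 0),1⟩, ⟨88,(Int.negSucc 0),2⟩] .nil .nil)) (.node 189 [⟨170,(Int.ofNat 1),1⟩] (.node 169 [⟨130,(Int.ofNat 1),1⟩] .nil .nil) (.node 199 [⟨171,(Int.ofNat 1),1⟩] .nil .nil)))) (.node 226 [⟨188,(Int.ofNat 1),1⟩] (.node 218 [⟨178,(Int.ofNat 1),1⟩] (.node 211 [⟨176,(Int.ofNat 1),1⟩] (.node 208 [⟨173,(Int.ofNat 1),1⟩] .nil .nil) (.node 215 [⟨177,(Int.ofNat 1),1⟩] .nil .nil)) (.node 222 [⟨182,(Int.ofNat 1),1⟩] (.node 221 [⟨181,(Int.ofNat 1),1⟩] .nil .nil) (.node 225 [⟨185,(Int.ofNat 1),1⟩] .nil .nil))) (.node 232 [⟨204,(Int.ofNat 1),1⟩] (.node 230 [⟨195,(Int.ofNat 1),1⟩] (.node 227 [⟨192,(Int.ofNat 1),1⟩] .nil .nil) (.node 231 [⟨198,(Int.ofNat 1),1⟩] .nil .nil)) (.node 245 [⟨235,(Int.ofNat 1),1⟩] (.node 233 [⟨214,(Int.ofNat 1),1⟩] .nil .nil) (.node 246 [⟨236,(Int.ofNat 1),1⟩] .nil .nil))))))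
noncomputable def col81 : Tr Cl := (.node 139 [⟨96,(Int.ofNat 1),1⟩] (.node 71 [⟨31,(Int.ofNat 1),1⟩] (.node 18 [⟨8,(Int.ofNat 1),1⟩] (.node 4 [⟨89,(Int.ofNat 1),1⟩] (.node 2 [⟨89,(Int.ofNat 0),1⟩] (.node 1 [⟨89,(Int.ofNat 0),1⟩] (.node 0 [⟨89,(Int.negSucc 0),1⟩] .nil .nil) .nil) (.node 3 [⟨89,(Int.ofNat 0),1⟩] .nil .nil)) (.node 6 [⟨89,(Int.ofNat 0),1⟩] (.node 5 [⟨89,(Int.negSucc 0),1⟩] .nil .nil) (.node 7 [⟨89,(Int.ofNat 1),1⟩] .nil .nil))) (.node 56 [⟨24,(Int.negSucc 0),1⟩] (.node 40 [⟨22,(Int.negSucc 0),1⟩] (.node 21 [⟨11,(Int.ofNat 1),1⟩] .nil .nil) (.node 50 [⟨23,(Int.negSucc 0),1⟩] .nil .nil)) (.node 62 [⟨27,(Int.ofNat 1),1⟩] (.node 61 [⟨26,(Int.ofNat 1),1⟩] .nil .nil) (.node 66 [⟨29,(Int.negSucc 0),1⟩] .nil .nil)))) (.node 84 [⟨57,(Int.negSucc 0),1⟩] (.node 78 [⟨41,(Int.negSucc 0),1⟩] (.node 75 [⟨35,(Int.ofNat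 1),1⟩] (.node 72 [⟨32,(Int.ofNat 1),1⟩] .nil .nil) (.node 76 [⟨36,(Int.ofNat 1),1⟩] .nil .nil)) (.node 81 [⟨46,(Int.ofNat 1),1⟩] (.node 80 [⟨45,(Int.ofNat 1),1⟩] .nil .nil) (.node 83 [⟨51,(Int.negSucc 0),1⟩] .nil .nil))) (.node 128 [⟨90,(Int.ofNat 1),1⟩] (.node 123 [⟨86,(Int.ofNat 1),1⟩] (.node 85 [⟨67,(Int.negSucc 0),1⟩] .nil .nil) (.node 124 [⟨87,(Int.ofNat 1),1⟩] .nil .nil)) (.node 134 [⟨92,(Int.ofNat 1),1⟩] (.node 130 [⟨91,(Int.ofNat 1),1⟩] .nil .nil) (.node 137 [⟨95,(Int.negSucc 0),1⟩] .nil .nil))))) (.node 204 [⟨172,(Int.ofNat 1),1⟩] (.node 163 [⟨121,(Int.negSucc 0),1⟩] (.node 154 [⟨110,(Int.negSucc 0),1⟩] (.node 148 [⟨104,(Int.negSucc 0),1⟩] (.node 145 [⟨101,(Int.ofNat 1),1⟩] (.node 142 [⟨99,(Int.negSucc 0),1⟩] .nil .nil) .nil) (.node 151 [⟨107,(Int.ofNat 1),1⟩] .nil .nil)) (.node 159 [⟨116,(Int.negSucc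 0),1⟩] (.node 156 [⟨113,(Int.ofNat 1),1⟩] .nil .nil) (.node 160 [⟨118,(Int.ofNat 1),1⟩] .nil .nil))) (.node 168 [⟨131,(Int.negSucc 0),1⟩] (.node 165 [⟨127,(Int.negSucc 0),1⟩] (.node 164 [⟨125,(Int.negSucc 0),1⟩] .nil .nil) (.node 166 [⟨0,(Int.ofNat 0),1⟩, ⟨1,(Int.negSucc 0),1⟩, ⟨2,(Int.negSucc 0),1⟩, ⟨3,(Int.negSucc 1),1⟩, ⟨4,(Int.negSucc 1),1⟩, ⟨5,(Int.negSucc 0),1⟩, ⟨6,(Int.negSucc 0),1⟩, ⟨7,(Int.negSucc 0),1⟩, ⟨89,(Int.negSucc 0),2⟩] .nil .nil)) (.node 188 [⟨170,(Int.ofNat 1),1⟩] (.node 169 [⟨132,(Int.negSucc 0),1⟩] .nil .nil) (.node 198 [⟨171,(Int.ofNat 1),1⟩] .nil .nil)))) (.node 226 [⟨189,(Int.ofNat 1),1⟩] (.node 219 [⟨179,(Int.negSucc 0),1⟩] (.node 210 [⟨175,(Int.negSucc 0),1⟩] (.node 209 [⟨174,(Int.negSucc 0),1⟩] .nil .nil) (.node 214 [⟨177,(Int.ofNat 1),1⟩] .nil .nil)) (.node 223 [⟨183,(Int.negSucc 0),1⟩]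 (.node 220 [⟨180,(Int.negSucc 0),1⟩] .nil .nil) (.node 224 [⟨184,(Int.negSucc 0),1⟩] .nil .nil))) (.node 232 [⟨205,(Int.ofNat 1),1⟩] (.node 229 [⟨194,(Int.negSucc 0),1⟩] (.node 228 [⟨193,(Int.negSucc 0),1⟩] .nil .nil) (.node 231 [⟨199,(Int.ofNat 1),1⟩] .nil .nil)) (.node 244 [⟨234,(Int.negSucc 0),1⟩] (.node 233 [⟨215,(Int.ofNat 1),1⟩] .nil .nil) (.node 247 [⟨237,(Int.negSucc 0),1⟩] .nil .nil))))))
noncomputable def col82 : Tr Cl := (.node 139 [⟨97,(Int.ofNat 1),1⟩] (.node 70 [⟨31,(Int.negSucc 0),1⟩] (.node 18 [⟨9,(Int.ofNat 1),1⟩] (.node 4 [⟨90,(Int.ofNat 1),1⟩] (.node 2 [⟨90,(Int.ofNat 0),1⟩] (.node 1 [⟨90,(Int.ofNat 0),1⟩] (.node 0 [⟨90,(Int.negSucc 0),1⟩] .nil .nil) .nil) (.node 3 [⟨90,(Int.ofNat 0),1⟩] .nil .nil)) (.node 6 [⟨90,(Int.ofNat 1),1⟩] (.node 5 [⟨90,(Int.negSucc 0),1⟩] .nil .nil) (.node 7 [⟨90,(Int.negSucc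 0),1⟩] .nil .nil))) (.node 55 [⟨24,(Int.ofNat 1),1⟩] (.node 39 [⟨22,(Int.ofNat 1),1⟩] (.node 20 [⟨11,(Int.negSucc 0),1⟩] .nil .nil) (.node 49 [⟨23,(Int.ofNat 1),1⟩] .nil .nil)) (.node 62 [⟨28,(Int.ofNat 1),1⟩] (.node 60 [⟨26,(Int.negSucc 0),1⟩] .nil .nil) (.node 65 [⟨29,(Int.ofNat 1),1⟩] .nil .nil)))) (.node 84 [⟨58,(Int.negSucc 0),1⟩] (.node 78 [⟨42,(Int.negSucc 0),1⟩] (.node 74 [⟨35,(Int.negSucc 0),1⟩] (.node 72 [⟨33,(Int.ofNat 1),1⟩] .nil .nil) (.node 76 [⟨37,(Int.ofNat 1),1⟩] .nil .nil)) (.node 81 [⟨47,(Int.ofNat 1),1⟩] (.node 79 [⟨45,(Int.negSucc 0),1⟩] .nil .nil) (.node 83 [⟨52,(Int.negSucc 0),1⟩] .nil .nil))) (.node 127 [⟨89,(Int.ofNat 1),1⟩] (.node 122 [⟨86,(Int.negSucc 0),1⟩] (.node 85 [⟨68,(Int.negSucc 0),1⟩] .nil .nil) (.node 124 [⟨88,(Int.ofNat 1),1⟩] .nil .nil)) (.node 134 [⟨93,(Int.ofNat 1),1⟩] (.node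 129 [⟨91,(Int.ofNat 1),1⟩] .nil .nil) (.node 136 [⟨95,(Int.negSucc 0),1⟩] .nil .nil))))) (.node 203 [⟨172,(Int.ofNat 1),1⟩] (.node 162 [⟨121,(Int.negSucc 0),1⟩] (.node 153 [⟨110,(Int.negSucc 0),1⟩] (.node 147 [⟨104,(Int.negSucc 0),1⟩] (.node 145 [⟨102,(Int.ofNat 1),1⟩] (.node 141 [⟨99,(Int.negSucc 0),1⟩] .nil .nil) .nil) (.node 151 [⟨108,(Int.ofNat 1),1⟩] .nil .nil)) (.node 158 [⟨116,(Int.negSucc 0),1⟩] (.node 156 [⟨114,(Int.ofNat 1),1⟩] .nil .nil) (.node 160 [⟨119,(Int.ofNat 1),1⟩] .nil .nil))) (.node 167 [⟨131,(Int.negSucc 0),1⟩] (.node 165 [⟨0,(Int.ofNat 0),1⟩, ⟨1,(Int.negSucc 0),1⟩, ⟨2,(Int.negSucc 0),1⟩, ⟨3,(Int.negSucc 1),1⟩, ⟨4,(Int.negSucc 1),1⟩, ⟨5,(Int.negSucc 0),1⟩, ⟨6,(Int.negSucc 0),1⟩, ⟨7,(Int.ofNat 0),1⟩, ⟨90,(Int.negSucc 0),2⟩] (.node 164 [⟨126,(Int.negSucc 0),1⟩] .nil .nil) (.node 166 [⟨128,(Int.negSucc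 0),1⟩] .nil .nil)) (.node 187 [⟨170,(Int.ofNat 1),1⟩] (.node 169 [⟨133,(Int.ofNat 1),1⟩] .nil .nil) (.node 197 [⟨171,(Int.ofNat 1),1⟩] .nil .nil)))) (.node 226 [⟨190,(Int.negSucc 0),1⟩] (.node 218 [⟨179,(Int.negSucc 0),1⟩] (.node 210 [⟨176,(Int.ofNat 1),1⟩] (.node 208 [⟨174,(Int.negSucc 0),1⟩] .nil .nil) (.node 213 [⟨177,(Int.ofNat 1),1⟩] .nil .nil)) (.node 222 [⟨183,(Int.negSucc 0),1⟩] (.node 220 [⟨181,(Int.ofNat 1),1⟩] .nil .nil) (.node 224 [⟨185,(Int.ofNat 1),1⟩] .nil .nil))) (.node 232 [⟨206,(Int.negSucc 0),1⟩] (.node 229 [⟨195,(Int.ofNat 1),1⟩] (.node 227 [⟨193,(Int.negSucc 0),1⟩] .nil .nil) (.node 231 [⟨200,(Int.negSucc 0),1⟩] .nil .nil)) (.node 244 [⟨235,(Int.ofNat 1),1⟩] (.node 233 [⟨216,(Int.negSucc 0),1⟩] .nil .nil) (.node 246 [⟨237,(Int.negSucc 0),1⟩] .nil .nil))))))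
noncomputable def col83 : Tr Cl := (.node 139 [⟨98,(Int.ofNat 1),1⟩] (.node 70 [⟨32,(Int.negSucc 0),1⟩] (.node 18 [⟨10,(Int.ofNat 1),1⟩] (.node 4 [⟨91,(Int.ofNat 1),1⟩] (.node 2 [⟨91,(Int.ofNat 0),1⟩] (.node 1 [⟨91,(Int.ofNat 0),1⟩] (.node 0 [⟨91,(Int.negSucc 0),1⟩] .nil .nil) .nil) (.node 3 [⟨91,(Int.ofNat 0),1⟩] .nil .nil)) (.node 6 [⟨91,(Int.negSucc 0),1⟩] (.node 5 [⟨91,(Int.ofNat 0),1⟩] .nil .nil) (.node 7 [⟨91,(Int.ofNat 0),1⟩] .nil .nil))) (.node 54 [⟨24,(Int.negSucc 0),1⟩] (.node 38 [⟨22,(Int.negSucc 0),1⟩] (.node 19 [⟨11,(Int.ofNat 1),1⟩] .nil .nil) (.node 48 [⟨23,(Int.negSucc 0),1⟩] .nil .nil)) (.node 61 [⟨28,(Int.negSucc 0),1⟩] (.node 60 [⟨27,(Int.negSucc 0),1⟩] .nil .nil) (.node 64 [⟨29,(Int.negSucc 0),1⟩] .nil .nil)))) (.node 84 [⟨59,(Int.negSucc 0),1⟩] (.node 78 [⟨43,(Int.negSucc 0),1⟩] (.node 74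 [⟨36,(Int.negSucc 0),1⟩] (.node 71 [⟨33,(Int.negSucc 0),1⟩] .nil .nil) (.node 75 [⟨37,(Int.negSucc 0),1⟩] .nil .nil)) (.node 80 [⟨47,(Int.negSucc 0),1⟩] (.node 79 [⟨46,(Int.negSucc 0),1⟩] .nil .nil) (.node 83 [⟨53,(Int.negSucc 0),1⟩] .nil .nil))) (.node 125 [⟨89,(Int.ofNat 1),1⟩] (.node 122 [⟨87,(Int.negSucc 0),1⟩] (.node 85 [⟨69,(Int.negSucc 0),1⟩] .nil .nil) (.node 123 [⟨88,(Int.negSucc 0),1⟩] .nil .nil)) (.node 134 [⟨94,(Int.ofNat 1),1⟩] (.node 126 [⟨90,(Int.ofNat 1),1⟩] .nil .nil) (.node 135 [⟨95,(Int.negSucc 0),1⟩] .nil .nil))))) (.node 202 [⟨172,(Int.ofNat 1),1⟩] (.node 161 [⟨121,(Int.negSucc 0),1⟩] (.node 152 [⟨110,(Int.negSucc 0),1⟩] (.node 146 [⟨104,(Int.negSucc 0),1⟩] (.node 145 [⟨103,(Int.ofNat 1),1⟩] (.node 140 [⟨99,(Int.negSucc 0),1⟩] .nil .nil) .nil) (.node 151 [⟨109,(Int.ofNat 1),1⟩] .nil .nil))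 (.node 157 [⟨116,(Int.negSucc 0),1⟩] (.node 156 [⟨115,(Int.ofNat 1),1⟩] .nil .nil) (.node 160 [⟨120,(Int.ofNat 1),1⟩] .nil .nil))) (.node 167 [⟨132,(Int.ofNat 1),1⟩] (.node 165 [⟨129,(Int.negSucc 0),1⟩] (.node 164 [⟨0,(Int.ofNat 0),1⟩, ⟨1,(Int.negSucc 0),1⟩, ⟨2,(Int.negSucc 0),1⟩, ⟨3,(Int.negSucc 1),1⟩, ⟨4,(Int.negSucc 1),1⟩, ⟨5,(Int.negSucc 0),1⟩, ⟨6,(Int.ofNat 0),1⟩, ⟨7,(Int.ofNat 0),1⟩, ⟨91,(Int.negSucc 0),2⟩] .nil .nil) (.node 166 [⟨130,(Int.negSucc 0),1⟩] .nil .nil)) (.node 186 [⟨170,(Int.ofNat 1),1⟩] (.node 168 [⟨133,(Int.ofNat 1),1⟩] .nil .nil) (.node 196 [⟨171,(Int.ofNat 1),1⟩] .nil .nil)))) (.node 226 [⟨191,(Int.ofNat 1),1⟩] (.node 218 [⟨180,(Int.ofNat 1),1⟩] (.node 209 [⟨176,(Int.ofNat 1),1⟩] (.node 208 [⟨175,(Int.ofNat 1),1⟩] .nil .nil) (.node 212 [⟨177,(Int.ofNat 1),1⟩] .nil .nil)) (.node 222 [⟨184,(Int.ofNat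 1),1⟩] (.node 219 [⟨181,(Int.ofNat 1),1⟩] .nil .nil) (.node 223 [⟨185,(Int.ofNat 1),1⟩] .nil .nil))) (.node 232 [⟨207,(Int.ofNat 1),1⟩] (.node 228 [⟨195,(Int.ofNat 1),1⟩] (.node 227 [⟨194,(Int.ofNat 1),1⟩] .nil .nil) (.node 231 [⟨201,(Int.ofNat 1),1⟩] .nil .nil)) (.node 244 [⟨236,(Int.negSucc 0),1⟩] (.node 233 [⟨217,(Int.ofNat 1),1⟩] .nil .nil) (.node 245 [⟨237,(Int.negSucc 0),1⟩] .nil .nil))))))
noncomputable def col84 : Tr Cl := (.node 138 [⟨96,(Int.ofNat 1),1⟩] (.node 68 [⟨31,(Int.negSucc 0),1⟩] (.node 17 [⟨8,(Int.negSucc 0),1⟩] (.node 4 [⟨92,(Int.negSucc 0),1⟩] (.node 2 [⟨92,(Int.ofNat 0),1⟩] (.node 1 [⟨92,(Int.ofNat 0),1⟩] (.node 0 [⟨92,(Int.negSucc 0),1⟩] .nil .nil) .nil) (.node 3 [⟨92,(Int.ofNat 1),1⟩] .nil .nil)) (.node 6 [⟨92,(Int.ofNat 0),1⟩] (.node 5 [⟨92,(Int.ofNat 0),1⟩] .nil .nil) (.node 7 [⟨92,(Int.ofNat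 1),1⟩] .nil .nil))) (.node 56 [⟨25,(Int.negSucc 0),1⟩] (.node 37 [⟨22,(Int.ofNat 1),1⟩] (.node 21 [⟨12,(Int.ofNat 1),1⟩] .nil .nil) (.node 47 [⟨23,(Int.ofNat 1),1⟩] .nil .nil)) (.node 59 [⟨27,(Int.negSucc 0),1⟩] (.node 58 [⟨26,(Int.negSucc 0),1⟩] .nil .nil) (.node 66 [⟨30,(Int.negSucc 0),1⟩] .nil .nil)))) (.node 84 [⟨60,(Int.negSucc 0),1⟩] (.node 77 [⟨41,(Int.ofNat 1),1⟩] (.node 75 [⟨38,(Int.ofNat 1),1⟩] (.node 69 [⟨32,(Int.negSucc 0),1⟩] .nil .nil) (.node 76 [⟨39,(Int.ofNat 1),1⟩] .nil .nil)) (.node 81 [⟨49,(Int.ofNat 1),1⟩] (.node 80 [⟨48,(Int.ofNat 1),1⟩] .nil .nil) (.node 82 [⟨51,(Int.ofNat 1),1⟩] .nil .nil))) (.node 121 [⟨89,(Int.ofNat 1),1⟩] (.node 119 [⟨86,(Int.ofNat 1),1⟩] (.node 85 [⟨70,(Int.negSucc 0),1⟩] .nil .nil) (.node 120 [⟨87,(Int.ofNat 1),1⟩] .nil .nil)) (.node 130 [⟨94,(Int.ofNat 1),1⟩] (.node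 128 [⟨93,(Int.ofNat 1),1⟩] .nil .nil) (.node 133 [⟨95,(Int.ofNat 1),1⟩] .nil .nil))))) (.node 204 [⟨173,(Int.negSucc 0),1⟩] (.node 161 [⟨125,(Int.negSucc 0),1⟩] (.node 154 [⟨111,(Int.negSucc 0),1⟩] (.node 148 [⟨105,(Int.negSucc 0),1⟩] (.node 144 [⟨101,(Int.ofNat 1),1⟩] (.node 142 [⟨100,(Int.negSucc 0),1⟩] .nil .nil) .nil) (.node 150 [⟨107,(Int.ofNat 1),1⟩] .nil .nil)) (.node 159 [⟨117,(Int.negSucc 0),1⟩] (.node 155 [⟨113,(Int.ofNat 1),1⟩] .nil .nil) (.node 160 [⟨122,(Int.negSucc 0),1⟩] .nil .nil))) (.node 168 [⟨135,(Int.negSucc 0),1⟩] (.node 163 [⟨0,(Int.ofNat 0),1⟩, ⟨1,(Int.negSucc 0),1⟩, ⟨2,(Int.negSucc 0),1⟩, ⟨3,(Int.negSucc 1),1⟩, ⟨4,(Int.negSucc 0),1⟩, ⟨5,(Int.negSucc 0),1⟩, ⟨6,(Int.negSucc 0),1⟩, ⟨7,(Int.negSucc 0),1⟩, ⟨92,(Int.negSucc 0),2⟩] (.node 162 [⟨127,(Int.negSucc 0),1⟩] .nil .nil) (.node 166 [⟨134,(Int.negSucc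 0),1⟩] .nil .nil)) (.node 185 [⟨170,(Int.ofNat 1),1⟩] (.node 169 [⟨136,(Int.negSucc 0),1⟩] .nil .nil) (.node 195 [⟨171,(Int.ofNat 1),1⟩] .nil .nil)))) (.node 225 [⟨189,(Int.ofNat 1),1⟩] (.node 216 [⟨179,(Int.negSucc 0),1⟩] (.node 207 [⟨175,(Int.negSucc 0),1⟩] (.node 206 [⟨174,(Int.negSucc 0),1⟩] .nil .nil) (.node 214 [⟨178,(Int.negSucc 0),1⟩] .nil .nil)) (.node 223 [⟨186,(Int.ofNat 1),1⟩] (.node 217 [⟨180,(Int.negSucc 0),1⟩] .nil .nil) (.node 224 [⟨187,(Int.ofNat 1),1⟩] .nil .nil))) (.node 232 [⟨208,(Int.negSucc 0),1⟩] (.node 229 [⟨197,(Int.ofNat 1),1⟩] (.node 228 [⟨196,(Int.ofNat 1),1⟩] .nil .nil) (.node 230 [⟨199,(Int.ofNat 1),1⟩] .nil .nil)) (.node 243 [⟨234,(Int.negSucc 0),1⟩] (.node 233 [⟨218,(Int.negSucc 0),1⟩] .nil .nil) (.node 247 [⟨238,(Int.ofNat 1),1⟩] .nil .nil))))))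
noncomputable def col85 : Tr Cl := (.node 138 [⟨97,(Int.ofNat 1),1⟩] (.node 67 [⟨31,(Int.ofNat 1),1⟩] (.node 17 [⟨9,(Int.negSucc 0),1⟩] (.node 4 [⟨93,(Int.negSucc 0),1⟩] (.node 2 [⟨93,(Int.ofNat 0),1⟩] (.node 1 [⟨93,(Int.ofNat 0),1⟩] (.node 0 [⟨93,(Int.negSucc 0),1⟩] .nil .nil) .nil) (.node 3 [⟨93,(Int.ofNat 1),1⟩] .nil .nil)) (.node 6 [⟨93,(Int.ofNat 1),1⟩] (.node 5 [⟨93,(Int.ofNat 0),1⟩] .nil .nil) (.node 7 [⟨93,(Int.negSucc 0),1⟩] .nil .nil))) (.node 55 [⟨25,(Int.ofNat 1),1⟩] (.node 36 [⟨22,(Int.negSucc 0),1⟩] (.node 20 [⟨12,(Int.negSucc 0),1⟩] .nil .nil) (.node 46 [⟨23,(Int.negSucc 0),1⟩] .nil .nil)) (.node 59 [⟨28,(Int.negSucc 0),1⟩] (.node 57 [⟨26,(Int.ofNat 1),1⟩] .nil .nil) (.node 65 [⟨30,(Int.ofNat 1),1⟩] .nil .nil)))) (.node 84 [⟨61,(Int.negSucc 0),1⟩] (.node 77 [⟨42,(Int.ofNat 1),1⟩] (.node 74 [⟨38,(Int.negSucc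 0),1⟩] (.node 69 [⟨33,(Int.negSucc 0),1⟩] .nil .nil) (.node 76 [⟨40,(Int.ofNat 1),1⟩] .nil .nil)) (.node 81 [⟨50,(Int.ofNat 1),1⟩] (.node 79 [⟨48,(Int.negSucc 0),1⟩] .nil .nil) (.node 82 [⟨52,(Int.ofNat 1),1⟩] .nil .nil))) (.node 121 [⟨90,(Int.ofNat 1),1⟩] (.node 118 [⟨86,(Int.negSucc 0),1⟩] (.node 85 [⟨71,(Int.negSucc 0),1⟩] .nil .nil) (.node 120 [⟨88,(Int.ofNat 1),1⟩] .nil .nil)) (.node 129 [⟨94,(Int.ofNat 1),1⟩] (.node 127 [⟨92,(Int.ofNat 1),1⟩] .nil .nil) (.node 132 [⟨95,(Int.ofNat 1),1⟩] .nil .nil))))) (.node 203 [⟨173,(Int.negSucc 0),1⟩] (.node 161 [⟨126,(Int.negSucc 0),1⟩] (.node 153 [⟨111,(Int.negSucc 0),1⟩] (.node 147 [⟨105,(Int.negSucc 0),1⟩] (.node 144 [⟨102,(Int.ofNat 1),1⟩] (.node 141 [⟨100,(Int.negSucc 0),1⟩] .nil .nil) .nil) (.node 150 [⟨108,(Int.ofNat 1),1⟩] .nil .nil)) (.node 158 [⟨117,(Int.negSucc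 0),1⟩] (.node 155 [⟨114,(Int.ofNat 1),1⟩] .nil .nil) (.node 160 [⟨123,(Int.negSucc 0),1⟩] .nil .nil))) (.node 167 [⟨135,(Int.negSucc 0),1⟩] (.node 163 [⟨128,(Int.negSucc 0),1⟩] (.node 162 [⟨0,(Int.ofNat 0),1⟩, ⟨1,(Int.negSucc 0),1⟩, ⟨2,(Int.negSucc 0),1⟩, ⟨3,(Int.negSucc 1),1⟩, ⟨4,(Int.negSucc 0),1⟩, ⟨5,(Int.negSucc 0),1⟩, ⟨6,(Int.negSucc 0),1⟩, ⟨7,(Int.ofNat 0),1⟩, ⟨93,(Int.negSucc 0),2⟩] .nil .nil) (.node 165 [⟨134,(Int.negSucc 0),1⟩] .nil .nil)) (.node 184 [⟨170,(Int.ofNat 1),1⟩] (.node 169 [⟨137,(Int.ofNat 1),1⟩] .nil .nil) (.node 194 [⟨171,(Int.ofNat 1),1⟩] .nil .nil)))) (.node 225 [⟨190,(Int.negSucc 0),1⟩] (.node 215 [⟨179,(Int.negSucc 0),1⟩] (.node 207 [⟨176,(Int.ofNat 1),1⟩] (.node 205 [⟨174,(Int.negSucc 0),1⟩] .nil .nil) (.node 213 [⟨178,(Int.negSucc 0),1⟩] .nil .nil)) (.node 222 [⟨186,(Int.ofNat 1),1⟩]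 (.node 217 [⟨181,(Int.ofNat 1),1⟩] .nil .nil) (.node 224 [⟨188,(Int.negSucc 0),1⟩] .nil .nil))) (.node 232 [⟨209,(Int.ofNat 1),1⟩] (.node 229 [⟨198,(Int.negSucc 0),1⟩] (.node 227 [⟨196,(Int.ofNat 1),1⟩] .nil .nil) (.node 230 [⟨200,(Int.negSucc 0),1⟩] .nil .nil)) (.node 243 [⟨235,(Int.ofNat 1),1⟩] (.node 233 [⟨219,(Int.ofNat 1),1⟩] .nil .nil) (.node 246 [⟨238,(Int.ofNat 1),1⟩] .nil .nil))))))
noncomputable def col86 : Tr Cl := (.node 138 [⟨98,(Int.ofNat 1),1⟩] (.node 67 [⟨32,(Int.ofNat 1),1⟩] (.node 17 [⟨10,(Int.negSucc 0),1⟩] (.node 4 [⟨94,(Int.negSucc 0),1⟩] (.node 2 [⟨94,(Int.ofNat 0),1⟩] (.node 1 [⟨94,(Int.ofNat 0),1⟩] (.node 0 [⟨94,(Int.negSucc 0),1⟩] .nil .nil) .nil) (.node 3 [⟨94,(Int.ofNat 1),1⟩] .nil .nil)) (.node 6 [⟨94,(Int.negSucc 0),1⟩] (.node 5 [⟨94,(Int.ofNat 1),1⟩] .nil .nil) (.node 7 [⟨94,(Int.ofNat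 0),1⟩] .nil .nil))) (.node 54 [⟨25,(Int.negSucc 0),1⟩] (.node 35 [⟨22,(Int.ofNat 1),1⟩] (.node 19 [⟨12,(Int.ofNat 1),1⟩] .nil .nil) (.node 45 [⟨23,(Int.ofNat 1),1⟩] .nil .nil)) (.node 58 [⟨28,(Int.ofNat 1),1⟩] (.node 57 [⟨27,(Int.ofNat 1),1⟩] .nil .nil) (.node 64 [⟨30,(Int.negSucc 0),1⟩] .nil .nil)))) (.node 84 [⟨62,(Int.negSucc 0),1⟩] (.node 77 [⟨43,(Int.ofNat 1),1⟩] (.node 74 [⟨39,(Int.negSucc 0),1⟩] (.node 68 [⟨33,(Int.ofNat 1),1⟩] .nil .nil) (.node 75 [⟨40,(Int.negSucc 0),1⟩] .nil .nil)) (.node 80 [⟨50,(Int.negSucc 0),1⟩] (.node 79 [⟨49,(Int.negSucc 0),1⟩] .nil .nil) (.node 82 [⟨53,(Int.ofNat 1),1⟩] .nil .nil))) (.node 121 [⟨91,(Int.ofNat 1),1⟩] (.node 118 [⟨87,(Int.negSucc 0),1⟩] (.node 85 [⟨72,(Int.negSucc 0),1⟩] .nil .nil) (.node 119 [⟨88,(Int.negSucc 0),1⟩] .nil .nil)) (.node 126 [⟨93,(Int.ofNat 1),1⟩]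 (.node 125 [⟨92,(Int.ofNat 1),1⟩] .nil .nil) (.node 131 [⟨95,(Int.ofNat 1),1⟩] .nil .nil))))) (.node 202 [⟨173,(Int.negSucc 0),1⟩] (.node 161 [⟨0,(Int.ofNat 0),1⟩, ⟨1,(Int.negSucc 0),1⟩, ⟨2,(Int.negSucc 0),1⟩, ⟨3,(Int.negSucc 1),1⟩, ⟨4,(Int.negSucc 0),1⟩, ⟨5,(Int.negSucc 0),1⟩, ⟨6,(Int.ofNat 0),1⟩, ⟨7,(Int.ofNat 0),1⟩, ⟨94,(Int.negSucc 0),2⟩] (.node 152 [⟨111,(Int.negSucc 0),1⟩] (.node 146 [⟨105,(Int.negSucc 0),1⟩] (.node 144 [⟨103,(Int.ofNat 1),1⟩] (.node 140 [⟨100,(Int.negSucc 0),1⟩] .nil .nil) .nil) (.node 150 [⟨109,(Int.ofNat 1),1⟩] .nil .nil)) (.node 157 [⟨117,(Int.negSucc 0),1⟩] (.node 155 [⟨115,(Int.ofNat 1),1⟩] .nil .nil) (.node 160 [⟨124,(Int.negSucc 0),1⟩] .nil .nil))) (.node 167 [⟨136,(Int.ofNat 1),1⟩] (.node 163 [⟨130,(Int.negSucc 0),1⟩] (.node 162 [⟨129,(Int.negSucc 0),1⟩] .nil .nil) (.node 164 [⟨134,(Int.negSucc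 0),1⟩] .nil .nil)) (.node 183 [⟨170,(Int.ofNat 1),1⟩] (.node 168 [⟨137,(Int.ofNat 1),1⟩] .nil .nil) (.node 193 [⟨171,(Int.ofNat 1),1⟩] .nil .nil)))) (.node 225 [⟨191,(Int.ofNat 1),1⟩] (.node 215 [⟨180,(Int.ofNat 1),1⟩] (.node 206 [⟨176,(Int.ofNat 1),1⟩] (.node 205 [⟨175,(Int.ofNat 1),1⟩] .nil .nil) (.node 212 [⟨178,(Int.negSucc 0),1⟩] .nil .nil)) (.node 222 [⟨187,(Int.negSucc 0),1⟩] (.node 216 [⟨181,(Int.ofNat 1),1⟩] .nil .nil) (.node 223 [⟨188,(Int.negSucc 0),1⟩] .nil .nil))) (.node 232 [⟨210,(Int.negSucc 0),1⟩] (.node 228 [⟨198,(Int.negSucc 0),1⟩] (.node 227 [⟨197,(Int.negSucc 0),1⟩] .nil .nil) (.node 230 [⟨201,(Int.ofNat 1),1⟩] .nil .nil)) (.node 243 [⟨236,(Int.negSucc 0),1⟩] (.node 233 [⟨220,(Int.negSucc 0),1⟩] .nil .nil) (.node 245 [⟨238,(Int.ofNat 1),1⟩] .nil .nil))))))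
noncomputable def col87 : Tr Cl := (.node 138 [⟨99,(Int.ofNat 1),1⟩] (.node 65 [⟨32,(Int.negSucc 0),1⟩] (.node 17 [⟨11,(Int.negSucc 0),1⟩] (.node 4 [⟨95,(Int.ofNat 0),1⟩] (.node 2 [⟨95,(Int.ofNat 0),1⟩] (.node 1 [⟨95,(Int.ofNat 0),1⟩] (.node 0 [⟨95,(Int.negSucc 0),1⟩] .nil .nil) .nil) (.node 3 [⟨95,(Int.ofNat 1),1⟩] .nil .nil)) (.node 6 [⟨95,(Int.ofNat 0),1⟩] (.node 5 [⟨95,(Int.negSucc 0),1⟩] .nil .nil) (.node 7 [⟨95,(Int.ofNat 0),1⟩] .nil .nil))) (.node 54 [⟨26,(Int.negSucc 0),1⟩] (.node 34 [⟨22,(Int.negSucc 0),1⟩] (.node 18 [⟨12,(Int.negSucc 0),1⟩] .nil .nil) (.node 44 [⟨23,(Int.negSucc 0),1⟩] .nil .nil)) (.node 56 [⟨28,(Int.negSucc 0),1⟩] (.node 55 [⟨27,(Int.negSucc 0),1⟩] .nil .nil) (.node 64 [⟨31,(Int.negSucc 0),1⟩] .nil .nil)))) (.node 84 [⟨63,(Int.negSucc 0),1⟩] (.node 76 [⟨43,(Int.negSucc 0),1⟩] (.node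 74 [⟨41,(Int.negSucc 0),1⟩] (.node 66 [⟨33,(Int.negSucc 0),1⟩] .nil .nil) (.node 75 [⟨42,(Int.negSucc 0),1⟩] .nil .nil)) (.node 80 [⟨52,(Int.negSucc 0),1⟩] (.node 79 [⟨51,(Int.negSucc 0),1⟩] .nil .nil) (.node 81 [⟨53,(Int.negSucc 0),1⟩] .nil .nil))) (.node 120 [⟨91,(Int.negSucc 0),1⟩] (.node 118 [⟨89,(Int.negSucc 0),1⟩] (.node 85 [⟨73,(Int.negSucc 0),1⟩] .nil .nil) (.node 119 [⟨90,(Int.negSucc 0),1⟩] .nil .nil)) (.node 123 [⟨93,(Int.ofNat 1),1⟩] (.node 122 [⟨92,(Int.ofNat 1),1⟩] .nil .nil) (.node 124 [⟨94,(Int.ofNat 1),1⟩] .nil .nil))))) (.node 202 [⟨174,(Int.ofNat 1),1⟩] (.node 161 [⟨131,(Int.negSucc 0),1⟩] (.node 151 [⟨111,(Int.negSucc 0),1⟩] (.node 145 [⟨105,(Int.negSucc 0),1⟩] (.node 144 [⟨104,(Int.ofNat 1),1⟩] (.node 139 [⟨100,(Int.negSucc 0),1⟩] .nil .nil) .nil) (.node 150 [⟨110,(Int.ofNat 1),1⟩] .nil .nil))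 (.node 156 [⟨117,(Int.negSucc 0),1⟩] (.node 155 [⟨116,(Int.ofNat 1),1⟩] .nil .nil) (.node 160 [⟨0,(Int.ofNat 0),1⟩, ⟨1,(Int.negSucc 0),1⟩, ⟨2,(Int.negSucc 0),1⟩, ⟨3,(Int.negSucc 1),1⟩, ⟨4,(Int.negSucc 0),1⟩, ⟨5,(Int.ofNat 0),1⟩, ⟨6,(Int.ofNat 0),1⟩, ⟨7,(Int.ofNat 0),1⟩, ⟨95,(Int.negSucc 0),2⟩] .nil .nil))) (.node 165 [⟨136,(Int.ofNat 1),1⟩] (.node 163 [⟨133,(Int.negSucc 0),1⟩] (.node 162 [⟨132,(Int.negSucc 0),1⟩] .nil .nil) (.node 164 [⟨135,(Int.ofNat 1),1⟩] .nil .nil)) (.node 182 [⟨170,(Int.ofNat 1),1⟩] (.node 166 [⟨137,(Int.ofNat 1),1⟩] .nil .nil) (.node 192 [⟨171,(Int.ofNat 1),1⟩] .nil .nil)))) (.node 224 [⟨191,(Int.ofNat 1),1⟩] (.node 213 [⟨180,(Int.ofNat 1),1⟩] (.node 204 [⟨176,(Int.ofNat 1),1⟩] (.node 203 [⟨175,(Int.ofNat 1),1⟩] .nil .nil) (.node 212 [⟨179,(Int.ofNat 1),1⟩] .nil .nil)) (.node 222 [⟨189,(Int.ofNat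 1),1⟩] (.node 214 [⟨181,(Int.ofNat 1),1⟩] .nil .nil) (.node 223 [⟨190,(Int.ofNat 1),1⟩] .nil .nil))) (.node 232 [⟨211,(Int.ofNat 1),1⟩] (.node 228 [⟨200,(Int.ofNat 1),1⟩] (.node 227 [⟨199,(Int.ofNat 1),1⟩] .nil .nil) (.node 229 [⟨201,(Int.ofNat 1),1⟩] .nil .nil)) (.node 243 [⟨237,(Int.ofNat 1),1⟩] (.node 233 [⟨221,(Int.ofNat 1),1⟩] .nil .nil) (.node 244 [⟨238,(Int.ofNat 1),1⟩] .nil .nil))))))
noncomputable def col88 : Tr Cl := (.node 133 [⟨99,(Int.ofNat 1),1⟩] (.node 68 [⟨35,(Int.negSucc 0),1⟩] (.node 16 [⟨8,(Int.ofNat 1),1⟩] (.node 4 [⟨96,(Int.ofNat 0),1⟩] (.node 2 [⟨96,(Int.ofNat 1),1⟩] (.node 1 [⟨96,(Int.ofNat 1),1⟩] (.node 0 [⟨96,(Int.negSucc 0),1⟩] .nil .nil) .nil) (.node 3 [⟨96,(Int.negSucc 0),1⟩] .nil .nil)) (.node 6 [⟨96,(Int.ofNat 0),1⟩] (.node 5 [⟨96,(Int.ofNat 0),1⟩] .nil .nil) (.node 7 [⟨96,(Int.ofNat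 1),1⟩] .nil .nil))) (.node 50 [⟨25,(Int.ofNat 1),1⟩] (.node 33 [⟨22,(Int.negSucc 0),1⟩] (.node 21 [⟨13,(Int.ofNat 1),1⟩] .nil .nil) (.node 47 [⟨24,(Int.ofNat 1),1⟩] .nil .nil)) (.node 53 [⟨27,(Int.ofNat 1),1⟩] (.node 52 [⟨26,(Int.ofNat 1),1⟩] .nil .nil) (.node 66 [⟨34,(Int.negSucc 0),1⟩] .nil .nil)))) (.node 83 [⟨60,(Int.ofNat 1),1⟩] (.node 73 [⟨41,(Int.negSucc 0),1⟩] (.node 71 [⟨38,(Int.negSucc 0),1⟩] (.node 69 [⟨36,(Int.negSucc 0),1⟩] .nil .nil) (.node 72 [⟨39,(Int.negSucc 0),1⟩] .nil .nil)) (.node 81 [⟨55,(Int.ofNat 1),1⟩] (.node 80 [⟨54,(Int.ofNat 1),1⟩] .nil .nil) (.node 82 [⟨57,(Int.ofNat 1),1⟩] .nil .nil))) (.node 116 [⟨89,(Int.ofNat 1),1⟩] (.node 114 [⟨86,(Int.ofNat 1),1⟩] (.node 85 [⟨74,(Int.negSucc 0),1⟩] .nil .nil) (.node 115 [⟨87,(Int.ofNat 1),1⟩] .nil .nil)) (.node 128 [⟨97,(Int.ofNat 1),1⟩] (.node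 117 [⟨92,(Int.ofNat 1),1⟩] .nil .nil) (.node 130 [⟨98,(Int.ofNat 1),1⟩] .nil .nil))))) (.node 198 [⟨173,(Int.negSucc 0),1⟩] (.node 158 [⟨127,(Int.negSucc 0),1⟩] (.node 154 [⟨112,(Int.negSucc 0),1⟩] (.node 148 [⟨106,(Int.negSucc 0),1⟩] (.node 143 [⟨101,(Int.ofNat 1),1⟩] (.node 137 [⟨100,(Int.ofNat 1),1⟩] .nil .nil) .nil) (.node 149 [⟨107,(Int.ofNat 1),1⟩] .nil .nil)) (.node 156 [⟨122,(Int.negSucc 0),1⟩] (.node 155 [⟨118,(Int.negSucc 0),1⟩] .nil .nil) (.node 157 [⟨125,(Int.negSucc 0),1⟩] .nil .nil))) (.node 168 [⟨140,(Int.negSucc 0),1⟩] (.node 163 [⟨138,(Int.negSucc 0),1⟩] (.node 159 [⟨0,(Int.ofNat 0),1⟩, ⟨1,(Int.negSucc 0),1⟩, ⟨2,(Int.negSucc 0),1⟩, ⟨3,(Int.negSucc 0),1⟩, ⟨4,(Int.negSucc 0),1⟩, ⟨5,(Int.negSucc 0),1⟩, ⟨6,(Int.negSucc 0),1⟩, ⟨7,(Int.negSucc 0),1⟩, ⟨96,(Int.negSucc 0),2⟩] .nil .nil) (.node 166 [⟨139,(Int.negSucc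 0),1⟩] .nil .nil)) (.node 181 [⟨170,(Int.ofNat 1),1⟩] (.node 169 [⟨141,(Int.negSucc 0),1⟩] .nil .nil) (.node 195 [⟨172,(Int.negSucc 0),1⟩] .nil .nil)))) (.node 221 [⟨189,(Int.ofNat 1),1⟩] (.node 216 [⟨183,(Int.ofNat 1),1⟩] (.node 201 [⟨175,(Int.negSucc 0),1⟩] (.node 200 [⟨174,(Int.negSucc 0),1⟩] .nil .nil) (.node 214 [⟨182,(Int.ofNat 1),1⟩] .nil .nil)) (.node 219 [⟨186,(Int.ofNat 1),1⟩] (.node 217 [⟨184,(Int.ofNat 1),1⟩] .nil .nil) (.node 220 [⟨187,(Int.ofNat 1),1⟩] .nil .nil))) (.node 231 [⟨208,(Int.negSucc 0),1⟩] (.node 229 [⟨203,(Int.negSucc 0),1⟩] (.node 228 [⟨202,(Int.negSucc 0),1⟩] .nil .nil) (.node 230 [⟨205,(Int.negSucc 0),1⟩] .nil .nil)) (.node 242 [⟨234,(Int.negSucc 0),1⟩] (.node 233 [⟨222,(Int.ofNat 1),1⟩] .nil .nil) (.node 247 [⟨239,(Int.negSucc 0),1⟩] .nil .nil))))))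
noncomputable def col89 : Tr Cl := (.node 132 [⟨99,(Int.ofNat 1),1⟩] (.node 67 [⟨35,(Int.ofNat 1),1⟩] (.node 16 [⟨9,(Int.ofNat 1),1⟩] (.node 4 [⟨97,(Int.ofNat 0),1⟩] (.node 2 [⟨97,(Int.ofNat 1),1⟩] (.node 1 [⟨97,(Int.ofNat 1),1⟩] (.node 0 [⟨97,(Int.negSucc 0),1⟩] .nil .nil) .nil) (.node 3 [⟨97,(Int.negSucc 0),1⟩] .nil .nil)) (.node 6 [⟨97,(Int.ofNat 1),1⟩] (.node 5 [⟨97,(Int.ofNat 0),1⟩] .nil .nil) (.node 7 [⟨97,(Int.negSucc 0),1⟩] .nil .nil))) (.node 49 [⟨25,(Int.negSucc 0),1⟩] (.node 32 [⟨22,(Int.ofNat 1),1⟩] (.node 20 [⟨13,(Int.negSucc 0),1⟩] .nil .nil) (.node 46 [⟨24,(Int.negSucc 0),1⟩] .nil .nil)) (.node 53 [⟨28,(Int.ofNat 1),1⟩] (.node 51 [⟨26,(Int.negSucc 0),1⟩] .nil .nil) (.node 65 [⟨34,(Int.ofNat 1),1⟩] .nil .nil)))) (.node 83 [⟨61,(Int.ofNat 1),1⟩] (.node 73 [⟨42,(Int.negSucc 0),1⟩] (.node 70 [⟨38,(Int.ofNat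 1),1⟩] (.node 69 [⟨37,(Int.negSucc 0),1⟩] .nil .nil) (.node 72 [⟨40,(Int.negSucc 0),1⟩] .nil .nil)) (.node 81 [⟨56,(Int.ofNat 1),1⟩] (.node 79 [⟨54,(Int.negSucc 0),1⟩] .nil .nil) (.node 82 [⟨58,(Int.ofNat 1),1⟩] .nil .nil))) (.node 116 [⟨90,(Int.ofNat 1),1⟩] (.node 113 [⟨86,(Int.negSucc 0),1⟩] (.node 85 [⟨75,(Int.negSucc 0),1⟩] .nil .nil) (.node 115 [⟨88,(Int.ofNat 1),1⟩] .nil .nil)) (.node 127 [⟨96,(Int.ofNat 1),1⟩] (.node 117 [⟨93,(Int.ofNat 1),1⟩] .nil .nil) (.node 129 [⟨98,(Int.ofNat 1),1⟩] .nil .nil))))) (.node 197 [⟨173,(Int.negSucc 0),1⟩] (.node 158 [⟨0,(Int.ofNat 0),1⟩, ⟨1,(Int.negSucc 0),1⟩, ⟨2,(Int.negSucc 0),1⟩, ⟨3,(Int.negSucc 0),1⟩, ⟨4,(Int.negSucc 0),1⟩, ⟨5,(Int.negSucc 0),1⟩, ⟨6,(Int.negSucc 0),1⟩, ⟨7,(Int.ofNat 0),1⟩, ⟨97,(Int.negSucc 0),2⟩] (.node 153 [⟨112,(Int.negSucc 0),1⟩] (.node 147 [⟨106,(Int.negSucc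 0),1⟩] (.node 143 [⟨102,(Int.ofNat 1),1⟩] (.node 136 [⟨100,(Int.ofNat 1),1⟩] .nil .nil) .nil) (.node 149 [⟨108,(Int.ofNat 1),1⟩] .nil .nil)) (.node 156 [⟨123,(Int.negSucc 0),1⟩] (.node 155 [⟨119,(Int.negSucc 0),1⟩] .nil .nil) (.node 157 [⟨126,(Int.negSucc 0),1⟩] .nil .nil))) (.node 167 [⟨140,(Int.negSucc 0),1⟩] (.node 162 [⟨138,(Int.negSucc 0),1⟩] (.node 159 [⟨128,(Int.negSucc 0),1⟩] .nil .nil) (.node 165 [⟨139,(Int.negSucc 0),1⟩] .nil .nil)) (.node 180 [⟨170,(Int.ofNat 1),1⟩] (.node 169 [⟨142,(Int.ofNat 1),1⟩] .nil .nil) (.node 194 [⟨172,(Int.negSucc 0),1⟩] .nil .nil)))) (.node 221 [⟨190,(Int.negSucc 0),1⟩] (.node 215 [⟨183,(Int.ofNat 1),1⟩] (.node 201 [⟨176,(Int.ofNat 1),1⟩] (.node 199 [⟨174,(Int.negSucc 0),1⟩] .nil .nil) (.node 213 [⟨182,(Int.ofNat 1),1⟩] .nil .nil)) (.node 218 [⟨186,(Int.ofNat 1),1⟩] (.node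 217 [⟨185,(Int.negSucc 0),1⟩] .nil .nil) (.node 220 [⟨188,(Int.negSucc 0),1⟩] .nil .nil))) (.node 231 [⟨209,(Int.ofNat 1),1⟩] (.node 229 [⟨204,(Int.ofNat 1),1⟩] (.node 227 [⟨202,(Int.negSucc 0),1⟩] .nil .nil) (.node 230 [⟨206,(Int.ofNat 1),1⟩] .nil .nil)) (.node 242 [⟨235,(Int.ofNat 1),1⟩] (.node 233 [⟨223,(Int.negSucc 0),1⟩] .nil .nil) (.node 246 [⟨239,(Int.negSucc 0),1⟩] .nil .nil))))))
noncomputable def col90 : Tr Cl := (.node 131 [⟨99,(Int.ofNat 1),1⟩] (.node 67 [⟨36,(Int.ofNat 1),1⟩] (.node 16 [⟨10,(Int.ofNat 1),1⟩] (.node 4 [⟨98,(Int.ofNat 0),1⟩] (.node 2 [⟨98,(Int.ofNat 1),1⟩] (.node 1 [⟨98,(Int.ofNat 1),1⟩] (.node 0 [⟨98,(Int.negSucc 0),1⟩] .nil .nil) .nil) (.node 3 [⟨98,(Int.negSucc 0),1⟩] .nil .nil)) (.node 6 [⟨98,(Int.negSucc 0),1⟩] (.node 5 [⟨98,(Int.ofNat 1),1⟩] .nil .nil) (.node 7 [⟨98,(Int.ofNat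 0),1⟩] .nil .nil))) (.node 48 [⟨25,(Int.ofNat 1),1⟩] (.node 31 [⟨22,(Int.negSucc 0),1⟩] (.node 19 [⟨13,(Int.ofNat 1),1⟩] .nil .nil) (.node 45 [⟨24,(Int.ofNat 1),1⟩] .nil .nil)) (.node 52 [⟨28,(Int.negSucc 0),1⟩] (.node 51 [⟨27,(Int.negSucc 0),1⟩] .nil .nil) (.node 64 [⟨34,(Int.negSucc 0),1⟩] .nil .nil)))) (.node 83 [⟨62,(Int.ofNat 1),1⟩] (.node 73 [⟨43,(Int.negSucc 0),1⟩] (.node 70 [⟨39,(Int.ofNat 1),1⟩] (.node 68 [⟨37,(Int.ofNat 1),1⟩] .nil .nil) (.node 71 [⟨40,(Int.ofNat 1),1⟩] .nil .nil)) (.node 80 [⟨56,(Int.negSucc 0),1⟩] (.node 79 [⟨55,(Int.negSucc 0),1⟩] .nil .nil) (.node 82 [⟨59,(Int.ofNat 1),1⟩] .nil .nil))) (.node 116 [⟨91,(Int.ofNat 1),1⟩] (.node 113 [⟨87,(Int.negSucc 0),1⟩] (.node 85 [⟨76,(Int.negSucc 0),1⟩] .nil .nil) (.node 114 [⟨88,(Int.negSucc 0),1⟩] .nil .nil)) (.node 125 [⟨96,(Int.ofNat 1),1⟩]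 (.node 117 [⟨94,(Int.ofNat 1),1⟩] .nil .nil) (.node 126 [⟨97,(Int.ofNat 1),1⟩] .nil .nil))))) (.node 196 [⟨173,(Int.negSucc 0),1⟩] (.node 158 [⟨129,(Int.negSucc 0),1⟩] (.node 152 [⟨112,(Int.negSucc 0),1⟩] (.node 146 [⟨106,(Int.negSucc 0),1⟩] (.node 143 [⟨103,(Int.ofNat 1),1⟩] (.node 135 [⟨100,(Int.ofNat 1),1⟩] .nil .nil) .nil) (.node 149 [⟨109,(Int.ofNat 1),1⟩] .nil .nil)) (.node 156 [⟨124,(Int.negSucc 0),1⟩] (.node 155 [⟨120,(Int.negSucc 0),1⟩] .nil .nil) (.node 157 [⟨0,(Int.ofNat 0),1⟩, ⟨1,(Int.negSucc 0),1⟩, ⟨2,(Int.negSucc 0),1⟩, ⟨3,(Int.negSucc 0),1⟩, ⟨4,(Int.negSucc 0),1⟩, ⟨5,(Int.negSucc 0),1⟩, ⟨6,(Int.ofNat 0),1⟩, ⟨7,(Int.ofNat 0),1⟩, ⟨98,(Int.negSucc 0),2⟩] .nil .nil))) (.node 167 [⟨141,(Int.ofNat 1),1⟩] (.node 161 [⟨138,(Int.negSucc 0),1⟩] (.node 159 [⟨130,(Int.negSucc 0),1⟩] .nil .nil) (.node 164 [⟨139,(Int.negSucc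 0),1⟩] .nil .nil)) (.node 179 [⟨170,(Int.ofNat 1),1⟩] (.node 168 [⟨142,(Int.ofNat 1),1⟩] .nil .nil) (.node 193 [⟨172,(Int.negSucc 0),1⟩] .nil .nil)))) (.node 221 [⟨191,(Int.ofNat 1),1⟩] (.node 215 [⟨184,(Int.negSucc 0),1⟩] (.node 200 [⟨176,(Int.ofNat 1),1⟩] (.node 199 [⟨175,(Int.ofNat 1),1⟩] .nil .nil) (.node 212 [⟨182,(Int.ofNat 1),1⟩] .nil .nil)) (.node 218 [⟨187,(Int.negSucc 0),1⟩] (.node 216 [⟨185,(Int.negSucc 0),1⟩] .nil .nil) (.node 219 [⟨188,(Int.negSucc 0),1⟩] .nil .nil))) (.node 231 [⟨210,(Int.negSucc 0),1⟩] (.node 228 [⟨204,(Int.ofNat 1),1⟩] (.node 227 [⟨203,(Int.ofNat 1),1⟩] .nil .nil) (.node 230 [⟨207,(Int.negSucc 0),1⟩] .nil .nil)) (.node 242 [⟨236,(Int.negSucc 0),1⟩] (.node 233 [⟨224,(Int.ofNat 1),1⟩] .nil .nil) (.node 245 [⟨239,(Int.negSucc 0),1⟩] .nil .nil))))))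
noncomputable def col91 : Tr Cl := (.node 124 [⟨98,(Int.ofNat 1),1⟩] (.node 65 [⟨36,(Int.negSucc 0),1⟩] (.node 16 [⟨11,(Int.ofNat 1),1⟩] (.node 4 [⟨99,(Int.ofNat 1),1⟩] (.node 2 [⟨99,(Int.ofNat 1),1⟩] (.node 1 [⟨99,(Int.ofNat 1),1⟩] (.node 0 [⟨99,(Int.negSucc 0),1⟩] .nil .nil) .nil) (.node 3 [⟨99,(Int.negSucc 0),1⟩] .nil .nil)) (.node 6 [⟨99,(Int.ofNat 0),1⟩] (.node 5 [⟨99,(Int.negSucc 0),1⟩] .nil .nil) (.node 7 [⟨99,(Int.ofNat 0),1⟩] .nil .nil))) (.node 48 [⟨26,(Int.ofNat 1),1⟩] (.node 30 [⟨22,(Int.ofNat 1),1⟩] (.node 18 [⟨13,(Int.negSucc 0),1⟩] .nil .nil) (.node 44 [⟨24,(Int.negSucc 0),1⟩] .nil .nil)) (.node 50 [⟨28,(Int.ofNat 1),1⟩] (.node 49 [⟨27,(Int.ofNat 1),1⟩] .nil .nil) (.node 64 [⟨35,(Int.negSucc 0),1⟩] .nil .nil)))) (.node 83 [⟨63,(Int.ofNat 1),1⟩] (.node 72 [⟨43,(Int.ofNat 1),1⟩] (.node 70 [⟨41,(Int.ofNat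 1),1⟩] (.node 66 [⟨37,(Int.negSucc 0),1⟩] .nil .nil) (.node 71 [⟨42,(Int.ofNat 1),1⟩] .nil .nil)) (.node 80 [⟨58,(Int.negSucc 0),1⟩] (.node 79 [⟨57,(Int.negSucc 0),1⟩] .nil .nil) (.node 81 [⟨59,(Int.negSucc 0),1⟩] .nil .nil))) (.node 115 [⟨91,(Int.negSucc 0),1⟩] (.node 113 [⟨89,(Int.negSucc 0),1⟩] (.node 85 [⟨77,(Int.negSucc 0),1⟩] .nil .nil) (.node 114 [⟨90,(Int.negSucc 0),1⟩] .nil .nil)) (.node 122 [⟨96,(Int.ofNat 1),1⟩] (.node 117 [⟨95,(Int.ofNat 1),1⟩] .nil .nil) (.node 123 [⟨97,(Int.ofNat 1),1⟩] .nil .nil))))) (.node 196 [⟨174,(Int.ofNat 1),1⟩] (.node 158 [⟨132,(Int.negSucc 0),1⟩] (.node 151 [⟨112,(Int.negSucc 0),1⟩] (.node 145 [⟨106,(Int.negSucc 0),1⟩] (.node 143 [⟨104,(Int.ofNat 1),1⟩] (.node 134 [⟨100,(Int.ofNat 1),1⟩] .nil .nil) .nil) (.node 149 [⟨110,(Int.ofNat 1),1⟩] .nil .nil)) (.node 156 [⟨0,(Int.ofNat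 0),1⟩, ⟨1,(Int.negSucc 0),1⟩, ⟨2,(Int.negSucc 0),1⟩, ⟨3,(Int.negSucc 0),1⟩, ⟨4,(Int.negSucc 0),1⟩, ⟨5,(Int.ofNat 0),1⟩, ⟨6,(Int.ofNat 0),1⟩, ⟨7,(Int.ofNat 0),1⟩, ⟨99,(Int.negSucc 0),2⟩] (.node 155 [⟨121,(Int.negSucc 0),1⟩] .nil .nil) (.node 157 [⟨131,(Int.negSucc 0),1⟩] .nil .nil))) (.node 165 [⟨141,(Int.ofNat 1),1⟩] (.node 160 [⟨138,(Int.negSucc 0),1⟩] (.node 159 [⟨133,(Int.negSucc 0),1⟩] .nil .nil) (.node 164 [⟨140,(Int.ofNat 1),1⟩] .nil .nil)) (.node 178 [⟨170,(Int.ofNat 1),1⟩] (.node 166 [⟨142,(Int.ofNat 1),1⟩] .nil .nil) (.node 192 [⟨172,(Int.negSucc 0),1⟩] .nil .nil)))) (.node 220 [⟨191,(Int.ofNat 1),1⟩] (.node 213 [⟨184,(Int.negSucc 0),1⟩] (.node 198 [⟨176,(Int.ofNat 1),1⟩] (.node 197 [⟨175,(Int.ofNat 1),1⟩] .nil .nil) (.node 212 [⟨183,(Int.negSucc 0),1⟩] .nil .nil)) (.node 218 [⟨189,(Int.ofNat 1),1⟩] (.node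 214 [⟨185,(Int.negSucc 0),1⟩] .nil .nil) (.node 219 [⟨190,(Int.ofNat 1),1⟩] .nil .nil))) (.node 231 [⟨211,(Int.ofNat 1),1⟩] (.node 228 [⟨206,(Int.negSucc 0),1⟩] (.node 227 [⟨205,(Int.negSucc 0),1⟩] .nil .nil) (.node 229 [⟨207,(Int.negSucc 0),1⟩] .nil .nil)) (.node 242 [⟨237,(Int.ofNat 1),1⟩] (.node 233 [⟨225,(Int.negSucc 0),1⟩] .nil .nil) (.node 244 [⟨239,(Int.negSucc 0),1⟩] .nil .nil))))))
noncomputable def col92 : Tr Cl := (.node 120 [⟨98,(Int.ofNat 1),1⟩] (.node 65 [⟨39,(Int.negSucc 0),1⟩] (.node 16 [⟨12,(Int.ofNat 1),1⟩] (.node 4 [⟨100,(Int.negSucc 0),1⟩] (.node 2 [⟨100,(Int.ofNat 1),1⟩] (.node 1 [⟨100,(Int.ofNat 1),1⟩] (.node 0 [⟨100,(Int.negSucc 0),1⟩] .nil .nil) .nil) (.node 3 [⟨100,(Int.ofNat 0),1⟩] .nil .nil)) (.node 6 [⟨100,(Int.ofNat 0),1⟩] (.node 5 [⟨100,(Int.ofNat 0),1⟩] .nil .nil) (.node 7 [⟨100,(Int.ofNat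 0),1⟩] .nil .nil))) (.node 45 [⟨26,(Int.negSucc 0),1⟩] (.node 29 [⟨22,(Int.negSucc 0),1⟩] (.node 17 [⟨13,(Int.ofNat 1),1⟩] .nil .nil) (.node 44 [⟨25,(Int.negSucc 0),1⟩] .nil .nil)) (.node 47 [⟨28,(Int.negSucc 0),1⟩] (.node 46 [⟨27,(Int.negSucc 0),1⟩] .nil .nil) (.node 64 [⟨38,(Int.negSucc 0),1⟩] .nil .nil)))) (.node 82 [⟨63,(Int.negSucc 0),1⟩] (.node 69 [⟨43,(Int.negSucc 0),1⟩] (.node 67 [⟨41,(Int.negSucc 0),1⟩] (.node 66 [⟨40,(Int.negSucc 0),1⟩] .nil .nil) (.node 68 [⟨42,(Int.negSucc 0),1⟩] .nil .nil)) (.node 80 [⟨61,(Int.negSucc 0),1⟩] (.node 79 [⟨60,(Int.negSucc 0),1⟩] .nil .nil) (.node 81 [⟨62,(Int.negSucc 0),1⟩] .nil .nil))) (.node 115 [⟨94,(Int.negSucc 0),1⟩] (.node 113 [⟨92,(Int.negSucc 0),1⟩] (.node 85 [⟨78,(Int.negSucc 0),1⟩] .nil .nil) (.node 114 [⟨93,(Int.negSucc 0),1⟩] .nil .nil)) (.node 118 [⟨96,(Int.ofNat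 1),1⟩] (.node 116 [⟨95,(Int.negSucc 0),1⟩] .nil .nil) (.node 119 [⟨97,(Int.ofNat 1),1⟩] .nil .nil))))) (.node 193 [⟨174,(Int.ofNat 1),1⟩] (.node 158 [⟨136,(Int.negSucc 0),1⟩] (.node 150 [⟨112,(Int.negSucc 0),1⟩] (.node 144 [⟨106,(Int.negSucc 0),1⟩] (.node 143 [⟨105,(Int.ofNat 1),1⟩] (.node 121 [⟨99,(Int.ofNat 1),1⟩] .nil .nil) .nil) (.node 149 [⟨111,(Int.ofNat 1),1⟩] .nil .nil)) (.node 156 [⟨134,(Int.negSucc 0),1⟩] (.node 155 [⟨0,(Int.ofNat 0),1⟩, ⟨1,(Int.negSucc 0),1⟩, ⟨2,(Int.negSucc 0),1⟩, ⟨3,(Int.negSucc 0),1⟩, ⟨4,(Int.ofNat 0),1⟩, ⟨5,(Int.ofNat 0),1⟩, ⟨6,(Int.ofNat 0),1⟩, ⟨7,(Int.ofNat 0),1⟩, ⟨100,(Int.negSucc 0),2⟩] .nil .nil) (.node 157 [⟨135,(Int.negSucc 0),1⟩] .nil .nil))) (.node 162 [⟨141,(Int.ofNat 1),1⟩] (.node 160 [⟨139,(Int.ofNat 1),1⟩] (.node 159 [⟨137,(Int.negSucc 0),1⟩] .nil .nil) (.node 161 [⟨140,(Int.ofNat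 1),1⟩] .nil .nil)) (.node 177 [⟨170,(Int.ofNat 1),1⟩] (.node 163 [⟨142,(Int.ofNat 1),1⟩] .nil .nil) (.node 192 [⟨173,(Int.ofNat 1),1⟩] .nil .nil)))) (.node 217 [⟨191,(Int.ofNat 1),1⟩] (.node 213 [⟨187,(Int.ofNat 1),1⟩] (.node 195 [⟨176,(Int.ofNat 1),1⟩] (.node 194 [⟨175,(Int.ofNat 1),1⟩] .nil .nil) (.node 212 [⟨186,(Int.ofNat 1),1⟩] .nil .nil)) (.node 215 [⟨189,(Int.ofNat 1),1⟩] (.node 214 [⟨188,(Int.ofNat 1),1⟩] .nil .nil) (.node 216 [⟨190,(Int.ofNat 1),1⟩] .nil .nil))) (.node 230 [⟨211,(Int.ofNat 1),1⟩] (.node 228 [⟨209,(Int.ofNat 1),1⟩] (.node 227 [⟨208,(Int.ofNat 1),1⟩] .nil .nil) (.node 229 [⟨210,(Int.ofNat 1),1⟩] .nil .nil)) (.node 242 [⟨238,(Int.negSucc 0),1⟩] (.node 233 [⟨226,(Int.ofNat 1),1⟩] .nil .nil) (.node 243 [⟨239,(Int.negSucc 0),1⟩] .nil .nil))))))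
noncomputable def col93 : Tr Cl := (.node 130 [⟨103,(Int.ofNat 1),1⟩] (.node 58 [⟨35,(Int.ofNat 1),1⟩] (.node 15 [⟨8,(Int.negSucc 0),1⟩] (.node 4 [⟨101,(Int.ofNat 0),1⟩] (.node 2 [⟨101,(Int.negSucc 0),1⟩] (.node 1 [⟨101,(Int.ofNat 1),1⟩] (.node 0 [⟨101,(Int.ofNat 0),1⟩] .nil .nil) .nil) (.node 3 [⟨101,(Int.ofNat 0),1⟩] .nil .nil)) (.node 6 [⟨101,(Int.ofNat 0),1⟩] (.node 5 [⟨101,(Int.ofNat 0),1⟩] .nil .nil) (.node 7 [⟨101,(Int.ofNat 1),1⟩] .nil .nil))) (.node 50 [⟨30,(Int.ofNat 1),1⟩] (.node 28 [⟨22,(Int.ofNat 1),1⟩] (.node 21 [⟨14,(Int.ofNat 1),1⟩] .nil .nil) (.node 47 [⟨29,(Int.ofNat 1),1⟩] .nil .nil)) (.node 53 [⟨32,(Int.ofNat 1),1⟩] (.node 52 [⟨31,(Int.ofNat 1),1⟩] .nil .nil) (.node 56 [⟨34,(Int.ofNat 1),1⟩] .nil .nil)))) (.node 83 [⟨70,(Int.ofNat 1),1⟩] (.node 63 [⟨41,(Int.ofNat 1),1⟩] (.node 61 [⟨38,(Int.ofNat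 1),1⟩] (.node 59 [⟨36,(Int.ofNat 1),1⟩] .nil .nil) (.node 62 [⟨39,(Int.ofNat 1),1⟩] .nil .nil)) (.node 81 [⟨65,(Int.ofNat 1),1⟩] (.node 80 [⟨64,(Int.ofNat 1),1⟩] .nil .nil) (.node 82 [⟨67,(Int.ofNat 1),1⟩] .nil .nil))) (.node 110 [⟨89,(Int.ofNat 1),1⟩] (.node 108 [⟨86,(Int.ofNat 1),1⟩] (.node 84 [⟨74,(Int.ofNat 1),1⟩] .nil .nil) (.node 109 [⟨87,(Int.ofNat 1),1⟩] .nil .nil)) (.node 112 [⟨96,(Int.ofNat 1),1⟩] (.node 111 [⟨92,(Int.ofNat 1),1⟩] .nil .nil) (.node 128 [⟨102,(Int.ofNat 1),1⟩] .nil .nil))))) (.node 188 [⟨173,(Int.negSucc 0),1⟩] (.node 154 [⟨0,(Int.ofNat 0),1⟩, ⟨1,(Int.negSucc 0),1⟩, ⟨2,(Int.ofNat 0),1⟩, ⟨3,(Int.negSucc 0),1⟩, ⟨4,(Int.negSucc 0),1⟩, ⟨5,(Int.negSucc 0),1⟩, ⟨6,(Int.negSucc 0),1⟩, ⟨7,(Int.negSucc 0),1⟩, ⟨101,(Int.negSucc 0),2⟩] (.node 150 [⟨118,(Int.negSucc 0),1⟩] (.node 142 [⟨106,(Int.ofNat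 1),1⟩] (.node 137 [⟨105,(Int.ofNat 1),1⟩] (.node 133 [⟨104,(Int.ofNat 1),1⟩] .nil .nil) .nil) (.node 149 [⟨113,(Int.negSucc 0),1⟩] .nil .nil)) (.node 152 [⟨125,(Int.negSucc 0),1⟩] (.node 151 [⟨122,(Int.negSucc 0),1⟩] .nil .nil) (.node 153 [⟨127,(Int.negSucc 0),1⟩] .nil .nil))) (.node 168 [⟨146,(Int.negSucc 0),1⟩] (.node 163 [⟨144,(Int.negSucc 0),1⟩] (.node 159 [⟨143,(Int.negSucc 0),1⟩] .nil .nil) (.node 166 [⟨145,(Int.negSucc 0),1⟩] .nil .nil)) (.node 181 [⟨171,(Int.negSucc 0),1⟩] (.node 169 [⟨147,(Int.negSucc 0),1⟩] .nil .nil) (.node 185 [⟨172,(Int.negSucc 0),1⟩] .nil .nil)))) (.node 221 [⟨199,(Int.negSucc 0),1⟩] (.node 216 [⟨193,(Int.negSucc 0),1⟩] (.node 191 [⟨175,(Int.negSucc 0),1⟩] (.node 190 [⟨174,(Int.negSucc 0),1⟩] .nil .nil) (.node 214 [⟨192,(Int.negSucc 0),1⟩] .nil .nil)) (.node 219 [⟨196,(Int.negSucc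 0),1⟩] (.node 217 [⟨194,(Int.negSucc 0),1⟩] .nil .nil) (.node 220 [⟨197,(Int.negSucc 0),1⟩] .nil .nil))) (.node 226 [⟨208,(Int.negSucc 0),1⟩] (.node 224 [⟨203,(Int.negSucc 0),1⟩] (.node 223 [⟨202,(Int.negSucc 0),1⟩] .nil .nil) (.node 225 [⟨205,(Int.negSucc 0),1⟩] .nil .nil)) (.node 241 [⟨234,(Int.negSucc 0),1⟩] (.node 233 [⟨227,(Int.negSucc 0),1⟩] .nil .nil) (.node 247 [⟨240,(Int.ofNat 1),1⟩] .nil .nil))))))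
noncomputable def col94 : Tr Cl := (.node 129 [⟨103,(Int.ofNat 1),1⟩] (.node 57 [⟨35,(Int.negSucc 0),1⟩] (.node 15 [⟨9,(Int.negSucc 0),1⟩] (.node 4 [⟨102,(Int.ofNat 0),1⟩] (.node 2 [⟨102,(Int.negSucc 0),1⟩] (.node 1 [⟨102,(Int.ofNat 1),1⟩] (.node 0 [⟨102,(Int.ofNat 0),1⟩] .nil .nil) .nil) (.node 3 [⟨102,(Int.ofNat 0),1⟩] .nil .nil)) (.node 6 [⟨102,(Int.ofNat 1),1⟩] (.node 5 [⟨102,(Int.ofNat 0),1⟩] .nil .nil) (.node 7 [⟨102,(Int.negSucc 0),1⟩] .nil .nil))) (.node 49 [⟨30,(Int.negSucc 0),1⟩] (.node 27 [⟨22,(Int.negSucc 0),1⟩] (.node 20 [⟨14,(Int.negSucc 0),1⟩] .nil .nil) (.node 46 [⟨29,(Int.negSucc 0),1⟩] .nil .nil)) (.node 53 [⟨33,(Int.ofNat 1),1⟩] (.node 51 [⟨31,(Int.negSucc 0),1⟩] .nil .nil) (.node 55 [⟨34,(Int.negSucc 0),1⟩] .nil .nil)))) (.node 83 [⟨71,(Int.ofNat 1),1⟩] (.node 63 [⟨42,(Int.ofNat 1),1⟩] (.node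 60 [⟨38,(Int.negSucc 0),1⟩] (.node 59 [⟨37,(Int.ofNat 1),1⟩] .nil .nil) (.node 62 [⟨40,(Int.ofNat 1),1⟩] .nil .nil)) (.node 81 [⟨66,(Int.ofNat 1),1⟩] (.node 79 [⟨64,(Int.negSucc 0),1⟩] .nil .nil) (.node 82 [⟨68,(Int.ofNat 1),1⟩] .nil .nil))) (.node 110 [⟨90,(Int.ofNat 1),1⟩] (.node 107 [⟨86,(Int.negSucc 0),1⟩] (.node 84 [⟨75,(Int.ofNat 1),1⟩] .nil .nil) (.node 109 [⟨88,(Int.ofNat 1),1⟩] .nil .nil)) (.node 112 [⟨97,(Int.ofNat 1),1⟩] (.node 111 [⟨93,(Int.ofNat 1),1⟩] .nil .nil) (.node 127 [⟨101,(Int.ofNat 1),1⟩] .nil .nil))))) (.node 187 [⟨173,(Int.negSucc 0),1⟩] (.node 154 [⟨128,(Int.negSucc 0),1⟩] (.node 150 [⟨119,(Int.negSucc 0),1⟩] (.node 141 [⟨106,(Int.ofNat 1),1⟩] (.node 136 [⟨105,(Int.ofNat 1),1⟩] (.node 132 [⟨104,(Int.ofNat 1),1⟩] .nil .nil) .nil) (.node 149 [⟨114,(Int.negSucc 0),1⟩] .nil .nil)) (.node 152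 [⟨126,(Int.negSucc 0),1⟩] (.node 151 [⟨123,(Int.negSucc 0),1⟩] .nil .nil) (.node 153 [⟨0,(Int.ofNat 0),1⟩, ⟨1,(Int.negSucc 0),1⟩, ⟨2,(Int.ofNat 0),1⟩, ⟨3,(Int.negSucc 0),1⟩, ⟨4,(Int.negSucc 0),1⟩, ⟨5,(Int.negSucc 0),1⟩, ⟨6,(Int.negSucc 0),1⟩, ⟨7,(Int.ofNat 0),1⟩, ⟨102,(Int.negSucc 0),2⟩] .nil .nil))) (.node 167 [⟨146,(Int.negSucc 0),1⟩] (.node 162 [⟨144,(Int.negSucc 0),1⟩] (.node 158 [⟨143,(Int.negSucc 0),1⟩] .nil .nil) (.node 165 [⟨145,(Int.negSucc 0),1⟩] .nil .nil)) (.node 180 [⟨171,(Int.negSucc 0),1⟩] (.node 169 [⟨148,(Int.ofNat 1),1⟩] .nil .nil) (.node 184 [⟨172,(Int.negSucc 0),1⟩] .nil .nil)))) (.node 221 [⟨200,(Int.ofNat 1),1⟩] (.node 215 [⟨193,(Int.negSucc 0),1⟩] (.node 191 [⟨176,(Int.ofNat 1),1⟩] (.node 189 [⟨174,(Int.negSucc 0),1⟩] .nil .nil) (.node 213 [⟨192,(Int.negSucc 0),1⟩] .nil .nil)) (.node 218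 [⟨196,(Int.negSucc 0),1⟩] (.node 217 [⟨195,(Int.ofNat 1),1⟩] .nil .nil) (.node 220 [⟨198,(Int.ofNat 1),1⟩] .nil .nil))) (.node 226 [⟨209,(Int.ofNat 1),1⟩] (.node 224 [⟨204,(Int.ofNat 1),1⟩] (.node 222 [⟨202,(Int.negSucc 0),1⟩] .nil .nil) (.node 225 [⟨206,(Int.ofNat 1),1⟩] .nil .nil)) (.node 241 [⟨235,(Int.ofNat 1),1⟩] (.node 233 [⟨228,(Int.ofNat 1),1⟩] .nil .nil) (.node 246 [⟨240,(Int.ofNat 1),1⟩] .nil .nil))))))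
noncomputable def col95 : Tr Cl := (.node 126 [⟨102,(Int.ofNat 1),1⟩] (.node 57 [⟨36,(Int.negSucc 0),1⟩] (.node 15 [⟨10,(Int.negSucc 0),1⟩] (.node 4 [⟨103,(Int.ofNat 0),1⟩] (.node 2 [⟨103,(Int.negSucc 0),1⟩] (.node 1 [⟨103,(Int.ofNat 1),1⟩] (.node 0 [⟨103,(Int.ofNat 0),1⟩] .nil .nil) .nil) (.node 3 [⟨103,(Int.ofNat 0),1⟩] .nil .nil)) (.node 6 [⟨103,(Int.negSucc 0),1⟩] (.node 5 [⟨103,(Int.ofNat 1),1⟩] .nil .nil) (.node 7 [⟨103,(Int.ofNat 0),1⟩] .nil .nil))) (.node 48 [⟨30,(Int.ofNat 1),1⟩] (.node 26 [⟨22,(Int.ofNat 1),1⟩] (.node 19 [⟨14,(Int.ofNat 1),1⟩] .nil .nil) (.node 45 [⟨29,(Int.ofNat 1),1⟩] .nil .nil)) (.node 52 [⟨33,(Int.negSucc 0),1⟩] (.node 51 [⟨32,(Int.negSucc 0),1⟩] .nil .nil) (.node 54 [⟨34,(Int.ofNat 1),1⟩] .nil .nil)))) (.node 83 [⟨72,(Int.ofNat 1),1⟩] (.node 63 [⟨43,(Int.ofNat 1),1⟩] (.node 60 [⟨39,(Int.negSucc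 0),1⟩] (.node 58 [⟨37,(Int.negSucc 0),1⟩] .nil .nil) (.node 61 [⟨40,(Int.negSucc 0),1⟩] .nil .nil)) (.node 80 [⟨66,(Int.negSucc 0),1⟩] (.node 79 [⟨65,(Int.negSucc 0),1⟩] .nil .nil) (.node 82 [⟨69,(Int.ofNat 1),1⟩] .nil .nil))) (.node 110 [⟨91,(Int.ofNat 1),1⟩] (.node 107 [⟨87,(Int.negSucc 0),1⟩] (.node 84 [⟨76,(Int.ofNat 1),1⟩] .nil .nil) (.node 108 [⟨88,(Int.negSucc 0),1⟩] .nil .nil)) (.node 112 [⟨98,(Int.ofNat 1),1⟩] (.node 111 [⟨94,(Int.ofNat 1),1⟩] .nil .nil) (.node 125 [⟨101,(Int.ofNat 1),1⟩] .nil .nil))))) (.node 186 [⟨173,(Int.negSucc 0),1⟩] (.node 154 [⟨130,(Int.negSucc 0),1⟩] (.node 150 [⟨120,(Int.negSucc 0),1⟩] (.node 140 [⟨106,(Int.ofNat 1),1⟩] (.node 135 [⟨105,(Int.ofNat 1),1⟩] (.node 131 [⟨104,(Int.ofNat 1),1⟩] .nil .nil) .nil) (.node 149 [⟨115,(Int.negSucc 0),1⟩] .nil .nil)) (.node 152 [⟨0,(Int.ofNat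 0),1⟩, ⟨1,(Int.negSucc 0),1⟩, ⟨2,(Int.ofNat 0),1⟩, ⟨3,(Int.negSucc 0),1⟩, ⟨4,(Int.negSucc 0),1⟩, ⟨5,(Int.negSucc 0),1⟩, ⟨6,(Int.ofNat 0),1⟩, ⟨7,(Int.ofNat 0),1⟩, ⟨103,(Int.negSucc 0),2⟩] (.node 151 [⟨124,(Int.negSucc 0),1⟩] .nil .nil) (.node 153 [⟨129,(Int.negSucc 0),1⟩] .nil .nil))) (.node 167 [⟨147,(Int.ofNat 1),1⟩] (.node 161 [⟨144,(Int.negSucc 0),1⟩] (.node 157 [⟨143,(Int.negSucc 0),1⟩] .nil .nil) (.node 164 [⟨145,(Int.negSucc 0),1⟩] .nil .nil)) (.node 179 [⟨171,(Int.negSucc 0),1⟩] (.node 168 [⟨148,(Int.ofNat 1),1⟩] .nil .nil) (.node 183 [⟨172,(Int.negSucc 0),1⟩] .nil .nil)))) (.node 221 [⟨201,(Int.negSucc 0),1⟩] (.node 215 [⟨194,(Int.ofNat 1),1⟩] (.node 190 [⟨176,(Int.ofNat 1),1⟩] (.node 189 [⟨175,(Int.ofNat 1),1⟩] .nil .nil) (.node 212 [⟨192,(Int.negSucc 0),1⟩] .nil .nil)) (.node 218 [⟨197,(Int.ofNat 1),1⟩]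 (.node 216 [⟨195,(Int.ofNat 1),1⟩] .nil .nil) (.node 219 [⟨198,(Int.ofNat 1),1⟩] .nil .nil))) (.node 226 [⟨210,(Int.negSucc 0),1⟩] (.node 223 [⟨204,(Int.ofNat 1),1⟩] (.node 222 [⟨203,(Int.ofNat 1),1⟩] .nil .nil) (.node 225 [⟨207,(Int.negSucc 0),1⟩] .nil .nil)) (.node 241 [⟨236,(Int.negSucc 0),1⟩] (.node 233 [⟨229,(Int.negSucc 0),1⟩] .nil .nil) (.node 245 [⟨240,(Int.ofNat 1),1⟩] .nil .nil))))))
noncomputable def col96 : Tr Cl := (.node 123 [⟨102,(Int.ofNat 1),1⟩] (.node 55 [⟨36,(Int.ofNat 1),1⟩] (.node 15 [⟨11,(Int.negSucc 0),1⟩] (.node 4 [⟨104,(Int.ofNat 1),1⟩] (.node 2 [⟨104,(Int.negSucc 0),1⟩] (.node 1 [⟨104,(Int.ofNat 1),1⟩] (.node 0 [⟨104,(Int.ofNat 0),1⟩] .nil .nil) .nil) (.node 3 [⟨104,(Int.ofNat 0),1⟩] .nil .nil)) (.node 6 [⟨104,(Int.ofNat 0),1⟩] (.node 5 [⟨104,(Int.negSucc 0),1⟩] .nil .nil) (.node 7 [⟨104,(Int.ofNat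 0),1⟩] .nil .nil))) (.node 48 [⟨31,(Int.ofNat 1),1⟩] (.node 25 [⟨22,(Int.negSucc 0),1⟩] (.node 18 [⟨14,(Int.negSucc 0),1⟩] .nil .nil) (.node 44 [⟨29,(Int.negSucc 0),1⟩] .nil .nil)) (.node 50 [⟨33,(Int.ofNat 1),1⟩] (.node 49 [⟨32,(Int.ofNat 1),1⟩] .nil .nil) (.node 54 [⟨35,(Int.ofNat 1),1⟩] .nil .nil)))) (.node 83 [⟨73,(Int.ofNat 1),1⟩] (.node 62 [⟨43,(Int.negSucc 0),1⟩] (.node 60 [⟨41,(Int.negSucc 0),1⟩] (.node 56 [⟨37,(Int.ofNat 1),1⟩] .nil .nil) (.node 61 [⟨42,(Int.negSucc 0),1⟩] .nil .nil)) (.node 80 [⟨68,(Int.negSucc 0),1⟩] (.node 79 [⟨67,(Int.negSucc 0),1⟩] .nil .nil) (.node 81 [⟨69,(Int.negSucc 0),1⟩] .nil .nil))) (.node 109 [⟨91,(Int.negSucc 0),1⟩] (.node 107 [⟨89,(Int.negSucc 0),1⟩] (.node 84 [⟨77,(Int.ofNat 1),1⟩] .nil .nil) (.node 108 [⟨90,(Int.negSucc 0),1⟩] .nil .nil)) (.node 112 [⟨99,(Int.ofNat 1),1⟩]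 (.node 111 [⟨95,(Int.ofNat 1),1⟩] .nil .nil) (.node 122 [⟨101,(Int.ofNat 1),1⟩] .nil .nil))))) (.node 186 [⟨174,(Int.ofNat 1),1⟩] (.node 154 [⟨133,(Int.negSucc 0),1⟩] (.node 150 [⟨121,(Int.negSucc 0),1⟩] (.node 139 [⟨106,(Int.ofNat 1),1⟩] (.node 134 [⟨105,(Int.ofNat 1),1⟩] (.node 124 [⟨103,(Int.ofNat 1),1⟩] .nil .nil) .nil) (.node 149 [⟨116,(Int.negSucc 0),1⟩] .nil .nil)) (.node 152 [⟨131,(Int.negSucc 0),1⟩] (.node 151 [⟨0,(Int.ofNat 0),1⟩, ⟨1,(Int.negSucc 0),1⟩, ⟨2,(Int.ofNat 0),1⟩, ⟨3,(Int.negSucc 0),1⟩, ⟨4,(Int.negSucc 0),1⟩, ⟨5,(Int.ofNat 0),1⟩, ⟨6,(Int.ofNat 0),1⟩, ⟨7,(Int.ofNat 0),1⟩, ⟨104,(Int.negSucc 0),2⟩] .nil .nil) (.node 153 [⟨132,(Int.negSucc 0),1⟩] .nil .nil))) (.node 165 [⟨147,(Int.ofNat 1),1⟩] (.node 160 [⟨144,(Int.negSucc 0),1⟩] (.node 156 [⟨143,(Int.negSucc 0),1⟩] .nil .nil) (.node 164 [⟨146,(Int.ofNat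 1),1⟩] .nil .nil)) (.node 178 [⟨171,(Int.negSucc 0),1⟩] (.node 166 [⟨148,(Int.ofNat 1),1⟩] .nil .nil) (.node 182 [⟨172,(Int.negSucc 0),1⟩] .nil .nil)))) (.node 220 [⟨201,(Int.negSucc 0),1⟩] (.node 213 [⟨194,(Int.ofNat 1),1⟩] (.node 188 [⟨176,(Int.ofNat 1),1⟩] (.node 187 [⟨175,(Int.ofNat 1),1⟩] .nil .nil) (.node 212 [⟨193,(Int.ofNat 1),1⟩] .nil .nil)) (.node 218 [⟨199,(Int.negSucc 0),1⟩] (.node 214 [⟨195,(Int.ofNat 1),1⟩] .nil .nil) (.node 219 [⟨200,(Int.negSucc 0),1⟩] .nil .nil))) (.node 226 [⟨211,(Int.ofNat 1),1⟩] (.node 223 [⟨206,(Int.negSucc 0),1⟩] (.node 222 [⟨205,(Int.negSucc 0),1⟩] .nil .nil) (.node 224 [⟨207,(Int.negSucc 0),1⟩] .nil .nil)) (.node 241 [⟨237,(Int.ofNat 1),1⟩] (.node 233 [⟨230,(Int.ofNat 1),1⟩] .nil .nil) (.node 244 [⟨240,(Int.ofNat 1),1⟩] .nil .nil))))))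
noncomputable def col97 : Tr Cl := (.node 119 [⟨102,(Int.ofNat 1),1⟩] (.node 55 [⟨39,(Int.ofNat 1),1⟩] (.node 15 [⟨12,(Int.negSucc 0),1⟩] (.node 4 [⟨105,(Int.negSucc 0),1⟩] (.node 2 [⟨105,(Int.negSucc 0),1⟩] (.node 1 [⟨105,(Int.ofNat 1),1⟩] (.node 0 [⟨105,(Int.ofNat 0),1⟩] .nil .nil) .nil) (.node 3 [⟨105,(Int.ofNat 1),1⟩] .nil .nil)) (.node 6 [⟨105,(Int.ofNat 0),1⟩] (.node 5 [⟨105,(Int.ofNat 0),1⟩] .nil .nil) (.node 7 [⟨105,(Int.ofNat 0),1⟩] .nil .nil))) (.node 45 [⟨31,(Int.negSucc 0),1⟩] (.node 24 [⟨22,(Int.ofNat 1),1⟩] (.node 17 [⟨14,(Int.ofNat 1),1⟩] .nil .nil) (.node 44 [⟨30,(Int.negSucc 0),1⟩] .nil .nil)) (.node 47 [⟨33,(Int.negSucc 0),1⟩] (.node 46 [⟨32,(Int.negSucc 0),1⟩] .nil .nil) (.node 54 [⟨38,(Int.ofNat 1),1⟩] .nil .nil)))) (.node 82 [⟨73,(Int.negSucc 0),1⟩] (.node 59 [⟨43,(Int.ofNat 1),1⟩] (.node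 57 [⟨41,(Int.ofNat 1),1⟩] (.node 56 [⟨40,(Int.ofNat 1),1⟩] .nil .nil) (.node 58 [⟨42,(Int.ofNat 1),1⟩] .nil .nil)) (.node 80 [⟨71,(Int.negSucc 0),1⟩] (.node 79 [⟨70,(Int.negSucc 0),1⟩] .nil .nil) (.node 81 [⟨72,(Int.negSucc 0),1⟩] .nil .nil))) (.node 109 [⟨94,(Int.negSucc 0),1⟩] (.node 107 [⟨92,(Int.negSucc 0),1⟩] (.node 84 [⟨78,(Int.ofNat 1),1⟩] .nil .nil) (.node 108 [⟨93,(Int.negSucc 0),1⟩] .nil .nil)) (.node 112 [⟨100,(Int.ofNat 1),1⟩] (.node 110 [⟨95,(Int.negSucc 0),1⟩] .nil .nil) (.node 118 [⟨101,(Int.ofNat 1),1⟩] .nil .nil))))) (.node 183 [⟨174,(Int.ofNat 1),1⟩] (.node 154 [⟨137,(Int.negSucc 0),1⟩] (.node 150 [⟨0,(Int.ofNat 0),1⟩, ⟨1,(Int.negSucc 0),1⟩, ⟨2,(Int.ofNat 0),1⟩, ⟨3,(Int.negSucc 0),1⟩, ⟨4,(Int.ofNat 0),1⟩, ⟨5,(Int.ofNat 0),1⟩, ⟨6,(Int.ofNat 0),1⟩, ⟨7,(Int.ofNat 0),1⟩, ⟨105,(Int.negSucc 0),2⟩]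 (.node 138 [⟨106,(Int.ofNat 1),1⟩] (.node 121 [⟨104,(Int.ofNat 1),1⟩] (.node 120 [⟨103,(Int.ofNat 1),1⟩] .nil .nil) .nil) (.node 149 [⟨117,(Int.negSucc 0),1⟩] .nil .nil)) (.node 152 [⟨135,(Int.negSucc 0),1⟩] (.node 151 [⟨134,(Int.negSucc 0),1⟩] .nil .nil) (.node 153 [⟨136,(Int.negSucc 0),1⟩] .nil .nil))) (.node 162 [⟨147,(Int.ofNat 1),1⟩] (.node 160 [⟨145,(Int.ofNat 1),1⟩] (.node 155 [⟨143,(Int.negSucc 0),1⟩] .nil .nil) (.node 161 [⟨146,(Int.ofNat 1),1⟩] .nil .nil)) (.node 177 [⟨171,(Int.negSucc 0),1⟩] (.node 163 [⟨148,(Int.ofNat 1),1⟩] .nil .nil) (.node 182 [⟨173,(Int.ofNat 1),1⟩] .nil .nil)))) (.node 217 [⟨201,(Int.negSucc 0),1⟩] (.node 213 [⟨197,(Int.negSucc 0),1⟩] (.node 185 [⟨176,(Int.ofNat 1),1⟩] (.node 184 [⟨175,(Int.ofNat 1),1⟩] .nil .nil) (.node 212 [⟨196,(Int.negSucc 0),1⟩] .nil .nil)) (.node 215 [⟨199,(Int.negSucc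 0),1⟩] (.node 214 [⟨198,(Int.negSucc 0),1⟩] .nil .nil) (.node 216 [⟨200,(Int.negSucc 0),1⟩] .nil .nil))) (.node 225 [⟨211,(Int.ofNat 1),1⟩] (.node 223 [⟨209,(Int.ofNat 1),1⟩] (.node 222 [⟨208,(Int.ofNat 1),1⟩] .nil .nil) (.node 224 [⟨210,(Int.ofNat 1),1⟩] .nil .nil)) (.node 241 [⟨238,(Int.negSucc 0),1⟩] (.node 233 [⟨231,(Int.negSucc 0),1⟩] .nil .nil) (.node 243 [⟨240,(Int.ofNat 1),1⟩] .nil .nil))))))
noncomputable def col98 : Tr Cl := (.node 114 [⟨102,(Int.ofNat 1),1⟩] (.node 49 [⟨39,(Int.negSucc 0),1⟩] (.node 15 [⟨13,(Int.negSucc 0),1⟩] (.node 4 [⟨106,(Int.ofNat 0),1⟩] (.node 2 [⟨106,(Int.ofNat 0),1⟩] (.node 1 [⟨106,(Int.ofNat 2),1⟩] (.node 0 [⟨106,(Int.ofNat 0),1⟩] .nil .nil) .nil) (.node 3 [⟨106,(Int.negSucc 0),1⟩] .nil .nil)) (.node 6 [⟨106,(Int.ofNat 0),1⟩] (.node 5 [⟨106,(Int.ofNat 0),1⟩] .nil .nil) (.node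 7 [⟨106,(Int.ofNat 0),1⟩] .nil .nil))) (.node 45 [⟨35,(Int.negSucc 0),1⟩] (.node 23 [⟨22,(Int.negSucc 0),1⟩] (.node 16 [⟨14,(Int.negSucc 0),1⟩] .nil .nil) (.node 44 [⟨34,(Int.negSucc 0),1⟩] .nil .nil)) (.node 47 [⟨37,(Int.negSucc 0),1⟩] (.node 46 [⟨36,(Int.negSucc 0),1⟩] .nil .nil) (.node 48 [⟨38,(Int.negSucc 0),1⟩] .nil .nil)))) (.node 82 [⟨77,(Int.negSucc 0),1⟩] (.node 53 [⟨43,(Int.negSucc 0),1⟩] (.node 51 [⟨41,(Int.negSucc 0),1⟩] (.node 50 [⟨40,(Int.negSucc 0),1⟩] .nil .nil) (.node 52 [⟨42,(Int.negSucc 0),1⟩] .nil .nil)) (.node 80 [⟨75,(Int.negSucc 0),1⟩] (.node 79 [⟨74,(Int.negSucc 0),1⟩] .nil .nil) (.node 81 [⟨76,(Int.negSucc 0),1⟩] .nil .nil))) (.node 109 [⟨98,(Int.negSucc 0),1⟩] (.node 107 [⟨96,(Int.negSucc 0),1⟩] (.node 83 [⟨78,(Int.negSucc 0),1⟩] .nil .nil) (.node 108 [⟨97,(Int.negSucc 0),1⟩] .nil .nil))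 (.node 111 [⟨100,(Int.negSucc 0),1⟩] (.node 110 [⟨99,(Int.negSucc 0),1⟩] .nil .nil) (.node 113 [⟨101,(Int.ofNat 1),1⟩] .nil .nil))))) (.node 179 [⟨174,(Int.ofNat 1),1⟩] (.node 154 [⟨142,(Int.negSucc 0),1⟩] (.node 150 [⟨138,(Int.negSucc 0),1⟩] (.node 117 [⟨105,(Int.ofNat 1),1⟩] (.node 116 [⟨104,(Int.ofNat 1),1⟩] (.node 115 [⟨103,(Int.ofNat 1),1⟩] .nil .nil) .nil) (.node 149 [⟨0,(Int.ofNat 0),1⟩, ⟨1,(Int.negSucc 0),1⟩, ⟨2,(Int.ofNat 0),1⟩, ⟨3,(Int.ofNat 0),1⟩, ⟨4,(Int.ofNat 0),1⟩, ⟨5,(Int.ofNat 0),1⟩, ⟨6,(Int.ofNat 0),1⟩, ⟨7,(Int.ofNat 0),1⟩, ⟨106,(Int.negSucc 0),2⟩] .nil .nil)) (.node 152 [⟨140,(Int.negSucc 0),1⟩] (.node 151 [⟨139,(Int.negSucc 0),1⟩] .nil .nil) (.node 153 [⟨141,(Int.negSucc 0),1⟩] .nil .nil))) (.node 158 [⟨147,(Int.ofNat 1),1⟩] (.node 156 [⟨145,(Int.ofNat 1),1⟩] (.node 155 [⟨144,(Int.ofNat 1),1⟩]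 .nil .nil) (.node 157 [⟨146,(Int.ofNat 1),1⟩] .nil .nil)) (.node 177 [⟨172,(Int.ofNat 1),1⟩] (.node 159 [⟨148,(Int.ofNat 1),1⟩] .nil .nil) (.node 178 [⟨173,(Int.ofNat 1),1⟩] .nil .nil)))) (.node 217 [⟨207,(Int.ofNat 1),1⟩] (.node 213 [⟨203,(Int.ofNat 1),1⟩] (.node 181 [⟨176,(Int.ofNat 1),1⟩] (.node 180 [⟨175,(Int.ofNat 1),1⟩] .nil .nil) (.node 212 [⟨202,(Int.ofNat 1),1⟩] .nil .nil)) (.node 215 [⟨205,(Int.ofNat 1),1⟩] (.node 214 [⟨204,(Int.ofNat 1),1⟩] .nil .nil) (.node 216 [⟨206,(Int.ofNat 1),1⟩] .nil .nil))) (.node 221 [⟨211,(Int.ofNat 1),1⟩] (.node 219 [⟨209,(Int.ofNat 1),1⟩] (.node 218 [⟨208,(Int.ofNat 1),1⟩] .nil .nil) (.node 220 [⟨210,(Int.ofNat 1),1⟩] .nil .nil)) (.node 241 [⟨239,(Int.ofNat 1),1⟩] (.node 233 [⟨232,(Int.ofNat 1),1⟩] .nil .nil) (.node 242 [⟨240,(Int.ofNat 1),1⟩] .nil .nil))))))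
noncomputable def col99 : Tr Cl := (.node 130 [⟨109,(Int.ofNat 1),1⟩] (.node 68 [⟨45,(Int.negSucc 0),1⟩] (.node 14 [⟨8,(Int.negSucc 0),1⟩] (.node 4 [⟨107,(Int.ofNat 0),1⟩] (.node 2 [⟨107,(Int.ofNat 1),1⟩] (.node 1 [⟨107,(Int.negSucc 0),1⟩] (.node 0 [⟨107,(Int.negSucc 0),1⟩] .nil .nil) .nil) (.node 3 [⟨107,(Int.ofNat 0),1⟩] .nil .nil)) (.node 6 [⟨107,(Int.ofNat 0),1⟩] (.node 5 [⟨107,(Int.ofNat 0),1⟩] .nil .nil) (.node 7 [⟨107,(Int.ofNat 1),1⟩] .nil .nil))) (.node 40 [⟨25,(Int.negSucc 0),1⟩] (.node 33 [⟨23,(Int.negSucc 0),1⟩] (.node 21 [⟨15,(Int.ofNat 1),1⟩] .nil .nil) (.node 37 [⟨24,(Int.negSucc 0),1⟩] .nil .nil)) (.node 43 [⟨27,(Int.negSucc 0),1⟩] (.node 42 [⟨26,(Int.negSucc 0),1⟩] .nil .nil) (.node 66 [⟨44,(Int.negSucc 0),1⟩] .nil .nil)))) (.node 78 [⟨60,(Int.negSucc 0),1⟩] (.node 73 [⟨51,(Int.negSucc 0),1⟩]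 (.node 71 [⟨48,(Int.negSucc 0),1⟩] (.node 69 [⟨46,(Int.negSucc 0),1⟩] .nil .nil) (.node 72 [⟨49,(Int.negSucc 0),1⟩] .nil .nil)) (.node 76 [⟨55,(Int.negSucc 0),1⟩] (.node 75 [⟨54,(Int.negSucc 0),1⟩] .nil .nil) (.node 77 [⟨57,(Int.negSucc 0),1⟩] .nil .nil))) (.node 104 [⟨89,(Int.ofNat 1),1⟩] (.node 102 [⟨86,(Int.ofNat 1),1⟩] (.node 85 [⟨79,(Int.negSucc 0),1⟩] .nil .nil) (.node 103 [⟨87,(Int.ofNat 1),1⟩] .nil .nil)) (.node 106 [⟨96,(Int.ofNat 1),1⟩] (.node 105 [⟨92,(Int.ofNat 1),1⟩] .nil .nil) (.node 128 [⟨108,(Int.ofNat 1),1⟩] .nil .nil))))) (.node 198 [⟨178,(Int.ofNat 1),1⟩] (.node 148 [⟨0,(Int.ofNat 0),1⟩, ⟨1,(Int.ofNat 0),1⟩, ⟨2,(Int.negSucc 0),1⟩, ⟨3,(Int.negSucc 0),1⟩, ⟨4,(Int.negSucc 0),1⟩, ⟨5,(Int.negSucc 0),1⟩, ⟨6,(Int.negSucc 0),1⟩, ⟨7,(Int.negSucc 0),1⟩, ⟨107,(Int.negSucc 0),2⟩] (.node 144 [⟨118,(Int.negSucc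 0),1⟩] (.node 142 [⟨112,(Int.ofNat 1),1⟩] (.node 137 [⟨111,(Int.ofNat 1),1⟩] (.node 133 [⟨110,(Int.ofNat 1),1⟩] .nil .nil) .nil) (.node 143 [⟨113,(Int.negSucc 0),1⟩] .nil .nil)) (.node 146 [⟨125,(Int.negSucc 0),1⟩] (.node 145 [⟨122,(Int.negSucc 0),1⟩] .nil .nil) (.node 147 [⟨127,(Int.negSucc 0),1⟩] .nil .nil))) (.node 168 [⟨152,(Int.negSucc 0),1⟩] (.node 163 [⟨150,(Int.negSucc 0),1⟩] (.node 159 [⟨149,(Int.negSucc 0),1⟩] .nil .nil) (.node 166 [⟨151,(Int.negSucc 0),1⟩] .nil .nil)) (.node 176 [⟨170,(Int.ofNat 1),1⟩] (.node 169 [⟨153,(Int.negSucc 0),1⟩] .nil .nil) (.node 195 [⟨177,(Int.ofNat 1),1⟩] .nil .nil)))) (.node 211 [⟨189,(Int.ofNat 1),1⟩] (.node 206 [⟨183,(Int.ofNat 1),1⟩] (.node 201 [⟨180,(Int.ofNat 1),1⟩] (.node 200 [⟨179,(Int.ofNat 1),1⟩] .nil .nil) (.node 204 [⟨182,(Int.ofNat 1),1⟩] .nil .nil)) (.node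 209 [⟨186,(Int.ofNat 1),1⟩] (.node 207 [⟨184,(Int.ofNat 1),1⟩] .nil .nil) (.node 210 [⟨187,(Int.ofNat 1),1⟩] .nil .nil))) (.node 231 [⟨218,(Int.ofNat 1),1⟩] (.node 229 [⟨213,(Int.ofNat 1),1⟩] (.node 228 [⟨212,(Int.ofNat 1),1⟩] .nil .nil) (.node 230 [⟨215,(Int.ofNat 1),1⟩] .nil .nil)) (.node 240 [⟨234,(Int.negSucc 0),1⟩] (.node 232 [⟨222,(Int.ofNat 1),1⟩] .nil .nil) (.node 247 [⟨241,(Int.ofNat 1),1⟩] .nil .nil))))))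
noncomputable def col100 : Tr Cl := (.node 129 [⟨109,(Int.ofNat 1),1⟩] (.node 67 [⟨45,(Int.ofNat 1),1⟩] (.node 14 [⟨9,(Int.negSucc 0),1⟩] (.node 4 [⟨108,(Int.ofNat 0),1⟩] (.node 2 [⟨108,(Int.ofNat 1),1⟩] (.node 1 [⟨108,(Int.negSucc 0),1⟩] (.node 0 [⟨108,(Int.negSucc 0),1⟩] .nil .nil) .nil) (.node 3 [⟨108,(Int.ofNat 0),1⟩] .nil .nil)) (.node 6 [⟨108,(Int.ofNat 1),1⟩] (.node 5 [⟨108,(Int.ofNat 0),1⟩] .nil .nil) (.node 7 [⟨108,(Int.negSucc 0),1⟩] .nil .nil))) (.node 39 [⟨25,(Int.ofNat 1),1⟩] (.node 32 [⟨23,(Int.ofNat 1),1⟩] (.node 20 [⟨15,(Int.negSucc 0),1⟩] .nil .nil) (.node 36 [⟨24,(Int.ofNat 1),1⟩] .nil .nil)) (.node 43 [⟨28,(Int.negSucc 0),1⟩] (.node 41 [⟨26,(Int.ofNat 1),1⟩] .nil .nil) (.node 65 [⟨44,(Int.ofNat 1),1⟩] .nil .nil)))) (.node 78 [⟨61,(Int.negSucc 0),1⟩] (.node 73 [⟨52,(Int.negSucc 0),1⟩] (.node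 70 [⟨48,(Int.ofNat 1),1⟩] (.node 69 [⟨47,(Int.negSucc 0),1⟩] .nil .nil) (.node 72 [⟨50,(Int.negSucc 0),1⟩] .nil .nil)) (.node 76 [⟨56,(Int.negSucc 0),1⟩] (.node 74 [⟨54,(Int.ofNat 1),1⟩] .nil .nil) (.node 77 [⟨58,(Int.negSucc 0),1⟩] .nil .nil))) (.node 104 [⟨90,(Int.ofNat 1),1⟩] (.node 101 [⟨86,(Int.negSucc 0),1⟩] (.node 85 [⟨80,(Int.negSucc 0),1⟩] .nil .nil) (.node 103 [⟨88,(Int.ofNat 1),1⟩] .nil .nil)) (.node 106 [⟨97,(Int.ofNat 1),1⟩] (.node 105 [⟨93,(Int.ofNat 1),1⟩] .nil .nil) (.node 127 [⟨107,(Int.ofNat 1),1⟩] .nil .nil))))) (.node 197 [⟨178,(Int.ofNat 1),1⟩] (.node 148 [⟨128,(Int.negSucc 0),1⟩] (.node 144 [⟨119,(Int.negSucc 0),1⟩] (.node 141 [⟨112,(Int.ofNat 1),1⟩] (.node 136 [⟨111,(Int.ofNat 1),1⟩] (.node 132 [⟨110,(Int.ofNat 1),1⟩] .nil .nil) .nil) (.node 143 [⟨114,(Int.negSucc 0),1⟩] .nil .nil)) (.node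 146 [⟨126,(Int.negSucc 0),1⟩] (.node 145 [⟨123,(Int.negSucc 0),1⟩] .nil .nil) (.node 147 [⟨0,(Int.ofNat 0),1⟩, ⟨1,(Int.ofNat 0),1⟩, ⟨2,(Int.negSucc 0),1⟩, ⟨3,(Int.negSucc 0),1⟩, ⟨4,(Int.negSucc 0),1⟩, ⟨5,(Int.negSucc 0),1⟩, ⟨6,(Int.negSucc 0),1⟩, ⟨7,(Int.ofNat 0),1⟩, ⟨108,(Int.negSucc 0),2⟩] .nil .nil))) (.node 167 [⟨152,(Int.negSucc 0),1⟩] (.node 162 [⟨150,(Int.negSucc 0),1⟩] (.node 158 [⟨149,(Int.negSucc 0),1⟩] .nil .nil) (.node 165 [⟨151,(Int.negSucc 0),1⟩] .nil .nil)) (.node 175 [⟨170,(Int.ofNat 1),1⟩] (.node 169 [⟨154,(Int.ofNat 1),1⟩] .nil .nil) (.node 194 [⟨177,(Int.ofNat 1),1⟩] .nil .nil)))) (.node 211 [⟨190,(Int.negSucc 0),1⟩] (.node 205 [⟨183,(Int.ofNat 1),1⟩] (.node 201 [⟨181,(Int.negSucc 0),1⟩] (.node 199 [⟨179,(Int.ofNat 1),1⟩] .nil .nil) (.node 203 [⟨182,(Int.ofNat 1),1⟩] .nil .nil)) (.node 208 [⟨186,(Int.ofNat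 1),1⟩] (.node 207 [⟨185,(Int.negSucc 0),1⟩] .nil .nil) (.node 210 [⟨188,(Int.negSucc 0),1⟩] .nil .nil))) (.node 231 [⟨219,(Int.negSucc 0),1⟩] (.node 229 [⟨214,(Int.negSucc 0),1⟩] (.node 227 [⟨212,(Int.ofNat 1),1⟩] .nil .nil) (.node 230 [⟨216,(Int.negSucc 0),1⟩] .nil .nil)) (.node 240 [⟨235,(Int.ofNat 1),1⟩] (.node 232 [⟨223,(Int.negSucc 0),1⟩] .nil .nil) (.node 246 [⟨241,(Int.ofNat 1),1⟩] .nil .nil))))))
noncomputable def col101 : Tr Cl := (.node 126 [⟨108,(Int.ofNat 1),1⟩] (.node 67 [⟨46,(Int.ofNat 1),1⟩] (.node 14 [⟨10,(Int.negSucc 0),1⟩] (.node 4 [⟨109,(Int.ofNat 0),1⟩] (.node 2 [⟨109,(Int.ofNat 1),1⟩] (.node 1 [⟨109,(Int.negSucc 0),1⟩] (.node 0 [⟨109,(Int.negSucc 0),1⟩] .nil .nil) .nil) (.node 3 [⟨109,(Int.ofNat 0),1⟩] .nil .nil)) (.node 6 [⟨109,(Int.negSucc 0),1⟩] (.node 5 [⟨109,(Int.ofNat 1),1⟩] .nil .nil)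 (.node 7 [⟨109,(Int.ofNat 0),1⟩] .nil .nil))) (.node 38 [⟨25,(Int.negSucc 0),1⟩] (.node 31 [⟨23,(Int.negSucc 0),1⟩] (.node 19 [⟨15,(Int.ofNat 1),1⟩] .nil .nil) (.node 35 [⟨24,(Int.negSucc 0),1⟩] .nil .nil)) (.node 42 [⟨28,(Int.ofNat 1),1⟩] (.node 41 [⟨27,(Int.ofNat 1),1⟩] .nil .nil) (.node 64 [⟨44,(Int.negSucc 0),1⟩] .nil .nil)))) (.node 78 [⟨62,(Int.negSucc 0),1⟩] (.node 73 [⟨53,(Int.negSucc 0),1⟩] (.node 70 [⟨49,(Int.ofNat 1),1⟩] (.node 68 [⟨47,(Int.ofNat 1),1⟩] .nil .nil) (.node 71 [⟨50,(Int.ofNat 1),1⟩] .nil .nil)) (.node 75 [⟨56,(Int.ofNat 1),1⟩] (.node 74 [⟨55,(Int.ofNat 1),1⟩] .nil .nil) (.node 77 [⟨59,(Int.negSucc 0),1⟩] .nil .nil))) (.node 104 [⟨91,(Int.ofNat 1),1⟩] (.node 101 [⟨87,(Int.negSucc 0),1⟩] (.node 85 [⟨81,(Int.negSucc 0),1⟩] .nil .nil) (.node 102 [⟨88,(Int.negSucc 0),1⟩] .nil .nil)) (.node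 106 [⟨98,(Int.ofNat 1),1⟩] (.node 105 [⟨94,(Int.ofNat 1),1⟩] .nil .nil) (.node 125 [⟨107,(Int.ofNat 1),1⟩] .nil .nil))))) (.node 196 [⟨178,(Int.ofNat 1),1⟩] (.node 148 [⟨130,(Int.negSucc 0),1⟩] (.node 144 [⟨120,(Int.negSucc 0),1⟩] (.node 140 [⟨112,(Int.ofNat 1),1⟩] (.node 135 [⟨111,(Int.ofNat 1),1⟩] (.node 131 [⟨110,(Int.ofNat 1),1⟩] .nil .nil) .nil) (.node 143 [⟨115,(Int.negSucc 0),1⟩] .nil .nil)) (.node 146 [⟨0,(Int.ofNat 0),1⟩, ⟨1,(Int.ofNat 0),1⟩, ⟨2,(Int.negSucc 0),1⟩, ⟨3,(Int.negSucc 0),1⟩, ⟨4,(Int.negSucc 0),1⟩, ⟨5,(Int.negSucc 0),1⟩, ⟨6,(Int.ofNat 0),1⟩, ⟨7,(Int.ofNat 0),1⟩, ⟨109,(Int.negSucc 0),2⟩] (.node 145 [⟨124,(Int.negSucc 0),1⟩] .nil .nil) (.node 147 [⟨129,(Int.negSucc 0),1⟩] .nil .nil))) (.node 167 [⟨153,(Int.ofNat 1),1⟩] (.node 161 [⟨150,(Int.negSucc 0),1⟩] (.node 157 [⟨149,(Int.negSucc 0),1⟩]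 .nil .nil) (.node 164 [⟨151,(Int.negSucc 0),1⟩] .nil .nil)) (.node 174 [⟨170,(Int.ofNat 1),1⟩] (.node 168 [⟨154,(Int.ofNat 1),1⟩] .nil .nil) (.node 193 [⟨177,(Int.ofNat 1),1⟩] .nil .nil)))) (.node 211 [⟨191,(Int.ofNat 1),1⟩] (.node 205 [⟨184,(Int.negSucc 0),1⟩] (.node 200 [⟨181,(Int.negSucc 0),1⟩] (.node 199 [⟨180,(Int.negSucc 0),1⟩] .nil .nil) (.node 202 [⟨182,(Int.ofNat 1),1⟩] .nil .nil)) (.node 208 [⟨187,(Int.negSucc 0),1⟩] (.node 206 [⟨185,(Int.negSucc 0),1⟩] .nil .nil) (.node 209 [⟨188,(Int.negSucc 0),1⟩] .nil .nil))) (.node 231 [⟨220,(Int.ofNat 1),1⟩] (.node 228 [⟨214,(Int.negSucc 0),1⟩] (.node 227 [⟨213,(Int.negSucc 0),1⟩] .nil .nil) (.node 230 [⟨217,(Int.ofNat 1),1⟩] .nil .nil)) (.node 240 [⟨236,(Int.negSucc 0),1⟩] (.node 232 [⟨224,(Int.ofNat 1),1⟩] .nil .nil) (.node 245 [⟨241,(Int.ofNat 1),1⟩] .nil .nil))))))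
noncomputable def col102 : Tr Cl := (.node 123 [⟨108,(Int.ofNat 1),1⟩] (.node 65 [⟨46,(Int.negSucc 0),1⟩] (.node 14 [⟨11,(Int.negSucc 0),1⟩] (.node 4 [⟨110,(Int.ofNat 1),1⟩] (.node 2 [⟨110,(Int.ofNat 1),1⟩] (.node 1 [⟨110,(Int.negSucc 0),1⟩] (.node 0 [⟨110,(Int.negSucc 0),1⟩] .nil .nil) .nil) (.node 3 [⟨110,(Int.ofNat 0),1⟩] .nil .nil)) (.node 6 [⟨110,(Int.ofNat 0),1⟩] (.node 5 [⟨110,(Int.negSucc 0),1⟩] .nil .nil) (.node 7 [⟨110,(Int.ofNat 0),1⟩] .nil .nil))) (.node 38 [⟨26,(Int.negSucc 0),1⟩] (.node 30 [⟨23,(Int.ofNat 1),1⟩] (.node 18 [⟨15,(Int.negSucc 0),1⟩] .nil .nil) (.node 34 [⟨24,(Int.ofNat 1),1⟩] .nil .nil)) (.node 40 [⟨28,(Int.negSucc 0),1⟩] (.node 39 [⟨27,(Int.negSucc 0),1⟩] .nil .nil) (.node 64 [⟨45,(Int.negSucc 0),1⟩] .nil .nil)))) (.node 78 [⟨63,(Int.negSucc 0),1⟩] (.node 72 [⟨53,(Int.ofNat 1),1⟩]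 (.node 70 [⟨51,(Int.ofNat 1),1⟩] (.node 66 [⟨47,(Int.negSucc 0),1⟩] .nil .nil) (.node 71 [⟨52,(Int.ofNat 1),1⟩] .nil .nil)) (.node 75 [⟨58,(Int.ofNat 1),1⟩] (.node 74 [⟨57,(Int.ofNat 1),1⟩] .nil .nil) (.node 76 [⟨59,(Int.ofNat 1),1⟩] .nil .nil))) (.node 103 [⟨91,(Int.negSucc 0),1⟩] (.node 101 [⟨89,(Int.negSucc 0),1⟩] (.node 85 [⟨82,(Int.negSucc 0),1⟩] .nil .nil) (.node 102 [⟨90,(Int.negSucc 0),1⟩] .nil .nil)) (.node 106 [⟨99,(Int.ofNat 1),1⟩] (.node 105 [⟨95,(Int.ofNat 1),1⟩] .nil .nil) (.node 122 [⟨107,(Int.ofNat 1),1⟩] .nil .nil))))) (.node 196 [⟨179,(Int.negSucc 0),1⟩] (.node 148 [⟨133,(Int.negSucc 0),1⟩] (.node 144 [⟨121,(Int.negSucc 0),1⟩] (.node 139 [⟨112,(Int.ofNat 1),1⟩] (.node 134 [⟨111,(Int.ofNat 1),1⟩] (.node 124 [⟨109,(Int.ofNat 1),1⟩] .nil .nil) .nil) (.node 143 [⟨116,(Int.negSucc 0),1⟩] .nil .nil))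 (.node 146 [⟨131,(Int.negSucc 0),1⟩] (.node 145 [⟨0,(Int.ofNat 0),1⟩, ⟨1,(Int.ofNat 0),1⟩, ⟨2,(Int.negSucc 0),1⟩, ⟨3,(Int.negSucc 0),1⟩, ⟨4,(Int.negSucc 0),1⟩, ⟨5,(Int.ofNat 0),1⟩, ⟨6,(Int.ofNat 0),1⟩, ⟨7,(Int.ofNat 0),1⟩, ⟨110,(Int.negSucc 0),2⟩] .nil .nil) (.node 147 [⟨132,(Int.negSucc 0),1⟩] .nil .nil))) (.node 165 [⟨153,(Int.ofNat 1),1⟩] (.node 160 [⟨150,(Int.negSucc 0),1⟩] (.node 156 [⟨149,(Int.negSucc 0),1⟩] .nil .nil) (.node 164 [⟨152,(Int.ofNat 1),1⟩] .nil .nil)) (.node 173 [⟨170,(Int.ofNat 1),1⟩] (.node 166 [⟨154,(Int.ofNat 1),1⟩] .nil .nil) (.node 192 [⟨177,(Int.ofNat 1),1⟩] .nil .nil)))) (.node 210 [⟨191,(Int.ofNat 1),1⟩] (.node 203 [⟨184,(Int.negSucc 0),1⟩] (.node 198 [⟨181,(Int.negSucc 0),1⟩] (.node 197 [⟨180,(Int.negSucc 0),1⟩] .nil .nil) (.node 202 [⟨183,(Int.negSucc 0),1⟩] .nil .nil)) (.node 208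 [⟨189,(Int.ofNat 1),1⟩] (.node 204 [⟨185,(Int.negSucc 0),1⟩] .nil .nil) (.node 209 [⟨190,(Int.ofNat 1),1⟩] .nil .nil))) (.node 231 [⟨221,(Int.negSucc 0),1⟩] (.node 228 [⟨216,(Int.ofNat 1),1⟩] (.node 227 [⟨215,(Int.ofNat 1),1⟩] .nil .nil) (.node 229 [⟨217,(Int.ofNat 1),1⟩] .nil .nil)) (.node 240 [⟨237,(Int.ofNat 1),1⟩] (.node 232 [⟨225,(Int.negSucc 0),1⟩] .nil .nil) (.node 244 [⟨241,(Int.ofNat 1),1⟩] .nil .nil))))))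
noncomputable def col103 : Tr Cl := (.node 119 [⟨108,(Int.ofNat 1),1⟩] (.node 65 [⟨49,(Int.negSucc 0),1⟩] (.node 14 [⟨12,(Int.negSucc 0),1⟩] (.node 4 [⟨111,(Int.negSucc 0),1⟩] (.node 2 [⟨111,(Int.ofNat 1),1⟩] (.node 1 [⟨111,(Int.negSucc 0),1⟩] (.node 0 [⟨111,(Int.negSucc 0),1⟩] .nil .nil) .nil) (.node 3 [⟨111,(Int.ofNat 1),1⟩] .nil .nil)) (.node 6 [⟨111,(Int.ofNat 0),1⟩] (.node 5 [⟨111,(Int.ofNat 0),1⟩] .nil .nil) (.node 7 [⟨111,(Int.ofNat 0),1⟩] .nil .nil))) (.node 35 [⟨26,(Int.ofNat 1),1⟩] (.node 29 [⟨23,(Int.negSucc 0),1⟩] (.node 17 [⟨15,(Int.ofNat 1),1⟩] .nil .nil) (.node 34 [⟨25,(Int.ofNat 1),1⟩] .nil .nil)) (.node 37 [⟨28,(Int.ofNat 1),1⟩] (.node 36 [⟨27,(Int.ofNat 1),1⟩] .nil .nil) (.node 64 [⟨48,(Int.negSucc 0),1⟩] .nil .nil)))) (.node 77 [⟨63,(Int.ofNat 1),1⟩] (.node 69 [⟨53,(Int.negSucc 0),1⟩] (.node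 67 [⟨51,(Int.negSucc 0),1⟩] (.node 66 [⟨50,(Int.negSucc 0),1⟩] .nil .nil) (.node 68 [⟨52,(Int.negSucc 0),1⟩] .nil .nil)) (.node 75 [⟨61,(Int.ofNat 1),1⟩] (.node 74 [⟨60,(Int.ofNat 1),1⟩] .nil .nil) (.node 76 [⟨62,(Int.ofNat 1),1⟩] .nil .nil))) (.node 103 [⟨94,(Int.negSucc 0),1⟩] (.node 101 [⟨92,(Int.negSucc 0),1⟩] (.node 85 [⟨83,(Int.negSucc 0),1⟩] .nil .nil) (.node 102 [⟨93,(Int.negSucc 0),1⟩] .nil .nil)) (.node 106 [⟨100,(Int.ofNat 1),1⟩] (.node 104 [⟨95,(Int.negSucc 0),1⟩] .nil .nil) (.node 118 [⟨107,(Int.ofNat 1),1⟩] .nil .nil))))) (.node 193 [⟨179,(Int.negSucc 0),1⟩] (.node 148 [⟨137,(Int.negSucc 0),1⟩] (.node 144 [⟨0,(Int.ofNat 0),1⟩, ⟨1,(Int.ofNat 0),1⟩, ⟨2,(Int.negSucc 0),1⟩, ⟨3,(Int.negSucc 0),1⟩, ⟨4,(Int.ofNat 0),1⟩, ⟨5,(Int.ofNat 0),1⟩, ⟨6,(Int.ofNat 0),1⟩, ⟨7,(Int.ofNat 0),1⟩, ⟨111,(Int.negSucc 0),2⟩]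 (.node 138 [⟨112,(Int.ofNat 1),1⟩] (.node 121 [⟨110,(Int.ofNat 1),1⟩] (.node 120 [⟨109,(Int.ofNat 1),1⟩] .nil .nil) .nil) (.node 143 [⟨117,(Int.negSucc 0),1⟩] .nil .nil)) (.node 146 [⟨135,(Int.negSucc 0),1⟩] (.node 145 [⟨134,(Int.negSucc 0),1⟩] .nil .nil) (.node 147 [⟨136,(Int.negSucc 0),1⟩] .nil .nil))) (.node 162 [⟨153,(Int.ofNat 1),1⟩] (.node 160 [⟨151,(Int.ofNat 1),1⟩] (.node 155 [⟨149,(Int.negSucc 0),1⟩] .nil .nil) (.node 161 [⟨152,(Int.ofNat 1),1⟩] .nil .nil)) (.node 172 [⟨170,(Int.ofNat 1),1⟩] (.node 163 [⟨154,(Int.ofNat 1),1⟩] .nil .nil) (.node 192 [⟨178,(Int.negSucc 0),1⟩] .nil .nil)))) (.node 207 [⟨191,(Int.ofNat 1),1⟩] (.node 203 [⟨187,(Int.ofNat 1),1⟩] (.node 195 [⟨181,(Int.negSucc 0),1⟩] (.node 194 [⟨180,(Int.negSucc 0),1⟩] .nil .nil) (.node 202 [⟨186,(Int.ofNat 1),1⟩] .nil .nil)) (.node 205 [⟨189,(Int.ofNat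 1),1⟩] (.node 204 [⟨188,(Int.ofNat 1),1⟩] .nil .nil) (.node 206 [⟨190,(Int.ofNat 1),1⟩] .nil .nil))) (.node 230 [⟨221,(Int.negSucc 0),1⟩] (.node 228 [⟨219,(Int.negSucc 0),1⟩] (.node 227 [⟨218,(Int.negSucc 0),1⟩] .nil .nil) (.node 229 [⟨220,(Int.negSucc 0),1⟩] .nil .nil)) (.node 240 [⟨238,(Int.negSucc 0),1⟩] (.node 232 [⟨226,(Int.ofNat 1),1⟩] .nil .nil) (.node 243 [⟨241,(Int.ofNat 1),1⟩] .nil .nil))))))
noncomputable def col104 : Tr Cl := (.node 114 [⟨108,(Int.ofNat 1),1⟩] (.node 65 [⟨55,(Int.negSucc 0),1⟩] (.node 14 [⟨13,(Int.negSucc 0),1⟩] (.node 4 [⟨112,(Int.ofNat 0),1⟩] (.node 2 [⟨112,(Int.ofNat 2),1⟩] (.node 1 [⟨112,(Int.ofNat 0),1⟩] (.node 0 [⟨112,(Int.negSucc 0),1⟩] .nil .nil) .nil) (.node 3 [⟨112,(Int.negSucc 0),1⟩] .nil .nil)) (.node 6 [⟨112,(Int.ofNat 0),1⟩] (.node 5 [⟨112,(Int.ofNat 0),1⟩] .nil .nil)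 (.node 7 [⟨112,(Int.ofNat 0),1⟩] .nil .nil))) (.node 31 [⟨26,(Int.negSucc 0),1⟩] (.node 29 [⟨24,(Int.negSucc 0),1⟩] (.node 16 [⟨15,(Int.negSucc 0),1⟩] .nil .nil) (.node 30 [⟨25,(Int.negSucc 0),1⟩] .nil .nil)) (.node 33 [⟨28,(Int.negSucc 0),1⟩] (.node 32 [⟨27,(Int.negSucc 0),1⟩] .nil .nil) (.node 64 [⟨54,(Int.negSucc 0),1⟩] .nil .nil)))) (.node 73 [⟨63,(Int.negSucc 0),1⟩] (.node 69 [⟨59,(Int.negSucc 0),1⟩] (.node 67 [⟨57,(Int.negSucc 0),1⟩] (.node 66 [⟨56,(Int.negSucc 0),1⟩] .nil .nil) (.node 68 [⟨58,(Int.negSucc 0),1⟩] .nil .nil)) (.node 71 [⟨61,(Int.negSucc 0),1⟩] (.node 70 [⟨60,(Int.negSucc 0),1⟩] .nil .nil) (.node 72 [⟨62,(Int.negSucc 0),1⟩] .nil .nil))) (.node 103 [⟨98,(Int.negSucc 0),1⟩] (.node 101 [⟨96,(Int.negSucc 0),1⟩] (.node 85 [⟨84,(Int.negSucc 0),1⟩] .nil .nil) (.node 102 [⟨97,(Int.negSucc 0),1⟩] .nil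 .nil)) (.node 105 [⟨100,(Int.negSucc 0),1⟩] (.node 104 [⟨99,(Int.negSucc 0),1⟩] .nil .nil) (.node 113 [⟨107,(Int.ofNat 1),1⟩] .nil .nil))))) (.node 193 [⟨183,(Int.ofNat 1),1⟩] (.node 148 [⟨142,(Int.negSucc 0),1⟩] (.node 144 [⟨138,(Int.negSucc 0),1⟩] (.node 117 [⟨111,(Int.ofNat 1),1⟩] (.node 116 [⟨110,(Int.ofNat 1),1⟩] (.node 115 [⟨109,(Int.ofNat 1),1⟩] .nil .nil) .nil) (.node 143 [⟨0,(Int.ofNat 0),1⟩, ⟨1,(Int.ofNat 0),1⟩, ⟨2,(Int.negSucc 0),1⟩, ⟨3,(Int.ofNat 0),1⟩, ⟨4,(Int.ofNat 0),1⟩, ⟨5,(Int.ofNat 0),1⟩, ⟨6,(Int.ofNat 0),1⟩, ⟨7,(Int.ofNat 0),1⟩, ⟨112,(Int.negSucc 0),2⟩] .nil .nil)) (.node 146 [⟨140,(Int.negSucc 0),1⟩] (.node 145 [⟨139,(Int.negSucc 0),1⟩] .nil .nil) (.node 147 [⟨141,(Int.negSucc 0),1⟩] .nil .nil))) (.node 158 [⟨153,(Int.ofNat 1),1⟩] (.node 156 [⟨151,(Int.ofNat 1),1⟩] (.node 155 [⟨150,(Int.ofNat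 1),1⟩] .nil .nil) (.node 157 [⟨152,(Int.ofNat 1),1⟩] .nil .nil)) (.node 171 [⟨170,(Int.ofNat 1),1⟩] (.node 159 [⟨154,(Int.ofNat 1),1⟩] .nil .nil) (.node 192 [⟨182,(Int.ofNat 1),1⟩] .nil .nil)))) (.node 201 [⟨191,(Int.ofNat 1),1⟩] (.node 197 [⟨187,(Int.ofNat 1),1⟩] (.node 195 [⟨185,(Int.ofNat 1),1⟩] (.node 194 [⟨184,(Int.ofNat 1),1⟩] .nil .nil) (.node 196 [⟨186,(Int.ofNat 1),1⟩] .nil .nil)) (.node 199 [⟨189,(Int.ofNat 1),1⟩] (.node 198 [⟨188,(Int.ofNat 1),1⟩] .nil .nil) (.node 200 [⟨190,(Int.ofNat 1),1⟩] .nil .nil))) (.node 230 [⟨225,(Int.ofNat 1),1⟩] (.node 228 [⟨223,(Int.ofNat 1),1⟩] (.node 227 [⟨222,(Int.ofNat 1),1⟩] .nil .nil) (.node 229 [⟨224,(Int.ofNat 1),1⟩] .nil .nil)) (.node 240 [⟨239,(Int.ofNat 1),1⟩] (.node 231 [⟨226,(Int.ofNat 1),1⟩] .nil .nil) (.node 242 [⟨241,(Int.ofNat 1),1⟩] .nil .nil))))))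
noncomputable def col105 : Tr Cl := (.node 128 [⟨114,(Int.ofNat 1),1⟩] (.node 58 [⟨45,(Int.negSucc 0),1⟩] (.node 13 [⟨8,(Int.negSucc 0),1⟩] (.node 4 [⟨113,(Int.ofNat 0),1⟩] (.node 2 [⟨113,(Int.negSucc 0),1⟩] (.node 1 [⟨113,(Int.negSucc 0),1⟩] (.node 0 [⟨113,(Int.ofNat 0),1⟩] .nil .nil) .nil) (.node 3 [⟨113,(Int.ofNat 1),1⟩] .nil .nil)) (.node 6 [⟨113,(Int.ofNat 0),1⟩] (.node 5 [⟨113,(Int.ofNat 0),1⟩] .nil .nil) (.node 7 [⟨113,(Int.ofNat 1),1⟩] .nil .nil))) (.node 40 [⟨30,(Int.ofNat 1),1⟩] (.node 28 [⟨23,(Int.negSucc 0),1⟩] (.node 21 [⟨16,(Int.negSucc 0),1⟩] .nil .nil) (.node 37 [⟨29,(Int.ofNat 1),1⟩] .nil .nil)) (.node 43 [⟨32,(Int.ofNat 1),1⟩] (.node 42 [⟨31,(Int.ofNat 1),1⟩] .nil .nil) (.node 56 [⟨44,(Int.negSucc 0),1⟩] .nil .nil)))) (.node 78 [⟨70,(Int.ofNat 1),1⟩] (.node 63 [⟨51,(Int.negSucc 0),1⟩] (.node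 61 [⟨48,(Int.negSucc 0),1⟩] (.node 59 [⟨46,(Int.negSucc 0),1⟩] .nil .nil) (.node 62 [⟨49,(Int.negSucc 0),1⟩] .nil .nil)) (.node 76 [⟨65,(Int.ofNat 1),1⟩] (.node 75 [⟨64,(Int.ofNat 1),1⟩] .nil .nil) (.node 77 [⟨67,(Int.ofNat 1),1⟩] .nil .nil))) (.node 99 [⟨89,(Int.ofNat 1),1⟩] (.node 97 [⟨86,(Int.ofNat 1),1⟩] (.node 84 [⟨79,(Int.negSucc 0),1⟩] .nil .nil) (.node 98 [⟨87,(Int.ofNat 1),1⟩] .nil .nil)) (.node 106 [⟨101,(Int.negSucc 0),1⟩] (.node 100 [⟨92,(Int.ofNat 1),1⟩] .nil .nil) (.node 112 [⟨107,(Int.negSucc 0),1⟩] .nil .nil))))) (.node 188 [⟨178,(Int.negSucc 0),1⟩] (.node 148 [⟨143,(Int.ofNat 1),1⟩] (.node 139 [⟨122,(Int.negSucc 0),1⟩] (.node 137 [⟨117,(Int.ofNat 1),1⟩] (.node 133 [⟨116,(Int.ofNat 1),1⟩] (.node 130 [⟨115,(Int.ofNat 1),1⟩] .nil .nil) .nil) (.node 138 [⟨118,(Int.negSucc 0),1⟩] .nil .nil)) (.node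 141 [⟨127,(Int.negSucc 0),1⟩] (.node 140 [⟨125,(Int.negSucc 0),1⟩] .nil .nil) (.node 142 [⟨0,(Int.ofNat 0),1⟩, ⟨1,(Int.ofNat 0),1⟩, ⟨2,(Int.ofNat 0),1⟩, ⟨3,(Int.negSucc 0),1⟩, ⟨4,(Int.negSucc 0),1⟩, ⟨5,(Int.negSucc 0),1⟩, ⟨6,(Int.negSucc 0),1⟩, ⟨7,(Int.negSucc 0),1⟩, ⟨113,(Int.negSucc 0),2⟩] .nil .nil))) (.node 168 [⟨157,(Int.negSucc 0),1⟩] (.node 163 [⟨155,(Int.negSucc 0),1⟩] (.node 154 [⟨149,(Int.ofNat 1),1⟩] .nil .nil) (.node 166 [⟨156,(Int.negSucc 0),1⟩] .nil .nil)) (.node 176 [⟨171,(Int.ofNat 1),1⟩] (.node 169 [⟨158,(Int.negSucc 0),1⟩] .nil .nil) (.node 185 [⟨177,(Int.negSucc 0),1⟩] .nil .nil)))) (.node 211 [⟨199,(Int.ofNat 1),1⟩] (.node 206 [⟨193,(Int.ofNat 1),1⟩] (.node 191 [⟨180,(Int.negSucc 0),1⟩] (.node 190 [⟨179,(Int.negSucc 0),1⟩] .nil .nil) (.node 204 [⟨192,(Int.ofNat 1),1⟩] .nil .nil)) (.node 209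 [⟨196,(Int.ofNat 1),1⟩] (.node 207 [⟨194,(Int.ofNat 1),1⟩] .nil .nil) (.node 210 [⟨197,(Int.ofNat 1),1⟩] .nil .nil))) (.node 226 [⟨218,(Int.negSucc 0),1⟩] (.node 224 [⟨213,(Int.negSucc 0),1⟩] (.node 223 [⟨212,(Int.negSucc 0),1⟩] .nil .nil) (.node 225 [⟨215,(Int.negSucc 0),1⟩] .nil .nil)) (.node 239 [⟨234,(Int.ofNat 1),1⟩] (.node 232 [⟨227,(Int.ofNat 1),1⟩] .nil .nil) (.node 247 [⟨242,(Int.ofNat 1),1⟩] .nil .nil))))))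
noncomputable def col106 : Tr Cl := (.node 127 [⟨113,(Int.ofNat 1),1⟩] (.node 57 [⟨45,(Int.ofNat 1),1⟩] (.node 13 [⟨9,(Int.negSucc 0),1⟩] (.node 4 [⟨114,(Int.ofNat 0),1⟩] (.node 2 [⟨114,(Int.negSucc 0),1⟩] (.node 1 [⟨114,(Int.negSucc 0),1⟩] (.node 0 [⟨114,(Int.ofNat 0),1⟩] .nil .nil) .nil) (.node 3 [⟨114,(Int.ofNat 1),1⟩] .nil .nil)) (.node 6 [⟨114,(Int.ofNat 1),1⟩] (.node 5 [⟨114,(Int.ofNat 0),1⟩] .nil .nil) (.node 7 [⟨114,(Int.negSucc 0),1⟩] .nil .nil))) (.node 39 [⟨30,(Int.negSucc 0),1⟩] (.node 27 [⟨23,(Int.ofNat 1),1⟩] (.node 20 [⟨16,(Int.ofNat 1),1⟩] .nil .nil) (.node 36 [⟨29,(Int.negSucc 0),1⟩] .nil .nil)) (.node 43 [⟨33,(Int.ofNat 1),1⟩] (.node 41 [⟨31,(Int.negSucc 0),1⟩] .nil .nil) (.node 55 [⟨44,(Int.ofNat 1),1⟩] .nil .nil)))) (.node 78 [⟨71,(Int.ofNat 1),1⟩] (.node 63 [⟨52,(Int.negSucc 0),1⟩] (.node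 60 [⟨48,(Int.ofNat 1),1⟩] (.node 59 [⟨47,(Int.negSucc 0),1⟩] .nil .nil) (.node 62 [⟨50,(Int.negSucc 0),1⟩] .nil .nil)) (.node 76 [⟨66,(Int.ofNat 1),1⟩] (.node 74 [⟨64,(Int.negSucc 0),1⟩] .nil .nil) (.node 77 [⟨68,(Int.ofNat 1),1⟩] .nil .nil))) (.node 99 [⟨90,(Int.ofNat 1),1⟩] (.node 96 [⟨86,(Int.negSucc 0),1⟩] (.node 84 [⟨80,(Int.negSucc 0),1⟩] .nil .nil) (.node 98 [⟨88,(Int.ofNat 1),1⟩] .nil .nil)) (.node 106 [⟨102,(Int.negSucc 0),1⟩] (.node 100 [⟨93,(Int.ofNat 1),1⟩] .nil .nil) (.node 112 [⟨108,(Int.negSucc 0),1⟩] .nil .nil))))) (.node 187 [⟨178,(Int.negSucc 0),1⟩] (.node 147 [⟨143,(Int.ofNat 1),1⟩] (.node 139 [⟨123,(Int.negSucc 0),1⟩] (.node 136 [⟨117,(Int.ofNat 1),1⟩] (.node 132 [⟨116,(Int.ofNat 1),1⟩] (.node 129 [⟨115,(Int.ofNat 1),1⟩] .nil .nil) .nil) (.node 138 [⟨119,(Int.negSucc 0),1⟩] .nil .nil)) (.node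 141 [⟨0,(Int.ofNat 0),1⟩, ⟨1,(Int.ofNat 0),1⟩, ⟨2,(Int.ofNat 0),1⟩, ⟨3,(Int.negSucc 0),1⟩, ⟨4,(Int.negSucc 0),1⟩, ⟨5,(Int.negSucc 0),1⟩, ⟨6,(Int.negSucc 0),1⟩, ⟨7,(Int.ofNat 0),1⟩, ⟨114,(Int.negSucc 0),2⟩] (.node 140 [⟨126,(Int.negSucc 0),1⟩] .nil .nil) (.node 142 [⟨128,(Int.negSucc 0),1⟩] .nil .nil))) (.node 167 [⟨157,(Int.negSucc 0),1⟩] (.node 162 [⟨155,(Int.negSucc 0),1⟩] (.node 153 [⟨149,(Int.ofNat 1),1⟩] .nil .nil) (.node 165 [⟨156,(Int.negSucc 0),1⟩] .nil .nil)) (.node 175 [⟨171,(Int.ofNat 1),1⟩] (.node 169 [⟨159,(Int.ofNat 1),1⟩] .nil .nil) (.node 184 [⟨177,(Int.negSucc 0),1⟩] .nil .nil)))) (.node 211 [⟨200,(Int.negSucc 0),1⟩] (.node 205 [⟨193,(Int.ofNat 1),1⟩] (.node 191 [⟨181,(Int.ofNat 1),1⟩] (.node 189 [⟨179,(Int.negSucc 0),1⟩] .nil .nil) (.node 203 [⟨192,(Int.ofNat 1),1⟩] .nil .nil)) (.node 208 [⟨196,(Int.ofNat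 1),1⟩] (.node 207 [⟨195,(Int.negSucc 0),1⟩] .nil .nil) (.node 210 [⟨198,(Int.negSucc 0),1⟩] .nil .nil))) (.node 226 [⟨219,(Int.ofNat 1),1⟩] (.node 224 [⟨214,(Int.ofNat 1),1⟩] (.node 222 [⟨212,(Int.negSucc 0),1⟩] .nil .nil) (.node 225 [⟨216,(Int.ofNat 1),1⟩] .nil .nil)) (.node 239 [⟨235,(Int.negSucc 0),1⟩] (.node 232 [⟨228,(Int.negSucc 0),1⟩] .nil .nil) (.node 246 [⟨242,(Int.ofNat 1),1⟩] .nil .nil))))))
noncomputable def col107 : Tr Cl := (.node 125 [⟨113,(Int.ofNat 1),1⟩] (.node 57 [⟨46,(Int.ofNat 1),1⟩] (.node 13 [⟨10,(Int.negSucc 0),1⟩] (.node 4 [⟨115,(Int.ofNat 0),1⟩] (.node 2 [⟨115,(Int.negSucc 0),1⟩] (.node 1 [⟨115,(Int.negSucc 0),1⟩] (.node 0 [⟨115,(Int.ofNat 0),1⟩] .nil .nil) .nil) (.node 3 [⟨115,(Int.ofNat 1),1⟩] .nil .nil)) (.node 6 [⟨115,(Int.negSucc 0),1⟩] (.node 5 [⟨115,(Int.ofNat 1),1⟩] .nil .nil)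 (.node 7 [⟨115,(Int.ofNat 0),1⟩] .nil .nil))) (.node 38 [⟨30,(Int.ofNat 1),1⟩] (.node 26 [⟨23,(Int.negSucc 0),1⟩] (.node 19 [⟨16,(Int.negSucc 0),1⟩] .nil .nil) (.node 35 [⟨29,(Int.ofNat 1),1⟩] .nil .nil)) (.node 42 [⟨33,(Int.negSucc 0),1⟩] (.node 41 [⟨32,(Int.negSucc 0),1⟩] .nil .nil) (.node 54 [⟨44,(Int.negSucc 0),1⟩] .nil .nil)))) (.node 78 [⟨72,(Int.ofNat 1),1⟩] (.node 63 [⟨53,(Int.negSucc 0),1⟩] (.node 60 [⟨49,(Int.ofNat 1),1⟩] (.node 58 [⟨47,(Int.ofNat 1),1⟩] .nil .nil) (.node 61 [⟨50,(Int.ofNat 1),1⟩] .nil .nil)) (.node 75 [⟨66,(Int.negSucc 0),1⟩] (.node 74 [⟨65,(Int.negSucc 0),1⟩] .nil .nil) (.node 77 [⟨69,(Int.ofNat 1),1⟩] .nil .nil))) (.node 99 [⟨91,(Int.ofNat 1),1⟩] (.node 96 [⟨87,(Int.negSucc 0),1⟩] (.node 84 [⟨81,(Int.negSucc 0),1⟩] .nil .nil) (.node 97 [⟨88,(Int.negSucc 0),1⟩] .nil .nil)) (.node 106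 [⟨103,(Int.negSucc 0),1⟩] (.node 100 [⟨94,(Int.ofNat 1),1⟩] .nil .nil) (.node 112 [⟨109,(Int.negSucc 0),1⟩] .nil .nil))))) (.node 186 [⟨178,(Int.negSucc 0),1⟩] (.node 146 [⟨143,(Int.ofNat 1),1⟩] (.node 139 [⟨124,(Int.negSucc 0),1⟩] (.node 135 [⟨117,(Int.ofNat 1),1⟩] (.node 131 [⟨116,(Int.ofNat 1),1⟩] (.node 126 [⟨114,(Int.ofNat 1),1⟩] .nil .nil) .nil) (.node 138 [⟨120,(Int.negSucc 0),1⟩] .nil .nil)) (.node 141 [⟨129,(Int.negSucc 0),1⟩] (.node 140 [⟨0,(Int.ofNat 0),1⟩, ⟨1,(Int.ofNat 0),1⟩, ⟨2,(Int.ofNat 0),1⟩, ⟨3,(Int.negSucc 0),1⟩, ⟨4,(Int.negSucc 0),1⟩, ⟨5,(Int.negSucc 0),1⟩, ⟨6,(Int.ofNat 0),1⟩, ⟨7,(Int.ofNat 0),1⟩, ⟨115,(Int.negSucc 0),2⟩] .nil .nil) (.node 142 [⟨130,(Int.negSucc 0),1⟩] .nil .nil))) (.node 167 [⟨158,(Int.ofNat 1),1⟩] (.node 161 [⟨155,(Int.negSucc 0),1⟩] (.node 152 [⟨149,(Int.ofNat 1),1⟩] .nil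 .nil) (.node 164 [⟨156,(Int.negSucc 0),1⟩] .nil .nil)) (.node 174 [⟨171,(Int.ofNat 1),1⟩] (.node 168 [⟨159,(Int.ofNat 1),1⟩] .nil .nil) (.node 183 [⟨177,(Int.negSucc 0),1⟩] .nil .nil)))) (.node 211 [⟨201,(Int.ofNat 1),1⟩] (.node 205 [⟨194,(Int.negSucc 0),1⟩] (.node 190 [⟨181,(Int.ofNat 1),1⟩] (.node 189 [⟨180,(Int.ofNat 1),1⟩] .nil .nil) (.node 202 [⟨192,(Int.ofNat 1),1⟩] .nil .nil)) (.node 208 [⟨197,(Int.negSucc 0),1⟩] (.node 206 [⟨195,(Int.negSucc 0),1⟩] .nil .nil) (.node 209 [⟨198,(Int.negSucc 0),1⟩] .nil .nil))) (.node 226 [⟨220,(Int.negSucc 0),1⟩] (.node 223 [⟨214,(Int.ofNat 1),1⟩] (.node 222 [⟨213,(Int.ofNat 1),1⟩] .nil .nil) (.node 225 [⟨217,(Int.negSucc 0),1⟩] .nil .nil)) (.node 239 [⟨236,(Int.ofNat 1),1⟩] (.node 232 [⟨229,(Int.ofNat 1),1⟩] .nil .nil) (.node 245 [⟨242,(Int.ofNat 1),1⟩] .nil .nil))))))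
noncomputable def col108 : Tr Cl := (.node 122 [⟨113,(Int.ofNat 1),1⟩] (.node 55 [⟨46,(Int.negSucc 0),1⟩] (.node 13 [⟨11,(Int.negSucc 0),1⟩] (.node 4 [⟨116,(Int.ofNat 1),1⟩] (.node 2 [⟨116,(Int.negSucc 0),1⟩] (.node 1 [⟨116,(Int.negSucc 0),1⟩] (.node 0 [⟨116,(Int.ofNat 0),1⟩] .nil .nil) .nil) (.node 3 [⟨116,(Int.ofNat 1),1⟩] .nil .nil)) (.node 6 [⟨116,(Int.ofNat 0),1⟩] (.node 5 [⟨116,(Int.negSucc 0),1⟩] .nil .nil) (.node 7 [⟨116,(Int.ofNat 0),1⟩] .nil .nil))) (.node 38 [⟨31,(Int.ofNat 1),1⟩] (.node 25 [⟨23,(Int.ofNat 1),1⟩] (.node 18 [⟨16,(Int.ofNat 1),1⟩] .nil .nil) (.node 34 [⟨29,(Int.negSucc 0),1⟩] .nil .nil)) (.node 40 [⟨33,(Int.ofNat 1),1⟩] (.node 39 [⟨32,(Int.ofNat 1),1⟩] .nil .nil) (.node 54 [⟨45,(Int.negSucc 0),1⟩] .nil .nil)))) (.node 78 [⟨73,(Int.ofNat 1),1⟩] (.node 62 [⟨53,(Int.ofNat 1),1⟩] (.node 60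 [⟨51,(Int.ofNat 1),1⟩] (.node 56 [⟨47,(Int.negSucc 0),1⟩] .nil .nil) (.node 61 [⟨52,(Int.ofNat 1),1⟩] .nil .nil)) (.node 75 [⟨68,(Int.negSucc 0),1⟩] (.node 74 [⟨67,(Int.negSucc 0),1⟩] .nil .nil) (.node 76 [⟨69,(Int.negSucc 0),1⟩] .nil .nil))) (.node 98 [⟨91,(Int.negSucc 0),1⟩] (.node 96 [⟨89,(Int.negSucc 0),1⟩] (.node 84 [⟨82,(Int.negSucc 0),1⟩] .nil .nil) (.node 97 [⟨90,(Int.negSucc 0),1⟩] .nil .nil)) (.node 106 [⟨104,(Int.negSucc 0),1⟩] (.node 100 [⟨95,(Int.ofNat 1),1⟩] .nil .nil) (.node 112 [⟨110,(Int.negSucc 0),1⟩] .nil .nil))))) (.node 186 [⟨179,(Int.ofNat 1),1⟩] (.node 145 [⟨143,(Int.ofNat 1),1⟩] (.node 139 [⟨0,(Int.ofNat 0),1⟩, ⟨1,(Int.ofNat 0),1⟩, ⟨2,(Int.ofNat 0),1⟩, ⟨3,(Int.negSucc 0),1⟩, ⟨4,(Int.negSucc 0),1⟩, ⟨5,(Int.ofNat 0),1⟩, ⟨6,(Int.ofNat 0),1⟩, ⟨7,(Int.ofNat 0),1⟩, ⟨116,(Int.negSucc 0),2⟩] (.node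 134 [⟨117,(Int.ofNat 1),1⟩] (.node 124 [⟨115,(Int.ofNat 1),1⟩] (.node 123 [⟨114,(Int.ofNat 1),1⟩] .nil .nil) .nil) (.node 138 [⟨121,(Int.negSucc 0),1⟩] .nil .nil)) (.node 141 [⟨132,(Int.negSucc 0),1⟩] (.node 140 [⟨131,(Int.negSucc 0),1⟩] .nil .nil) (.node 142 [⟨133,(Int.negSucc 0),1⟩] .nil .nil))) (.node 165 [⟨158,(Int.ofNat 1),1⟩] (.node 160 [⟨155,(Int.negSucc 0),1⟩] (.node 151 [⟨149,(Int.ofNat 1),1⟩] .nil .nil) (.node 164 [⟨157,(Int.ofNat 1),1⟩] .nil .nil)) (.node 173 [⟨171,(Int.ofNat 1),1⟩] (.node 166 [⟨159,(Int.ofNat 1),1⟩] .nil .nil) (.node 182 [⟨177,(Int.negSucc 0),1⟩] .nil .nil)))) (.node 210 [⟨201,(Int.ofNat 1),1⟩] (.node 203 [⟨194,(Int.negSucc 0),1⟩] (.node 188 [⟨181,(Int.ofNat 1),1⟩] (.node 187 [⟨180,(Int.ofNat 1),1⟩] .nil .nil) (.node 202 [⟨193,(Int.negSucc 0),1⟩] .nil .nil)) (.node 208 [⟨199,(Int.ofNat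 1),1⟩] (.node 204 [⟨195,(Int.negSucc 0),1⟩] .nil .nil) (.node 209 [⟨200,(Int.ofNat 1),1⟩] .nil .nil))) (.node 226 [⟨221,(Int.ofNat 1),1⟩] (.node 223 [⟨216,(Int.negSucc 0),1⟩] (.node 222 [⟨215,(Int.negSucc 0),1⟩] .nil .nil) (.node 224 [⟨217,(Int.negSucc 0),1⟩] .nil .nil)) (.node 239 [⟨237,(Int.negSucc 0),1⟩] (.node 232 [⟨230,(Int.negSucc 0),1⟩] .nil .nil) (.node 244 [⟨242,(Int.ofNat 1),1⟩] .nil .nil))))))
noncomputable def col109 : Tr Cl := (.node 118 [⟨113,(Int.ofNat 1),1⟩] (.node 55 [⟨49,(Int.negSucc 0),1⟩] (.node 13 [⟨12,(Int.negSucc 0),1⟩] (.node 4 [⟨117,(Int.negSucc 0),1⟩] (.node 2 [⟨117,(Int.negSucc 0),1⟩] (.node 1 [⟨117,(Int.negSucc 0),1⟩] (.node 0 [⟨117,(Int.ofNat 0),1⟩] .nil .nil) .nil) (.node 3 [⟨117,(Int.ofNat 2),1⟩] .nil .nil)) (.node 6 [⟨117,(Int.ofNat 0),1⟩] (.node 5 [⟨117,(Int.ofNat 0),1⟩] .nil .nil)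 (.node 7 [⟨117,(Int.ofNat 0),1⟩] .nil .nil))) (.node 35 [⟨31,(Int.negSucc 0),1⟩] (.node 24 [⟨23,(Int.negSucc 0),1⟩] (.node 17 [⟨16,(Int.negSucc 0),1⟩] .nil .nil) (.node 34 [⟨30,(Int.negSucc 0),1⟩] .nil .nil)) (.node 37 [⟨33,(Int.negSucc 0),1⟩] (.node 36 [⟨32,(Int.negSucc 0),1⟩] .nil .nil) (.node 54 [⟨48,(Int.negSucc 0),1⟩] .nil .nil)))) (.node 77 [⟨73,(Int.negSucc 0),1⟩] (.node 59 [⟨53,(Int.negSucc 0),1⟩] (.node 57 [⟨51,(Int.negSucc 0),1⟩] (.node 56 [⟨50,(Int.negSucc 0),1⟩] .nil .nil) (.node 58 [⟨52,(Int.negSucc 0),1⟩] .nil .nil)) (.node 75 [⟨71,(Int.negSucc 0),1⟩] (.node 74 [⟨70,(Int.negSucc 0),1⟩] .nil .nil) (.node 76 [⟨72,(Int.negSucc 0),1⟩] .nil .nil))) (.node 98 [⟨94,(Int.negSucc 0),1⟩] (.node 96 [⟨92,(Int.negSucc 0),1⟩] (.node 84 [⟨83,(Int.negSucc 0),1⟩] .nil .nil) (.node 97 [⟨93,(Int.negSucc 0),1⟩] .nil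 .nil)) (.node 106 [⟨105,(Int.negSucc 0),1⟩] (.node 99 [⟨95,(Int.negSucc 0),1⟩] .nil .nil) (.node 112 [⟨111,(Int.negSucc 0),1⟩] .nil .nil))))) (.node 183 [⟨179,(Int.ofNat 1),1⟩] (.node 144 [⟨143,(Int.ofNat 1),1⟩] (.node 139 [⟨134,(Int.negSucc 0),1⟩] (.node 121 [⟨116,(Int.ofNat 1),1⟩] (.node 120 [⟨115,(Int.ofNat 1),1⟩] (.node 119 [⟨114,(Int.ofNat 1),1⟩] .nil .nil) .nil) (.node 138 [⟨0,(Int.ofNat 0),1⟩, ⟨1,(Int.ofNat 0),1⟩, ⟨2,(Int.ofNat 0),1⟩, ⟨3,(Int.negSucc 0),1⟩, ⟨4,(Int.ofNat 0),1⟩, ⟨5,(Int.ofNat 0),1⟩, ⟨6,(Int.ofNat 0),1⟩, ⟨7,(Int.ofNat 0),1⟩, ⟨117,(Int.negSucc 0),2⟩] .nil .nil)) (.node 141 [⟨136,(Int.negSucc 0),1⟩] (.node 140 [⟨135,(Int.negSucc 0),1⟩] .nil .nil) (.node 142 [⟨137,(Int.negSucc 0),1⟩] .nil .nil))) (.node 162 [⟨158,(Int.ofNat 1),1⟩] (.node 160 [⟨156,(Int.ofNat 1),1⟩] (.node 150 [⟨149,(Int.ofNat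 1),1⟩] .nil .nil) (.node 161 [⟨157,(Int.ofNat 1),1⟩] .nil .nil)) (.node 172 [⟨171,(Int.ofNat 1),1⟩] (.node 163 [⟨159,(Int.ofNat 1),1⟩] .nil .nil) (.node 182 [⟨178,(Int.ofNat 1),1⟩] .nil .nil)))) (.node 207 [⟨201,(Int.ofNat 1),1⟩] (.node 203 [⟨197,(Int.ofNat 1),1⟩] (.node 185 [⟨181,(Int.ofNat 1),1⟩] (.node 184 [⟨180,(Int.ofNat 1),1⟩] .nil .nil) (.node 202 [⟨196,(Int.ofNat 1),1⟩] .nil .nil)) (.node 205 [⟨199,(Int.ofNat 1),1⟩] (.node 204 [⟨198,(Int.ofNat 1),1⟩] .nil .nil) (.node 206 [⟨200,(Int.ofNat 1),1⟩] .nil .nil))) (.node 225 [⟨221,(Int.ofNat 1),1⟩] (.node 223 [⟨219,(Int.ofNat 1),1⟩] (.node 222 [⟨218,(Int.ofNat 1),1⟩] .nil .nil) (.node 224 [⟨220,(Int.ofNat 1),1⟩] .nil .nil)) (.node 239 [⟨238,(Int.ofNat 1),1⟩] (.node 232 [⟨231,(Int.ofNat 1),1⟩] .nil .nil) (.node 243 [⟨242,(Int.ofNat 1),1⟩] .nil .nil))))))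
noncomputable def col110 : Tr Cl := (.node 117 [⟨113,(Int.negSucc 0),1⟩] (.node 52 [⟨45,(Int.negSucc 0),1⟩] (.node 12 [⟨8,(Int.negSucc 0),1⟩] (.node 4 [⟨118,(Int.ofNat 1),1⟩] (.node 2 [⟨118,(Int.ofNat 0),1⟩] (.node 1 [⟨118,(Int.ofNat 0),1⟩] (.node 0 [⟨118,(Int.ofNat 0),1⟩] .nil .nil) .nil) (.node 3 [⟨118,(Int.negSucc 0),1⟩] .nil .nil)) (.node 6 [⟨118,(Int.ofNat 0),1⟩] (.node 5 [⟨118,(Int.ofNat 0),1⟩] .nil .nil) (.node 7 [⟨118,(Int.ofNat 1),1⟩] .nil .nil))) (.node 40 [⟨34,(Int.negSucc 0),1⟩] (.node 28 [⟨24,(Int.ofNat 1),1⟩] (.node 21 [⟨17,(Int.ofNat 1),1⟩] .nil .nil) (.node 33 [⟨29,(Int.ofNat 1),1⟩] .nil .nil)) (.node 43 [⟨36,(Int.negSucc 0),1⟩] (.node 42 [⟨35,(Int.negSucc 0),1⟩] .nil .nil) (.node 50 [⟨44,(Int.negSucc 0),1⟩] .nil .nil)))) (.node 78 [⟨74,(Int.negSucc 0),1⟩] (.node 63 [⟨57,(Int.ofNat 1),1⟩] (.node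 61 [⟨54,(Int.ofNat 1),1⟩] (.node 53 [⟨46,(Int.negSucc 0),1⟩] .nil .nil) (.node 62 [⟨55,(Int.ofNat 1),1⟩] .nil .nil)) (.node 72 [⟨65,(Int.ofNat 1),1⟩] (.node 71 [⟨64,(Int.ofNat 1),1⟩] .nil .nil) (.node 73 [⟨67,(Int.ofNat 1),1⟩] .nil .nil))) (.node 95 [⟨89,(Int.ofNat 1),1⟩] (.node 93 [⟨86,(Int.ofNat 1),1⟩] (.node 83 [⟨79,(Int.negSucc 0),1⟩] .nil .nil) (.node 94 [⟨87,(Int.ofNat 1),1⟩] .nil .nil)) (.node 105 [⟨101,(Int.negSucc 0),1⟩] (.node 100 [⟨96,(Int.negSucc 0),1⟩] .nil .nil) (.node 111 [⟨107,(Int.negSucc 0),1⟩] .nil .nil))))) (.node 188 [⟨182,(Int.negSucc 0),1⟩] (.node 148 [⟨144,(Int.ofNat 1),1⟩] (.node 135 [⟨125,(Int.negSucc 0),1⟩] (.node 133 [⟨121,(Int.ofNat 1),1⟩] (.node 130 [⟨120,(Int.ofNat 1),1⟩] (.node 128 [⟨119,(Int.ofNat 1),1⟩] .nil .nil) .nil) (.node 134 [⟨122,(Int.negSucc 0),1⟩] .nil .nil)) (.node 137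 [⟨0,(Int.ofNat 0),1⟩, ⟨1,(Int.ofNat 0),1⟩, ⟨2,(Int.ofNat 0),1⟩, ⟨3,(Int.ofNat 0),1⟩, ⟨4,(Int.negSucc 0),1⟩, ⟨5,(Int.negSucc 0),1⟩, ⟨6,(Int.negSucc 0),1⟩, ⟨7,(Int.negSucc 0),1⟩, ⟨118,(Int.negSucc 0),2⟩] (.node 136 [⟨127,(Int.negSucc 0),1⟩] .nil .nil) (.node 142 [⟨138,(Int.ofNat 1),1⟩] .nil .nil))) (.node 168 [⟨161,(Int.negSucc 0),1⟩] (.node 159 [⟨155,(Int.ofNat 1),1⟩] (.node 154 [⟨150,(Int.ofNat 1),1⟩] .nil .nil) (.node 166 [⟨160,(Int.negSucc 0),1⟩] .nil .nil)) (.node 176 [⟨172,(Int.ofNat 1),1⟩] (.node 169 [⟨162,(Int.negSucc 0),1⟩] .nil .nil) (.node 181 [⟨177,(Int.ofNat 1),1⟩] .nil .nil)))) (.node 211 [⟨205,(Int.ofNat 1),1⟩] (.node 200 [⟨193,(Int.negSucc 0),1⟩] (.node 191 [⟨184,(Int.negSucc 0),1⟩] (.node 190 [⟨183,(Int.negSucc 0),1⟩] .nil .nil) (.node 198 [⟨192,(Int.negSucc 0),1⟩] .nil .nil)) (.node 209 [⟨202,(Int.ofNat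 1),1⟩] (.node 201 [⟨194,(Int.negSucc 0),1⟩] .nil .nil) (.node 210 [⟨203,(Int.ofNat 1),1⟩] .nil .nil))) (.node 226 [⟨222,(Int.negSucc 0),1⟩] (.node 220 [⟨213,(Int.ofNat 1),1⟩] (.node 219 [⟨212,(Int.ofNat 1),1⟩] .nil .nil) (.node 221 [⟨215,(Int.ofNat 1),1⟩] .nil .nil)) (.node 238 [⟨234,(Int.negSucc 0),1⟩] (.node 231 [⟨227,(Int.negSucc 0),1⟩] .nil .nil) (.node 247 [⟨243,(Int.ofNat 1),1⟩] .nil .nil))))))
noncomputable def col111 : Tr Cl := (.node 117 [⟨114,(Int.negSucc 0),1⟩] (.node 51 [⟨45,(Int.ofNat 1),1⟩] (.node 12 [⟨9,(Int.negSucc 0),1⟩] (.node 4 [⟨119,(Int.ofNat 1),1⟩] (.node 2 [⟨119,(Int.ofNat 0),1⟩] (.node 1 [⟨119,(Int.ofNat 0),1⟩] (.node 0 [⟨119,(Int.ofNat 0),1⟩] .nil .nil) .nil) (.node 3 [⟨119,(Int.negSucc 0),1⟩] .nil .nil)) (.node 6 [⟨119,(Int.ofNat 1),1⟩] (.node 5 [⟨119,(Int.ofNat 0),1⟩] .nil .nil) (.node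 7 [⟨119,(Int.negSucc 0),1⟩] .nil .nil))) (.node 39 [⟨34,(Int.ofNat 1),1⟩] (.node 27 [⟨24,(Int.negSucc 0),1⟩] (.node 20 [⟨17,(Int.negSucc 0),1⟩] .nil .nil) (.node 32 [⟨29,(Int.negSucc 0),1⟩] .nil .nil)) (.node 43 [⟨37,(Int.negSucc 0),1⟩] (.node 41 [⟨35,(Int.ofNat 1),1⟩] .nil .nil) (.node 49 [⟨44,(Int.ofNat 1),1⟩] .nil .nil)))) (.node 78 [⟨75,(Int.negSucc 0),1⟩] (.node 63 [⟨58,(Int.ofNat 1),1⟩] (.node 60 [⟨54,(Int.negSucc 0),1⟩] (.node 53 [⟨47,(Int.negSucc 0),1⟩] .nil .nil) (.node 62 [⟨56,(Int.ofNat 1),1⟩] .nil .nil)) (.node 72 [⟨66,(Int.ofNat 1),1⟩] (.node 70 [⟨64,(Int.negSucc 0),1⟩] .nil .nil) (.node 73 [⟨68,(Int.ofNat 1),1⟩] .nil .nil))) (.node 95 [⟨90,(Int.ofNat 1),1⟩] (.node 92 [⟨86,(Int.negSucc 0),1⟩] (.node 83 [⟨80,(Int.negSucc 0),1⟩] .nil .nil) (.node 94 [⟨88,(Int.ofNat 1),1⟩] .nil .nil)) (.node 105 [⟨102,(Int.negSucc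 0),1⟩] (.node 100 [⟨97,(Int.negSucc 0),1⟩] .nil .nil) (.node 111 [⟨108,(Int.negSucc 0),1⟩] .nil .nil))))) (.node 187 [⟨182,(Int.negSucc 0),1⟩] (.node 147 [⟨144,(Int.ofNat 1),1⟩] (.node 135 [⟨126,(Int.negSucc 0),1⟩] (.node 132 [⟨121,(Int.ofNat 1),1⟩] (.node 129 [⟨120,(Int.ofNat 1),1⟩] (.node 127 [⟨118,(Int.ofNat 1),1⟩] .nil .nil) .nil) (.node 134 [⟨123,(Int.negSucc 0),1⟩] .nil .nil)) (.node 137 [⟨128,(Int.negSucc 0),1⟩] (.node 136 [⟨0,(Int.ofNat 0),1⟩, ⟨1,(Int.ofNat 0),1⟩, ⟨2,(Int.ofNat 0),1⟩, ⟨3,(Int.ofNat 0),1⟩, ⟨4,(Int.negSucc 0),1⟩, ⟨5,(Int.negSucc 0),1⟩, ⟨6,(Int.negSucc 0),1⟩, ⟨7,(Int.ofNat 0),1⟩, ⟨119,(Int.negSucc 0),2⟩] .nil .nil) (.node 141 [⟨138,(Int.ofNat 1),1⟩] .nil .nil))) (.node 167 [⟨161,(Int.negSucc 0),1⟩] (.node 158 [⟨155,(Int.ofNat 1),1⟩] (.node 153 [⟨150,(Int.ofNat 1),1⟩] .nil .nil) (.node 165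 [⟨160,(Int.negSucc 0),1⟩] .nil .nil)) (.node 175 [⟨172,(Int.ofNat 1),1⟩] (.node 169 [⟨163,(Int.ofNat 1),1⟩] .nil .nil) (.node 180 [⟨177,(Int.ofNat 1),1⟩] .nil .nil)))) (.node 211 [⟨206,(Int.negSucc 0),1⟩] (.node 199 [⟨193,(Int.negSucc 0),1⟩] (.node 191 [⟨185,(Int.ofNat 1),1⟩] (.node 189 [⟨183,(Int.negSucc 0),1⟩] .nil .nil) (.node 197 [⟨192,(Int.negSucc 0),1⟩] .nil .nil)) (.node 208 [⟨202,(Int.ofNat 1),1⟩] (.node 201 [⟨195,(Int.ofNat 1),1⟩] .nil .nil) (.node 210 [⟨204,(Int.negSucc 0),1⟩] .nil .nil))) (.node 226 [⟨223,(Int.ofNat 1),1⟩] (.node 220 [⟨214,(Int.negSucc 0),1⟩] (.node 218 [⟨212,(Int.ofNat 1),1⟩] .nil .nil) (.node 221 [⟨216,(Int.negSucc 0),1⟩] .nil .nil)) (.node 238 [⟨235,(Int.ofNat 1),1⟩] (.node 231 [⟨228,(Int.ofNat 1),1⟩] .nil .nil) (.node 246 [⟨243,(Int.ofNat 1),1⟩] .nil .nil))))))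
noncomputable def col112 : Tr Cl := (.node 117 [⟨115,(Int.negSucc 0),1⟩] (.node 51 [⟨46,(Int.ofNat 1),1⟩] (.node 12 [⟨10,(Int.negSucc 0),1⟩] (.node 4 [⟨120,(Int.ofNat 1),1⟩] (.node 2 [⟨120,(Int.ofNat 0),1⟩] (.node 1 [⟨120,(Int.ofNat 0),1⟩] (.node 0 [⟨120,(Int.ofNat 0),1⟩] .nil .nil) .nil) (.node 3 [⟨120,(Int.negSucc 0),1⟩] .nil .nil)) (.node 6 [⟨120,(Int.negSucc 0),1⟩] (.node 5 [⟨120,(Int.ofNat 1),1⟩] .nil .nil) (.node 7 [⟨120,(Int.ofNat 0),1⟩] .nil .nil))) (.node 38 [⟨34,(Int.negSucc 0),1⟩] (.node 26 [⟨24,(Int.ofNat 1),1⟩] (.node 19 [⟨17,(Int.ofNat 1),1⟩] .nil .nil) (.node 31 [⟨29,(Int.ofNat 1),1⟩] .nil .nil)) (.node 42 [⟨37,(Int.ofNat 1),1⟩] (.node 41 [⟨36,(Int.ofNat 1),1⟩] .nil .nil) (.node 48 [⟨44,(Int.negSucc 0),1⟩] .nil .nil)))) (.node 78 [⟨76,(Int.negSucc 0),1⟩] (.node 63 [⟨59,(Int.ofNat 1),1⟩] (.node 60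 [⟨55,(Int.negSucc 0),1⟩] (.node 52 [⟨47,(Int.ofNat 1),1⟩] .nil .nil) (.node 61 [⟨56,(Int.negSucc 0),1⟩] .nil .nil)) (.node 71 [⟨66,(Int.negSucc 0),1⟩] (.node 70 [⟨65,(Int.negSucc 0),1⟩] .nil .nil) (.node 73 [⟨69,(Int.ofNat 1),1⟩] .nil .nil))) (.node 95 [⟨91,(Int.ofNat 1),1⟩] (.node 92 [⟨87,(Int.negSucc 0),1⟩] (.node 83 [⟨81,(Int.negSucc 0),1⟩] .nil .nil) (.node 93 [⟨88,(Int.negSucc 0),1⟩] .nil .nil)) (.node 105 [⟨103,(Int.negSucc 0),1⟩] (.node 100 [⟨98,(Int.negSucc 0),1⟩] .nil .nil) (.node 111 [⟨109,(Int.negSucc 0),1⟩] .nil .nil))))) (.node 186 [⟨182,(Int.negSucc 0),1⟩] (.node 146 [⟨144,(Int.ofNat 1),1⟩] (.node 135 [⟨0,(Int.ofNat 0),1⟩, ⟨1,(Int.ofNat 0),1⟩, ⟨2,(Int.ofNat 0),1⟩, ⟨3,(Int.ofNat 0),1⟩, ⟨4,(Int.negSucc 0),1⟩, ⟨5,(Int.negSucc 0),1⟩, ⟨6,(Int.ofNat 0),1⟩, ⟨7,(Int.ofNat 0),1⟩, ⟨120,(Int.negSucc 0),2⟩]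 (.node 131 [⟨121,(Int.ofNat 1),1⟩] (.node 126 [⟨119,(Int.ofNat 1),1⟩] (.node 125 [⟨118,(Int.ofNat 1),1⟩] .nil .nil) .nil) (.node 134 [⟨124,(Int.negSucc 0),1⟩] .nil .nil)) (.node 137 [⟨130,(Int.negSucc 0),1⟩] (.node 136 [⟨129,(Int.negSucc 0),1⟩] .nil .nil) (.node 140 [⟨138,(Int.ofNat 1),1⟩] .nil .nil))) (.node 167 [⟨162,(Int.ofNat 1),1⟩] (.node 157 [⟨155,(Int.ofNat 1),1⟩] (.node 152 [⟨150,(Int.ofNat 1),1⟩] .nil .nil) (.node 164 [⟨160,(Int.negSucc 0),1⟩] .nil .nil)) (.node 174 [⟨172,(Int.ofNat 1),1⟩] (.node 168 [⟨163,(Int.ofNat 1),1⟩] .nil .nil) (.node 179 [⟨177,(Int.ofNat 1),1⟩] .nil .nil)))) (.node 211 [⟨207,(Int.ofNat 1),1⟩] (.node 199 [⟨194,(Int.ofNat 1),1⟩] (.node 190 [⟨185,(Int.ofNat 1),1⟩] (.node 189 [⟨184,(Int.ofNat 1),1⟩] .nil .nil) (.node 196 [⟨192,(Int.negSucc 0),1⟩] .nil .nil)) (.node 208 [⟨203,(Int.negSucc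 0),1⟩] (.node 200 [⟨195,(Int.ofNat 1),1⟩] .nil .nil) (.node 209 [⟨204,(Int.negSucc 0),1⟩] .nil .nil))) (.node 226 [⟨224,(Int.negSucc 0),1⟩] (.node 219 [⟨214,(Int.negSucc 0),1⟩] (.node 218 [⟨213,(Int.negSucc 0),1⟩] .nil .nil) (.node 221 [⟨217,(Int.ofNat 1),1⟩] .nil .nil)) (.node 238 [⟨236,(Int.negSucc 0),1⟩] (.node 231 [⟨229,(Int.negSucc 0),1⟩] .nil .nil) (.node 245 [⟨243,(Int.ofNat 1),1⟩] .nil .nil))))))
noncomputable def col113 : Tr Cl := (.node 117 [⟨116,(Int.negSucc 0),1⟩] (.node 49 [⟨46,(Int.negSucc 0),1⟩] (.node 12 [⟨11,(Int.negSucc 0),1⟩] (.node 4 [⟨121,(Int.ofNat 2),1⟩] (.node 2 [⟨121,(Int.ofNat 0),1⟩] (.node 1 [⟨121,(Int.ofNat 0),1⟩] (.node 0 [⟨121,(Int.ofNat 0),1⟩] .nil .nil) .nil) (.node 3 [⟨121,(Int.negSucc 0),1⟩] .nil .nil)) (.node 6 [⟨121,(Int.ofNat 0),1⟩] (.node 5 [⟨121,(Int.negSucc 0),1⟩] .nil .nil)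 (.node 7 [⟨121,(Int.ofNat 0),1⟩] .nil .nil))) (.node 38 [⟨35,(Int.negSucc 0),1⟩] (.node 25 [⟨24,(Int.negSucc 0),1⟩] (.node 18 [⟨17,(Int.negSucc 0),1⟩] .nil .nil) (.node 30 [⟨29,(Int.negSucc 0),1⟩] .nil .nil)) (.node 40 [⟨37,(Int.negSucc 0),1⟩] (.node 39 [⟨36,(Int.negSucc 0),1⟩] .nil .nil) (.node 48 [⟨45,(Int.negSucc 0),1⟩] .nil .nil)))) (.node 78 [⟨77,(Int.negSucc 0),1⟩] (.node 62 [⟨59,(Int.negSucc 0),1⟩] (.node 60 [⟨57,(Int.negSucc 0),1⟩] (.node 50 [⟨47,(Int.negSucc 0),1⟩] .nil .nil) (.node 61 [⟨58,(Int.negSucc 0),1⟩] .nil .nil)) (.node 71 [⟨68,(Int.negSucc 0),1⟩] (.node 70 [⟨67,(Int.negSucc 0),1⟩] .nil .nil) (.node 72 [⟨69,(Int.negSucc 0),1⟩] .nil .nil))) (.node 94 [⟨91,(Int.negSucc 0),1⟩] (.node 92 [⟨89,(Int.negSucc 0),1⟩] (.node 83 [⟨82,(Int.negSucc 0),1⟩] .nil .nil) (.node 93 [⟨90,(Int.negSucc 0),1⟩] .nil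 .nil)) (.node 105 [⟨104,(Int.negSucc 0),1⟩] (.node 100 [⟨99,(Int.negSucc 0),1⟩] .nil .nil) (.node 111 [⟨110,(Int.negSucc 0),1⟩] .nil .nil))))) (.node 186 [⟨183,(Int.ofNat 1),1⟩] (.node 145 [⟨144,(Int.ofNat 1),1⟩] (.node 135 [⟨131,(Int.negSucc 0),1⟩] (.node 124 [⟨120,(Int.ofNat 1),1⟩] (.node 123 [⟨119,(Int.ofNat 1),1⟩] (.node 122 [⟨118,(Int.ofNat 1),1⟩] .nil .nil) .nil) (.node 134 [⟨0,(Int.ofNat 0),1⟩, ⟨1,(Int.ofNat 0),1⟩, ⟨2,(Int.ofNat 0),1⟩, ⟨3,(Int.ofNat 0),1⟩, ⟨4,(Int.negSucc 0),1⟩, ⟨5,(Int.ofNat 0),1⟩, ⟨6,(Int.ofNat 0),1⟩, ⟨7,(Int.ofNat 0),1⟩, ⟨121,(Int.negSucc 0),2⟩] .nil .nil)) (.node 137 [⟨133,(Int.negSucc 0),1⟩] (.node 136 [⟨132,(Int.negSucc 0),1⟩] .nil .nil) (.node 139 [⟨138,(Int.ofNat 1),1⟩] .nil .nil))) (.node 165 [⟨162,(Int.ofNat 1),1⟩] (.node 156 [⟨155,(Int.ofNat 1),1⟩] (.node 151 [⟨150,(Int.ofNat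 1),1⟩] .nil .nil) (.node 164 [⟨161,(Int.ofNat 1),1⟩] .nil .nil)) (.node 173 [⟨172,(Int.ofNat 1),1⟩] (.node 166 [⟨163,(Int.ofNat 1),1⟩] .nil .nil) (.node 178 [⟨177,(Int.ofNat 1),1⟩] .nil .nil)))) (.node 210 [⟨207,(Int.ofNat 1),1⟩] (.node 197 [⟨194,(Int.ofNat 1),1⟩] (.node 188 [⟨185,(Int.ofNat 1),1⟩] (.node 187 [⟨184,(Int.ofNat 1),1⟩] .nil .nil) (.node 196 [⟨193,(Int.ofNat 1),1⟩] .nil .nil)) (.node 208 [⟨205,(Int.ofNat 1),1⟩] (.node 198 [⟨195,(Int.ofNat 1),1⟩] .nil .nil) (.node 209 [⟨206,(Int.ofNat 1),1⟩] .nil .nil))) (.node 226 [⟨225,(Int.ofNat 1),1⟩] (.node 219 [⟨216,(Int.ofNat 1),1⟩] (.node 218 [⟨215,(Int.ofNat 1),1⟩] .nil .nil) (.node 220 [⟨217,(Int.ofNat 1),1⟩] .nil .nil)) (.node 238 [⟨237,(Int.ofNat 1),1⟩] (.node 231 [⟨230,(Int.ofNat 1),1⟩] .nil .nil) (.node 244 [⟨243,(Int.ofNat 1),1⟩] .nil .nil))))))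
noncomputable def col114 : Tr Cl := (.node 116 [⟨113,(Int.negSucc 0),1⟩] (.node 52 [⟨48,(Int.ofNat 1),1⟩] (.node 11 [⟨8,(Int.negSucc 0),1⟩] (.node 4 [⟨122,(Int.negSucc 0),1⟩] (.node 2 [⟨122,(Int.ofNat 0),1⟩] (.node 1 [⟨122,(Int.ofNat 0),1⟩] (.node 0 [⟨122,(Int.ofNat 0),1⟩] .nil .nil) .nil) (.node 3 [⟨122,(Int.ofNat 0),1⟩] .nil .nil)) (.node 6 [⟨122,(Int.ofNat 0),1⟩] (.node 5 [⟨122,(Int.ofNat 1),1⟩] .nil .nil) (.node 7 [⟨122,(Int.ofNat 1),1⟩] .nil .nil))) (.node 37 [⟨34,(Int.negSucc 0),1⟩] (.node 28 [⟨25,(Int.negSucc 0),1⟩] (.node 21 [⟨18,(Int.negSucc 0),1⟩] .nil .nil) (.node 33 [⟨30,(Int.negSucc 0),1⟩] .nil .nil)) (.node 43 [⟨39,(Int.ofNat 1),1⟩] (.node 42 [⟨38,(Int.ofNat 1),1⟩] .nil .nil) (.node 47 [⟨44,(Int.negSucc 0),1⟩] .nil .nil)))) (.node 77 [⟨74,(Int.negSucc 0),1⟩] (.node 63 [⟨60,(Int.negSucc 0),1⟩] (.node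 58 [⟨54,(Int.ofNat 1),1⟩] (.node 53 [⟨49,(Int.ofNat 1),1⟩] .nil .nil) (.node 59 [⟨55,(Int.ofNat 1),1⟩] .nil .nil)) (.node 69 [⟨65,(Int.ofNat 1),1⟩] (.node 68 [⟨64,(Int.ofNat 1),1⟩] .nil .nil) (.node 73 [⟨70,(Int.negSucc 0),1⟩] .nil .nil))) (.node 95 [⟨92,(Int.negSucc 0),1⟩] (.node 90 [⟨86,(Int.ofNat 1),1⟩] (.node 82 [⟨79,(Int.negSucc 0),1⟩] .nil .nil) (.node 91 [⟨87,(Int.ofNat 1),1⟩] .nil .nil)) (.node 104 [⟨101,(Int.negSucc 0),1⟩] (.node 99 [⟨96,(Int.negSucc 0),1⟩] .nil .nil) (.node 110 [⟨107,(Int.negSucc 0),1⟩] .nil .nil))))) (.node 185 [⟨182,(Int.ofNat 1),1⟩] (.node 148 [⟨145,(Int.ofNat 1),1⟩] (.node 132 [⟨127,(Int.negSucc 0),1⟩] (.node 130 [⟨124,(Int.ofNat 1),1⟩] (.node 128 [⟨123,(Int.ofNat 1),1⟩] (.node 121 [⟨118,(Int.negSucc 0),1⟩] .nil .nil) .nil) (.node 131 [⟨125,(Int.negSucc 0),1⟩] .nil .nil)) (.node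 137 [⟨134,(Int.ofNat 1),1⟩] (.node 133 [⟨0,(Int.ofNat 0),1⟩, ⟨1,(Int.ofNat 0),1⟩, ⟨2,(Int.ofNat 0),1⟩, ⟨3,(Int.ofNat 0),1⟩, ⟨4,(Int.ofNat 0),1⟩, ⟨5,(Int.negSucc 0),1⟩, ⟨6,(Int.negSucc 0),1⟩, ⟨7,(Int.negSucc 0),1⟩, ⟨122,(Int.negSucc 0),2⟩] .nil .nil) (.node 142 [⟨139,(Int.ofNat 1),1⟩] .nil .nil))) (.node 168 [⟨164,(Int.negSucc 0),1⟩] (.node 159 [⟨156,(Int.ofNat 1),1⟩] (.node 154 [⟨151,(Int.ofNat 1),1⟩] .nil .nil) (.node 163 [⟨160,(Int.ofNat 1),1⟩] .nil .nil)) (.node 176 [⟨173,(Int.ofNat 1),1⟩] (.node 169 [⟨165,(Int.negSucc 0),1⟩] .nil .nil) (.node 181 [⟨178,(Int.ofNat 1),1⟩] .nil .nil)))) (.node 211 [⟨208,(Int.ofNat 1),1⟩] (.node 200 [⟨196,(Int.negSucc 0),1⟩] (.node 191 [⟨187,(Int.negSucc 0),1⟩] (.node 190 [⟨186,(Int.negSucc 0),1⟩] .nil .nil) (.node 195 [⟨192,(Int.ofNat 1),1⟩] .nil .nil)) (.node 206 [⟨202,(Int.negSucc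 0),1⟩] (.node 201 [⟨197,(Int.negSucc 0),1⟩] .nil .nil) (.node 207 [⟨203,(Int.negSucc 0),1⟩] .nil .nil))) (.node 225 [⟨222,(Int.ofNat 1),1⟩] (.node 217 [⟨213,(Int.negSucc 0),1⟩] (.node 216 [⟨212,(Int.negSucc 0),1⟩] .nil .nil) (.node 221 [⟨218,(Int.ofNat 1),1⟩] .nil .nil)) (.node 237 [⟨234,(Int.ofNat 1),1⟩] (.node 230 [⟨227,(Int.ofNat 1),1⟩] .nil .nil) (.node 247 [⟨244,(Int.ofNat 1),1⟩] .nil .nil))))))
noncomputable def col115 : Tr Cl := (.node 116 [⟨114,(Int.negSucc 0),1⟩] (.node 51 [⟨48,(Int.negSucc 0),1⟩] (.node 11 [⟨9,(Int.negSucc 0),1⟩] (.node 4 [⟨123,(Int.negSucc 0),1⟩] (.node 2 [⟨123,(Int.ofNat 0),1⟩] (.node 1 [⟨123,(Int.ofNat 0),1⟩] (.node 0 [⟨123,(Int.ofNat 0),1⟩] .nil .nil) .nil) (.node 3 [⟨123,(Int.ofNat 0),1⟩] .nil .nil)) (.node 6 [⟨123,(Int.ofNat 1),1⟩] (.node 5 [⟨123,(Int.ofNat 1),1⟩] .nil .nil) (.node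 7 [⟨123,(Int.negSucc 0),1⟩] .nil .nil))) (.node 36 [⟨34,(Int.ofNat 1),1⟩] (.node 27 [⟨25,(Int.ofNat 1),1⟩] (.node 20 [⟨18,(Int.ofNat 1),1⟩] .nil .nil) (.node 32 [⟨30,(Int.ofNat 1),1⟩] .nil .nil)) (.node 43 [⟨40,(Int.ofNat 1),1⟩] (.node 41 [⟨38,(Int.negSucc 0),1⟩] .nil .nil) (.node 46 [⟨44,(Int.ofNat 1),1⟩] .nil .nil)))) (.node 77 [⟨75,(Int.negSucc 0),1⟩] (.node 63 [⟨61,(Int.negSucc 0),1⟩] (.node 57 [⟨54,(Int.negSucc 0),1⟩] (.node 53 [⟨50,(Int.ofNat 1),1⟩] .nil .nil) (.node 59 [⟨56,(Int.ofNat 1),1⟩] .nil .nil)) (.node 69 [⟨66,(Int.ofNat 1),1⟩] (.node 67 [⟨64,(Int.negSucc 0),1⟩] .nil .nil) (.node 73 [⟨71,(Int.negSucc 0),1⟩] .nil .nil))) (.node 95 [⟨93,(Int.negSucc 0),1⟩] (.node 89 [⟨86,(Int.negSucc 0),1⟩] (.node 82 [⟨80,(Int.negSucc 0),1⟩] .nil .nil) (.node 91 [⟨88,(Int.ofNat 1),1⟩] .nil .nil)) (.node 104 [⟨102,(Int.negSucc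 0),1⟩] (.node 99 [⟨97,(Int.negSucc 0),1⟩] .nil .nil) (.node 110 [⟨108,(Int.negSucc 0),1⟩] .nil .nil))))) (.node 184 [⟨182,(Int.ofNat 1),1⟩] (.node 147 [⟨145,(Int.ofNat 1),1⟩] (.node 132 [⟨0,(Int.ofNat 0),1⟩, ⟨1,(Int.ofNat 0),1⟩, ⟨2,(Int.ofNat 0),1⟩, ⟨3,(Int.ofNat 0),1⟩, ⟨4,(Int.ofNat 0),1⟩, ⟨5,(Int.negSucc 0),1⟩, ⟨6,(Int.negSucc 0),1⟩, ⟨7,(Int.ofNat 0),1⟩, ⟨123,(Int.negSucc 0),2⟩] (.node 129 [⟨124,(Int.ofNat 1),1⟩] (.node 127 [⟨122,(Int.ofNat 1),1⟩] (.node 121 [⟨119,(Int.negSucc 0),1⟩] .nil .nil) .nil) (.node 131 [⟨126,(Int.negSucc 0),1⟩] .nil .nil)) (.node 136 [⟨134,(Int.ofNat 1),1⟩] (.node 133 [⟨128,(Int.negSucc 0),1⟩] .nil .nil) (.node 141 [⟨139,(Int.ofNat 1),1⟩] .nil .nil))) (.node 167 [⟨164,(Int.negSucc 0),1⟩] (.node 158 [⟨156,(Int.ofNat 1),1⟩] (.node 153 [⟨151,(Int.ofNat 1),1⟩] .nil .nil) (.node 162 [⟨160,(Int.ofNat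 1),1⟩] .nil .nil)) (.node 175 [⟨173,(Int.ofNat 1),1⟩] (.node 169 [⟨166,(Int.ofNat 1),1⟩] .nil .nil) (.node 180 [⟨178,(Int.ofNat 1),1⟩] .nil .nil)))) (.node 211 [⟨209,(Int.negSucc 0),1⟩] (.node 199 [⟨196,(Int.negSucc 0),1⟩] (.node 191 [⟨188,(Int.ofNat 1),1⟩] (.node 189 [⟨186,(Int.negSucc 0),1⟩] .nil .nil) (.node 194 [⟨192,(Int.ofNat 1),1⟩] .nil .nil)) (.node 205 [⟨202,(Int.negSucc 0),1⟩] (.node 201 [⟨198,(Int.ofNat 1),1⟩] .nil .nil) (.node 207 [⟨204,(Int.ofNat 1),1⟩] .nil .nil))) (.node 225 [⟨223,(Int.negSucc 0),1⟩] (.node 217 [⟨214,(Int.ofNat 1),1⟩] (.node 215 [⟨212,(Int.negSucc 0),1⟩] .nil .nil) (.node 221 [⟨219,(Int.negSucc 0),1⟩] .nil .nil)) (.node 237 [⟨235,(Int.negSucc 0),1⟩] (.node 230 [⟨228,(Int.negSucc 0),1⟩] .nil .nil) (.node 246 [⟨244,(Int.ofNat 1),1⟩] .nil .nil))))))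
noncomputable def col116 : Tr Cl := (.node 116 [⟨115,(Int.negSucc 0),1⟩] (.node 51 [⟨49,(Int.negSucc 0),1⟩] (.node 11 [⟨10,(Int.negSucc 0),1⟩] (.node 4 [⟨124,(Int.negSucc 0),1⟩] (.node 2 [⟨124,(Int.ofNat 0),1⟩] (.node 1 [⟨124,(Int.ofNat 0),1⟩] (.node 0 [⟨124,(Int.ofNat 0),1⟩] .nil .nil) .nil) (.node 3 [⟨124,(Int.ofNat 0),1⟩] .nil .nil)) (.node 6 [⟨124,(Int.negSucc 0),1⟩] (.node 5 [⟨124,(Int.ofNat 2),1⟩] .nil .nil) (.node 7 [⟨124,(Int.ofNat 0),1⟩] .nil .nil))) (.node 35 [⟨34,(Int.negSucc 0),1⟩] (.node 26 [⟨25,(Int.negSucc 0),1⟩] (.node 19 [⟨18,(Int.negSucc 0),1⟩] .nil .nil) (.node 31 [⟨30,(Int.negSucc 0),1⟩] .nil .nil)) (.node 42 [⟨40,(Int.negSucc 0),1⟩] (.node 41 [⟨39,(Int.negSucc 0),1⟩] .nil .nil) (.node 45 [⟨44,(Int.negSucc 0),1⟩] .nil .nil)))) (.node 77 [⟨76,(Int.negSucc 0),1⟩] (.node 63 [⟨62,(Int.negSucc 0),1⟩]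 (.node 57 [⟨55,(Int.negSucc 0),1⟩] (.node 52 [⟨50,(Int.negSucc 0),1⟩] .nil .nil) (.node 58 [⟨56,(Int.negSucc 0),1⟩] .nil .nil)) (.node 68 [⟨66,(Int.negSucc 0),1⟩] (.node 67 [⟨65,(Int.negSucc 0),1⟩] .nil .nil) (.node 73 [⟨72,(Int.negSucc 0),1⟩] .nil .nil))) (.node 95 [⟨94,(Int.negSucc 0),1⟩] (.node 89 [⟨87,(Int.negSucc 0),1⟩] (.node 82 [⟨81,(Int.negSucc 0),1⟩] .nil .nil) (.node 90 [⟨88,(Int.negSucc 0),1⟩] .nil .nil)) (.node 104 [⟨103,(Int.negSucc 0),1⟩] (.node 99 [⟨98,(Int.negSucc 0),1⟩] .nil .nil) (.node 110 [⟨109,(Int.negSucc 0),1⟩] .nil .nil))))) (.node 183 [⟨182,(Int.ofNat 1),1⟩] (.node 146 [⟨145,(Int.ofNat 1),1⟩] (.node 132 [⟨129,(Int.negSucc 0),1⟩] (.node 126 [⟨123,(Int.ofNat 1),1⟩] (.node 125 [⟨122,(Int.ofNat 1),1⟩] (.node 121 [⟨120,(Int.negSucc 0),1⟩] .nil .nil) .nil) (.node 131 [⟨0,(Int.ofNat 0),1⟩, ⟨1,(Int.ofNat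 0),1⟩, ⟨2,(Int.ofNat 0),1⟩, ⟨3,(Int.ofNat 0),1⟩, ⟨4,(Int.ofNat 0),1⟩, ⟨5,(Int.negSucc 0),1⟩, ⟨6,(Int.ofNat 0),1⟩, ⟨7,(Int.ofNat 0),1⟩, ⟨124,(Int.negSucc 0),2⟩] .nil .nil)) (.node 135 [⟨134,(Int.ofNat 1),1⟩] (.node 133 [⟨130,(Int.negSucc 0),1⟩] .nil .nil) (.node 140 [⟨139,(Int.ofNat 1),1⟩] .nil .nil))) (.node 167 [⟨165,(Int.ofNat 1),1⟩] (.node 157 [⟨156,(Int.ofNat 1),1⟩] (.node 152 [⟨151,(Int.ofNat 1),1⟩] .nil .nil) (.node 161 [⟨160,(Int.ofNat 1),1⟩] .nil .nil)) (.node 174 [⟨173,(Int.ofNat 1),1⟩] (.node 168 [⟨166,(Int.ofNat 1),1⟩] .nil .nil) (.node 179 [⟨178,(Int.ofNat 1),1⟩] .nil .nil)))) (.node 211 [⟨210,(Int.ofNat 1),1⟩] (.node 199 [⟨197,(Int.ofNat 1),1⟩] (.node 190 [⟨188,(Int.ofNat 1),1⟩] (.node 189 [⟨187,(Int.ofNat 1),1⟩] .nil .nil) (.node 193 [⟨192,(Int.ofNat 1),1⟩] .nil .nil)) (.node 205 [⟨203,(Int.ofNat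 1),1⟩] (.node 200 [⟨198,(Int.ofNat 1),1⟩] .nil .nil) (.node 206 [⟨204,(Int.ofNat 1),1⟩] .nil .nil))) (.node 225 [⟨224,(Int.ofNat 1),1⟩] (.node 216 [⟨214,(Int.ofNat 1),1⟩] (.node 215 [⟨213,(Int.ofNat 1),1⟩] .nil .nil) (.node 221 [⟨220,(Int.ofNat 1),1⟩] .nil .nil)) (.node 237 [⟨236,(Int.ofNat 1),1⟩] (.node 230 [⟨229,(Int.ofNat 1),1⟩] .nil .nil) (.node 245 [⟨244,(Int.ofNat 1),1⟩] .nil .nil))))))
noncomputable def col117 : Tr Cl := (.node 115 [⟨113,(Int.negSucc 0),1⟩] (.node 50 [⟨48,(Int.ofNat 1),1⟩] (.node 10 [⟨8,(Int.negSucc 0),1⟩] (.node 4 [⟨125,(Int.ofNat 0),1⟩] (.node 2 [⟨125,(Int.ofNat 0),1⟩] (.node 1 [⟨125,(Int.ofNat 0),1⟩] (.node 0 [⟨125,(Int.ofNat 0),1⟩] .nil .nil) .nil) (.node 3 [⟨125,(Int.ofNat 0),1⟩] .nil .nil)) (.node 6 [⟨125,(Int.ofNat 1),1⟩] (.node 5 [⟨125,(Int.negSucc 0),1⟩] .nil .nil) (.node 7 [⟨125,(Int.ofNat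 1),1⟩] .nil .nil))) (.node 37 [⟨35,(Int.ofNat 1),1⟩] (.node 28 [⟨26,(Int.ofNat 1),1⟩] (.node 21 [⟨19,(Int.ofNat 1),1⟩] .nil .nil) (.node 33 [⟨31,(Int.ofNat 1),1⟩] .nil .nil)) (.node 43 [⟨41,(Int.negSucc 0),1⟩] (.node 40 [⟨38,(Int.ofNat 1),1⟩] .nil .nil) (.node 47 [⟨45,(Int.ofNat 1),1⟩] .nil .nil)))) (.node 76 [⟨74,(Int.negSucc 0),1⟩] (.node 62 [⟨60,(Int.negSucc 0),1⟩] (.node 56 [⟨54,(Int.ofNat 1),1⟩] (.node 53 [⟨51,(Int.negSucc 0),1⟩] .nil .nil) (.node 59 [⟨57,(Int.negSucc 0),1⟩] .nil .nil)) (.node 69 [⟨67,(Int.negSucc 0),1⟩] (.node 66 [⟨64,(Int.ofNat 1),1⟩] .nil .nil) (.node 72 [⟨70,(Int.negSucc 0),1⟩] .nil .nil))) (.node 94 [⟨92,(Int.negSucc 0),1⟩] (.node 88 [⟨86,(Int.ofNat 1),1⟩] (.node 81 [⟨79,(Int.negSucc 0),1⟩] .nil .nil) (.node 91 [⟨89,(Int.negSucc 0),1⟩] .nil .nil)) (.node 103 [⟨101,(Int.negSucc 0),1⟩]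 (.node 98 [⟨96,(Int.negSucc 0),1⟩] .nil .nil) (.node 109 [⟨107,(Int.negSucc 0),1⟩] .nil .nil))))) (.node 185 [⟨183,(Int.ofNat 1),1⟩] (.node 148 [⟨146,(Int.ofNat 1),1⟩] (.node 130 [⟨0,(Int.ofNat 0),1⟩, ⟨1,(Int.ofNat 0),1⟩, ⟨2,(Int.ofNat 0),1⟩, ⟨3,(Int.ofNat 0),1⟩, ⟨4,(Int.ofNat 0),1⟩, ⟨5,(Int.ofNat 0),1⟩, ⟨6,(Int.negSucc 0),1⟩, ⟨7,(Int.negSucc 0),1⟩, ⟨125,(Int.negSucc 0),2⟩] (.node 128 [⟨126,(Int.ofNat 1),1⟩] (.node 124 [⟨122,(Int.negSucc 0),1⟩] (.node 120 [⟨118,(Int.negSucc 0),1⟩] .nil .nil) .nil) (.node 129 [⟨127,(Int.negSucc 0),1⟩] .nil .nil)) (.node 137 [⟨135,(Int.ofNat 1),1⟩] (.node 133 [⟨131,(Int.ofNat 1),1⟩] .nil .nil) (.node 142 [⟨140,(Int.ofNat 1),1⟩] .nil .nil))) (.node 166 [⟨164,(Int.ofNat 1),1⟩] (.node 159 [⟨157,(Int.ofNat 1),1⟩] (.node 154 [⟨152,(Int.ofNat 1),1⟩] .nil .nil) (.node 163 [⟨161,(Int.ofNat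 1),1⟩] .nil .nil)) (.node 176 [⟨174,(Int.ofNat 1),1⟩] (.node 169 [⟨167,(Int.negSucc 0),1⟩] .nil .nil) (.node 181 [⟨179,(Int.ofNat 1),1⟩] .nil .nil)))) (.node 210 [⟨208,(Int.negSucc 0),1⟩] (.node 198 [⟨196,(Int.ofNat 1),1⟩] (.node 191 [⟨189,(Int.negSucc 0),1⟩] (.node 188 [⟨186,(Int.ofNat 1),1⟩] .nil .nil) (.node 195 [⟨193,(Int.ofNat 1),1⟩] .nil .nil)) (.node 204 [⟨202,(Int.ofNat 1),1⟩] (.node 201 [⟨199,(Int.negSucc 0),1⟩] .nil .nil) (.node 207 [⟨205,(Int.negSucc 0),1⟩] .nil .nil))) (.node 224 [⟨222,(Int.negSucc 0),1⟩] (.node 217 [⟨215,(Int.negSucc 0),1⟩] (.node 214 [⟨212,(Int.ofNat 1),1⟩] .nil .nil) (.node 220 [⟨218,(Int.negSucc 0),1⟩] .nil .nil)) (.node 236 [⟨234,(Int.negSucc 0),1⟩] (.node 229 [⟨227,(Int.negSucc 0),1⟩] .nil .nil) (.node 247 [⟨245,(Int.ofNat 1),1⟩] .nil .nil))))))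
noncomputable def col118 : Tr Cl := (.node 115 [⟨114,(Int.negSucc 0),1⟩] (.node 49 [⟨48,(Int.negSucc 0),1⟩] (.node 10 [⟨9,(Int.negSucc 0),1⟩] (.node 4 [⟨126,(Int.ofNat 0),1⟩] (.node 2 [⟨126,(Int.ofNat 0),1⟩] (.node 1 [⟨126,(Int.ofNat 0),1⟩] (.node 0 [⟨126,(Int.ofNat 0),1⟩] .nil .nil) .nil) (.node 3 [⟨126,(Int.ofNat 0),1⟩] .nil .nil)) (.node 6 [⟨126,(Int.ofNat 2),1⟩] (.node 5 [⟨126,(Int.negSucc 0),1⟩] .nil .nil) (.node 7 [⟨126,(Int.negSucc 0),1⟩] .nil .nil))) (.node 36 [⟨35,(Int.negSucc 0),1⟩] (.node 27 [⟨26,(Int.negSucc 0),1⟩] (.node 20 [⟨19,(Int.negSucc 0),1⟩] .nil .nil) (.node 32 [⟨31,(Int.negSucc 0),1⟩] .nil .nil)) (.node 43 [⟨42,(Int.negSucc 0),1⟩] (.node 39 [⟨38,(Int.negSucc 0),1⟩] .nil .nil) (.node 46 [⟨45,(Int.negSucc 0),1⟩] .nil .nil)))) (.node 76 [⟨75,(Int.negSucc 0),1⟩] (.node 62 [⟨61,(Int.negSucc 0),1⟩]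 (.node 55 [⟨54,(Int.negSucc 0),1⟩] (.node 53 [⟨52,(Int.negSucc 0),1⟩] .nil .nil) (.node 59 [⟨58,(Int.negSucc 0),1⟩] .nil .nil)) (.node 69 [⟨68,(Int.negSucc 0),1⟩] (.node 65 [⟨64,(Int.negSucc 0),1⟩] .nil .nil) (.node 72 [⟨71,(Int.negSucc 0),1⟩] .nil .nil))) (.node 94 [⟨93,(Int.negSucc 0),1⟩] (.node 87 [⟨86,(Int.negSucc 0),1⟩] (.node 81 [⟨80,(Int.negSucc 0),1⟩] .nil .nil) (.node 91 [⟨90,(Int.negSucc 0),1⟩] .nil .nil)) (.node 103 [⟨102,(Int.negSucc 0),1⟩] (.node 98 [⟨97,(Int.negSucc 0),1⟩] .nil .nil) (.node 109 [⟨108,(Int.negSucc 0),1⟩] .nil .nil))))) (.node 184 [⟨183,(Int.ofNat 1),1⟩] (.node 147 [⟨146,(Int.ofNat 1),1⟩] (.node 130 [⟨128,(Int.negSucc 0),1⟩] (.node 127 [⟨125,(Int.ofNat 1),1⟩] (.node 124 [⟨123,(Int.negSucc 0),1⟩] (.node 120 [⟨119,(Int.negSucc 0),1⟩] .nil .nil) .nil) (.node 129 [⟨0,(Int.ofNat 0),1⟩,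 ⟨1,(Int.ofNat 0),1⟩, ⟨2,(Int.ofNat 0),1⟩, ⟨3,(Int.ofNat 0),1⟩, ⟨4,(Int.ofNat 0),1⟩, ⟨5,(Int.ofNat 0),1⟩, ⟨6,(Int.negSucc 0),1⟩, ⟨7,(Int.ofNat 0),1⟩, ⟨126,(Int.negSucc 0),2⟩] .nil .nil)) (.node 136 [⟨135,(Int.ofNat 1),1⟩] (.node 132 [⟨131,(Int.ofNat 1),1⟩] .nil .nil) (.node 141 [⟨140,(Int.ofNat 1),1⟩] .nil .nil))) (.node 165 [⟨164,(Int.ofNat 1),1⟩] (.node 158 [⟨157,(Int.ofNat 1),1⟩] (.node 153 [⟨152,(Int.ofNat 1),1⟩] .nil .nil) (.node 162 [⟨161,(Int.ofNat 1),1⟩] .nil .nil)) (.node 175 [⟨174,(Int.ofNat 1),1⟩] (.node 169 [⟨168,(Int.ofNat 1),1⟩] .nil .nil) (.node 180 [⟨179,(Int.ofNat 1),1⟩] .nil .nil)))) (.node 210 [⟨209,(Int.ofNat 1),1⟩] (.node 197 [⟨196,(Int.ofNat 1),1⟩] (.node 191 [⟨190,(Int.ofNat 1),1⟩] (.node 187 [⟨186,(Int.ofNat 1),1⟩] .nil .nil) (.node 194 [⟨193,(Int.ofNat 1),1⟩] .nil .nil)) (.node 203 [⟨202,(Int.ofNat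 1),1⟩] (.node 201 [⟨200,(Int.ofNat 1),1⟩] .nil .nil) (.node 207 [⟨206,(Int.ofNat 1),1⟩] .nil .nil))) (.node 224 [⟨223,(Int.ofNat 1),1⟩] (.node 217 [⟨216,(Int.ofNat 1),1⟩] (.node 213 [⟨212,(Int.ofNat 1),1⟩] .nil .nil) (.node 220 [⟨219,(Int.ofNat 1),1⟩] .nil .nil)) (.node 236 [⟨235,(Int.ofNat 1),1⟩] (.node 229 [⟨228,(Int.ofNat 1),1⟩] .nil .nil) (.node 246 [⟨245,(Int.ofNat 1),1⟩] .nil .nil))))))
noncomputable def col119 : Tr Cl := (.node 114 [⟨113,(Int.negSucc 0),1⟩] (.node 50 [⟨49,(Int.negSucc 0),1⟩] (.node 9 [⟨8,(Int.negSucc 0),1⟩] (.node 4 [⟨127,(Int.ofNat 0),1⟩] (.node 2 [⟨127,(Int.ofNat 0),1⟩] (.node 1 [⟨127,(Int.ofNat 0),1⟩] (.node 0 [⟨127,(Int.ofNat 0),1⟩] .nil .nil) .nil) (.node 3 [⟨127,(Int.ofNat 0),1⟩] .nil .nil)) (.node 6 [⟨127,(Int.negSucc 0),1⟩] (.node 5 [⟨127,(Int.ofNat 0),1⟩] .nil .nil) (.node 7 [⟨127,(Int.ofNat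 2),1⟩] .nil .nil))) (.node 37 [⟨36,(Int.negSucc 0),1⟩] (.node 28 [⟨27,(Int.negSucc 0),1⟩] (.node 21 [⟨20,(Int.negSucc 0),1⟩] .nil .nil) (.node 33 [⟨32,(Int.negSucc 0),1⟩] .nil .nil)) (.node 42 [⟨41,(Int.negSucc 0),1⟩] (.node 40 [⟨39,(Int.negSucc 0),1⟩] .nil .nil) (.node 47 [⟨46,(Int.negSucc 0),1⟩] .nil .nil)))) (.node 75 [⟨74,(Int.negSucc 0),1⟩] (.node 61 [⟨60,(Int.negSucc 0),1⟩] (.node 56 [⟨55,(Int.negSucc 0),1⟩] (.node 52 [⟨51,(Int.negSucc 0),1⟩] .nil .nil) (.node 58 [⟨57,(Int.negSucc 0),1⟩] .nil .nil)) (.node 68 [⟨67,(Int.negSucc 0),1⟩] (.node 66 [⟨65,(Int.negSucc 0),1⟩] .nil .nil) (.node 71 [⟨70,(Int.negSucc 0),1⟩] .nil .nil))) (.node 93 [⟨92,(Int.negSucc 0),1⟩] (.node 88 [⟨87,(Int.negSucc 0),1⟩] (.node 80 [⟨79,(Int.negSucc 0),1⟩] .nil .nil) (.node 90 [⟨89,(Int.negSucc 0),1⟩] .nil .nil)) (.node 102 [⟨101,(Int.negSucc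 0),1⟩] (.node 97 [⟨96,(Int.negSucc 0),1⟩] .nil .nil) (.node 108 [⟨107,(Int.negSucc 0),1⟩] .nil .nil))))) (.node 185 [⟨184,(Int.ofNat 1),1⟩] (.node 148 [⟨147,(Int.ofNat 1),1⟩] (.node 130 [⟨129,(Int.ofNat 1),1⟩] (.node 126 [⟨125,(Int.negSucc 0),1⟩] (.node 123 [⟨122,(Int.negSucc 0),1⟩] (.node 119 [⟨118,(Int.negSucc 0),1⟩] .nil .nil) .nil) (.node 128 [⟨0,(Int.ofNat 0),1⟩, ⟨1,(Int.ofNat 0),1⟩, ⟨2,(Int.ofNat 0),1⟩, ⟨3,(Int.ofNat 0),1⟩, ⟨4,(Int.ofNat 0),1⟩, ⟨5,(Int.ofNat 0),1⟩, ⟨6,(Int.ofNat 0),1⟩, ⟨7,(Int.negSucc 0),1⟩, ⟨127,(Int.negSucc 0),2⟩] .nil .nil)) (.node 137 [⟨136,(Int.ofNat 1),1⟩] (.node 133 [⟨132,(Int.ofNat 1),1⟩] .nil .nil) (.node 142 [⟨141,(Int.ofNat 1),1⟩] .nil .nil))) (.node 166 [⟨165,(Int.ofNat 1),1⟩] (.node 159 [⟨158,(Int.ofNat 1),1⟩] (.node 154 [⟨153,(Int.ofNat 1),1⟩] .nil .nil) (.node 163 [⟨162,(Int.ofNat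 1),1⟩] .nil .nil)) (.node 176 [⟨175,(Int.ofNat 1),1⟩] (.node 168 [⟨167,(Int.ofNat 1),1⟩] .nil .nil) (.node 181 [⟨180,(Int.ofNat 1),1⟩] .nil .nil)))) (.node 209 [⟨208,(Int.ofNat 1),1⟩] (.node 198 [⟨197,(Int.ofNat 1),1⟩] (.node 190 [⟨189,(Int.ofNat 1),1⟩] (.node 188 [⟨187,(Int.ofNat 1),1⟩] .nil .nil) (.node 195 [⟨194,(Int.ofNat 1),1⟩] .nil .nil)) (.node 204 [⟨203,(Int.ofNat 1),1⟩] (.node 200 [⟨199,(Int.ofNat 1),1⟩] .nil .nil) (.node 206 [⟨205,(Int.ofNat 1),1⟩] .nil .nil))) (.node 223 [⟨222,(Int.ofNat 1),1⟩] (.node 216 [⟨215,(Int.ofNat 1),1⟩] (.node 214 [⟨213,(Int.ofNat 1),1⟩] .nil .nil) (.node 219 [⟨218,(Int.ofNat 1),1⟩] .nil .nil)) (.node 235 [⟨234,(Int.ofNat 1),1⟩] (.node 228 [⟨227,(Int.ofNat 1),1⟩] .nil .nil) (.node 247 [⟨246,(Int.ofNat 1),1⟩] .nil .nil))))))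
noncomputable def col120 : Tr Cl := (.node 113 [⟨114,(Int.negSucc 0),1⟩] (.node 49 [⟨50,(Int.negSucc 0),1⟩] (.node 8 [⟨9,(Int.negSucc 0),1⟩] (.node 4 [⟨128,(Int.ofNat 0),1⟩] (.node 2 [⟨128,(Int.ofNat 0),1⟩] (.node 1 [⟨128,(Int.ofNat 0),1⟩] (.node 0 [⟨128,(Int.ofNat 0),1⟩] .nil .nil) .nil) (.node 3 [⟨128,(Int.ofNat 0),1⟩] .nil .nil)) (.node 6 [⟨128,(Int.ofNat 1),1⟩] (.node 5 [⟨128,(Int.ofNat 0),1⟩] .nil .nil) (.node 7 [⟨128,(Int.negSucc 1),1⟩] .nil .nil))) (.node 36 [⟨37,(Int.negSucc 0),1⟩] (.node 27 [⟨28,(Int.negSucc 0),1⟩] (.node 20 [⟨21,(Int.negSucc 0),1⟩] .nil .nil) (.node 32 [⟨33,(Int.negSucc 0),1⟩] .nil .nil)) (.node 41 [⟨42,(Int.negSucc 0),1⟩] (.node 39 [⟨40,(Int.negSucc 0),1⟩] .nil .nil) (.node 46 [⟨47,(Int.negSucc 0),1⟩] .nil .nil)))) (.node 74 [⟨75,(Int.negSucc 0),1⟩] (.node 60 [⟨61,(Int.negSucc 0),1⟩]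 (.node 55 [⟨56,(Int.negSucc 0),1⟩] (.node 51 [⟨52,(Int.negSucc 0),1⟩] .nil .nil) (.node 57 [⟨58,(Int.negSucc 0),1⟩] .nil .nil)) (.node 67 [⟨68,(Int.negSucc 0),1⟩] (.node 65 [⟨66,(Int.negSucc 0),1⟩] .nil .nil) (.node 70 [⟨71,(Int.negSucc 0),1⟩] .nil .nil))) (.node 92 [⟨93,(Int.negSucc 0),1⟩] (.node 87 [⟨88,(Int.negSucc 0),1⟩] (.node 79 [⟨80,(Int.negSucc 0),1⟩] .nil .nil) (.node 89 [⟨90,(Int.negSucc 0),1⟩] .nil .nil)) (.node 101 [⟨102,(Int.negSucc 0),1⟩] (.node 96 [⟨97,(Int.negSucc 0),1⟩] .nil .nil) (.node 107 [⟨108,(Int.negSucc 0),1⟩] .nil .nil))))) (.node 184 [⟨185,(Int.ofNat 1),1⟩] (.node 147 [⟨148,(Int.ofNat 1),1⟩] (.node 129 [⟨130,(Int.ofNat 1),1⟩] (.node 125 [⟨126,(Int.negSucc 0),1⟩] (.node 122 [⟨123,(Int.negSucc 0),1⟩] (.node 118 [⟨119,(Int.negSucc 0),1⟩] .nil .nil) .nil) (.node 127 [⟨0,(Int.ofNat 0),1⟩,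 ⟨1,(Int.ofNat 0),1⟩, ⟨2,(Int.ofNat 0),1⟩, ⟨3,(Int.ofNat 0),1⟩, ⟨4,(Int.ofNat 0),1⟩, ⟨5,(Int.ofNat 0),1⟩, ⟨6,(Int.ofNat 0),1⟩, ⟨7,(Int.ofNat 1),1⟩, ⟨128,(Int.negSucc 0),2⟩] .nil .nil)) (.node 136 [⟨137,(Int.ofNat 1),1⟩] (.node 132 [⟨133,(Int.ofNat 1),1⟩] .nil .nil) (.node 141 [⟨142,(Int.ofNat 1),1⟩] .nil .nil))) (.node 165 [⟨166,(Int.ofNat 1),1⟩] (.node 158 [⟨159,(Int.ofNat 1),1⟩] (.node 153 [⟨154,(Int.ofNat 1),1⟩] .nil .nil) (.node 162 [⟨163,(Int.ofNat 1),1⟩] .nil .nil)) (.node 175 [⟨176,(Int.ofNat 1),1⟩] (.node 167 [⟨168,(Int.ofNat 1),1⟩] .nil .nil) (.node 180 [⟨181,(Int.ofNat 1),1⟩] .nil .nil)))) (.node 208 [⟨209,(Int.ofNat 1),1⟩] (.node 197 [⟨198,(Int.ofNat 1),1⟩] (.node 189 [⟨190,(Int.ofNat 1),1⟩] (.node 187 [⟨188,(Int.ofNat 1),1⟩] .nil .nil) (.node 194 [⟨195,(Int.ofNat 1),1⟩] .nil .nil)) (.node 203 [⟨204,(Int.ofNat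 1),1⟩] (.node 199 [⟨200,(Int.ofNat 1),1⟩] .nil .nil) (.node 205 [⟨206,(Int.ofNat 1),1⟩] .nil .nil))) (.node 222 [⟨223,(Int.ofNat 1),1⟩] (.node 215 [⟨216,(Int.ofNat 1),1⟩] (.node 213 [⟨214,(Int.ofNat 1),1⟩] .nil .nil) (.node 218 [⟨219,(Int.ofNat 1),1⟩] .nil .nil)) (.node 234 [⟨235,(Int.ofNat 1),1⟩] (.node 227 [⟨228,(Int.ofNat 1),1⟩] .nil .nil) (.node 246 [⟨247,(Int.ofNat 1),1⟩] .nil .nil))))))
noncomputable def col121 : Tr Cl := (.node 114 [⟨115,(Int.negSucc 0),1⟩] (.node 48 [⟨49,(Int.negSucc 0),1⟩] (.node 9 [⟨10,(Int.negSucc 0),1⟩] (.node 4 [⟨129,(Int.ofNat 0),1⟩] (.node 2 [⟨129,(Int.ofNat 0),1⟩] (.node 1 [⟨129,(Int.ofNat 0),1⟩] (.node 0 [⟨129,(Int.ofNat 0),1⟩] .nil .nil) .nil) (.node 3 [⟨129,(Int.ofNat 0),1⟩] .nil .nil)) (.node 6 [⟨129,(Int.negSucc 1),1⟩] (.node 5 [⟨129,(Int.ofNat 1),1⟩] .nil .nil) (.node 7 [⟨129,(Int.ofNat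 1),1⟩] .nil .nil))) (.node 35 [⟨36,(Int.negSucc 0),1⟩] (.node 26 [⟨27,(Int.negSucc 0),1⟩] (.node 19 [⟨20,(Int.negSucc 0),1⟩] .nil .nil) (.node 31 [⟨32,(Int.negSucc 0),1⟩] .nil .nil)) (.node 42 [⟨43,(Int.negSucc 0),1⟩] (.node 38 [⟨39,(Int.negSucc 0),1⟩] .nil .nil) (.node 45 [⟨46,(Int.negSucc 0),1⟩] .nil .nil)))) (.node 75 [⟨76,(Int.negSucc 0),1⟩] (.node 61 [⟨62,(Int.negSucc 0),1⟩] (.node 54 [⟨55,(Int.negSucc 0),1⟩] (.node 52 [⟨53,(Int.negSucc 0),1⟩] .nil .nil) (.node 58 [⟨59,(Int.negSucc 0),1⟩] .nil .nil)) (.node 68 [⟨69,(Int.negSucc 0),1⟩] (.node 64 [⟨65,(Int.negSucc 0),1⟩] .nil .nil) (.node 71 [⟨72,(Int.negSucc 0),1⟩] .nil .nil))) (.node 93 [⟨94,(Int.negSucc 0),1⟩] (.node 86 [⟨87,(Int.negSucc 0),1⟩] (.node 80 [⟨81,(Int.negSucc 0),1⟩] .nil .nil) (.node 90 [⟨91,(Int.negSucc 0),1⟩] .nil .nil)) (.node 102 [⟨103,(Int.negSucc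 0),1⟩] (.node 97 [⟨98,(Int.negSucc 0),1⟩] .nil .nil) (.node 108 [⟨109,(Int.negSucc 0),1⟩] .nil .nil))))) (.node 183 [⟨184,(Int.ofNat 1),1⟩] (.node 146 [⟨147,(Int.ofNat 1),1⟩] (.node 128 [⟨130,(Int.negSucc 0),1⟩] (.node 125 [⟨127,(Int.ofNat 1),1⟩] (.node 123 [⟨124,(Int.negSucc 0),1⟩] (.node 119 [⟨120,(Int.negSucc 0),1⟩] .nil .nil) .nil) (.node 126 [⟨0,(Int.ofNat 0),1⟩, ⟨1,(Int.ofNat 0),1⟩, ⟨2,(Int.ofNat 0),1⟩, ⟨3,(Int.ofNat 0),1⟩, ⟨4,(Int.ofNat 0),1⟩, ⟨5,(Int.ofNat 0),1⟩, ⟨6,(Int.ofNat 1),1⟩, ⟨7,(Int.ofNat 0),1⟩, ⟨129,(Int.negSucc 0),2⟩] .nil .nil)) (.node 135 [⟨136,(Int.ofNat 1),1⟩] (.node 131 [⟨132,(Int.ofNat 1),1⟩] .nil .nil) (.node 140 [⟨141,(Int.ofNat 1),1⟩] .nil .nil))) (.node 164 [⟨165,(Int.ofNat 1),1⟩] (.node 157 [⟨158,(Int.ofNat 1),1⟩] (.node 152 [⟨153,(Int.ofNat 1),1⟩] .nil .nil) (.node 161 [⟨162,(Int.ofNat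 1),1⟩] .nil .nil)) (.node 174 [⟨175,(Int.ofNat 1),1⟩] (.node 168 [⟨169,(Int.ofNat 1),1⟩] .nil .nil) (.node 179 [⟨180,(Int.ofNat 1),1⟩] .nil .nil)))) (.node 209 [⟨210,(Int.ofNat 1),1⟩] (.node 196 [⟨197,(Int.ofNat 1),1⟩] (.node 190 [⟨191,(Int.ofNat 1),1⟩] (.node 186 [⟨187,(Int.ofNat 1),1⟩] .nil .nil) (.node 193 [⟨194,(Int.ofNat 1),1⟩] .nil .nil)) (.node 202 [⟨203,(Int.ofNat 1),1⟩] (.node 200 [⟨201,(Int.ofNat 1),1⟩] .nil .nil) (.node 206 [⟨207,(Int.ofNat 1),1⟩] .nil .nil))) (.node 223 [⟨224,(Int.ofNat 1),1⟩] (.node 216 [⟨217,(Int.ofNat 1),1⟩] (.node 212 [⟨213,(Int.ofNat 1),1⟩] .nil .nil) (.node 219 [⟨220,(Int.ofNat 1),1⟩] .nil .nil)) (.node 235 [⟨236,(Int.ofNat 1),1⟩] (.node 228 [⟨229,(Int.ofNat 1),1⟩] .nil .nil) (.node 245 [⟨246,(Int.ofNat 1),1⟩] .nil .nil))))))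
noncomputable def col122 : Tr Cl := (.node 113 [⟨115,(Int.negSucc 0),1⟩] (.node 48 [⟨50,(Int.ofNat 1),1⟩] (.node 8 [⟨10,(Int.negSucc 0),1⟩] (.node 4 [⟨130,(Int.ofNat 0),1⟩] (.node 2 [⟨130,(Int.ofNat 0),1⟩] (.node 1 [⟨130,(Int.ofNat 0),1⟩] (.node 0 [⟨130,(Int.ofNat 0),1⟩] .nil .nil) .nil) (.node 3 [⟨130,(Int.ofNat 0),1⟩] .nil .nil)) (.node 6 [⟨130,(Int.negSucc 0),1⟩] (.node 5 [⟨130,(Int.ofNat 1),1⟩] .nil .nil) (.node 7 [⟨130,(Int.negSucc 0),1⟩] .nil .nil))) (.node 35 [⟨37,(Int.ofNat 1),1⟩] (.node 26 [⟨28,(Int.ofNat 1),1⟩] (.node 19 [⟨21,(Int.ofNat 1),1⟩] .nil .nil) (.node 31 [⟨33,(Int.ofNat 1),1⟩] .nil .nil)) (.node 41 [⟨43,(Int.negSucc 0),1⟩] (.node 38 [⟨40,(Int.ofNat 1),1⟩] .nil .nil) (.node 45 [⟨47,(Int.ofNat 1),1⟩] .nil .nil)))) (.node 74 [⟨76,(Int.negSucc 0),1⟩] (.node 60 [⟨62,(Int.negSucc 0),1⟩] (.node 54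 [⟨56,(Int.ofNat 1),1⟩] (.node 51 [⟨53,(Int.negSucc 0),1⟩] .nil .nil) (.node 57 [⟨59,(Int.negSucc 0),1⟩] .nil .nil)) (.node 67 [⟨69,(Int.negSucc 0),1⟩] (.node 64 [⟨66,(Int.ofNat 1),1⟩] .nil .nil) (.node 70 [⟨72,(Int.negSucc 0),1⟩] .nil .nil))) (.node 92 [⟨94,(Int.negSucc 0),1⟩] (.node 86 [⟨88,(Int.ofNat 1),1⟩] (.node 79 [⟨81,(Int.negSucc 0),1⟩] .nil .nil) (.node 89 [⟨91,(Int.negSucc 0),1⟩] .nil .nil)) (.node 101 [⟨103,(Int.negSucc 0),1⟩] (.node 96 [⟨98,(Int.negSucc 0),1⟩] .nil .nil) (.node 107 [⟨109,(Int.negSucc 0),1⟩] .nil .nil))))) (.node 183 [⟨185,(Int.ofNat 1),1⟩] (.node 146 [⟨148,(Int.ofNat 1),1⟩] (.node 127 [⟨129,(Int.negSucc 0),1⟩] (.node 125 [⟨0,(Int.ofNat 0),1⟩, ⟨1,(Int.ofNat 0),1⟩, ⟨2,(Int.ofNat 0),1⟩, ⟨3,(Int.ofNat 0),1⟩, ⟨4,(Int.ofNat 0),1⟩, ⟨5,(Int.ofNat 0),1⟩, ⟨6,(Int.ofNat 1),1⟩, ⟨7,(Int.ofNat 1),1⟩,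 ⟨130,(Int.negSucc 0),2⟩] (.node 122 [⟨124,(Int.negSucc 0),1⟩] (.node 118 [⟨120,(Int.negSucc 0),1⟩] .nil .nil) .nil) (.node 126 [⟨128,(Int.ofNat 1),1⟩] .nil .nil)) (.node 135 [⟨137,(Int.ofNat 1),1⟩] (.node 131 [⟨133,(Int.ofNat 1),1⟩] .nil .nil) (.node 140 [⟨142,(Int.ofNat 1),1⟩] .nil .nil))) (.node 164 [⟨166,(Int.ofNat 1),1⟩] (.node 157 [⟨159,(Int.ofNat 1),1⟩] (.node 152 [⟨154,(Int.ofNat 1),1⟩] .nil .nil) (.node 161 [⟨163,(Int.ofNat 1),1⟩] .nil .nil)) (.node 174 [⟨176,(Int.ofNat 1),1⟩] (.node 167 [⟨169,(Int.negSucc 0),1⟩] .nil .nil) (.node 179 [⟨181,(Int.ofNat 1),1⟩] .nil .nil)))) (.node 208 [⟨210,(Int.negSucc 0),1⟩] (.node 196 [⟨198,(Int.ofNat 1),1⟩] (.node 189 [⟨191,(Int.negSucc 0),1⟩] (.node 186 [⟨188,(Int.ofNat 1),1⟩] .nil .nil) (.node 193 [⟨195,(Int.ofNat 1),1⟩] .nil .nil)) (.node 202 [⟨204,(Int.ofNat 1),1⟩]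 (.node 199 [⟨201,(Int.negSucc 0),1⟩] .nil .nil) (.node 205 [⟨207,(Int.negSucc 0),1⟩] .nil .nil))) (.node 222 [⟨224,(Int.negSucc 0),1⟩] (.node 215 [⟨217,(Int.negSucc 0),1⟩] (.node 212 [⟨214,(Int.ofNat 1),1⟩] .nil .nil) (.node 218 [⟨220,(Int.negSucc 0),1⟩] .nil .nil)) (.node 234 [⟨236,(Int.negSucc 0),1⟩] (.node 227 [⟨229,(Int.negSucc 0),1⟩] .nil .nil) (.node 245 [⟨247,(Int.ofNat 1),1⟩] .nil .nil))))))
noncomputable def col123 : Tr Cl := (.node 115 [⟨116,(Int.negSucc 0),1⟩] (.node 49 [⟨51,(Int.negSucc 0),1⟩] (.node 10 [⟨11,(Int.negSucc 0),1⟩] (.node 4 [⟨131,(Int.ofNat 1),1⟩] (.node 2 [⟨131,(Int.ofNat 0),1⟩] (.node 1 [⟨131,(Int.ofNat 0),1⟩] (.node 0 [⟨131,(Int.ofNat 0),1⟩] .nil .nil) .nil) (.node 3 [⟨131,(Int.ofNat 0),1⟩] .nil .nil)) (.node 6 [⟨131,(Int.ofNat 1),1⟩] (.node 5 [⟨131,(Int.negSucc 1),1⟩] .nil .nil) (.node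 7 [⟨131,(Int.ofNat 0),1⟩] .nil .nil))) (.node 34 [⟨35,(Int.negSucc 0),1⟩] (.node 25 [⟨26,(Int.negSucc 0),1⟩] (.node 18 [⟨19,(Int.negSucc 0),1⟩] .nil .nil) (.node 30 [⟨31,(Int.negSucc 0),1⟩] .nil .nil)) (.node 40 [⟨42,(Int.negSucc 0),1⟩] (.node 39 [⟨41,(Int.negSucc 0),1⟩] .nil .nil) (.node 44 [⟨45,(Int.negSucc 0),1⟩] .nil .nil)))) (.node 76 [⟨77,(Int.negSucc 0),1⟩] (.node 62 [⟨63,(Int.negSucc 0),1⟩] (.node 55 [⟨57,(Int.negSucc 0),1⟩] (.node 50 [⟨52,(Int.negSucc 0),1⟩] .nil .nil) (.node 56 [⟨58,(Int.negSucc 0),1⟩] .nil .nil)) (.node 66 [⟨68,(Int.negSucc 0),1⟩] (.node 65 [⟨67,(Int.negSucc 0),1⟩] .nil .nil) (.node 72 [⟨73,(Int.negSucc 0),1⟩] .nil .nil))) (.node 94 [⟨95,(Int.negSucc 0),1⟩] (.node 87 [⟨89,(Int.negSucc 0),1⟩] (.node 81 [⟨82,(Int.negSucc 0),1⟩] .nil .nil) (.node 88 [⟨90,(Int.negSucc 0),1⟩] .nil .nil))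 (.node 103 [⟨104,(Int.negSucc 0),1⟩] (.node 98 [⟨99,(Int.negSucc 0),1⟩] .nil .nil) (.node 109 [⟨110,(Int.negSucc 0),1⟩] .nil .nil))))) (.node 182 [⟨183,(Int.ofNat 1),1⟩] (.node 145 [⟨146,(Int.ofNat 1),1⟩] (.node 129 [⟨132,(Int.negSucc 0),1⟩] (.node 123 [⟨126,(Int.ofNat 1),1⟩] (.node 122 [⟨125,(Int.ofNat 1),1⟩] (.node 120 [⟨121,(Int.negSucc 0),1⟩] .nil .nil) .nil) (.node 124 [⟨0,(Int.ofNat 0),1⟩, ⟨1,(Int.ofNat 0),1⟩, ⟨2,(Int.ofNat 0),1⟩, ⟨3,(Int.ofNat 0),1⟩, ⟨4,(Int.ofNat 0),1⟩, ⟨5,(Int.ofNat 1),1⟩, ⟨6,(Int.ofNat 0),1⟩, ⟨7,(Int.ofNat 0),1⟩, ⟨131,(Int.negSucc 0),2⟩] .nil .nil)) (.node 134 [⟨135,(Int.ofNat 1),1⟩] (.node 130 [⟨133,(Int.negSucc 0),1⟩] .nil .nil) (.node 139 [⟨140,(Int.ofNat 1),1⟩] .nil .nil))) (.node 165 [⟨167,(Int.ofNat 1),1⟩] (.node 156 [⟨157,(Int.ofNat 1),1⟩] (.node 151 [⟨152,(Int.ofNat 1),1⟩] .nil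 .nil) (.node 160 [⟨161,(Int.ofNat 1),1⟩] .nil .nil)) (.node 173 [⟨174,(Int.ofNat 1),1⟩] (.node 166 [⟨168,(Int.ofNat 1),1⟩] .nil .nil) (.node 178 [⟨179,(Int.ofNat 1),1⟩] .nil .nil)))) (.node 210 [⟨211,(Int.ofNat 1),1⟩] (.node 197 [⟨199,(Int.ofNat 1),1⟩] (.node 188 [⟨190,(Int.ofNat 1),1⟩] (.node 187 [⟨189,(Int.ofNat 1),1⟩] .nil .nil) (.node 192 [⟨193,(Int.ofNat 1),1⟩] .nil .nil)) (.node 203 [⟨205,(Int.ofNat 1),1⟩] (.node 198 [⟨200,(Int.ofNat 1),1⟩] .nil .nil) (.node 204 [⟨206,(Int.ofNat 1),1⟩] .nil .nil))) (.node 224 [⟨225,(Int.ofNat 1),1⟩] (.node 214 [⟨216,(Int.ofNat 1),1⟩] (.node 213 [⟨215,(Int.ofNat 1),1⟩] .nil .nil) (.node 220 [⟨221,(Int.ofNat 1),1⟩] .nil .nil)) (.node 236 [⟨237,(Int.ofNat 1),1⟩] (.node 229 [⟨230,(Int.ofNat 1),1⟩] .nil .nil) (.node 244 [⟨245,(Int.ofNat 1),1⟩] .nil .nil))))))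
noncomputable def col124 : Tr Cl := (.node 114 [⟨116,(Int.negSucc 0),1⟩] (.node 48 [⟨51,(Int.negSucc 0),1⟩] (.node 9 [⟨11,(Int.negSucc 0),1⟩] (.node 4 [⟨132,(Int.ofNat 1),1⟩] (.node 2 [⟨132,(Int.ofNat 0),1⟩] (.node 1 [⟨132,(Int.ofNat 0),1⟩] (.node 0 [⟨132,(Int.ofNat 0),1⟩] .nil .nil) .nil) (.node 3 [⟨132,(Int.ofNat 0),1⟩] .nil .nil)) (.node 6 [⟨132,(Int.negSucc 0),1⟩] (.node 5 [⟨132,(Int.negSucc 0),1⟩] .nil .nil) (.node 7 [⟨132,(Int.ofNat 1),1⟩] .nil .nil))) (.node 34 [⟨36,(Int.ofNat 1),1⟩] (.node 25 [⟨27,(Int.ofNat 1),1⟩] (.node 18 [⟨20,(Int.ofNat 1),1⟩] .nil .nil) (.node 30 [⟨32,(Int.ofNat 1),1⟩] .nil .nil)) (.node 40 [⟨43,(Int.ofNat 1),1⟩] (.node 38 [⟨41,(Int.negSucc 0),1⟩] .nil .nil) (.node 44 [⟨46,(Int.ofNat 1),1⟩] .nil .nil)))) (.node 75 [⟨77,(Int.negSucc 0),1⟩] (.node 61 [⟨63,(Int.negSucc 0),1⟩] (.node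 54 [⟨57,(Int.negSucc 0),1⟩] (.node 50 [⟨53,(Int.ofNat 1),1⟩] .nil .nil) (.node 56 [⟨59,(Int.ofNat 1),1⟩] .nil .nil)) (.node 66 [⟨69,(Int.ofNat 1),1⟩] (.node 64 [⟨67,(Int.negSucc 0),1⟩] .nil .nil) (.node 71 [⟨73,(Int.negSucc 0),1⟩] .nil .nil))) (.node 93 [⟨95,(Int.negSucc 0),1⟩] (.node 86 [⟨89,(Int.negSucc 0),1⟩] (.node 80 [⟨82,(Int.negSucc 0),1⟩] .nil .nil) (.node 88 [⟨91,(Int.ofNat 1),1⟩] .nil .nil)) (.node 102 [⟨104,(Int.negSucc 0),1⟩] (.node 97 [⟨99,(Int.negSucc 0),1⟩] .nil .nil) (.node 108 [⟨110,(Int.negSucc 0),1⟩] .nil .nil))))) (.node 182 [⟨184,(Int.ofNat 1),1⟩] (.node 145 [⟨147,(Int.ofNat 1),1⟩] (.node 126 [⟨131,(Int.negSucc 0),1⟩] (.node 123 [⟨0,(Int.ofNat 0),1⟩, ⟨1,(Int.ofNat 0),1⟩, ⟨2,(Int.ofNat 0),1⟩, ⟨3,(Int.ofNat 0),1⟩, ⟨4,(Int.ofNat 0),1⟩, ⟨5,(Int.ofNat 1),1⟩, ⟨6,(Int.ofNat 1),1⟩, ⟨7,(Int.ofNat 0),1⟩,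 ⟨132,(Int.negSucc 0),2⟩] (.node 122 [⟨127,(Int.ofNat 1),1⟩] (.node 119 [⟨121,(Int.negSucc 0),1⟩] .nil .nil) .nil) (.node 124 [⟨129,(Int.ofNat 1),1⟩] .nil .nil)) (.node 134 [⟨136,(Int.ofNat 1),1⟩] (.node 128 [⟨133,(Int.negSucc 0),1⟩] .nil .nil) (.node 139 [⟨141,(Int.ofNat 1),1⟩] .nil .nil))) (.node 164 [⟨167,(Int.negSucc 0),1⟩] (.node 156 [⟨158,(Int.ofNat 1),1⟩] (.node 151 [⟨153,(Int.ofNat 1),1⟩] .nil .nil) (.node 160 [⟨162,(Int.ofNat 1),1⟩] .nil .nil)) (.node 173 [⟨175,(Int.ofNat 1),1⟩] (.node 166 [⟨169,(Int.ofNat 1),1⟩] .nil .nil) (.node 178 [⟨180,(Int.ofNat 1),1⟩] .nil .nil)))) (.node 209 [⟨211,(Int.negSucc 0),1⟩] (.node 196 [⟨199,(Int.negSucc 0),1⟩] (.node 188 [⟨191,(Int.ofNat 1),1⟩] (.node 186 [⟨189,(Int.negSucc 0),1⟩] .nil .nil) (.node 192 [⟨194,(Int.ofNat 1),1⟩] .nil .nil)) (.node 202 [⟨205,(Int.negSucc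 0),1⟩] (.node 198 [⟨201,(Int.ofNat 1),1⟩] .nil .nil) (.node 204 [⟨207,(Int.ofNat 1),1⟩] .nil .nil))) (.node 223 [⟨225,(Int.negSucc 0),1⟩] (.node 214 [⟨217,(Int.ofNat 1),1⟩] (.node 212 [⟨215,(Int.negSucc 0),1⟩] .nil .nil) (.node 219 [⟨221,(Int.negSucc 0),1⟩] .nil .nil)) (.node 235 [⟨237,(Int.negSucc 0),1⟩] (.node 228 [⟨230,(Int.negSucc 0),1⟩] .nil .nil) (.node 244 [⟨246,(Int.ofNat 1),1⟩] .nil .nil))))))
noncomputable def col125 : Tr Cl := (.node 113 [⟨116,(Int.negSucc 0),1⟩] (.node 48 [⟨52,(Int.ofNat 1),1⟩] (.node 8 [⟨11,(Int.negSucc 0),1⟩] (.node 4 [⟨133,(Int.ofNat 1),1⟩] (.node 2 [⟨133,(Int.ofNat 0),1⟩] (.node 1 [⟨133,(Int.ofNat 0),1⟩] (.node 0 [⟨133,(Int.ofNat 0),1⟩] .nil .nil) .nil) (.node 3 [⟨133,(Int.ofNat 0),1⟩] .nil .nil)) (.node 6 [⟨133,(Int.ofNat 0),1⟩] (.node 5 [⟨133,(Int.negSucc 0),1⟩] .nil .nil) (.node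 7 [⟨133,(Int.negSucc 0),1⟩] .nil .nil))) (.node 34 [⟨37,(Int.negSucc 0),1⟩] (.node 25 [⟨28,(Int.negSucc 0),1⟩] (.node 18 [⟨21,(Int.negSucc 0),1⟩] .nil .nil) (.node 30 [⟨33,(Int.negSucc 0),1⟩] .nil .nil)) (.node 39 [⟨43,(Int.ofNat 1),1⟩] (.node 38 [⟨42,(Int.ofNat 1),1⟩] .nil .nil) (.node 44 [⟨47,(Int.negSucc 0),1⟩] .nil .nil)))) (.node 74 [⟨77,(Int.negSucc 0),1⟩] (.node 60 [⟨63,(Int.negSucc 0),1⟩] (.node 54 [⟨58,(Int.ofNat 1),1⟩] (.node 49 [⟨53,(Int.ofNat 1),1⟩] .nil .nil) (.node 55 [⟨59,(Int.ofNat 1),1⟩] .nil .nil)) (.node 65 [⟨69,(Int.ofNat 1),1⟩] (.node 64 [⟨68,(Int.ofNat 1),1⟩] .nil .nil) (.node 70 [⟨73,(Int.negSucc 0),1⟩] .nil .nil))) (.node 92 [⟨95,(Int.negSucc 0),1⟩] (.node 86 [⟨90,(Int.ofNat 1),1⟩] (.node 79 [⟨82,(Int.negSucc 0),1⟩] .nil .nil) (.node 87 [⟨91,(Int.ofNat 1),1⟩] .nil .nil)) (.node 101 [⟨104,(Int.negSucc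 0),1⟩] (.node 96 [⟨99,(Int.negSucc 0),1⟩] .nil .nil) (.node 107 [⟨110,(Int.negSucc 0),1⟩] .nil .nil))))) (.node 182 [⟨185,(Int.ofNat 1),1⟩] (.node 145 [⟨148,(Int.ofNat 1),1⟩] (.node 125 [⟨131,(Int.negSucc 0),1⟩] (.node 123 [⟨128,(Int.ofNat 1),1⟩] (.node 122 [⟨0,(Int.ofNat 0),1⟩, ⟨1,(Int.ofNat 0),1⟩, ⟨2,(Int.ofNat 0),1⟩, ⟨3,(Int.ofNat 0),1⟩, ⟨4,(Int.ofNat 0),1⟩, ⟨5,(Int.ofNat 1),1⟩, ⟨6,(Int.ofNat 1),1⟩, ⟨7,(Int.ofNat 1),1⟩, ⟨133,(Int.negSucc 0),2⟩] (.node 118 [⟨121,(Int.negSucc 0),1⟩] .nil .nil) .nil) (.node 124 [⟨130,(Int.ofNat 1),1⟩] .nil .nil)) (.node 134 [⟨137,(Int.ofNat 1),1⟩] (.node 127 [⟨132,(Int.negSucc 0),1⟩] .nil .nil) (.node 139 [⟨142,(Int.ofNat 1),1⟩] .nil .nil))) (.node 164 [⟨168,(Int.negSucc 0),1⟩] (.node 156 [⟨159,(Int.ofNat 1),1⟩] (.node 151 [⟨154,(Int.ofNat 1),1⟩] .nil .nil) (.node 160 [⟨163,(Int.ofNat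 1),1⟩] .nil .nil)) (.node 173 [⟨176,(Int.ofNat 1),1⟩] (.node 165 [⟨169,(Int.negSucc 0),1⟩] .nil .nil) (.node 178 [⟨181,(Int.ofNat 1),1⟩] .nil .nil)))) (.node 208 [⟨211,(Int.ofNat 1),1⟩] (.node 196 [⟨200,(Int.negSucc 0),1⟩] (.node 187 [⟨191,(Int.negSucc 0),1⟩] (.node 186 [⟨190,(Int.negSucc 0),1⟩] .nil .nil) (.node 192 [⟨195,(Int.ofNat 1),1⟩] .nil .nil)) (.node 202 [⟨206,(Int.negSucc 0),1⟩] (.node 197 [⟨201,(Int.negSucc 0),1⟩] .nil .nil) (.node 203 [⟨207,(Int.negSucc 0),1⟩] .nil .nil))) (.node 222 [⟨225,(Int.ofNat 1),1⟩] (.node 213 [⟨217,(Int.negSucc 0),1⟩] (.node 212 [⟨216,(Int.negSucc 0),1⟩] .nil .nil) (.node 218 [⟨221,(Int.ofNat 1),1⟩] .nil .nil)) (.node 234 [⟨237,(Int.ofNat 1),1⟩] (.node 227 [⟨230,(Int.ofNat 1),1⟩] .nil .nil) (.node 244 [⟨247,(Int.ofNat 1),1⟩] .nil .nil))))))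
noncomputable def col126 : Tr Cl := (.node 116 [⟨117,(Int.negSucc 0),1⟩] (.node 46 [⟨49,(Int.negSucc 0),1⟩] (.node 11 [⟨12,(Int.negSucc 0),1⟩] (.node 4 [⟨134,(Int.negSucc 1),1⟩] (.node 2 [⟨134,(Int.ofNat 0),1⟩] (.node 1 [⟨134,(Int.ofNat 0),1⟩] (.node 0 [⟨134,(Int.ofNat 0),1⟩] .nil .nil) .nil) (.node 3 [⟨134,(Int.ofNat 1),1⟩] .nil .nil)) (.node 6 [⟨134,(Int.ofNat 0),1⟩] (.node 5 [⟨134,(Int.ofNat 1),1⟩] .nil .nil) (.node 7 [⟨134,(Int.ofNat 0),1⟩] .nil .nil))) (.node 35 [⟨38,(Int.negSucc 0),1⟩] (.node 24 [⟨25,(Int.negSucc 0),1⟩] (.node 17 [⟨18,(Int.negSucc 0),1⟩] .nil .nil) (.node 29 [⟨30,(Int.negSucc 0),1⟩] .nil .nil)) (.node 37 [⟨40,(Int.negSucc 0),1⟩] (.node 36 [⟨39,(Int.negSucc 0),1⟩] .nil .nil) (.node 45 [⟨48,(Int.negSucc 0),1⟩] .nil .nil)))) (.node 77 [⟨78,(Int.negSucc 0),1⟩] (.node 59 [⟨62,(Int.negSucc 0),1⟩]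 (.node 57 [⟨60,(Int.negSucc 0),1⟩] (.node 47 [⟨50,(Int.negSucc 0),1⟩] .nil .nil) (.node 58 [⟨61,(Int.negSucc 0),1⟩] .nil .nil)) (.node 68 [⟨71,(Int.negSucc 0),1⟩] (.node 67 [⟨70,(Int.negSucc 0),1⟩] .nil .nil) (.node 69 [⟨72,(Int.negSucc 0),1⟩] .nil .nil))) (.node 91 [⟨94,(Int.negSucc 0),1⟩] (.node 89 [⟨92,(Int.negSucc 0),1⟩] (.node 82 [⟨83,(Int.negSucc 0),1⟩] .nil .nil) (.node 90 [⟨93,(Int.negSucc 0),1⟩] .nil .nil)) (.node 104 [⟨105,(Int.negSucc 0),1⟩] (.node 99 [⟨100,(Int.negSucc 0),1⟩] .nil .nil) (.node 110 [⟨111,(Int.negSucc 0),1⟩] .nil .nil))))) (.node 183 [⟨186,(Int.ofNat 1),1⟩] (.node 144 [⟨145,(Int.ofNat 1),1⟩] (.node 131 [⟨135,(Int.negSucc 0),1⟩] (.node 120 [⟨124,(Int.ofNat 1),1⟩] (.node 119 [⟨123,(Int.ofNat 1),1⟩] (.node 118 [⟨122,(Int.ofNat 1),1⟩] .nil .nil) .nil) (.node 121 [⟨0,(Int.ofNat 0),1⟩, ⟨1,(Int.ofNat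 0),1⟩, ⟨2,(Int.ofNat 0),1⟩, ⟨3,(Int.ofNat 0),1⟩, ⟨4,(Int.ofNat 1),1⟩, ⟨5,(Int.ofNat 0),1⟩, ⟨6,(Int.ofNat 0),1⟩, ⟨7,(Int.ofNat 0),1⟩, ⟨134,(Int.negSucc 0),2⟩] .nil .nil)) (.node 133 [⟨137,(Int.negSucc 0),1⟩] (.node 132 [⟨136,(Int.negSucc 0),1⟩] .nil .nil) (.node 138 [⟨139,(Int.ofNat 1),1⟩] .nil .nil))) (.node 162 [⟨165,(Int.ofNat 1),1⟩] (.node 155 [⟨156,(Int.ofNat 1),1⟩] (.node 150 [⟨151,(Int.ofNat 1),1⟩] .nil .nil) (.node 161 [⟨164,(Int.ofNat 1),1⟩] .nil .nil)) (.node 172 [⟨173,(Int.ofNat 1),1⟩] (.node 163 [⟨166,(Int.ofNat 1),1⟩] .nil .nil) (.node 177 [⟨178,(Int.ofNat 1),1⟩] .nil .nil)))) (.node 207 [⟨210,(Int.ofNat 1),1⟩] (.node 194 [⟨197,(Int.ofNat 1),1⟩] (.node 185 [⟨188,(Int.ofNat 1),1⟩] (.node 184 [⟨187,(Int.ofNat 1),1⟩] .nil .nil) (.node 193 [⟨196,(Int.ofNat 1),1⟩] .nil .nil)) (.node 205 [⟨208,(Int.ofNat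 1),1⟩] (.node 195 [⟨198,(Int.ofNat 1),1⟩] .nil .nil) (.node 206 [⟨209,(Int.ofNat 1),1⟩] .nil .nil))) (.node 225 [⟨226,(Int.ofNat 1),1⟩] (.node 216 [⟨219,(Int.ofNat 1),1⟩] (.node 215 [⟨218,(Int.ofNat 1),1⟩] .nil .nil) (.node 217 [⟨220,(Int.ofNat 1),1⟩] .nil .nil)) (.node 237 [⟨238,(Int.ofNat 1),1⟩] (.node 230 [⟨231,(Int.ofNat 1),1⟩] .nil .nil) (.node 243 [⟨244,(Int.ofNat 1),1⟩] .nil .nil))))))
noncomputable def col127 : Tr Cl := (.node 115 [⟨117,(Int.negSucc 0),1⟩] (.node 46 [⟨51,(Int.ofNat 1),1⟩] (.node 10 [⟨12,(Int.negSucc 0),1⟩] (.node 4 [⟨135,(Int.negSucc 0),1⟩] (.node 2 [⟨135,(Int.ofNat 0),1⟩] (.node 1 [⟨135,(Int.ofNat 0),1⟩] (.node 0 [⟨135,(Int.ofNat 0),1⟩] .nil .nil) .nil) (.node 3 [⟨135,(Int.ofNat 1),1⟩] .nil .nil)) (.node 6 [⟨135,(Int.ofNat 1),1⟩] (.node 5 [⟨135,(Int.negSucc 0),1⟩] .nil .nil) (.node 7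 [⟨135,(Int.ofNat 0),1⟩] .nil .nil))) (.node 34 [⟨38,(Int.negSucc 0),1⟩] (.node 24 [⟨26,(Int.ofNat 1),1⟩] (.node 17 [⟨19,(Int.ofNat 1),1⟩] .nil .nil) (.node 29 [⟨31,(Int.ofNat 1),1⟩] .nil .nil)) (.node 37 [⟨42,(Int.ofNat 1),1⟩] (.node 36 [⟨41,(Int.ofNat 1),1⟩] .nil .nil) (.node 44 [⟨48,(Int.negSucc 0),1⟩] .nil .nil)))) (.node 76 [⟨78,(Int.negSucc 0),1⟩] (.node 59 [⟨63,(Int.ofNat 1),1⟩] (.node 55 [⟨60,(Int.negSucc 0),1⟩] (.node 47 [⟨52,(Int.ofNat 1),1⟩] .nil .nil) (.node 56 [⟨61,(Int.negSucc 0),1⟩] .nil .nil)) (.node 66 [⟨71,(Int.negSucc 0),1⟩] (.node 65 [⟨70,(Int.negSucc 0),1⟩] .nil .nil) (.node 69 [⟨73,(Int.ofNat 1),1⟩] .nil .nil))) (.node 91 [⟨95,(Int.ofNat 1),1⟩] (.node 87 [⟨92,(Int.negSucc 0),1⟩] (.node 81 [⟨83,(Int.negSucc 0),1⟩] .nil .nil) (.node 88 [⟨93,(Int.negSucc 0),1⟩] .nil .nil)) (.node 103 [⟨105,(Int.negSucc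 0),1⟩] (.node 98 [⟨100,(Int.negSucc 0),1⟩] .nil .nil) (.node 109 [⟨111,(Int.negSucc 0),1⟩] .nil .nil))))) (.node 182 [⟨186,(Int.negSucc 0),1⟩] (.node 144 [⟨146,(Int.ofNat 1),1⟩] (.node 124 [⟨134,(Int.negSucc 0),1⟩] (.node 120 [⟨0,(Int.ofNat 0),1⟩, ⟨1,(Int.ofNat 0),1⟩, ⟨2,(Int.ofNat 0),1⟩, ⟨3,(Int.ofNat 0),1⟩, ⟨4,(Int.ofNat 1),1⟩, ⟨5,(Int.ofNat 1),1⟩, ⟨6,(Int.ofNat 0),1⟩, ⟨7,(Int.ofNat 0),1⟩, ⟨135,(Int.negSucc 0),2⟩] (.node 119 [⟨126,(Int.ofNat 1),1⟩] (.node 118 [⟨125,(Int.ofNat 1),1⟩] .nil .nil) .nil) (.node 121 [⟨131,(Int.ofNat 1),1⟩] .nil .nil)) (.node 130 [⟨137,(Int.negSucc 0),1⟩] (.node 129 [⟨136,(Int.negSucc 0),1⟩] .nil .nil) (.node 138 [⟨140,(Int.ofNat 1),1⟩] .nil .nil))) (.node 162 [⟨167,(Int.ofNat 1),1⟩] (.node 155 [⟨157,(Int.ofNat 1),1⟩] (.node 150 [⟨152,(Int.ofNat 1),1⟩] .nil .nil) (.node 160 [⟨164,(Int.negSucc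 0),1⟩] .nil .nil)) (.node 172 [⟨174,(Int.ofNat 1),1⟩] (.node 163 [⟨168,(Int.ofNat 1),1⟩] .nil .nil) (.node 177 [⟨179,(Int.ofNat 1),1⟩] .nil .nil)))) (.node 207 [⟨211,(Int.ofNat 1),1⟩] (.node 194 [⟨199,(Int.ofNat 1),1⟩] (.node 185 [⟨190,(Int.ofNat 1),1⟩] (.node 184 [⟨189,(Int.ofNat 1),1⟩] .nil .nil) (.node 192 [⟨196,(Int.negSucc 0),1⟩] .nil .nil)) (.node 203 [⟨208,(Int.negSucc 0),1⟩] (.node 195 [⟨200,(Int.ofNat 1),1⟩] .nil .nil) (.node 204 [⟨209,(Int.negSucc 0),1⟩] .nil .nil))) (.node 224 [⟨226,(Int.negSucc 0),1⟩] (.node 214 [⟨219,(Int.negSucc 0),1⟩] (.node 213 [⟨218,(Int.negSucc 0),1⟩] .nil .nil) (.node 217 [⟨221,(Int.ofNat 1),1⟩] .nil .nil)) (.node 236 [⟨238,(Int.negSucc 0),1⟩] (.node 229 [⟨231,(Int.negSucc 0),1⟩] .nil .nil) (.node 243 [⟨245,(Int.ofNat 1),1⟩] .nil .nil))))))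
noncomputable def col128 : Tr Cl := (.node 114 [⟨117,(Int.negSucc 0),1⟩] (.node 45 [⟨51,(Int.ofNat 1),1⟩] (.node 9 [⟨12,(Int.negSucc 0),1⟩] (.node 4 [⟨136,(Int.negSucc 0),1⟩] (.node 2 [⟨136,(Int.ofNat 0),1⟩] (.node 1 [⟨136,(Int.ofNat 0),1⟩] (.node 0 [⟨136,(Int.ofNat 0),1⟩] .nil .nil) .nil) (.node 3 [⟨136,(Int.ofNat 1),1⟩] .nil .nil)) (.node 6 [⟨136,(Int.negSucc 0),1⟩] (.node 5 [⟨136,(Int.ofNat 0),1⟩] .nil .nil) (.node 7 [⟨136,(Int.ofNat 1),1⟩] .nil .nil))) (.node 34 [⟨39,(Int.ofNat 1),1⟩] (.node 24 [⟨27,(Int.negSucc 0),1⟩] (.node 17 [⟨20,(Int.negSucc 0),1⟩] .nil .nil) (.node 29 [⟨32,(Int.negSucc 0),1⟩] .nil .nil)) (.node 37 [⟨43,(Int.negSucc 0),1⟩] (.node 35 [⟨41,(Int.ofNat 1),1⟩] .nil .nil) (.node 44 [⟨49,(Int.ofNat 1),1⟩] .nil .nil)))) (.node 75 [⟨78,(Int.negSucc 0),1⟩] (.node 58 [⟨63,(Int.ofNat 1),1⟩] (.node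 54 [⟨60,(Int.negSucc 0),1⟩] (.node 47 [⟨53,(Int.negSucc 0),1⟩] .nil .nil) (.node 56 [⟨62,(Int.ofNat 1),1⟩] .nil .nil)) (.node 66 [⟨72,(Int.ofNat 1),1⟩] (.node 64 [⟨70,(Int.negSucc 0),1⟩] .nil .nil) (.node 68 [⟨73,(Int.ofNat 1),1⟩] .nil .nil))) (.node 90 [⟨95,(Int.ofNat 1),1⟩] (.node 86 [⟨92,(Int.negSucc 0),1⟩] (.node 80 [⟨83,(Int.negSucc 0),1⟩] .nil .nil) (.node 88 [⟨94,(Int.ofNat 1),1⟩] .nil .nil)) (.node 102 [⟨105,(Int.negSucc 0),1⟩] (.node 97 [⟨100,(Int.negSucc 0),1⟩] .nil .nil) (.node 108 [⟨111,(Int.negSucc 0),1⟩] .nil .nil))))) (.node 182 [⟨187,(Int.negSucc 0),1⟩] (.node 144 [⟨147,(Int.ofNat 1),1⟩] (.node 123 [⟨134,(Int.negSucc 0),1⟩] (.node 120 [⟨129,(Int.ofNat 1),1⟩] (.node 119 [⟨0,(Int.ofNat 0),1⟩, ⟨1,(Int.ofNat 0),1⟩, ⟨2,(Int.ofNat 0),1⟩, ⟨3,(Int.ofNat 0),1⟩, ⟨4,(Int.ofNat 1),1⟩, ⟨5,(Int.ofNat 1),1⟩,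 ⟨6,(Int.ofNat 1),1⟩, ⟨7,(Int.ofNat 0),1⟩, ⟨136,(Int.negSucc 0),2⟩] (.node 118 [⟨127,(Int.ofNat 1),1⟩] .nil .nil) .nil) (.node 121 [⟨132,(Int.ofNat 1),1⟩] .nil .nil)) (.node 128 [⟨137,(Int.negSucc 0),1⟩] (.node 126 [⟨135,(Int.negSucc 0),1⟩] .nil .nil) (.node 138 [⟨141,(Int.ofNat 1),1⟩] .nil .nil))) (.node 161 [⟨167,(Int.negSucc 0),1⟩] (.node 155 [⟨158,(Int.ofNat 1),1⟩] (.node 150 [⟨153,(Int.ofNat 1),1⟩] .nil .nil) (.node 160 [⟨165,(Int.negSucc 0),1⟩] .nil .nil)) (.node 172 [⟨175,(Int.ofNat 1),1⟩] (.node 163 [⟨169,(Int.ofNat 1),1⟩] .nil .nil) (.node 177 [⟨180,(Int.ofNat 1),1⟩] .nil .nil)))) (.node 206 [⟨211,(Int.negSucc 0),1⟩] (.node 193 [⟨199,(Int.negSucc 0),1⟩] (.node 185 [⟨191,(Int.ofNat 1),1⟩] (.node 183 [⟨189,(Int.negSucc 0),1⟩] .nil .nil) (.node 192 [⟨197,(Int.negSucc 0),1⟩] .nil .nil)) (.node 202 [⟨208,(Int.ofNat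 1),1⟩] (.node 195 [⟨201,(Int.ofNat 1),1⟩] .nil .nil) (.node 204 [⟨210,(Int.negSucc 0),1⟩] .nil .nil))) (.node 223 [⟨226,(Int.ofNat 1),1⟩] (.node 214 [⟨220,(Int.negSucc 0),1⟩] (.node 212 [⟨218,(Int.ofNat 1),1⟩] .nil .nil) (.node 216 [⟨221,(Int.negSucc 0),1⟩] .nil .nil)) (.node 235 [⟨238,(Int.ofNat 1),1⟩] (.node 228 [⟨231,(Int.ofNat 1),1⟩] .nil .nil) (.node 243 [⟨246,(Int.ofNat 1),1⟩] .nil .nil))))))
noncomputable def col129 : Tr Cl := (.node 113 [⟨117,(Int.negSucc 0),1⟩] (.node 45 [⟨52,(Int.negSucc 0),1⟩] (.node 8 [⟨12,(Int.negSucc 0),1⟩] (.node 4 [⟨137,(Int.negSucc 0),1⟩] (.node 2 [⟨137,(Int.ofNat 0),1⟩] (.node 1 [⟨137,(Int.ofNat 0),1⟩] (.node 0 [⟨137,(Int.ofNat 0),1⟩] .nil .nil) .nil) (.node 3 [⟨137,(Int.ofNat 1),1⟩] .nil .nil)) (.node 6 [⟨137,(Int.ofNat 0),1⟩] (.node 5 [⟨137,(Int.ofNat 0),1⟩] .nil .nil) (.node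 7 [⟨137,(Int.negSucc 0),1⟩] .nil .nil))) (.node 34 [⟨40,(Int.negSucc 0),1⟩] (.node 24 [⟨28,(Int.ofNat 1),1⟩] (.node 17 [⟨21,(Int.ofNat 1),1⟩] .nil .nil) (.node 29 [⟨33,(Int.ofNat 1),1⟩] .nil .nil)) (.node 36 [⟨43,(Int.negSucc 0),1⟩] (.node 35 [⟨42,(Int.negSucc 0),1⟩] .nil .nil) (.node 44 [⟨50,(Int.negSucc 0),1⟩] .nil .nil)))) (.node 74 [⟨78,(Int.negSucc 0),1⟩] (.node 57 [⟨63,(Int.ofNat 1),1⟩] (.node 54 [⟨61,(Int.ofNat 1),1⟩] (.node 46 [⟨53,(Int.negSucc 0),1⟩] .nil .nil) (.node 55 [⟨62,(Int.ofNat 1),1⟩] .nil .nil)) (.node 65 [⟨72,(Int.ofNat 1),1⟩] (.node 64 [⟨71,(Int.ofNat 1),1⟩] .nil .nil) (.node 67 [⟨73,(Int.ofNat 1),1⟩] .nil .nil))) (.node 89 [⟨95,(Int.ofNat 1),1⟩] (.node 86 [⟨93,(Int.ofNat 1),1⟩] (.node 79 [⟨83,(Int.negSucc 0),1⟩] .nil .nil) (.node 87 [⟨94,(Int.ofNat 1),1⟩] .nil .nil)) (.node 101 [⟨105,(Int.negSucc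 0),1⟩] (.node 96 [⟨100,(Int.negSucc 0),1⟩] .nil .nil) (.node 107 [⟨111,(Int.negSucc 0),1⟩] .nil .nil))))) (.node 182 [⟨188,(Int.negSucc 0),1⟩] (.node 144 [⟨148,(Int.ofNat 1),1⟩] (.node 122 [⟨134,(Int.negSucc 0),1⟩] (.node 120 [⟨130,(Int.ofNat 1),1⟩] (.node 119 [⟨128,(Int.ofNat 1),1⟩] (.node 118 [⟨0,(Int.ofNat 0),1⟩, ⟨1,(Int.ofNat 0),1⟩, ⟨2,(Int.ofNat 0),1⟩, ⟨3,(Int.ofNat 0),1⟩, ⟨4,(Int.ofNat 1),1⟩, ⟨5,(Int.ofNat 1),1⟩, ⟨6,(Int.ofNat 1),1⟩, ⟨7,(Int.ofNat 1),1⟩, ⟨137,(Int.negSucc 0),2⟩] .nil .nil) .nil) (.node 121 [⟨133,(Int.ofNat 1),1⟩] .nil .nil)) (.node 127 [⟨136,(Int.negSucc 0),1⟩] (.node 125 [⟨135,(Int.negSucc 0),1⟩] .nil .nil) (.node 138 [⟨142,(Int.ofNat 1),1⟩] .nil .nil))) (.node 161 [⟨168,(Int.negSucc 0),1⟩] (.node 155 [⟨159,(Int.ofNat 1),1⟩] (.node 150 [⟨154,(Int.ofNat 1),1⟩] .nil .nil) (.node 160 [⟨166,(Int.negSucc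 0),1⟩] .nil .nil)) (.node 172 [⟨176,(Int.ofNat 1),1⟩] (.node 162 [⟨169,(Int.negSucc 0),1⟩] .nil .nil) (.node 177 [⟨181,(Int.ofNat 1),1⟩] .nil .nil)))) (.node 205 [⟨211,(Int.ofNat 1),1⟩] (.node 193 [⟨200,(Int.negSucc 0),1⟩] (.node 184 [⟨191,(Int.negSucc 0),1⟩] (.node 183 [⟨190,(Int.negSucc 0),1⟩] .nil .nil) (.node 192 [⟨198,(Int.negSucc 0),1⟩] .nil .nil)) (.node 202 [⟨209,(Int.ofNat 1),1⟩] (.node 194 [⟨201,(Int.negSucc 0),1⟩] .nil .nil) (.node 203 [⟨210,(Int.ofNat 1),1⟩] .nil .nil))) (.node 222 [⟨226,(Int.negSucc 0),1⟩] (.node 213 [⟨220,(Int.ofNat 1),1⟩] (.node 212 [⟨219,(Int.ofNat 1),1⟩] .nil .nil) (.node 215 [⟨221,(Int.ofNat 1),1⟩] .nil .nil)) (.node 234 [⟨238,(Int.negSucc 0),1⟩] (.node 227 [⟨231,(Int.negSucc 0),1⟩] .nil .nil) (.node 243 [⟨247,(Int.ofNat 1),1⟩] .nil .nil))))))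
noncomputable def col130 : Tr Cl := (.node 113 [⟨118,(Int.ofNat 1),1⟩] (.node 49 [⟨55,(Int.negSucc 0),1⟩] (.node 12 [⟨13,(Int.negSucc 0),1⟩] (.node 4 [⟨138,(Int.ofNat 1),1⟩] (.node 2 [⟨138,(Int.ofNat 1),1⟩] (.node 1 [⟨138,(Int.ofNat 1),1⟩] (.node 0 [⟨138,(Int.ofNat 0),1⟩] .nil .nil) .nil) (.node 3 [⟨138,(Int.negSucc 1),1⟩] .nil .nil)) (.node 6 [⟨138,(Int.ofNat 0),1⟩] (.node 5 [⟨138,(Int.ofNat 0),1⟩] .nil .nil) (.node 7 [⟨138,(Int.ofNat 0),1⟩] .nil .nil))) (.node 31 [⟨35,(Int.negSucc 0),1⟩] (.node 23 [⟨24,(Int.negSucc 0),1⟩] (.node 16 [⟨17,(Int.negSucc 0),1⟩] .nil .nil) (.node 30 [⟨34,(Int.negSucc 0),1⟩] .nil .nil)) (.node 33 [⟨37,(Int.negSucc 0),1⟩] (.node 32 [⟨36,(Int.negSucc 0),1⟩] .nil .nil) (.node 48 [⟨54,(Int.negSucc 0),1⟩] .nil .nil)))) (.node 73 [⟨77,(Int.negSucc 0),1⟩] (.node 53 [⟨59,(Int.negSucc 0),1⟩]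 (.node 51 [⟨57,(Int.negSucc 0),1⟩] (.node 50 [⟨56,(Int.negSucc 0),1⟩] .nil .nil) (.node 52 [⟨58,(Int.negSucc 0),1⟩] .nil .nil)) (.node 71 [⟨75,(Int.negSucc 0),1⟩] (.node 70 [⟨74,(Int.negSucc 0),1⟩] .nil .nil) (.node 72 [⟨76,(Int.negSucc 0),1⟩] .nil .nil))) (.node 94 [⟨98,(Int.negSucc 0),1⟩] (.node 92 [⟨96,(Int.negSucc 0),1⟩] (.node 83 [⟨84,(Int.negSucc 0),1⟩] .nil .nil) (.node 93 [⟨97,(Int.negSucc 0),1⟩] .nil .nil)) (.node 105 [⟨106,(Int.negSucc 0),1⟩] (.node 95 [⟨99,(Int.negSucc 0),1⟩] .nil .nil) (.node 111 [⟨112,(Int.negSucc 0),1⟩] .nil .nil))))) (.node 179 [⟨183,(Int.ofNat 1),1⟩] (.node 143 [⟨144,(Int.ofNat 1),1⟩] (.node 134 [⟨139,(Int.negSucc 0),1⟩] (.node 116 [⟨121,(Int.ofNat 1),1⟩] (.node 115 [⟨120,(Int.ofNat 1),1⟩] (.node 114 [⟨119,(Int.ofNat 1),1⟩] .nil .nil) .nil) (.node 117 [⟨0,(Int.ofNat 0),1⟩, ⟨1,(Int.ofNat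 0),1⟩, ⟨2,(Int.ofNat 0),1⟩, ⟨3,(Int.ofNat 1),1⟩, ⟨4,(Int.ofNat 0),1⟩, ⟨5,(Int.ofNat 0),1⟩, ⟨6,(Int.ofNat 0),1⟩, ⟨7,(Int.ofNat 0),1⟩, ⟨138,(Int.negSucc 0),2⟩] .nil .nil)) (.node 136 [⟨141,(Int.negSucc 0),1⟩] (.node 135 [⟨140,(Int.negSucc 0),1⟩] .nil .nil) (.node 137 [⟨142,(Int.negSucc 0),1⟩] .nil .nil))) (.node 158 [⟨162,(Int.ofNat 1),1⟩] (.node 156 [⟨160,(Int.ofNat 1),1⟩] (.node 149 [⟨150,(Int.ofNat 1),1⟩] .nil .nil) (.node 157 [⟨161,(Int.ofNat 1),1⟩] .nil .nil)) (.node 171 [⟨172,(Int.ofNat 1),1⟩] (.node 159 [⟨163,(Int.ofNat 1),1⟩] .nil .nil) (.node 178 [⟨182,(Int.ofNat 1),1⟩] .nil .nil)))) (.node 201 [⟨207,(Int.ofNat 1),1⟩] (.node 197 [⟨203,(Int.ofNat 1),1⟩] (.node 181 [⟨185,(Int.ofNat 1),1⟩] (.node 180 [⟨184,(Int.ofNat 1),1⟩] .nil .nil) (.node 196 [⟨202,(Int.ofNat 1),1⟩] .nil .nil)) (.node 199 [⟨205,(Int.ofNat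 1),1⟩] (.node 198 [⟨204,(Int.ofNat 1),1⟩] .nil .nil) (.node 200 [⟨206,(Int.ofNat 1),1⟩] .nil .nil))) (.node 221 [⟨225,(Int.ofNat 1),1⟩] (.node 219 [⟨223,(Int.ofNat 1),1⟩] (.node 218 [⟨222,(Int.ofNat 1),1⟩] .nil .nil) (.node 220 [⟨224,(Int.ofNat 1),1⟩] .nil .nil)) (.node 238 [⟨239,(Int.ofNat 1),1⟩] (.node 231 [⟨232,(Int.ofNat 1),1⟩] .nil .nil) (.node 242 [⟨243,(Int.ofNat 1),1⟩] .nil .nil))))))
noncomputable def col131 : Tr Cl := (.node 113 [⟨122,(Int.ofNat 1),1⟩] (.node 46 [⟨55,(Int.negSucc 0),1⟩] (.node 11 [⟨13,(Int.negSucc 0),1⟩] (.node 4 [⟨139,(Int.negSucc 0),1⟩] (.node 2 [⟨139,(Int.ofNat 1),1⟩] (.node 1 [⟨139,(Int.ofNat 1),1⟩] (.node 0 [⟨139,(Int.ofNat 0),1⟩] .nil .nil) .nil) (.node 3 [⟨139,(Int.negSucc 0),1⟩] .nil .nil)) (.node 6 [⟨139,(Int.ofNat 0),1⟩] (.node 5 [⟨139,(Int.ofNat 1),1⟩] .nil .nil) (.node 7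 [⟨139,(Int.ofNat 0),1⟩] .nil .nil))) (.node 31 [⟨38,(Int.ofNat 1),1⟩] (.node 23 [⟨25,(Int.ofNat 1),1⟩] (.node 16 [⟨18,(Int.ofNat 1),1⟩] .nil .nil) (.node 29 [⟨34,(Int.negSucc 0),1⟩] .nil .nil)) (.node 33 [⟨40,(Int.ofNat 1),1⟩] (.node 32 [⟨39,(Int.ofNat 1),1⟩] .nil .nil) (.node 45 [⟨54,(Int.negSucc 0),1⟩] .nil .nil)))) (.node 73 [⟨78,(Int.ofNat 1),1⟩] (.node 53 [⟨62,(Int.ofNat 1),1⟩] (.node 51 [⟨60,(Int.ofNat 1),1⟩] (.node 47 [⟨56,(Int.negSucc 0),1⟩] .nil .nil) (.node 52 [⟨61,(Int.ofNat 1),1⟩] .nil .nil)) (.node 68 [⟨75,(Int.negSucc 0),1⟩] (.node 67 [⟨74,(Int.negSucc 0),1⟩] .nil .nil) (.node 69 [⟨76,(Int.negSucc 0),1⟩] .nil .nil))) (.node 91 [⟨98,(Int.negSucc 0),1⟩] (.node 89 [⟨96,(Int.negSucc 0),1⟩] (.node 82 [⟨84,(Int.negSucc 0),1⟩] .nil .nil) (.node 90 [⟨97,(Int.negSucc 0),1⟩] .nil .nil)) (.node 104 [⟨106,(Int.negSucc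 0),1⟩] (.node 95 [⟨100,(Int.ofNat 1),1⟩] .nil .nil) (.node 110 [⟨112,(Int.negSucc 0),1⟩] .nil .nil))))) (.node 179 [⟨186,(Int.ofNat 1),1⟩] (.node 143 [⟨145,(Int.ofNat 1),1⟩] (.node 121 [⟨138,(Int.negSucc 0),1⟩] (.node 116 [⟨0,(Int.ofNat 0),1⟩, ⟨1,(Int.ofNat 0),1⟩, ⟨2,(Int.ofNat 0),1⟩, ⟨3,(Int.ofNat 1),1⟩, ⟨4,(Int.ofNat 1),1⟩, ⟨5,(Int.ofNat 0),1⟩, ⟨6,(Int.ofNat 0),1⟩, ⟨7,(Int.ofNat 0),1⟩, ⟨139,(Int.negSucc 0),2⟩] (.node 115 [⟨124,(Int.ofNat 1),1⟩] (.node 114 [⟨123,(Int.ofNat 1),1⟩] .nil .nil) .nil) (.node 117 [⟨134,(Int.ofNat 1),1⟩] .nil .nil)) (.node 132 [⟨141,(Int.negSucc 0),1⟩] (.node 131 [⟨140,(Int.negSucc 0),1⟩] .nil .nil) (.node 133 [⟨142,(Int.negSucc 0),1⟩] .nil .nil))) (.node 158 [⟨165,(Int.ofNat 1),1⟩] (.node 155 [⟨160,(Int.negSucc 0),1⟩] (.node 149 [⟨151,(Int.ofNat 1),1⟩] .nil .nil) (.node 157 [⟨164,(Int.ofNat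 1),1⟩] .nil .nil)) (.node 171 [⟨173,(Int.ofNat 1),1⟩] (.node 159 [⟨166,(Int.ofNat 1),1⟩] .nil .nil) (.node 177 [⟨182,(Int.negSucc 0),1⟩] .nil .nil)))) (.node 201 [⟨210,(Int.ofNat 1),1⟩] (.node 194 [⟨203,(Int.negSucc 0),1⟩] (.node 181 [⟨188,(Int.ofNat 1),1⟩] (.node 180 [⟨187,(Int.ofNat 1),1⟩] .nil .nil) (.node 193 [⟨202,(Int.negSucc 0),1⟩] .nil .nil)) (.node 199 [⟨208,(Int.ofNat 1),1⟩] (.node 195 [⟨204,(Int.negSucc 0),1⟩] .nil .nil) (.node 200 [⟨209,(Int.ofNat 1),1⟩] .nil .nil))) (.node 221 [⟨226,(Int.ofNat 1),1⟩] (.node 216 [⟨223,(Int.negSucc 0),1⟩] (.node 215 [⟨222,(Int.negSucc 0),1⟩] .nil .nil) (.node 217 [⟨224,(Int.negSucc 0),1⟩] .nil .nil)) (.node 237 [⟨239,(Int.negSucc 0),1⟩] (.node 230 [⟨232,(Int.negSucc 0),1⟩] .nil .nil) (.node 242 [⟨244,(Int.ofNat 1),1⟩] .nil .nil))))))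
noncomputable def col132 : Tr Cl := (.node 113 [⟨125,(Int.ofNat 1),1⟩] (.node 46 [⟨57,(Int.ofNat 1),1⟩] (.node 10 [⟨13,(Int.negSucc 0),1⟩] (.node 4 [⟨140,(Int.ofNat 0),1⟩] (.node 2 [⟨140,(Int.ofNat 1),1⟩] (.node 1 [⟨140,(Int.ofNat 1),1⟩] (.node 0 [⟨140,(Int.ofNat 0),1⟩] .nil .nil) .nil) (.node 3 [⟨140,(Int.negSucc 0),1⟩] .nil .nil)) (.node 6 [⟨140,(Int.ofNat 1),1⟩] (.node 5 [⟨140,(Int.negSucc 0),1⟩] .nil .nil) (.node 7 [⟨140,(Int.ofNat 0),1⟩] .nil .nil))) (.node 30 [⟨38,(Int.ofNat 1),1⟩] (.node 23 [⟨26,(Int.negSucc 0),1⟩] (.node 16 [⟨19,(Int.negSucc 0),1⟩] .nil .nil) (.node 29 [⟨35,(Int.ofNat 1),1⟩] .nil .nil)) (.node 33 [⟨42,(Int.negSucc 0),1⟩] (.node 32 [⟨41,(Int.negSucc 0),1⟩] .nil .nil) (.node 44 [⟨54,(Int.negSucc 0),1⟩] .nil .nil)))) (.node 72 [⟨78,(Int.ofNat 1),1⟩] (.node 53 [⟨63,(Int.negSucc 0),1⟩] (.node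 49 [⟨60,(Int.ofNat 1),1⟩] (.node 47 [⟨58,(Int.ofNat 1),1⟩] .nil .nil) (.node 50 [⟨61,(Int.ofNat 1),1⟩] .nil .nil)) (.node 66 [⟨75,(Int.negSucc 0),1⟩] (.node 65 [⟨74,(Int.negSucc 0),1⟩] .nil .nil) (.node 69 [⟨77,(Int.ofNat 1),1⟩] .nil .nil))) (.node 91 [⟨99,(Int.ofNat 1),1⟩] (.node 87 [⟨96,(Int.negSucc 0),1⟩] (.node 81 [⟨84,(Int.negSucc 0),1⟩] .nil .nil) (.node 88 [⟨97,(Int.negSucc 0),1⟩] .nil .nil)) (.node 103 [⟨106,(Int.negSucc 0),1⟩] (.node 94 [⟨100,(Int.ofNat 1),1⟩] .nil .nil) (.node 109 [⟨112,(Int.negSucc 0),1⟩] .nil .nil))))) (.node 178 [⟨186,(Int.negSucc 0),1⟩] (.node 143 [⟨146,(Int.ofNat 1),1⟩] (.node 120 [⟨138,(Int.negSucc 0),1⟩] (.node 116 [⟨131,(Int.ofNat 1),1⟩] (.node 115 [⟨0,(Int.ofNat 0),1⟩, ⟨1,(Int.ofNat 0),1⟩, ⟨2,(Int.ofNat 0),1⟩, ⟨3,(Int.ofNat 1),1⟩, ⟨4,(Int.ofNat 1),1⟩, ⟨5,(Int.ofNat 1),1⟩, ⟨6,(Int.ofNat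 0),1⟩, ⟨7,(Int.ofNat 0),1⟩, ⟨140,(Int.negSucc 0),2⟩] (.node 114 [⟨126,(Int.ofNat 1),1⟩] .nil .nil) .nil) (.node 117 [⟨135,(Int.ofNat 1),1⟩] .nil .nil)) (.node 129 [⟨141,(Int.negSucc 0),1⟩] (.node 124 [⟨139,(Int.negSucc 0),1⟩] .nil .nil) (.node 130 [⟨142,(Int.negSucc 0),1⟩] .nil .nil))) (.node 158 [⟨167,(Int.ofNat 1),1⟩] (.node 155 [⟨161,(Int.negSucc 0),1⟩] (.node 149 [⟨152,(Int.ofNat 1),1⟩] .nil .nil) (.node 156 [⟨164,(Int.negSucc 0),1⟩] .nil .nil)) (.node 171 [⟨174,(Int.ofNat 1),1⟩] (.node 159 [⟨168,(Int.ofNat 1),1⟩] .nil .nil) (.node 177 [⟨183,(Int.negSucc 0),1⟩] .nil .nil)))) (.node 201 [⟨211,(Int.ofNat 1),1⟩] (.node 194 [⟨205,(Int.negSucc 0),1⟩] (.node 181 [⟨190,(Int.ofNat 1),1⟩] (.node 180 [⟨189,(Int.ofNat 1),1⟩] .nil .nil) (.node 192 [⟨202,(Int.ofNat 1),1⟩] .nil .nil)) (.node 197 [⟨208,(Int.negSucc 0),1⟩]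 (.node 195 [⟨206,(Int.negSucc 0),1⟩] .nil .nil) (.node 198 [⟨209,(Int.negSucc 0),1⟩] .nil .nil))) (.node 220 [⟨226,(Int.negSucc 0),1⟩] (.node 214 [⟨223,(Int.ofNat 1),1⟩] (.node 213 [⟨222,(Int.ofNat 1),1⟩] .nil .nil) (.node 217 [⟨225,(Int.negSucc 0),1⟩] .nil .nil)) (.node 236 [⟨239,(Int.ofNat 1),1⟩] (.node 229 [⟨232,(Int.ofNat 1),1⟩] .nil .nil) (.node 242 [⟨245,(Int.ofNat 1),1⟩] .nil .nil))))))
noncomputable def col133 : Tr Cl := (.node 113 [⟨127,(Int.ofNat 1),1⟩] (.node 45 [⟨57,(Int.ofNat 1),1⟩] (.node 9 [⟨13,(Int.negSucc 0),1⟩] (.node 4 [⟨141,(Int.ofNat 0),1⟩] (.node 2 [⟨141,(Int.ofNat 1),1⟩] (.node 1 [⟨141,(Int.ofNat 1),1⟩] (.node 0 [⟨141,(Int.ofNat 0),1⟩] .nil .nil) .nil) (.node 3 [⟨141,(Int.negSucc 0),1⟩] .nil .nil)) (.node 6 [⟨141,(Int.negSucc 0),1⟩] (.node 5 [⟨141,(Int.ofNat 0),1⟩] .nil .nil) (.node 7 [⟨141,(Int.ofNat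 1),1⟩] .nil .nil))) (.node 30 [⟨39,(Int.negSucc 0),1⟩] (.node 23 [⟨27,(Int.ofNat 1),1⟩] (.node 16 [⟨20,(Int.ofNat 1),1⟩] .nil .nil) (.node 29 [⟨36,(Int.negSucc 0),1⟩] .nil .nil)) (.node 33 [⟨43,(Int.ofNat 1),1⟩] (.node 31 [⟨41,(Int.negSucc 0),1⟩] .nil .nil) (.node 44 [⟨55,(Int.ofNat 1),1⟩] .nil .nil)))) (.node 71 [⟨78,(Int.ofNat 1),1⟩] (.node 52 [⟨63,(Int.negSucc 0),1⟩] (.node 48 [⟨60,(Int.ofNat 1),1⟩] (.node 47 [⟨59,(Int.negSucc 0),1⟩] .nil .nil) (.node 50 [⟨62,(Int.negSucc 0),1⟩] .nil .nil)) (.node 66 [⟨76,(Int.ofNat 1),1⟩] (.node 64 [⟨74,(Int.negSucc 0),1⟩] .nil .nil) (.node 68 [⟨77,(Int.ofNat 1),1⟩] .nil .nil))) (.node 90 [⟨99,(Int.ofNat 1),1⟩] (.node 86 [⟨96,(Int.negSucc 0),1⟩] (.node 80 [⟨84,(Int.negSucc 0),1⟩] .nil .nil) (.node 88 [⟨98,(Int.ofNat 1),1⟩] .nil .nil)) (.node 102 [⟨106,(Int.negSucc 0),1⟩] (.node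 93 [⟨100,(Int.ofNat 1),1⟩] .nil .nil) (.node 108 [⟨112,(Int.negSucc 0),1⟩] .nil .nil))))) (.node 178 [⟨187,(Int.negSucc 0),1⟩] (.node 143 [⟨147,(Int.ofNat 1),1⟩] (.node 119 [⟨138,(Int.negSucc 0),1⟩] (.node 116 [⟨132,(Int.ofNat 1),1⟩] (.node 115 [⟨129,(Int.ofNat 1),1⟩] (.node 114 [⟨0,(Int.ofNat 0),1⟩, ⟨1,(Int.ofNat 0),1⟩, ⟨2,(Int.ofNat 0),1⟩, ⟨3,(Int.ofNat 1),1⟩, ⟨4,(Int.ofNat 1),1⟩, ⟨5,(Int.ofNat 1),1⟩, ⟨6,(Int.ofNat 1),1⟩, ⟨7,(Int.ofNat 0),1⟩, ⟨141,(Int.negSucc 0),2⟩] .nil .nil) .nil) (.node 117 [⟨136,(Int.ofNat 1),1⟩] .nil .nil)) (.node 126 [⟨140,(Int.negSucc 0),1⟩] (.node 123 [⟨139,(Int.negSucc 0),1⟩] .nil .nil) (.node 128 [⟨142,(Int.negSucc 0),1⟩] .nil .nil))) (.node 157 [⟨167,(Int.negSucc 0),1⟩] (.node 155 [⟨162,(Int.negSucc 0),1⟩] (.node 149 [⟨153,(Int.ofNat 1),1⟩] .nil .nil) (.node 156 [⟨165,(Int.negSucc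 0),1⟩] .nil .nil)) (.node 171 [⟨175,(Int.ofNat 1),1⟩] (.node 159 [⟨169,(Int.ofNat 1),1⟩] .nil .nil) (.node 177 [⟨184,(Int.negSucc 0),1⟩] .nil .nil)))) (.node 200 [⟨211,(Int.negSucc 0),1⟩] (.node 193 [⟨205,(Int.ofNat 1),1⟩] (.node 181 [⟨191,(Int.ofNat 1),1⟩] (.node 179 [⟨189,(Int.negSucc 0),1⟩] .nil .nil) (.node 192 [⟨203,(Int.ofNat 1),1⟩] .nil .nil)) (.node 196 [⟨208,(Int.ofNat 1),1⟩] (.node 195 [⟨207,(Int.negSucc 0),1⟩] .nil .nil) (.node 198 [⟨210,(Int.negSucc 0),1⟩] .nil .nil))) (.node 219 [⟨226,(Int.ofNat 1),1⟩] (.node 214 [⟨224,(Int.ofNat 1),1⟩] (.node 212 [⟨222,(Int.negSucc 0),1⟩] .nil .nil) (.node 216 [⟨225,(Int.ofNat 1),1⟩] .nil .nil)) (.node 235 [⟨239,(Int.negSucc 0),1⟩] (.node 228 [⟨232,(Int.negSucc 0),1⟩] .nil .nil) (.node 242 [⟨246,(Int.ofNat 1),1⟩] .nil .nil))))))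
noncomputable def col134 : Tr Cl := (.node 113 [⟨0,(Int.ofNat 0),1⟩, ⟨1,(Int.ofNat 0),1⟩, ⟨2,(Int.ofNat 0),1⟩, ⟨3,(Int.ofNat 1),1⟩, ⟨4,(Int.ofNat 1),1⟩, ⟨5,(Int.ofNat 1),1⟩, ⟨6,(Int.ofNat 1),1⟩, ⟨7,(Int.ofNat 1),1⟩, ⟨142,(Int.negSucc 0),2⟩] (.node 45 [⟨58,(Int.negSucc 0),1⟩] (.node 8 [⟨13,(Int.negSucc 0),1⟩] (.node 4 [⟨142,(Int.ofNat 0),1⟩] (.node 2 [⟨142,(Int.ofNat 1),1⟩] (.node 1 [⟨142,(Int.ofNat 1),1⟩] (.node 0 [⟨142,(Int.ofNat 0),1⟩] .nil .nil) .nil) (.node 3 [⟨142,(Int.negSucc 0),1⟩] .nil .nil)) (.node 6 [⟨142,(Int.ofNat 0),1⟩] (.node 5 [⟨142,(Int.ofNat 0),1⟩] .nil .nil) (.node 7 [⟨142,(Int.negSucc 0),1⟩] .nil .nil))) (.node 30 [⟨40,(Int.ofNat 1),1⟩] (.node 23 [⟨28,(Int.negSucc 0),1⟩] (.node 16 [⟨21,(Int.negSucc 0),1⟩] .nil .nil) (.node 29 [⟨37,(Int.ofNat 1),1⟩] .nil .nil)) (.node 32 [⟨43,(Int.ofNat 1),1⟩]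 (.node 31 [⟨42,(Int.ofNat 1),1⟩] .nil .nil) (.node 44 [⟨56,(Int.negSucc 0),1⟩] .nil .nil)))) (.node 70 [⟨78,(Int.ofNat 1),1⟩] (.node 51 [⟨63,(Int.negSucc 0),1⟩] (.node 48 [⟨61,(Int.negSucc 0),1⟩] (.node 46 [⟨59,(Int.negSucc 0),1⟩] .nil .nil) (.node 49 [⟨62,(Int.negSucc 0),1⟩] .nil .nil)) (.node 65 [⟨76,(Int.ofNat 1),1⟩] (.node 64 [⟨75,(Int.ofNat 1),1⟩] .nil .nil) (.node 67 [⟨77,(Int.ofNat 1),1⟩] .nil .nil))) (.node 89 [⟨99,(Int.ofNat 1),1⟩] (.node 86 [⟨97,(Int.ofNat 1),1⟩] (.node 79 [⟨84,(Int.negSucc 0),1⟩] .nil .nil) (.node 87 [⟨98,(Int.ofNat 1),1⟩] .nil .nil)) (.node 101 [⟨106,(Int.negSucc 0),1⟩] (.node 92 [⟨100,(Int.ofNat 1),1⟩] .nil .nil) (.node 107 [⟨112,(Int.negSucc 0),1⟩] .nil .nil))))) (.node 178 [⟨188,(Int.negSucc 0),1⟩] (.node 143 [⟨148,(Int.ofNat 1),1⟩] (.node 118 [⟨138,(Int.negSucc 0),1⟩] (.node 116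 [⟨133,(Int.ofNat 1),1⟩] (.node 115 [⟨130,(Int.ofNat 1),1⟩] (.node 114 [⟨128,(Int.ofNat 1),1⟩] .nil .nil) .nil) (.node 117 [⟨137,(Int.ofNat 1),1⟩] .nil .nil)) (.node 125 [⟨140,(Int.negSucc 0),1⟩] (.node 122 [⟨139,(Int.negSucc 0),1⟩] .nil .nil) (.node 127 [⟨141,(Int.negSucc 0),1⟩] .nil .nil))) (.node 157 [⟨168,(Int.negSucc 0),1⟩] (.node 155 [⟨163,(Int.negSucc 0),1⟩] (.node 149 [⟨154,(Int.ofNat 1),1⟩] .nil .nil) (.node 156 [⟨166,(Int.negSucc 0),1⟩] .nil .nil)) (.node 171 [⟨176,(Int.ofNat 1),1⟩] (.node 158 [⟨169,(Int.negSucc 0),1⟩] .nil .nil) (.node 177 [⟨185,(Int.negSucc 0),1⟩] .nil .nil)))) (.node 199 [⟨211,(Int.ofNat 1),1⟩] (.node 193 [⟨206,(Int.ofNat 1),1⟩] (.node 180 [⟨191,(Int.negSucc 0),1⟩] (.node 179 [⟨190,(Int.negSucc 0),1⟩] .nil .nil) (.node 192 [⟨204,(Int.ofNat 1),1⟩] .nil .nil)) (.node 196 [⟨209,(Int.ofNat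 1),1⟩] (.node 194 [⟨207,(Int.ofNat 1),1⟩] .nil .nil) (.node 197 [⟨210,(Int.ofNat 1),1⟩] .nil .nil))) (.node 218 [⟨226,(Int.negSucc 0),1⟩] (.node 213 [⟨224,(Int.negSucc 0),1⟩] (.node 212 [⟨223,(Int.negSucc 0),1⟩] .nil .nil) (.node 215 [⟨225,(Int.negSucc 0),1⟩] .nil .nil)) (.node 234 [⟨239,(Int.ofNat 1),1⟩] (.node 227 [⟨232,(Int.ofNat 1),1⟩] .nil .nil) (.node 242 [⟨247,(Int.ofNat 1),1⟩] .nil .nil))))))
noncomputable def col135 : Tr Cl := (.node 108 [⟨114,(Int.ofNat 1),1⟩] (.node 55 [⟨65,(Int.negSucc 0),1⟩] (.node 13 [⟨14,(Int.negSucc 0),1⟩] (.node 4 [⟨143,(Int.ofNat 0),1⟩] (.node 2 [⟨143,(Int.negSucc 1),1⟩] (.node 1 [⟨143,(Int.ofNat 0),1⟩] (.node 0 [⟨143,(Int.ofNat 1),1⟩] .nil .nil) .nil) (.node 3 [⟨143,(Int.ofNat 1),1⟩] .nil .nil)) (.node 6 [⟨143,(Int.ofNat 0),1⟩] (.node 5 [⟨143,(Int.ofNat 0),1⟩] .nil .nil) (.node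 7 [⟨143,(Int.ofNat 0),1⟩] .nil .nil))) (.node 26 [⟨31,(Int.negSucc 0),1⟩] (.node 24 [⟨29,(Int.negSucc 0),1⟩] (.node 15 [⟨16,(Int.negSucc 0),1⟩] .nil .nil) (.node 25 [⟨30,(Int.negSucc 0),1⟩] .nil .nil)) (.node 28 [⟨33,(Int.negSucc 0),1⟩] (.node 27 [⟨32,(Int.negSucc 0),1⟩] .nil .nil) (.node 54 [⟨64,(Int.negSucc 0),1⟩] .nil .nil)))) (.node 63 [⟨73,(Int.negSucc 0),1⟩] (.node 59 [⟨69,(Int.negSucc 0),1⟩] (.node 57 [⟨67,(Int.negSucc 0),1⟩] (.node 56 [⟨66,(Int.negSucc 0),1⟩] .nil .nil) (.node 58 [⟨68,(Int.negSucc 0),1⟩] .nil .nil)) (.node 61 [⟨71,(Int.negSucc 0),1⟩] (.node 60 [⟨70,(Int.negSucc 0),1⟩] .nil .nil) (.node 62 [⟨72,(Int.negSucc 0),1⟩] .nil .nil))) (.node 98 [⟨103,(Int.negSucc 0),1⟩] (.node 96 [⟨101,(Int.negSucc 0),1⟩] (.node 84 [⟨85,(Int.negSucc 0),1⟩] .nil .nil) (.node 97 [⟨102,(Int.negSucc 0),1⟩] .nil .nil))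 (.node 100 [⟨105,(Int.negSucc 0),1⟩] (.node 99 [⟨104,(Int.negSucc 0),1⟩] .nil .nil) (.node 107 [⟨113,(Int.ofNat 1),1⟩] .nil .nil))))) (.node 183 [⟨193,(Int.ofNat 1),1⟩] (.node 142 [⟨148,(Int.negSucc 0),1⟩] (.node 138 [⟨144,(Int.negSucc 0),1⟩] (.node 111 [⟨117,(Int.ofNat 1),1⟩] (.node 110 [⟨116,(Int.ofNat 1),1⟩] (.node 109 [⟨115,(Int.ofNat 1),1⟩] .nil .nil) .nil) (.node 112 [⟨0,(Int.ofNat 0),1⟩, ⟨1,(Int.ofNat 0),1⟩, ⟨2,(Int.ofNat 1),1⟩, ⟨3,(Int.ofNat 0),1⟩, ⟨4,(Int.ofNat 0),1⟩, ⟨5,(Int.ofNat 0),1⟩, ⟨6,(Int.ofNat 0),1⟩, ⟨7,(Int.ofNat 0),1⟩, ⟨143,(Int.negSucc 0),2⟩] .nil .nil)) (.node 140 [⟨146,(Int.negSucc 0),1⟩] (.node 139 [⟨145,(Int.negSucc 0),1⟩] .nil .nil) (.node 141 [⟨147,(Int.negSucc 0),1⟩] .nil .nil))) (.node 153 [⟨158,(Int.ofNat 1),1⟩] (.node 151 [⟨156,(Int.ofNat 1),1⟩] (.node 150 [⟨155,(Int.ofNat 1),1⟩]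 .nil .nil) (.node 152 [⟨157,(Int.ofNat 1),1⟩] .nil .nil)) (.node 170 [⟨171,(Int.ofNat 1),1⟩] (.node 154 [⟨159,(Int.ofNat 1),1⟩] .nil .nil) (.node 182 [⟨192,(Int.ofNat 1),1⟩] .nil .nil)))) (.node 191 [⟨201,(Int.ofNat 1),1⟩] (.node 187 [⟨197,(Int.ofNat 1),1⟩] (.node 185 [⟨195,(Int.ofNat 1),1⟩] (.node 184 [⟨194,(Int.ofNat 1),1⟩] .nil .nil) (.node 186 [⟨196,(Int.ofNat 1),1⟩] .nil .nil)) (.node 189 [⟨199,(Int.ofNat 1),1⟩] (.node 188 [⟨198,(Int.ofNat 1),1⟩] .nil .nil) (.node 190 [⟨200,(Int.ofNat 1),1⟩] .nil .nil))) (.node 225 [⟨230,(Int.ofNat 1),1⟩] (.node 223 [⟨228,(Int.ofNat 1),1⟩] (.node 222 [⟨227,(Int.ofNat 1),1⟩] .nil .nil) (.node 224 [⟨229,(Int.ofNat 1),1⟩] .nil .nil)) (.node 239 [⟨240,(Int.ofNat 1),1⟩] (.node 226 [⟨231,(Int.ofNat 1),1⟩] .nil .nil) (.node 241 [⟨242,(Int.ofNat 1),1⟩] .nil .nil))))))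
noncomputable def col136 : Tr Cl := (.node 108 [⟨119,(Int.ofNat 1),1⟩] (.node 49 [⟨65,(Int.negSucc 0),1⟩] (.node 12 [⟨14,(Int.negSucc 0),1⟩] (.node 4 [⟨144,(Int.ofNat 1),1⟩] (.node 2 [⟨144,(Int.negSucc 0),1⟩] (.node 1 [⟨144,(Int.ofNat 1),1⟩] (.node 0 [⟨144,(Int.ofNat 1),1⟩] .nil .nil) .nil) (.node 3 [⟨144,(Int.negSucc 0),1⟩] .nil .nil)) (.node 6 [⟨144,(Int.ofNat 0),1⟩] (.node 5 [⟨144,(Int.ofNat 0),1⟩] .nil .nil) (.node 7 [⟨144,(Int.ofNat 0),1⟩] .nil .nil))) (.node 26 [⟨35,(Int.ofNat 1),1⟩] (.node 23 [⟨29,(Int.negSucc 0),1⟩] (.node 15 [⟨17,(Int.ofNat 1),1⟩] .nil .nil) (.node 25 [⟨34,(Int.ofNat 1),1⟩] .nil .nil)) (.node 28 [⟨37,(Int.ofNat 1),1⟩] (.node 27 [⟨36,(Int.ofNat 1),1⟩] .nil .nil) (.node 48 [⟨64,(Int.negSucc 0),1⟩] .nil .nil)))) (.node 63 [⟨77,(Int.ofNat 1),1⟩] (.node 53 [⟨69,(Int.negSucc 0),1⟩] (.node 51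 [⟨67,(Int.negSucc 0),1⟩] (.node 50 [⟨66,(Int.negSucc 0),1⟩] .nil .nil) (.node 52 [⟨68,(Int.negSucc 0),1⟩] .nil .nil)) (.node 61 [⟨75,(Int.ofNat 1),1⟩] (.node 60 [⟨74,(Int.ofNat 1),1⟩] .nil .nil) (.node 62 [⟨76,(Int.ofNat 1),1⟩] .nil .nil))) (.node 94 [⟨103,(Int.negSucc 0),1⟩] (.node 92 [⟨101,(Int.negSucc 0),1⟩] (.node 83 [⟨85,(Int.negSucc 0),1⟩] .nil .nil) (.node 93 [⟨102,(Int.negSucc 0),1⟩] .nil .nil)) (.node 100 [⟨106,(Int.ofNat 1),1⟩] (.node 95 [⟨104,(Int.negSucc 0),1⟩] .nil .nil) (.node 107 [⟨118,(Int.ofNat 1),1⟩] .nil .nil))))) (.node 179 [⟨193,(Int.negSucc 0),1⟩] (.node 137 [⟨148,(Int.negSucc 0),1⟩] (.node 117 [⟨143,(Int.negSucc 0),1⟩] (.node 111 [⟨0,(Int.ofNat 0),1⟩, ⟨1,(Int.ofNat 0),1⟩, ⟨2,(Int.ofNat 1),1⟩, ⟨3,(Int.ofNat 1),1⟩, ⟨4,(Int.ofNat 0),1⟩, ⟨5,(Int.ofNat 0),1⟩, ⟨6,(Int.ofNat 0),1⟩, ⟨7,(Int.ofNat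 0),1⟩, ⟨144,(Int.negSucc 0),2⟩] (.node 110 [⟨121,(Int.ofNat 1),1⟩] (.node 109 [⟨120,(Int.ofNat 1),1⟩] .nil .nil) .nil) (.node 112 [⟨138,(Int.ofNat 1),1⟩] .nil .nil)) (.node 135 [⟨146,(Int.negSucc 0),1⟩] (.node 134 [⟨145,(Int.negSucc 0),1⟩] .nil .nil) (.node 136 [⟨147,(Int.negSucc 0),1⟩] .nil .nil))) (.node 153 [⟨162,(Int.ofNat 1),1⟩] (.node 151 [⟨160,(Int.ofNat 1),1⟩] (.node 149 [⟨155,(Int.negSucc 0),1⟩] .nil .nil) (.node 152 [⟨161,(Int.ofNat 1),1⟩] .nil .nil)) (.node 170 [⟨172,(Int.ofNat 1),1⟩] (.node 154 [⟨163,(Int.ofNat 1),1⟩] .nil .nil) (.node 178 [⟨192,(Int.negSucc 0),1⟩] .nil .nil)))) (.node 191 [⟨207,(Int.ofNat 1),1⟩] (.node 187 [⟨203,(Int.ofNat 1),1⟩] (.node 181 [⟨195,(Int.negSucc 0),1⟩] (.node 180 [⟨194,(Int.negSucc 0),1⟩] .nil .nil) (.node 186 [⟨202,(Int.ofNat 1),1⟩] .nil .nil)) (.node 189 [⟨205,(Int.ofNat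 1),1⟩] (.node 188 [⟨204,(Int.ofNat 1),1⟩] .nil .nil) (.node 190 [⟨206,(Int.ofNat 1),1⟩] .nil .nil))) (.node 221 [⟨230,(Int.negSucc 0),1⟩] (.node 219 [⟨228,(Int.negSucc 0),1⟩] (.node 218 [⟨227,(Int.negSucc 0),1⟩] .nil .nil) (.node 220 [⟨229,(Int.negSucc 0),1⟩] .nil .nil)) (.node 238 [⟨240,(Int.negSucc 0),1⟩] (.node 226 [⟨232,(Int.ofNat 1),1⟩] .nil .nil) (.node 241 [⟨243,(Int.ofNat 1),1⟩] .nil .nil))))))
noncomputable def col137 : Tr Cl := (.node 108 [⟨123,(Int.ofNat 1),1⟩] (.node 46 [⟨65,(Int.negSucc 0),1⟩] (.node 11 [⟨14,(Int.negSucc 0),1⟩] (.node 4 [⟨145,(Int.negSucc 0),1⟩] (.node 2 [⟨145,(Int.negSucc 0),1⟩] (.node 1 [⟨145,(Int.ofNat 1),1⟩] (.node 0 [⟨145,(Int.ofNat 1),1⟩] .nil .nil) .nil) (.node 3 [⟨145,(Int.ofNat 0),1⟩] .nil .nil)) (.node 6 [⟨145,(Int.ofNat 0),1⟩] (.node 5 [⟨145,(Int.ofNat 1),1⟩] .nil .nil)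 (.node 7 [⟨145,(Int.ofNat 0),1⟩] .nil .nil))) (.node 26 [⟨38,(Int.negSucc 0),1⟩] (.node 23 [⟨30,(Int.ofNat 1),1⟩] (.node 15 [⟨18,(Int.negSucc 0),1⟩] .nil .nil) (.node 24 [⟨34,(Int.ofNat 1),1⟩] .nil .nil)) (.node 28 [⟨40,(Int.negSucc 0),1⟩] (.node 27 [⟨39,(Int.negSucc 0),1⟩] .nil .nil) (.node 45 [⟨64,(Int.negSucc 0),1⟩] .nil .nil)))) (.node 63 [⟨78,(Int.negSucc 0),1⟩] (.node 53 [⟨72,(Int.ofNat 1),1⟩] (.node 51 [⟨70,(Int.ofNat 1),1⟩] (.node 47 [⟨66,(Int.negSucc 0),1⟩] .nil .nil) (.node 52 [⟨71,(Int.ofNat 1),1⟩] .nil .nil)) (.node 58 [⟨75,(Int.ofNat 1),1⟩] (.node 57 [⟨74,(Int.ofNat 1),1⟩] .nil .nil) (.node 59 [⟨76,(Int.ofNat 1),1⟩] .nil .nil))) (.node 91 [⟨103,(Int.negSucc 0),1⟩] (.node 89 [⟨101,(Int.negSucc 0),1⟩] (.node 82 [⟨85,(Int.negSucc 0),1⟩] .nil .nil) (.node 90 [⟨102,(Int.negSucc 0),1⟩] .nil .nil)) (.node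 99 [⟨106,(Int.ofNat 1),1⟩] (.node 95 [⟨105,(Int.ofNat 1),1⟩] .nil .nil) (.node 107 [⟨122,(Int.ofNat 1),1⟩] .nil .nil))))) (.node 179 [⟨196,(Int.negSucc 0),1⟩] (.node 133 [⟨148,(Int.negSucc 0),1⟩] (.node 116 [⟨143,(Int.negSucc 0),1⟩] (.node 111 [⟨134,(Int.ofNat 1),1⟩] (.node 110 [⟨0,(Int.ofNat 0),1⟩, ⟨1,(Int.ofNat 0),1⟩, ⟨2,(Int.ofNat 1),1⟩, ⟨3,(Int.ofNat 1),1⟩, ⟨4,(Int.ofNat 1),1⟩, ⟨5,(Int.ofNat 0),1⟩, ⟨6,(Int.ofNat 0),1⟩, ⟨7,(Int.ofNat 0),1⟩, ⟨145,(Int.negSucc 0),2⟩] (.node 109 [⟨124,(Int.ofNat 1),1⟩] .nil .nil) .nil) (.node 112 [⟨139,(Int.ofNat 1),1⟩] .nil .nil)) (.node 131 [⟨146,(Int.negSucc 0),1⟩] (.node 121 [⟨144,(Int.negSucc 0),1⟩] .nil .nil) (.node 132 [⟨147,(Int.negSucc 0),1⟩] .nil .nil))) (.node 153 [⟨165,(Int.ofNat 1),1⟩] (.node 150 [⟨160,(Int.negSucc 0),1⟩] (.node 149 [⟨156,(Int.negSucc 0),1⟩] .nil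 .nil) (.node 152 [⟨164,(Int.ofNat 1),1⟩] .nil .nil)) (.node 170 [⟨173,(Int.ofNat 1),1⟩] (.node 154 [⟨166,(Int.ofNat 1),1⟩] .nil .nil) (.node 177 [⟨192,(Int.ofNat 1),1⟩] .nil .nil)))) (.node 191 [⟨210,(Int.ofNat 1),1⟩] (.node 184 [⟨203,(Int.negSucc 0),1⟩] (.node 181 [⟨198,(Int.negSucc 0),1⟩] (.node 180 [⟨197,(Int.negSucc 0),1⟩] .nil .nil) (.node 183 [⟨202,(Int.negSucc 0),1⟩] .nil .nil)) (.node 189 [⟨208,(Int.ofNat 1),1⟩] (.node 185 [⟨204,(Int.negSucc 0),1⟩] .nil .nil) (.node 190 [⟨209,(Int.ofNat 1),1⟩] .nil .nil))) (.node 221 [⟨231,(Int.negSucc 0),1⟩] (.node 216 [⟨228,(Int.ofNat 1),1⟩] (.node 215 [⟨227,(Int.ofNat 1),1⟩] .nil .nil) (.node 217 [⟨229,(Int.ofNat 1),1⟩] .nil .nil)) (.node 237 [⟨240,(Int.ofNat 1),1⟩] (.node 225 [⟨232,(Int.negSucc 0),1⟩] .nil .nil) (.node 241 [⟨244,(Int.ofNat 1),1⟩] .nil .nil))))))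
noncomputable def col138 : Tr Cl := (.node 108 [⟨126,(Int.ofNat 1),1⟩] (.node 46 [⟨67,(Int.ofNat 1),1⟩] (.node 10 [⟨14,(Int.negSucc 0),1⟩] (.node 4 [⟨146,(Int.ofNat 0),1⟩] (.node 2 [⟨146,(Int.negSucc 0),1⟩] (.node 1 [⟨146,(Int.ofNat 1),1⟩] (.node 0 [⟨146,(Int.ofNat 1),1⟩] .nil .nil) .nil) (.node 3 [⟨146,(Int.ofNat 0),1⟩] .nil .nil)) (.node 6 [⟨146,(Int.ofNat 1),1⟩] (.node 5 [⟨146,(Int.negSucc 0),1⟩] .nil .nil) (.node 7 [⟨146,(Int.ofNat 0),1⟩] .nil .nil))) (.node 25 [⟨38,(Int.negSucc 0),1⟩] (.node 23 [⟨31,(Int.negSucc 0),1⟩] (.node 15 [⟨19,(Int.ofNat 1),1⟩] .nil .nil) (.node 24 [⟨35,(Int.negSucc 0),1⟩] .nil .nil)) (.node 28 [⟨42,(Int.ofNat 1),1⟩] (.node 27 [⟨41,(Int.ofNat 1),1⟩] .nil .nil) (.node 44 [⟨64,(Int.negSucc 0),1⟩] .nil .nil)))) (.node 62 [⟨78,(Int.negSucc 0),1⟩] (.node 53 [⟨73,(Int.negSucc 0),1⟩] (.node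 49 [⟨70,(Int.ofNat 1),1⟩] (.node 47 [⟨68,(Int.ofNat 1),1⟩] .nil .nil) (.node 50 [⟨71,(Int.ofNat 1),1⟩] .nil .nil)) (.node 56 [⟨75,(Int.ofNat 1),1⟩] (.node 55 [⟨74,(Int.ofNat 1),1⟩] .nil .nil) (.node 59 [⟨77,(Int.negSucc 0),1⟩] .nil .nil))) (.node 91 [⟨104,(Int.ofNat 1),1⟩] (.node 87 [⟨101,(Int.negSucc 0),1⟩] (.node 81 [⟨85,(Int.negSucc 0),1⟩] .nil .nil) (.node 88 [⟨102,(Int.negSucc 0),1⟩] .nil .nil)) (.node 98 [⟨106,(Int.ofNat 1),1⟩] (.node 94 [⟨105,(Int.ofNat 1),1⟩] .nil .nil) (.node 107 [⟨125,(Int.ofNat 1),1⟩] .nil .nil))))) (.node 178 [⟨196,(Int.ofNat 1),1⟩] (.node 130 [⟨148,(Int.negSucc 0),1⟩] (.node 115 [⟨143,(Int.negSucc 0),1⟩] (.node 111 [⟨135,(Int.ofNat 1),1⟩] (.node 110 [⟨131,(Int.ofNat 1),1⟩] (.node 109 [⟨0,(Int.ofNat 0),1⟩, ⟨1,(Int.ofNat 0),1⟩, ⟨2,(Int.ofNat 1),1⟩, ⟨3,(Int.ofNat 1),1⟩, ⟨4,(Int.ofNat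 1),1⟩, ⟨5,(Int.ofNat 1),1⟩, ⟨6,(Int.ofNat 0),1⟩, ⟨7,(Int.ofNat 0),1⟩, ⟨146,(Int.negSucc 0),2⟩] .nil .nil) .nil) (.node 112 [⟨140,(Int.ofNat 1),1⟩] .nil .nil)) (.node 124 [⟨145,(Int.negSucc 0),1⟩] (.node 120 [⟨144,(Int.negSucc 0),1⟩] .nil .nil) (.node 129 [⟨147,(Int.negSucc 0),1⟩] .nil .nil))) (.node 153 [⟨167,(Int.ofNat 1),1⟩] (.node 150 [⟨161,(Int.negSucc 0),1⟩] (.node 149 [⟨157,(Int.negSucc 0),1⟩] .nil .nil) (.node 151 [⟨164,(Int.negSucc 0),1⟩] .nil .nil)) (.node 170 [⟨174,(Int.ofNat 1),1⟩] (.node 154 [⟨168,(Int.ofNat 1),1⟩] .nil .nil) (.node 177 [⟨193,(Int.ofNat 1),1⟩] .nil .nil)))) (.node 191 [⟨211,(Int.ofNat 1),1⟩] (.node 184 [⟨205,(Int.negSucc 0),1⟩] (.node 181 [⟨200,(Int.negSucc 0),1⟩] (.node 180 [⟨199,(Int.negSucc 0),1⟩] .nil .nil) (.node 182 [⟨202,(Int.ofNat 1),1⟩] .nil .nil)) (.node 187 [⟨208,(Int.negSucc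 0),1⟩] (.node 185 [⟨206,(Int.negSucc 0),1⟩] .nil .nil) (.node 188 [⟨209,(Int.negSucc 0),1⟩] .nil .nil))) (.node 220 [⟨231,(Int.ofNat 1),1⟩] (.node 214 [⟨228,(Int.negSucc 0),1⟩] (.node 213 [⟨227,(Int.negSucc 0),1⟩] .nil .nil) (.node 217 [⟨230,(Int.ofNat 1),1⟩] .nil .nil)) (.node 236 [⟨240,(Int.negSucc 0),1⟩] (.node 224 [⟨232,(Int.ofNat 1),1⟩] .nil .nil) (.node 241 [⟨245,(Int.ofNat 1),1⟩] .nil .nil))))))
noncomputable def col139 : Tr Cl := (.node 108 [⟨0,(Int.ofNat 0),1⟩, ⟨1,(Int.ofNat 0),1⟩, ⟨2,(Int.ofNat 1),1⟩, ⟨3,(Int.ofNat 1),1⟩, ⟨4,(Int.ofNat 1),1⟩, ⟨5,(Int.ofNat 1),1⟩, ⟨6,(Int.ofNat 1),1⟩, ⟨7,(Int.ofNat 0),1⟩, ⟨147,(Int.negSucc 0),2⟩] (.node 45 [⟨67,(Int.ofNat 1),1⟩] (.node 9 [⟨14,(Int.negSucc 0),1⟩] (.node 4 [⟨147,(Int.ofNat 0),1⟩] (.node 2 [⟨147,(Int.negSucc 0),1⟩] (.node 1 [⟨147,(Int.ofNat 1),1⟩] (.node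 0 [⟨147,(Int.ofNat 1),1⟩] .nil .nil) .nil) (.node 3 [⟨147,(Int.ofNat 0),1⟩] .nil .nil)) (.node 6 [⟨147,(Int.negSucc 0),1⟩] (.node 5 [⟨147,(Int.ofNat 0),1⟩] .nil .nil) (.node 7 [⟨147,(Int.ofNat 1),1⟩] .nil .nil))) (.node 25 [⟨39,(Int.ofNat 1),1⟩] (.node 23 [⟨32,(Int.ofNat 1),1⟩] (.node 15 [⟨20,(Int.negSucc 0),1⟩] .nil .nil) (.node 24 [⟨36,(Int.ofNat 1),1⟩] .nil .nil)) (.node 28 [⟨43,(Int.negSucc 0),1⟩] (.node 26 [⟨41,(Int.ofNat 1),1⟩] .nil .nil) (.node 44 [⟨65,(Int.ofNat 1),1⟩] .nil .nil)))) (.node 61 [⟨78,(Int.negSucc 0),1⟩] (.node 52 [⟨73,(Int.negSucc 0),1⟩] (.node 48 [⟨70,(Int.ofNat 1),1⟩] (.node 47 [⟨69,(Int.negSucc 0),1⟩] .nil .nil) (.node 50 [⟨72,(Int.negSucc 0),1⟩] .nil .nil)) (.node 56 [⟨76,(Int.negSucc 0),1⟩] (.node 54 [⟨74,(Int.ofNat 1),1⟩] .nil .nil) (.node 58 [⟨77,(Int.negSucc 0),1⟩] .nil .nil))) (.node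 90 [⟨104,(Int.ofNat 1),1⟩] (.node 86 [⟨101,(Int.negSucc 0),1⟩] (.node 80 [⟨85,(Int.negSucc 0),1⟩] .nil .nil) (.node 88 [⟨103,(Int.ofNat 1),1⟩] .nil .nil)) (.node 97 [⟨106,(Int.ofNat 1),1⟩] (.node 93 [⟨105,(Int.ofNat 1),1⟩] .nil .nil) (.node 107 [⟨127,(Int.ofNat 1),1⟩] .nil .nil))))) (.node 178 [⟨197,(Int.ofNat 1),1⟩] (.node 128 [⟨148,(Int.negSucc 0),1⟩] (.node 114 [⟨143,(Int.negSucc 0),1⟩] (.node 111 [⟨136,(Int.ofNat 1),1⟩] (.node 110 [⟨132,(Int.ofNat 1),1⟩] (.node 109 [⟨129,(Int.ofNat 1),1⟩] .nil .nil) .nil) (.node 112 [⟨141,(Int.ofNat 1),1⟩] .nil .nil)) (.node 123 [⟨145,(Int.negSucc 0),1⟩] (.node 119 [⟨144,(Int.negSucc 0),1⟩] .nil .nil) (.node 126 [⟨146,(Int.negSucc 0),1⟩] .nil .nil))) (.node 152 [⟨167,(Int.negSucc 0),1⟩] (.node 150 [⟨162,(Int.negSucc 0),1⟩] (.node 149 [⟨158,(Int.negSucc 0),1⟩] .nil .nil) (.node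 151 [⟨165,(Int.negSucc 0),1⟩] .nil .nil)) (.node 170 [⟨175,(Int.ofNat 1),1⟩] (.node 154 [⟨169,(Int.ofNat 1),1⟩] .nil .nil) (.node 177 [⟨194,(Int.ofNat 1),1⟩] .nil .nil)))) (.node 190 [⟨211,(Int.negSucc 0),1⟩] (.node 183 [⟨205,(Int.ofNat 1),1⟩] (.node 181 [⟨201,(Int.negSucc 0),1⟩] (.node 179 [⟨199,(Int.ofNat 1),1⟩] .nil .nil) (.node 182 [⟨203,(Int.ofNat 1),1⟩] .nil .nil)) (.node 186 [⟨208,(Int.ofNat 1),1⟩] (.node 185 [⟨207,(Int.negSucc 0),1⟩] .nil .nil) (.node 188 [⟨210,(Int.negSucc 0),1⟩] .nil .nil))) (.node 219 [⟨231,(Int.negSucc 0),1⟩] (.node 214 [⟨229,(Int.negSucc 0),1⟩] (.node 212 [⟨227,(Int.ofNat 1),1⟩] .nil .nil) (.node 216 [⟨230,(Int.negSucc 0),1⟩] .nil .nil)) (.node 235 [⟨240,(Int.ofNat 1),1⟩] (.node 223 [⟨232,(Int.negSucc 0),1⟩] .nil .nil) (.node 241 [⟨246,(Int.ofNat 1),1⟩] .nil .nil))))))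
noncomputable def col140 : Tr Cl := (.node 108 [⟨128,(Int.ofNat 1),1⟩] (.node 45 [⟨68,(Int.negSucc 0),1⟩] (.node 8 [⟨14,(Int.negSucc 0),1⟩] (.node 4 [⟨148,(Int.ofNat 0),1⟩] (.node 2 [⟨148,(Int.negSucc 0),1⟩] (.node 1 [⟨148,(Int.ofNat 1),1⟩] (.node 0 [⟨148,(Int.ofNat 1),1⟩] .nil .nil) .nil) (.node 3 [⟨148,(Int.ofNat 0),1⟩] .nil .nil)) (.node 6 [⟨148,(Int.ofNat 0),1⟩] (.node 5 [⟨148,(Int.ofNat 0),1⟩] .nil .nil) (.node 7 [⟨148,(Int.negSucc 0),1⟩] .nil .nil))) (.node 25 [⟨40,(Int.negSucc 0),1⟩] (.node 23 [⟨33,(Int.negSucc 0),1⟩] (.node 15 [⟨21,(Int.ofNat 1),1⟩] .nil .nil) (.node 24 [⟨37,(Int.negSucc 0),1⟩] .nil .nil)) (.node 27 [⟨43,(Int.negSucc 0),1⟩] (.node 26 [⟨42,(Int.negSucc 0),1⟩] .nil .nil) (.node 44 [⟨66,(Int.negSucc 0),1⟩] .nil .nil)))) (.node 60 [⟨78,(Int.negSucc 0),1⟩] (.node 51 [⟨73,(Int.negSucc 0),1⟩]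 (.node 48 [⟨71,(Int.negSucc 0),1⟩] (.node 46 [⟨69,(Int.negSucc 0),1⟩] .nil .nil) (.node 49 [⟨72,(Int.negSucc 0),1⟩] .nil .nil)) (.node 55 [⟨76,(Int.negSucc 0),1⟩] (.node 54 [⟨75,(Int.negSucc 0),1⟩] .nil .nil) (.node 57 [⟨77,(Int.negSucc 0),1⟩] .nil .nil))) (.node 89 [⟨104,(Int.ofNat 1),1⟩] (.node 86 [⟨102,(Int.ofNat 1),1⟩] (.node 79 [⟨85,(Int.negSucc 0),1⟩] .nil .nil) (.node 87 [⟨103,(Int.ofNat 1),1⟩] .nil .nil)) (.node 96 [⟨106,(Int.ofNat 1),1⟩] (.node 92 [⟨105,(Int.ofNat 1),1⟩] .nil .nil) (.node 107 [⟨0,(Int.ofNat 0),1⟩, ⟨1,(Int.ofNat 0),1⟩, ⟨2,(Int.ofNat 1),1⟩, ⟨3,(Int.ofNat 1),1⟩, ⟨4,(Int.ofNat 1),1⟩, ⟨5,(Int.ofNat 1),1⟩, ⟨6,(Int.ofNat 1),1⟩, ⟨7,(Int.ofNat 1),1⟩, ⟨148,(Int.negSucc 0),2⟩] .nil .nil))))) (.node 178 [⟨198,(Int.ofNat 1),1⟩] (.node 127 [⟨147,(Int.negSucc 0),1⟩] (.node 113 [⟨143,(Int.negSucc 0),1⟩]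 (.node 111 [⟨137,(Int.ofNat 1),1⟩] (.node 110 [⟨133,(Int.ofNat 1),1⟩] (.node 109 [⟨130,(Int.ofNat 1),1⟩] .nil .nil) .nil) (.node 112 [⟨142,(Int.ofNat 1),1⟩] .nil .nil)) (.node 122 [⟨145,(Int.negSucc 0),1⟩] (.node 118 [⟨144,(Int.negSucc 0),1⟩] .nil .nil) (.node 125 [⟨146,(Int.negSucc 0),1⟩] .nil .nil))) (.node 152 [⟨168,(Int.negSucc 0),1⟩] (.node 150 [⟨163,(Int.negSucc 0),1⟩] (.node 149 [⟨159,(Int.negSucc 0),1⟩] .nil .nil) (.node 151 [⟨166,(Int.negSucc 0),1⟩] .nil .nil)) (.node 170 [⟨176,(Int.ofNat 1),1⟩] (.node 153 [⟨169,(Int.negSucc 0),1⟩] .nil .nil) (.node 177 [⟨195,(Int.ofNat 1),1⟩] .nil .nil)))) (.node 189 [⟨211,(Int.ofNat 1),1⟩] (.node 183 [⟨206,(Int.ofNat 1),1⟩] (.node 180 [⟨201,(Int.ofNat 1),1⟩] (.node 179 [⟨200,(Int.ofNat 1),1⟩] .nil .nil) (.node 182 [⟨204,(Int.ofNat 1),1⟩] .nil .nil)) (.node 186 [⟨209,(Int.ofNat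 1),1⟩] (.node 184 [⟨207,(Int.ofNat 1),1⟩] .nil .nil) (.node 187 [⟨210,(Int.ofNat 1),1⟩] .nil .nil))) (.node 218 [⟨231,(Int.ofNat 1),1⟩] (.node 213 [⟨229,(Int.ofNat 1),1⟩] (.node 212 [⟨228,(Int.ofNat 1),1⟩] .nil .nil) (.node 215 [⟨230,(Int.ofNat 1),1⟩] .nil .nil)) (.node 234 [⟨240,(Int.negSucc 0),1⟩] (.node 222 [⟨232,(Int.ofNat 1),1⟩] .nil .nil) (.node 241 [⟨247,(Int.ofNat 1),1⟩] .nil .nil))))))
noncomputable def col141 : Tr Cl := (.node 102 [⟨114,(Int.ofNat 1),1⟩] (.node 39 [⟨49,(Int.negSucc 0),1⟩] (.node 13 [⟨15,(Int.negSucc 0),1⟩] (.node 4 [⟨149,(Int.ofNat 0),1⟩] (.node 2 [⟨149,(Int.ofNat 0),1⟩] (.node 1 [⟨149,(Int.negSucc 1),1⟩] (.node 0 [⟨149,(Int.ofNat 0),1⟩] .nil .nil) .nil) (.node 3 [⟨149,(Int.ofNat 1),1⟩] .nil .nil)) (.node 6 [⟨149,(Int.ofNat 0),1⟩] (.node 5 [⟨149,(Int.ofNat 0),1⟩] .nil .nil) (.node 7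 [⟨149,(Int.ofNat 0),1⟩] .nil .nil))) (.node 35 [⟨45,(Int.negSucc 0),1⟩] (.node 22 [⟨23,(Int.negSucc 0),1⟩] (.node 14 [⟨16,(Int.negSucc 0),1⟩] .nil .nil) (.node 34 [⟨44,(Int.negSucc 0),1⟩] .nil .nil)) (.node 37 [⟨47,(Int.negSucc 0),1⟩] (.node 36 [⟨46,(Int.negSucc 0),1⟩] .nil .nil) (.node 38 [⟨48,(Int.negSucc 0),1⟩] .nil .nil)))) (.node 77 [⟨82,(Int.negSucc 0),1⟩] (.node 43 [⟨53,(Int.negSucc 0),1⟩] (.node 41 [⟨51,(Int.negSucc 0),1⟩] (.node 40 [⟨50,(Int.negSucc 0),1⟩] .nil .nil) (.node 42 [⟨52,(Int.negSucc 0),1⟩] .nil .nil)) (.node 75 [⟨80,(Int.negSucc 0),1⟩] (.node 74 [⟨79,(Int.negSucc 0),1⟩] .nil .nil) (.node 76 [⟨81,(Int.negSucc 0),1⟩] .nil .nil))) (.node 98 [⟨109,(Int.negSucc 0),1⟩] (.node 96 [⟨107,(Int.negSucc 0),1⟩] (.node 78 [⟨83,(Int.negSucc 0),1⟩] .nil .nil) (.node 97 [⟨108,(Int.negSucc 0),1⟩] .nil .nil))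 (.node 100 [⟨111,(Int.negSucc 0),1⟩] (.node 99 [⟨110,(Int.negSucc 0),1⟩] .nil .nil) (.node 101 [⟨113,(Int.ofNat 1),1⟩] .nil .nil))))) (.node 174 [⟨179,(Int.ofNat 1),1⟩] (.node 142 [⟨154,(Int.negSucc 0),1⟩] (.node 138 [⟨150,(Int.negSucc 0),1⟩] (.node 105 [⟨117,(Int.ofNat 1),1⟩] (.node 104 [⟨116,(Int.ofNat 1),1⟩] (.node 103 [⟨115,(Int.ofNat 1),1⟩] .nil .nil) .nil) (.node 106 [⟨0,(Int.ofNat 0),1⟩, ⟨1,(Int.ofNat 1),1⟩, ⟨2,(Int.ofNat 0),1⟩, ⟨3,(Int.ofNat 0),1⟩, ⟨4,(Int.ofNat 0),1⟩, ⟨5,(Int.ofNat 0),1⟩, ⟨6,(Int.ofNat 0),1⟩, ⟨7,(Int.ofNat 0),1⟩, ⟨149,(Int.negSucc 0),2⟩] .nil .nil)) (.node 140 [⟨152,(Int.negSucc 0),1⟩] (.node 139 [⟨151,(Int.negSucc 0),1⟩] .nil .nil) (.node 141 [⟨153,(Int.negSucc 0),1⟩] .nil .nil))) (.node 147 [⟨158,(Int.ofNat 1),1⟩] (.node 145 [⟨156,(Int.ofNat 1),1⟩] (.node 144 [⟨155,(Int.ofNat 1),1⟩]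 .nil .nil) (.node 146 [⟨157,(Int.ofNat 1),1⟩] .nil .nil)) (.node 172 [⟨177,(Int.ofNat 1),1⟩] (.node 148 [⟨159,(Int.ofNat 1),1⟩] .nil .nil) (.node 173 [⟨178,(Int.ofNat 1),1⟩] .nil .nil)))) (.node 207 [⟨217,(Int.ofNat 1),1⟩] (.node 203 [⟨213,(Int.ofNat 1),1⟩] (.node 176 [⟨181,(Int.ofNat 1),1⟩] (.node 175 [⟨180,(Int.ofNat 1),1⟩] .nil .nil) (.node 202 [⟨212,(Int.ofNat 1),1⟩] .nil .nil)) (.node 205 [⟨215,(Int.ofNat 1),1⟩] (.node 204 [⟨214,(Int.ofNat 1),1⟩] .nil .nil) (.node 206 [⟨216,(Int.ofNat 1),1⟩] .nil .nil))) (.node 211 [⟨221,(Int.ofNat 1),1⟩] (.node 209 [⟨219,(Int.ofNat 1),1⟩] (.node 208 [⟨218,(Int.ofNat 1),1⟩] .nil .nil) (.node 210 [⟨220,(Int.ofNat 1),1⟩] .nil .nil)) (.node 239 [⟨241,(Int.ofNat 1),1⟩] (.node 232 [⟨233,(Int.ofNat 1),1⟩] .nil .nil) (.node 240 [⟨242,(Int.ofNat 1),1⟩] .nil .nil))))))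
noncomputable def col142 : Tr Cl := (.node 102 [⟨119,(Int.ofNat 1),1⟩] (.node 39 [⟨55,(Int.ofNat 1),1⟩] (.node 12 [⟨15,(Int.negSucc 0),1⟩] (.node 4 [⟨150,(Int.ofNat 1),1⟩] (.node 2 [⟨150,(Int.ofNat 1),1⟩] (.node 1 [⟨150,(Int.negSucc 0),1⟩] (.node 0 [⟨150,(Int.ofNat 0),1⟩] .nil .nil) .nil) (.node 3 [⟨150,(Int.negSucc 0),1⟩] .nil .nil)) (.node 6 [⟨150,(Int.ofNat 0),1⟩] (.node 5 [⟨150,(Int.ofNat 0),1⟩] .nil .nil) (.node 7 [⟨150,(Int.ofNat 0),1⟩] .nil .nil))) (.node 31 [⟨45,(Int.negSucc 0),1⟩] (.node 22 [⟨24,(Int.ofNat 1),1⟩] (.node 14 [⟨17,(Int.ofNat 1),1⟩] .nil .nil) (.node 30 [⟨44,(Int.negSucc 0),1⟩] .nil .nil)) (.node 33 [⟨47,(Int.negSucc 0),1⟩] (.node 32 [⟨46,(Int.negSucc 0),1⟩] .nil .nil) (.node 38 [⟨54,(Int.ofNat 1),1⟩] .nil .nil)))) (.node 73 [⟨82,(Int.negSucc 0),1⟩] (.node 43 [⟨59,(Int.ofNat 1),1⟩] (.node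 41 [⟨57,(Int.ofNat 1),1⟩] (.node 40 [⟨56,(Int.ofNat 1),1⟩] .nil .nil) (.node 42 [⟨58,(Int.ofNat 1),1⟩] .nil .nil)) (.node 71 [⟨80,(Int.negSucc 0),1⟩] (.node 70 [⟨79,(Int.negSucc 0),1⟩] .nil .nil) (.node 72 [⟨81,(Int.negSucc 0),1⟩] .nil .nil))) (.node 94 [⟨109,(Int.negSucc 0),1⟩] (.node 92 [⟨107,(Int.negSucc 0),1⟩] (.node 78 [⟨84,(Int.ofNat 1),1⟩] .nil .nil) (.node 93 [⟨108,(Int.negSucc 0),1⟩] .nil .nil)) (.node 100 [⟨112,(Int.ofNat 1),1⟩] (.node 95 [⟨110,(Int.negSucc 0),1⟩] .nil .nil) (.node 101 [⟨118,(Int.ofNat 1),1⟩] .nil .nil))))) (.node 174 [⟨183,(Int.ofNat 1),1⟩] (.node 137 [⟨154,(Int.negSucc 0),1⟩] (.node 117 [⟨149,(Int.negSucc 0),1⟩] (.node 105 [⟨0,(Int.ofNat 0),1⟩, ⟨1,(Int.ofNat 1),1⟩, ⟨2,(Int.ofNat 0),1⟩, ⟨3,(Int.ofNat 1),1⟩, ⟨4,(Int.ofNat 0),1⟩, ⟨5,(Int.ofNat 0),1⟩, ⟨6,(Int.ofNat 0),1⟩, ⟨7,(Int.ofNat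 0),1⟩, ⟨150,(Int.negSucc 0),2⟩] (.node 104 [⟨121,(Int.ofNat 1),1⟩] (.node 103 [⟨120,(Int.ofNat 1),1⟩] .nil .nil) .nil) (.node 106 [⟨138,(Int.ofNat 1),1⟩] .nil .nil)) (.node 135 [⟨152,(Int.negSucc 0),1⟩] (.node 134 [⟨151,(Int.negSucc 0),1⟩] .nil .nil) (.node 136 [⟨153,(Int.negSucc 0),1⟩] .nil .nil))) (.node 147 [⟨162,(Int.ofNat 1),1⟩] (.node 145 [⟨160,(Int.ofNat 1),1⟩] (.node 143 [⟨155,(Int.negSucc 0),1⟩] .nil .nil) (.node 146 [⟨161,(Int.ofNat 1),1⟩] .nil .nil)) (.node 171 [⟨177,(Int.negSucc 0),1⟩] (.node 148 [⟨163,(Int.ofNat 1),1⟩] .nil .nil) (.node 173 [⟨182,(Int.ofNat 1),1⟩] .nil .nil)))) (.node 201 [⟨217,(Int.negSucc 0),1⟩] (.node 197 [⟨213,(Int.negSucc 0),1⟩] (.node 176 [⟨185,(Int.ofNat 1),1⟩] (.node 175 [⟨184,(Int.ofNat 1),1⟩] .nil .nil) (.node 196 [⟨212,(Int.negSucc 0),1⟩] .nil .nil)) (.node 199 [⟨215,(Int.negSucc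 0),1⟩] (.node 198 [⟨214,(Int.negSucc 0),1⟩] .nil .nil) (.node 200 [⟨216,(Int.negSucc 0),1⟩] .nil .nil))) (.node 211 [⟨225,(Int.ofNat 1),1⟩] (.node 209 [⟨223,(Int.ofNat 1),1⟩] (.node 208 [⟨222,(Int.ofNat 1),1⟩] .nil .nil) (.node 210 [⟨224,(Int.ofNat 1),1⟩] .nil .nil)) (.node 238 [⟨241,(Int.negSucc 0),1⟩] (.node 231 [⟨233,(Int.negSucc 0),1⟩] .nil .nil) (.node 240 [⟨243,(Int.ofNat 1),1⟩] .nil .nil))))))
noncomputable def col143 : Tr Cl := (.node 102 [⟨123,(Int.ofNat 1),1⟩] (.node 36 [⟨55,(Int.ofNat 1),1⟩] (.node 11 [⟨15,(Int.negSucc 0),1⟩] (.node 4 [⟨151,(Int.negSucc 0),1⟩] (.node 2 [⟨151,(Int.ofNat 1),1⟩] (.node 1 [⟨151,(Int.negSucc 0),1⟩] (.node 0 [⟨151,(Int.ofNat 0),1⟩] .nil .nil) .nil) (.node 3 [⟨151,(Int.ofNat 0),1⟩] .nil .nil)) (.node 6 [⟨151,(Int.ofNat 0),1⟩] (.node 5 [⟨151,(Int.ofNat 1),1⟩] .nil .nil) (.node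 7 [⟨151,(Int.ofNat 0),1⟩] .nil .nil))) (.node 31 [⟨48,(Int.ofNat 1),1⟩] (.node 22 [⟨25,(Int.negSucc 0),1⟩] (.node 14 [⟨18,(Int.negSucc 0),1⟩] .nil .nil) (.node 29 [⟨44,(Int.negSucc 0),1⟩] .nil .nil)) (.node 33 [⟨50,(Int.ofNat 1),1⟩] (.node 32 [⟨49,(Int.ofNat 1),1⟩] .nil .nil) (.node 35 [⟨54,(Int.ofNat 1),1⟩] .nil .nil)))) (.node 73 [⟨83,(Int.ofNat 1),1⟩] (.node 43 [⟨62,(Int.negSucc 0),1⟩] (.node 41 [⟨60,(Int.negSucc 0),1⟩] (.node 37 [⟨56,(Int.ofNat 1),1⟩] .nil .nil) (.node 42 [⟨61,(Int.negSucc 0),1⟩] .nil .nil)) (.node 68 [⟨80,(Int.negSucc 0),1⟩] (.node 67 [⟨79,(Int.negSucc 0),1⟩] .nil .nil) (.node 69 [⟨81,(Int.negSucc 0),1⟩] .nil .nil))) (.node 91 [⟨109,(Int.negSucc 0),1⟩] (.node 89 [⟨107,(Int.negSucc 0),1⟩] (.node 77 [⟨84,(Int.ofNat 1),1⟩] .nil .nil) (.node 90 [⟨108,(Int.negSucc 0),1⟩] .nil .nil)) (.node 99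 [⟨112,(Int.ofNat 1),1⟩] (.node 95 [⟨111,(Int.ofNat 1),1⟩] .nil .nil) (.node 101 [⟨122,(Int.ofNat 1),1⟩] .nil .nil))))) (.node 174 [⟨186,(Int.ofNat 1),1⟩] (.node 133 [⟨154,(Int.negSucc 0),1⟩] (.node 116 [⟨149,(Int.negSucc 0),1⟩] (.node 105 [⟨134,(Int.ofNat 1),1⟩] (.node 104 [⟨0,(Int.ofNat 0),1⟩, ⟨1,(Int.ofNat 1),1⟩, ⟨2,(Int.ofNat 0),1⟩, ⟨3,(Int.ofNat 1),1⟩, ⟨4,(Int.ofNat 1),1⟩, ⟨5,(Int.ofNat 0),1⟩, ⟨6,(Int.ofNat 0),1⟩, ⟨7,(Int.ofNat 0),1⟩, ⟨151,(Int.negSucc 0),2⟩] (.node 103 [⟨124,(Int.ofNat 1),1⟩] .nil .nil) .nil) (.node 106 [⟨139,(Int.ofNat 1),1⟩] .nil .nil)) (.node 131 [⟨152,(Int.negSucc 0),1⟩] (.node 121 [⟨150,(Int.negSucc 0),1⟩] .nil .nil) (.node 132 [⟨153,(Int.negSucc 0),1⟩] .nil .nil))) (.node 147 [⟨165,(Int.ofNat 1),1⟩] (.node 144 [⟨160,(Int.negSucc 0),1⟩] (.node 143 [⟨156,(Int.negSucc 0),1⟩] .nil .nil)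 (.node 146 [⟨164,(Int.ofNat 1),1⟩] .nil .nil)) (.node 171 [⟨178,(Int.negSucc 0),1⟩] (.node 148 [⟨166,(Int.ofNat 1),1⟩] .nil .nil) (.node 172 [⟨182,(Int.negSucc 0),1⟩] .nil .nil)))) (.node 201 [⟨220,(Int.negSucc 0),1⟩] (.node 194 [⟨213,(Int.ofNat 1),1⟩] (.node 176 [⟨188,(Int.ofNat 1),1⟩] (.node 175 [⟨187,(Int.ofNat 1),1⟩] .nil .nil) (.node 193 [⟨212,(Int.ofNat 1),1⟩] .nil .nil)) (.node 199 [⟨218,(Int.negSucc 0),1⟩] (.node 195 [⟨214,(Int.ofNat 1),1⟩] .nil .nil) (.node 200 [⟨219,(Int.negSucc 0),1⟩] .nil .nil))) (.node 211 [⟨226,(Int.ofNat 1),1⟩] (.node 206 [⟨223,(Int.negSucc 0),1⟩] (.node 205 [⟨222,(Int.negSucc 0),1⟩] .nil .nil) (.node 207 [⟨224,(Int.negSucc 0),1⟩] .nil .nil)) (.node 237 [⟨241,(Int.ofNat 1),1⟩] (.node 230 [⟨233,(Int.ofNat 1),1⟩] .nil .nil) (.node 240 [⟨244,(Int.ofNat 1),1⟩] .nil .nil))))))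
noncomputable def col144 : Tr Cl := (.node 102 [⟨126,(Int.ofNat 1),1⟩] (.node 36 [⟨57,(Int.negSucc 0),1⟩] (.node 10 [⟨15,(Int.negSucc 0),1⟩] (.node 4 [⟨152,(Int.ofNat 0),1⟩] (.node 2 [⟨152,(Int.ofNat 1),1⟩] (.node 1 [⟨152,(Int.negSucc 0),1⟩] (.node 0 [⟨152,(Int.ofNat 0),1⟩] .nil .nil) .nil) (.node 3 [⟨152,(Int.ofNat 0),1⟩] .nil .nil)) (.node 6 [⟨152,(Int.ofNat 1),1⟩] (.node 5 [⟨152,(Int.negSucc 0),1⟩] .nil .nil) (.node 7 [⟨152,(Int.ofNat 0),1⟩] .nil .nil))) (.node 30 [⟨48,(Int.ofNat 1),1⟩] (.node 22 [⟨26,(Int.ofNat 1),1⟩] (.node 14 [⟨19,(Int.ofNat 1),1⟩] .nil .nil) (.node 29 [⟨45,(Int.ofNat 1),1⟩] .nil .nil)) (.node 33 [⟨52,(Int.negSucc 0),1⟩] (.node 32 [⟨51,(Int.negSucc 0),1⟩] .nil .nil) (.node 34 [⟨54,(Int.ofNat 1),1⟩] .nil .nil)))) (.node 72 [⟨83,(Int.ofNat 1),1⟩] (.node 43 [⟨63,(Int.ofNat 1),1⟩] (.node 39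 [⟨60,(Int.negSucc 0),1⟩] (.node 37 [⟨58,(Int.negSucc 0),1⟩] .nil .nil) (.node 40 [⟨61,(Int.negSucc 0),1⟩] .nil .nil)) (.node 66 [⟨80,(Int.negSucc 0),1⟩] (.node 65 [⟨79,(Int.negSucc 0),1⟩] .nil .nil) (.node 69 [⟨82,(Int.ofNat 1),1⟩] .nil .nil))) (.node 91 [⟨110,(Int.ofNat 1),1⟩] (.node 87 [⟨107,(Int.negSucc 0),1⟩] (.node 76 [⟨84,(Int.ofNat 1),1⟩] .nil .nil) (.node 88 [⟨108,(Int.negSucc 0),1⟩] .nil .nil)) (.node 98 [⟨112,(Int.ofNat 1),1⟩] (.node 94 [⟨111,(Int.ofNat 1),1⟩] .nil .nil) (.node 101 [⟨125,(Int.ofNat 1),1⟩] .nil .nil))))) (.node 173 [⟨186,(Int.negSucc 0),1⟩] (.node 130 [⟨154,(Int.negSucc 0),1⟩] (.node 115 [⟨149,(Int.negSucc 0),1⟩] (.node 105 [⟨135,(Int.ofNat 1),1⟩] (.node 104 [⟨131,(Int.ofNat 1),1⟩] (.node 103 [⟨0,(Int.ofNat 0),1⟩, ⟨1,(Int.ofNat 1),1⟩, ⟨2,(Int.ofNat 0),1⟩, ⟨3,(Int.ofNat 1),1⟩, ⟨4,(Int.ofNat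 1),1⟩, ⟨5,(Int.ofNat 1),1⟩, ⟨6,(Int.ofNat 0),1⟩, ⟨7,(Int.ofNat 0),1⟩, ⟨152,(Int.negSucc 0),2⟩] .nil .nil) .nil) (.node 106 [⟨140,(Int.ofNat 1),1⟩] .nil .nil)) (.node 124 [⟨151,(Int.negSucc 0),1⟩] (.node 120 [⟨150,(Int.negSucc 0),1⟩] .nil .nil) (.node 129 [⟨153,(Int.negSucc 0),1⟩] .nil .nil))) (.node 147 [⟨167,(Int.ofNat 1),1⟩] (.node 144 [⟨161,(Int.negSucc 0),1⟩] (.node 143 [⟨157,(Int.negSucc 0),1⟩] .nil .nil) (.node 145 [⟨164,(Int.negSucc 0),1⟩] .nil .nil)) (.node 171 [⟨179,(Int.negSucc 0),1⟩] (.node 148 [⟨168,(Int.ofNat 1),1⟩] .nil .nil) (.node 172 [⟨183,(Int.negSucc 0),1⟩] .nil .nil)))) (.node 201 [⟨221,(Int.negSucc 0),1⟩] (.node 194 [⟨215,(Int.ofNat 1),1⟩] (.node 176 [⟨190,(Int.ofNat 1),1⟩] (.node 175 [⟨189,(Int.ofNat 1),1⟩] .nil .nil) (.node 192 [⟨212,(Int.negSucc 0),1⟩] .nil .nil)) (.node 197 [⟨218,(Int.ofNat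 1),1⟩] (.node 195 [⟨216,(Int.ofNat 1),1⟩] .nil .nil) (.node 198 [⟨219,(Int.ofNat 1),1⟩] .nil .nil))) (.node 210 [⟨226,(Int.negSucc 0),1⟩] (.node 204 [⟨223,(Int.ofNat 1),1⟩] (.node 203 [⟨222,(Int.ofNat 1),1⟩] .nil .nil) (.node 207 [⟨225,(Int.negSucc 0),1⟩] .nil .nil)) (.node 236 [⟨241,(Int.negSucc 0),1⟩] (.node 229 [⟨233,(Int.negSucc 0),1⟩] .nil .nil) (.node 240 [⟨245,(Int.ofNat 1),1⟩] .nil .nil))))))
noncomputable def col145 : Tr Cl := (.node 102 [⟨0,(Int.ofNat 0),1⟩, ⟨1,(Int.ofNat 1),1⟩, ⟨2,(Int.ofNat 0),1⟩, ⟨3,(Int.ofNat 1),1⟩, ⟨4,(Int.ofNat 1),1⟩, ⟨5,(Int.ofNat 1),1⟩, ⟨6,(Int.ofNat 1),1⟩, ⟨7,(Int.ofNat 0),1⟩, ⟨153,(Int.negSucc 0),2⟩] (.node 35 [⟨57,(Int.negSucc 0),1⟩] (.node 9 [⟨15,(Int.negSucc 0),1⟩] (.node 4 [⟨153,(Int.ofNat 0),1⟩] (.node 2 [⟨153,(Int.ofNat 1),1⟩] (.node 1 [⟨153,(Int.negSucc 0),1⟩] (.node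 0 [⟨153,(Int.ofNat 0),1⟩] .nil .nil) .nil) (.node 3 [⟨153,(Int.ofNat 0),1⟩] .nil .nil)) (.node 6 [⟨153,(Int.negSucc 0),1⟩] (.node 5 [⟨153,(Int.ofNat 0),1⟩] .nil .nil) (.node 7 [⟨153,(Int.ofNat 1),1⟩] .nil .nil))) (.node 30 [⟨49,(Int.negSucc 0),1⟩] (.node 22 [⟨27,(Int.negSucc 0),1⟩] (.node 14 [⟨20,(Int.negSucc 0),1⟩] .nil .nil) (.node 29 [⟨46,(Int.negSucc 0),1⟩] .nil .nil)) (.node 33 [⟨53,(Int.ofNat 1),1⟩] (.node 31 [⟨51,(Int.negSucc 0),1⟩] .nil .nil) (.node 34 [⟨55,(Int.negSucc 0),1⟩] .nil .nil)))) (.node 71 [⟨83,(Int.ofNat 1),1⟩] (.node 42 [⟨63,(Int.ofNat 1),1⟩] (.node 38 [⟨60,(Int.negSucc 0),1⟩] (.node 37 [⟨59,(Int.ofNat 1),1⟩] .nil .nil) (.node 40 [⟨62,(Int.ofNat 1),1⟩] .nil .nil)) (.node 66 [⟨81,(Int.ofNat 1),1⟩] (.node 64 [⟨79,(Int.negSucc 0),1⟩] .nil .nil) (.node 68 [⟨82,(Int.ofNat 1),1⟩] .nil .nil))) (.node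 90 [⟨110,(Int.ofNat 1),1⟩] (.node 86 [⟨107,(Int.negSucc 0),1⟩] (.node 75 [⟨84,(Int.ofNat 1),1⟩] .nil .nil) (.node 88 [⟨109,(Int.ofNat 1),1⟩] .nil .nil)) (.node 97 [⟨112,(Int.ofNat 1),1⟩] (.node 93 [⟨111,(Int.ofNat 1),1⟩] .nil .nil) (.node 101 [⟨127,(Int.ofNat 1),1⟩] .nil .nil))))) (.node 173 [⟨187,(Int.negSucc 0),1⟩] (.node 128 [⟨154,(Int.negSucc 0),1⟩] (.node 114 [⟨149,(Int.negSucc 0),1⟩] (.node 105 [⟨136,(Int.ofNat 1),1⟩] (.node 104 [⟨132,(Int.ofNat 1),1⟩] (.node 103 [⟨129,(Int.ofNat 1),1⟩] .nil .nil) .nil) (.node 106 [⟨141,(Int.ofNat 1),1⟩] .nil .nil)) (.node 123 [⟨151,(Int.negSucc 0),1⟩] (.node 119 [⟨150,(Int.negSucc 0),1⟩] .nil .nil) (.node 126 [⟨152,(Int.negSucc 0),1⟩] .nil .nil))) (.node 146 [⟨167,(Int.negSucc 0),1⟩] (.node 144 [⟨162,(Int.negSucc 0),1⟩] (.node 143 [⟨158,(Int.negSucc 0),1⟩] .nil .nil) (.node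 145 [⟨165,(Int.negSucc 0),1⟩] .nil .nil)) (.node 171 [⟨180,(Int.negSucc 0),1⟩] (.node 148 [⟨169,(Int.ofNat 1),1⟩] .nil .nil) (.node 172 [⟨184,(Int.negSucc 0),1⟩] .nil .nil)))) (.node 200 [⟨221,(Int.ofNat 1),1⟩] (.node 193 [⟨215,(Int.negSucc 0),1⟩] (.node 176 [⟨191,(Int.ofNat 1),1⟩] (.node 174 [⟨189,(Int.negSucc 0),1⟩] .nil .nil) (.node 192 [⟨213,(Int.negSucc 0),1⟩] .nil .nil)) (.node 196 [⟨218,(Int.negSucc 0),1⟩] (.node 195 [⟨217,(Int.ofNat 1),1⟩] .nil .nil) (.node 198 [⟨220,(Int.ofNat 1),1⟩] .nil .nil))) (.node 209 [⟨226,(Int.ofNat 1),1⟩] (.node 204 [⟨224,(Int.ofNat 1),1⟩] (.node 202 [⟨222,(Int.negSucc 0),1⟩] .nil .nil) (.node 206 [⟨225,(Int.ofNat 1),1⟩] .nil .nil)) (.node 235 [⟨241,(Int.ofNat 1),1⟩] (.node 228 [⟨233,(Int.ofNat 1),1⟩] .nil .nil) (.node 240 [⟨246,(Int.ofNat 1),1⟩] .nil .nil))))))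
noncomputable def col146 : Tr Cl := (.node 102 [⟨128,(Int.ofNat 1),1⟩] (.node 35 [⟨58,(Int.ofNat 1),1⟩] (.node 8 [⟨15,(Int.negSucc 0),1⟩] (.node 4 [⟨154,(Int.ofNat 0),1⟩] (.node 2 [⟨154,(Int.ofNat 1),1⟩] (.node 1 [⟨154,(Int.negSucc 0),1⟩] (.node 0 [⟨154,(Int.ofNat 0),1⟩] .nil .nil) .nil) (.node 3 [⟨154,(Int.ofNat 0),1⟩] .nil .nil)) (.node 6 [⟨154,(Int.ofNat 0),1⟩] (.node 5 [⟨154,(Int.ofNat 0),1⟩] .nil .nil) (.node 7 [⟨154,(Int.negSucc 0),1⟩] .nil .nil))) (.node 30 [⟨50,(Int.ofNat 1),1⟩] (.node 22 [⟨28,(Int.ofNat 1),1⟩] (.node 14 [⟨21,(Int.ofNat 1),1⟩] .nil .nil) (.node 29 [⟨47,(Int.ofNat 1),1⟩] .nil .nil)) (.node 32 [⟨53,(Int.ofNat 1),1⟩] (.node 31 [⟨52,(Int.ofNat 1),1⟩] .nil .nil) (.node 34 [⟨56,(Int.ofNat 1),1⟩] .nil .nil)))) (.node 70 [⟨83,(Int.ofNat 1),1⟩] (.node 41 [⟨63,(Int.ofNat 1),1⟩] (.node 38 [⟨61,(Int.ofNat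 1),1⟩] (.node 36 [⟨59,(Int.ofNat 1),1⟩] .nil .nil) (.node 39 [⟨62,(Int.ofNat 1),1⟩] .nil .nil)) (.node 65 [⟨81,(Int.ofNat 1),1⟩] (.node 64 [⟨80,(Int.ofNat 1),1⟩] .nil .nil) (.node 67 [⟨82,(Int.ofNat 1),1⟩] .nil .nil))) (.node 89 [⟨110,(Int.ofNat 1),1⟩] (.node 86 [⟨108,(Int.ofNat 1),1⟩] (.node 74 [⟨84,(Int.ofNat 1),1⟩] .nil .nil) (.node 87 [⟨109,(Int.ofNat 1),1⟩] .nil .nil)) (.node 96 [⟨112,(Int.ofNat 1),1⟩] (.node 92 [⟨111,(Int.ofNat 1),1⟩] .nil .nil) (.node 101 [⟨0,(Int.ofNat 0),1⟩, ⟨1,(Int.ofNat 1),1⟩, ⟨2,(Int.ofNat 0),1⟩, ⟨3,(Int.ofNat 1),1⟩, ⟨4,(Int.ofNat 1),1⟩, ⟨5,(Int.ofNat 1),1⟩, ⟨6,(Int.ofNat 1),1⟩, ⟨7,(Int.ofNat 1),1⟩, ⟨154,(Int.negSucc 0),2⟩] .nil .nil))))) (.node 173 [⟨188,(Int.negSucc 0),1⟩] (.node 127 [⟨153,(Int.negSucc 0),1⟩] (.node 113 [⟨149,(Int.negSucc 0),1⟩] (.node 105 [⟨137,(Int.ofNat 1),1⟩]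 (.node 104 [⟨133,(Int.ofNat 1),1⟩] (.node 103 [⟨130,(Int.ofNat 1),1⟩] .nil .nil) .nil) (.node 106 [⟨142,(Int.ofNat 1),1⟩] .nil .nil)) (.node 122 [⟨151,(Int.negSucc 0),1⟩] (.node 118 [⟨150,(Int.negSucc 0),1⟩] .nil .nil) (.node 125 [⟨152,(Int.negSucc 0),1⟩] .nil .nil))) (.node 146 [⟨168,(Int.negSucc 0),1⟩] (.node 144 [⟨163,(Int.negSucc 0),1⟩] (.node 143 [⟨159,(Int.negSucc 0),1⟩] .nil .nil) (.node 145 [⟨166,(Int.negSucc 0),1⟩] .nil .nil)) (.node 171 [⟨181,(Int.negSucc 0),1⟩] (.node 147 [⟨169,(Int.negSucc 0),1⟩] .nil .nil) (.node 172 [⟨185,(Int.negSucc 0),1⟩] .nil .nil)))) (.node 199 [⟨221,(Int.negSucc 0),1⟩] (.node 193 [⟨216,(Int.negSucc 0),1⟩] (.node 175 [⟨191,(Int.negSucc 0),1⟩] (.node 174 [⟨190,(Int.negSucc 0),1⟩] .nil .nil) (.node 192 [⟨214,(Int.negSucc 0),1⟩] .nil .nil)) (.node 196 [⟨219,(Int.negSucc 0),1⟩]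 (.node 194 [⟨217,(Int.negSucc 0),1⟩] .nil .nil) (.node 197 [⟨220,(Int.negSucc 0),1⟩] .nil .nil))) (.node 208 [⟨226,(Int.negSucc 0),1⟩] (.node 203 [⟨224,(Int.negSucc 0),1⟩] (.node 202 [⟨223,(Int.negSucc 0),1⟩] .nil .nil) (.node 205 [⟨225,(Int.negSucc 0),1⟩] .nil .nil)) (.node 234 [⟨241,(Int.negSucc 0),1⟩] (.node 227 [⟨233,(Int.negSucc 0),1⟩] .nil .nil) (.node 240 [⟨247,(Int.ofNat 1),1⟩] .nil .nil))))))
noncomputable def col147 : Tr Cl := (.node 98 [⟨120,(Int.ofNat 1),1⟩] (.node 39 [⟨65,(Int.negSucc 0),1⟩] (.node 12 [⟨16,(Int.ofNat 1),1⟩] (.node 4 [⟨155,(Int.ofNat 1),1⟩] (.node 2 [⟨155,(Int.negSucc 0),1⟩] (.node 1 [⟨155,(Int.negSucc 0),1⟩] (.node 0 [⟨155,(Int.ofNat 1),1⟩] .nil .nil) .nil) (.node 3 [⟨155,(Int.ofNat 0),1⟩] .nil .nil)) (.node 6 [⟨155,(Int.ofNat 0),1⟩] (.node 5 [⟨155,(Int.ofNat 0),1⟩] .nil .nil) (.node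 7 [⟨155,(Int.ofNat 0),1⟩] .nil .nil))) (.node 26 [⟨45,(Int.negSucc 0),1⟩] (.node 22 [⟨29,(Int.negSucc 0),1⟩] (.node 13 [⟨17,(Int.ofNat 1),1⟩] .nil .nil) (.node 25 [⟨44,(Int.negSucc 0),1⟩] .nil .nil)) (.node 28 [⟨47,(Int.negSucc 0),1⟩] (.node 27 [⟨46,(Int.negSucc 0),1⟩] .nil .nil) (.node 38 [⟨64,(Int.negSucc 0),1⟩] .nil .nil)))) (.node 63 [⟨82,(Int.negSucc 0),1⟩] (.node 43 [⟨69,(Int.negSucc 0),1⟩] (.node 41 [⟨67,(Int.negSucc 0),1⟩] (.node 40 [⟨66,(Int.negSucc 0),1⟩] .nil .nil) (.node 42 [⟨68,(Int.negSucc 0),1⟩] .nil .nil)) (.node 61 [⟨80,(Int.negSucc 0),1⟩] (.node 60 [⟨79,(Int.negSucc 0),1⟩] .nil .nil) (.node 62 [⟨81,(Int.negSucc 0),1⟩] .nil .nil))) (.node 94 [⟨115,(Int.negSucc 0),1⟩] (.node 92 [⟨113,(Int.negSucc 0),1⟩] (.node 78 [⟨85,(Int.negSucc 0),1⟩] .nil .nil) (.node 93 [⟨114,(Int.negSucc 0),1⟩] .nil .nil))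 (.node 96 [⟨118,(Int.ofNat 1),1⟩] (.node 95 [⟨116,(Int.negSucc 0),1⟩] .nil .nil) (.node 97 [⟨119,(Int.ofNat 1),1⟩] .nil .nil))))) (.node 174 [⟨193,(Int.ofNat 1),1⟩] (.node 136 [⟨158,(Int.negSucc 0),1⟩] (.node 111 [⟨149,(Int.ofNat 1),1⟩] (.node 105 [⟨143,(Int.ofNat 1),1⟩] (.node 100 [⟨0,(Int.ofNat 0),1⟩, ⟨1,(Int.ofNat 1),1⟩, ⟨2,(Int.ofNat 1),1⟩, ⟨3,(Int.ofNat 1),1⟩, ⟨4,(Int.ofNat 0),1⟩, ⟨5,(Int.ofNat 0),1⟩, ⟨6,(Int.ofNat 0),1⟩, ⟨7,(Int.ofNat 0),1⟩, ⟨155,(Int.negSucc 0),2⟩] (.node 99 [⟨121,(Int.ofNat 1),1⟩] .nil .nil) .nil) (.node 106 [⟨144,(Int.negSucc 0),1⟩] .nil .nil)) (.node 134 [⟨156,(Int.negSucc 0),1⟩] (.node 112 [⟨150,(Int.negSucc 0),1⟩] .nil .nil) (.node 135 [⟨157,(Int.negSucc 0),1⟩] .nil .nil))) (.node 141 [⟨162,(Int.ofNat 1),1⟩] (.node 139 [⟨160,(Int.ofNat 1),1⟩] (.node 137 [⟨159,(Int.negSucc 0),1⟩] .nil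 .nil) (.node 140 [⟨161,(Int.ofNat 1),1⟩] .nil .nil)) (.node 170 [⟨177,(Int.ofNat 1),1⟩] (.node 142 [⟨163,(Int.ofNat 1),1⟩] .nil .nil) (.node 173 [⟨192,(Int.ofNat 1),1⟩] .nil .nil)))) (.node 191 [⟨217,(Int.ofNat 1),1⟩] (.node 187 [⟨213,(Int.ofNat 1),1⟩] (.node 176 [⟨195,(Int.ofNat 1),1⟩] (.node 175 [⟨194,(Int.ofNat 1),1⟩] .nil .nil) (.node 186 [⟨212,(Int.ofNat 1),1⟩] .nil .nil)) (.node 189 [⟨215,(Int.ofNat 1),1⟩] (.node 188 [⟨214,(Int.ofNat 1),1⟩] .nil .nil) (.node 190 [⟨216,(Int.ofNat 1),1⟩] .nil .nil))) (.node 211 [⟨230,(Int.ofNat 1),1⟩] (.node 209 [⟨228,(Int.ofNat 1),1⟩] (.node 208 [⟨227,(Int.ofNat 1),1⟩] .nil .nil) (.node 210 [⟨229,(Int.ofNat 1),1⟩] .nil .nil)) (.node 238 [⟨242,(Int.negSucc 0),1⟩] (.node 226 [⟨233,(Int.ofNat 1),1⟩] .nil .nil) (.node 239 [⟨243,(Int.negSucc 0),1⟩] .nil .nil))))))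
noncomputable def col148 : Tr Cl := (.node 98 [⟨124,(Int.ofNat 1),1⟩] (.node 36 [⟨65,(Int.negSucc 0),1⟩] (.node 11 [⟨16,(Int.ofNat 1),1⟩] (.node 4 [⟨156,(Int.negSucc 0),1⟩] (.node 2 [⟨156,(Int.negSucc 0),1⟩] (.node 1 [⟨156,(Int.negSucc 0),1⟩] (.node 0 [⟨156,(Int.ofNat 1),1⟩] .nil .nil) .nil) (.node 3 [⟨156,(Int.ofNat 1),1⟩] .nil .nil)) (.node 6 [⟨156,(Int.ofNat 0),1⟩] (.node 5 [⟨156,(Int.ofNat 1),1⟩] .nil .nil) (.node 7 [⟨156,(Int.ofNat 0),1⟩] .nil .nil))) (.node 26 [⟨48,(Int.ofNat 1),1⟩] (.node 22 [⟨30,(Int.ofNat 1),1⟩] (.node 13 [⟨18,(Int.negSucc 0),1⟩] .nil .nil) (.node 24 [⟨44,(Int.negSucc 0),1⟩] .nil .nil)) (.node 28 [⟨50,(Int.ofNat 1),1⟩] (.node 27 [⟨49,(Int.ofNat 1),1⟩] .nil .nil) (.node 35 [⟨64,(Int.negSucc 0),1⟩] .nil .nil)))) (.node 63 [⟨83,(Int.ofNat 1),1⟩] (.node 43 [⟨72,(Int.ofNat 1),1⟩] (.node 41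 [⟨70,(Int.ofNat 1),1⟩] (.node 37 [⟨66,(Int.negSucc 0),1⟩] .nil .nil) (.node 42 [⟨71,(Int.ofNat 1),1⟩] .nil .nil)) (.node 58 [⟨80,(Int.negSucc 0),1⟩] (.node 57 [⟨79,(Int.negSucc 0),1⟩] .nil .nil) (.node 59 [⟨81,(Int.negSucc 0),1⟩] .nil .nil))) (.node 91 [⟨115,(Int.negSucc 0),1⟩] (.node 89 [⟨113,(Int.negSucc 0),1⟩] (.node 77 [⟨85,(Int.negSucc 0),1⟩] .nil .nil) (.node 90 [⟨114,(Int.negSucc 0),1⟩] .nil .nil)) (.node 96 [⟨122,(Int.ofNat 1),1⟩] (.node 95 [⟨117,(Int.ofNat 1),1⟩] .nil .nil) (.node 97 [⟨123,(Int.ofNat 1),1⟩] .nil .nil))))) (.node 174 [⟨196,(Int.ofNat 1),1⟩] (.node 132 [⟨158,(Int.negSucc 0),1⟩] (.node 110 [⟨149,(Int.ofNat 1),1⟩] (.node 104 [⟨143,(Int.ofNat 1),1⟩] (.node 100 [⟨134,(Int.ofNat 1),1⟩] (.node 99 [⟨0,(Int.ofNat 0),1⟩, ⟨1,(Int.ofNat 1),1⟩, ⟨2,(Int.ofNat 1),1⟩, ⟨3,(Int.ofNat 1),1⟩, ⟨4,(Int.ofNat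 1),1⟩, ⟨5,(Int.ofNat 0),1⟩, ⟨6,(Int.ofNat 0),1⟩, ⟨7,(Int.ofNat 0),1⟩, ⟨156,(Int.negSucc 0),2⟩] .nil .nil) .nil) (.node 106 [⟨145,(Int.negSucc 0),1⟩] .nil .nil)) (.node 121 [⟨155,(Int.negSucc 0),1⟩] (.node 112 [⟨151,(Int.negSucc 0),1⟩] .nil .nil) (.node 131 [⟨157,(Int.negSucc 0),1⟩] .nil .nil))) (.node 141 [⟨165,(Int.ofNat 1),1⟩] (.node 138 [⟨160,(Int.negSucc 0),1⟩] (.node 133 [⟨159,(Int.negSucc 0),1⟩] .nil .nil) (.node 140 [⟨164,(Int.ofNat 1),1⟩] .nil .nil)) (.node 170 [⟨178,(Int.ofNat 1),1⟩] (.node 142 [⟨166,(Int.ofNat 1),1⟩] .nil .nil) (.node 172 [⟨192,(Int.negSucc 0),1⟩] .nil .nil)))) (.node 191 [⟨220,(Int.ofNat 1),1⟩] (.node 184 [⟨213,(Int.negSucc 0),1⟩] (.node 176 [⟨198,(Int.ofNat 1),1⟩] (.node 175 [⟨197,(Int.ofNat 1),1⟩] .nil .nil) (.node 183 [⟨212,(Int.negSucc 0),1⟩] .nil .nil)) (.node 189 [⟨218,(Int.ofNat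 1),1⟩] (.node 185 [⟨214,(Int.negSucc 0),1⟩] .nil .nil) (.node 190 [⟨219,(Int.ofNat 1),1⟩] .nil .nil))) (.node 211 [⟨231,(Int.ofNat 1),1⟩] (.node 206 [⟨228,(Int.negSucc 0),1⟩] (.node 205 [⟨227,(Int.negSucc 0),1⟩] .nil .nil) (.node 207 [⟨229,(Int.negSucc 0),1⟩] .nil .nil)) (.node 237 [⟨242,(Int.ofNat 1),1⟩] (.node 225 [⟨233,(Int.negSucc 0),1⟩] .nil .nil) (.node 239 [⟨244,(Int.negSucc 0),1⟩] .nil .nil))))))
noncomputable def col149 : Tr Cl := (.node 98 [⟨0,(Int.ofNat 0),1⟩, ⟨1,(Int.ofNat 1),1⟩, ⟨2,(Int.ofNat 1),1⟩, ⟨3,(Int.ofNat 1),1⟩, ⟨4,(Int.ofNat 1),1⟩, ⟨5,(Int.ofNat 1),1⟩, ⟨6,(Int.ofNat 0),1⟩, ⟨7,(Int.ofNat 0),1⟩, ⟨157,(Int.negSucc 0),2⟩] (.node 36 [⟨67,(Int.ofNat 1),1⟩] (.node 10 [⟨16,(Int.ofNat 1),1⟩] (.node 4 [⟨157,(Int.ofNat 0),1⟩] (.node 2 [⟨157,(Int.negSucc 0),1⟩] (.node 1 [⟨157,(Int.negSucc 0),1⟩] (.node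 0 [⟨157,(Int.ofNat 1),1⟩] .nil .nil) .nil) (.node 3 [⟨157,(Int.ofNat 1),1⟩] .nil .nil)) (.node 6 [⟨157,(Int.ofNat 1),1⟩] (.node 5 [⟨157,(Int.negSucc 0),1⟩] .nil .nil) (.node 7 [⟨157,(Int.ofNat 0),1⟩] .nil .nil))) (.node 25 [⟨48,(Int.ofNat 1),1⟩] (.node 22 [⟨31,(Int.negSucc 0),1⟩] (.node 13 [⟨19,(Int.ofNat 1),1⟩] .nil .nil) (.node 24 [⟨45,(Int.ofNat 1),1⟩] .nil .nil)) (.node 28 [⟨52,(Int.negSucc 0),1⟩] (.node 27 [⟨51,(Int.negSucc 0),1⟩] .nil .nil) (.node 34 [⟨64,(Int.negSucc 0),1⟩] .nil .nil)))) (.node 62 [⟨83,(Int.ofNat 1),1⟩] (.node 43 [⟨73,(Int.negSucc 0),1⟩] (.node 39 [⟨70,(Int.ofNat 1),1⟩] (.node 37 [⟨68,(Int.ofNat 1),1⟩] .nil .nil) (.node 40 [⟨71,(Int.ofNat 1),1⟩] .nil .nil)) (.node 56 [⟨80,(Int.negSucc 0),1⟩] (.node 55 [⟨79,(Int.negSucc 0),1⟩] .nil .nil) (.node 59 [⟨82,(Int.ofNat 1),1⟩] .nil .nil))) (.node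 91 [⟨116,(Int.ofNat 1),1⟩] (.node 87 [⟨113,(Int.negSucc 0),1⟩] (.node 76 [⟨85,(Int.negSucc 0),1⟩] .nil .nil) (.node 88 [⟨114,(Int.negSucc 0),1⟩] .nil .nil)) (.node 96 [⟨125,(Int.ofNat 1),1⟩] (.node 94 [⟨117,(Int.ofNat 1),1⟩] .nil .nil) (.node 97 [⟨126,(Int.ofNat 1),1⟩] .nil .nil))))) (.node 173 [⟨196,(Int.negSucc 0),1⟩] (.node 129 [⟨158,(Int.negSucc 0),1⟩] (.node 109 [⟨149,(Int.ofNat 1),1⟩] (.node 103 [⟨143,(Int.ofNat 1),1⟩] (.node 100 [⟨135,(Int.ofNat 1),1⟩] (.node 99 [⟨131,(Int.ofNat 1),1⟩] .nil .nil) .nil) (.node 106 [⟨146,(Int.negSucc 0),1⟩] .nil .nil)) (.node 120 [⟨155,(Int.negSucc 0),1⟩] (.node 112 [⟨152,(Int.negSucc 0),1⟩] .nil .nil) (.node 124 [⟨156,(Int.negSucc 0),1⟩] .nil .nil))) (.node 141 [⟨167,(Int.ofNat 1),1⟩] (.node 138 [⟨161,(Int.negSucc 0),1⟩] (.node 130 [⟨159,(Int.negSucc 0),1⟩] .nil .nil) (.node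 139 [⟨164,(Int.negSucc 0),1⟩] .nil .nil)) (.node 170 [⟨179,(Int.ofNat 1),1⟩] (.node 142 [⟨168,(Int.ofNat 1),1⟩] .nil .nil) (.node 172 [⟨193,(Int.negSucc 0),1⟩] .nil .nil)))) (.node 191 [⟨221,(Int.ofNat 1),1⟩] (.node 184 [⟨215,(Int.negSucc 0),1⟩] (.node 176 [⟨200,(Int.ofNat 1),1⟩] (.node 175 [⟨199,(Int.ofNat 1),1⟩] .nil .nil) (.node 182 [⟨212,(Int.ofNat 1),1⟩] .nil .nil)) (.node 187 [⟨218,(Int.negSucc 0),1⟩] (.node 185 [⟨216,(Int.negSucc 0),1⟩] .nil .nil) (.node 188 [⟨219,(Int.negSucc 0),1⟩] .nil .nil))) (.node 210 [⟨231,(Int.negSucc 0),1⟩] (.node 204 [⟨228,(Int.ofNat 1),1⟩] (.node 203 [⟨227,(Int.ofNat 1),1⟩] .nil .nil) (.node 207 [⟨230,(Int.negSucc 0),1⟩] .nil .nil)) (.node 236 [⟨242,(Int.negSucc 0),1⟩] (.node 224 [⟨233,(Int.ofNat 1),1⟩] .nil .nil) (.node 239 [⟨245,(Int.negSucc 0),1⟩] .nil .nil))))))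
noncomputable def col150 : Tr Cl := (.node 98 [⟨129,(Int.ofNat 1),1⟩] (.node 35 [⟨67,(Int.ofNat 1),1⟩] (.node 9 [⟨16,(Int.ofNat 1),1⟩] (.node 4 [⟨158,(Int.ofNat 0),1⟩] (.node 2 [⟨158,(Int.negSucc 0),1⟩] (.node 1 [⟨158,(Int.negSucc 0),1⟩] (.node 0 [⟨158,(Int.ofNat 1),1⟩] .nil .nil) .nil) (.node 3 [⟨158,(Int.ofNat 1),1⟩] .nil .nil)) (.node 6 [⟨158,(Int.negSucc 0),1⟩] (.node 5 [⟨158,(Int.ofNat 0),1⟩] .nil .nil) (.node 7 [⟨158,(Int.ofNat 1),1⟩] .nil .nil))) (.node 25 [⟨49,(Int.negSucc 0),1⟩] (.node 22 [⟨32,(Int.ofNat 1),1⟩] (.node 13 [⟨20,(Int.negSucc 0),1⟩] .nil .nil) (.node 24 [⟨46,(Int.negSucc 0),1⟩] .nil .nil)) (.node 28 [⟨53,(Int.ofNat 1),1⟩] (.node 26 [⟨51,(Int.negSucc 0),1⟩] .nil .nil) (.node 34 [⟨65,(Int.ofNat 1),1⟩] .nil .nil)))) (.node 61 [⟨83,(Int.ofNat 1),1⟩] (.node 42 [⟨73,(Int.negSucc 0),1⟩] (.node 38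 [⟨70,(Int.ofNat 1),1⟩] (.node 37 [⟨69,(Int.negSucc 0),1⟩] .nil .nil) (.node 40 [⟨72,(Int.negSucc 0),1⟩] .nil .nil)) (.node 56 [⟨81,(Int.ofNat 1),1⟩] (.node 54 [⟨79,(Int.negSucc 0),1⟩] .nil .nil) (.node 58 [⟨82,(Int.ofNat 1),1⟩] .nil .nil))) (.node 90 [⟨116,(Int.ofNat 1),1⟩] (.node 86 [⟨113,(Int.negSucc 0),1⟩] (.node 75 [⟨85,(Int.negSucc 0),1⟩] .nil .nil) (.node 88 [⟨115,(Int.ofNat 1),1⟩] .nil .nil)) (.node 96 [⟨127,(Int.ofNat 1),1⟩] (.node 93 [⟨117,(Int.ofNat 1),1⟩] .nil .nil) (.node 97 [⟨0,(Int.ofNat 0),1⟩, ⟨1,(Int.ofNat 1),1⟩, ⟨2,(Int.ofNat 1),1⟩, ⟨3,(Int.ofNat 1),1⟩, ⟨4,(Int.ofNat 1),1⟩, ⟨5,(Int.ofNat 1),1⟩, ⟨6,(Int.ofNat 1),1⟩, ⟨7,(Int.ofNat 0),1⟩, ⟨158,(Int.negSucc 0),2⟩] .nil .nil))))) (.node 173 [⟨197,(Int.negSucc 0),1⟩] (.node 126 [⟨157,(Int.negSucc 0),1⟩] (.node 108 [⟨149,(Int.ofNat 1),1⟩] (.node 102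 [⟨143,(Int.ofNat 1),1⟩] (.node 100 [⟨136,(Int.ofNat 1),1⟩] (.node 99 [⟨132,(Int.ofNat 1),1⟩] .nil .nil) .nil) (.node 106 [⟨147,(Int.negSucc 0),1⟩] .nil .nil)) (.node 119 [⟨155,(Int.negSucc 0),1⟩] (.node 112 [⟨153,(Int.negSucc 0),1⟩] .nil .nil) (.node 123 [⟨156,(Int.negSucc 0),1⟩] .nil .nil))) (.node 140 [⟨167,(Int.negSucc 0),1⟩] (.node 138 [⟨162,(Int.negSucc 0),1⟩] (.node 128 [⟨159,(Int.negSucc 0),1⟩] .nil .nil) (.node 139 [⟨165,(Int.negSucc 0),1⟩] .nil .nil)) (.node 170 [⟨180,(Int.ofNat 1),1⟩] (.node 142 [⟨169,(Int.ofNat 1),1⟩] .nil .nil) (.node 172 [⟨194,(Int.negSucc 0),1⟩] .nil .nil)))) (.node 190 [⟨221,(Int.negSucc 0),1⟩] (.node 183 [⟨215,(Int.ofNat 1),1⟩] (.node 176 [⟨201,(Int.ofNat 1),1⟩] (.node 174 [⟨199,(Int.negSucc 0),1⟩] .nil .nil) (.node 182 [⟨213,(Int.ofNat 1),1⟩] .nil .nil)) (.node 186 [⟨218,(Int.ofNat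 1),1⟩] (.node 185 [⟨217,(Int.negSucc 0),1⟩] .nil .nil) (.node 188 [⟨220,(Int.negSucc 0),1⟩] .nil .nil))) (.node 209 [⟨231,(Int.ofNat 1),1⟩] (.node 204 [⟨229,(Int.ofNat 1),1⟩] (.node 202 [⟨227,(Int.negSucc 0),1⟩] .nil .nil) (.node 206 [⟨230,(Int.ofNat 1),1⟩] .nil .nil)) (.node 235 [⟨242,(Int.ofNat 1),1⟩] (.node 223 [⟨233,(Int.negSucc 0),1⟩] .nil .nil) (.node 239 [⟨246,(Int.negSucc 0),1⟩] .nil .nil))))))
noncomputable def col151 : Tr Cl := (.node 98 [⟨130,(Int.ofNat 1),1⟩] (.node 35 [⟨68,(Int.negSucc 0),1⟩] (.node 8 [⟨16,(Int.ofNat 1),1⟩] (.node 4 [⟨159,(Int.ofNat 0),1⟩] (.node 2 [⟨159,(Int.negSucc 0),1⟩] (.node 1 [⟨159,(Int.negSucc 0),1⟩] (.node 0 [⟨159,(Int.ofNat 1),1⟩] .nil .nil) .nil) (.node 3 [⟨159,(Int.ofNat 1),1⟩] .nil .nil)) (.node 6 [⟨159,(Int.ofNat 0),1⟩] (.node 5 [⟨159,(Int.ofNat 0),1⟩] .nil .nil) (.node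 7 [⟨159,(Int.negSucc 0),1⟩] .nil .nil))) (.node 25 [⟨50,(Int.ofNat 1),1⟩] (.node 22 [⟨33,(Int.negSucc 0),1⟩] (.node 13 [⟨21,(Int.ofNat 1),1⟩] .nil .nil) (.node 24 [⟨47,(Int.ofNat 1),1⟩] .nil .nil)) (.node 27 [⟨53,(Int.ofNat 1),1⟩] (.node 26 [⟨52,(Int.ofNat 1),1⟩] .nil .nil) (.node 34 [⟨66,(Int.negSucc 0),1⟩] .nil .nil)))) (.node 60 [⟨83,(Int.ofNat 1),1⟩] (.node 41 [⟨73,(Int.negSucc 0),1⟩] (.node 38 [⟨71,(Int.negSucc 0),1⟩] (.node 36 [⟨69,(Int.negSucc 0),1⟩] .nil .nil) (.node 39 [⟨72,(Int.negSucc 0),1⟩] .nil .nil)) (.node 55 [⟨81,(Int.ofNat 1),1⟩] (.node 54 [⟨80,(Int.ofNat 1),1⟩] .nil .nil) (.node 57 [⟨82,(Int.ofNat 1),1⟩] .nil .nil))) (.node 89 [⟨116,(Int.ofNat 1),1⟩] (.node 86 [⟨114,(Int.ofNat 1),1⟩] (.node 74 [⟨85,(Int.negSucc 0),1⟩] .nil .nil) (.node 87 [⟨115,(Int.ofNat 1),1⟩] .nil .nil)) (.node 96 [⟨0,(Int.ofNat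 0),1⟩, ⟨1,(Int.ofNat 1),1⟩, ⟨2,(Int.ofNat 1),1⟩, ⟨3,(Int.ofNat 1),1⟩, ⟨4,(Int.ofNat 1),1⟩, ⟨5,(Int.ofNat 1),1⟩, ⟨6,(Int.ofNat 1),1⟩, ⟨7,(Int.ofNat 1),1⟩, ⟨159,(Int.negSucc 0),2⟩] (.node 92 [⟨117,(Int.ofNat 1),1⟩] .nil .nil) (.node 97 [⟨128,(Int.ofNat 1),1⟩] .nil .nil))))) (.node 173 [⟨198,(Int.negSucc 0),1⟩] (.node 125 [⟨157,(Int.negSucc 0),1⟩] (.node 107 [⟨149,(Int.ofNat 1),1⟩] (.node 101 [⟨143,(Int.ofNat 1),1⟩] (.node 100 [⟨137,(Int.ofNat 1),1⟩] (.node 99 [⟨133,(Int.ofNat 1),1⟩] .nil .nil) .nil) (.node 106 [⟨148,(Int.negSucc 0),1⟩] .nil .nil)) (.node 118 [⟨155,(Int.negSucc 0),1⟩] (.node 112 [⟨154,(Int.negSucc 0),1⟩] .nil .nil) (.node 122 [⟨156,(Int.negSucc 0),1⟩] .nil .nil))) (.node 140 [⟨168,(Int.negSucc 0),1⟩] (.node 138 [⟨163,(Int.negSucc 0),1⟩] (.node 127 [⟨158,(Int.negSucc 0),1⟩] .nil .nil) (.node 139 [⟨166,(Int.negSucc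 0),1⟩] .nil .nil)) (.node 170 [⟨181,(Int.ofNat 1),1⟩] (.node 141 [⟨169,(Int.negSucc 0),1⟩] .nil .nil) (.node 172 [⟨195,(Int.negSucc 0),1⟩] .nil .nil)))) (.node 189 [⟨221,(Int.ofNat 1),1⟩] (.node 183 [⟨216,(Int.ofNat 1),1⟩] (.node 175 [⟨201,(Int.negSucc 0),1⟩] (.node 174 [⟨200,(Int.negSucc 0),1⟩] .nil .nil) (.node 182 [⟨214,(Int.ofNat 1),1⟩] .nil .nil)) (.node 186 [⟨219,(Int.ofNat 1),1⟩] (.node 184 [⟨217,(Int.ofNat 1),1⟩] .nil .nil) (.node 187 [⟨220,(Int.ofNat 1),1⟩] .nil .nil))) (.node 208 [⟨231,(Int.negSucc 0),1⟩] (.node 203 [⟨229,(Int.negSucc 0),1⟩] (.node 202 [⟨228,(Int.negSucc 0),1⟩] .nil .nil) (.node 205 [⟨230,(Int.negSucc 0),1⟩] .nil .nil)) (.node 234 [⟨242,(Int.negSucc 0),1⟩] (.node 222 [⟨233,(Int.ofNat 1),1⟩] .nil .nil) (.node 239 [⟨247,(Int.negSucc 0),1⟩] .nil .nil))))))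
noncomputable def col152 : Tr Cl := (.node 95 [⟨0,(Int.ofNat 0),1⟩, ⟨1,(Int.ofNat 1),1⟩, ⟨2,(Int.ofNat 1),1⟩, ⟨3,(Int.ofNat 2),1⟩, ⟨4,(Int.ofNat 1),1⟩, ⟨5,(Int.ofNat 0),1⟩, ⟨6,(Int.ofNat 0),1⟩, ⟨7,(Int.ofNat 0),1⟩, ⟨160,(Int.negSucc 0),2⟩] (.node 32 [⟨65,(Int.negSucc 0),1⟩] (.node 11 [⟨17,(Int.negSucc 0),1⟩] (.node 4 [⟨160,(Int.ofNat 0),1⟩] (.node 2 [⟨160,(Int.ofNat 0),1⟩] (.node 1 [⟨160,(Int.ofNat 0),1⟩] (.node 0 [⟨160,(Int.ofNat 1),1⟩] .nil .nil) .nil) (.node 3 [⟨160,(Int.negSucc 0),1⟩] .nil .nil)) (.node 6 [⟨160,(Int.ofNat 0),1⟩] (.node 5 [⟨160,(Int.ofNat 1),1⟩] .nil .nil) (.node 7 [⟨160,(Int.ofNat 0),1⟩] .nil .nil))) (.node 26 [⟨54,(Int.negSucc 0),1⟩] (.node 22 [⟨34,(Int.negSucc 0),1⟩] (.node 12 [⟨18,(Int.negSucc 0),1⟩] .nil .nil) (.node 23 [⟨44,(Int.negSucc 0),1⟩] .nil .nil)) (.node 28 [⟨56,(Int.negSucc 0),1⟩]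 (.node 27 [⟨55,(Int.negSucc 0),1⟩] .nil .nil) (.node 31 [⟨64,(Int.negSucc 0),1⟩] .nil .nil)))) (.node 63 [⟨84,(Int.negSucc 0),1⟩] (.node 43 [⟨76,(Int.negSucc 0),1⟩] (.node 41 [⟨74,(Int.negSucc 0),1⟩] (.node 33 [⟨66,(Int.negSucc 0),1⟩] .nil .nil) (.node 42 [⟨75,(Int.negSucc 0),1⟩] .nil .nil)) (.node 52 [⟨80,(Int.negSucc 0),1⟩] (.node 51 [⟨79,(Int.negSucc 0),1⟩] .nil .nil) (.node 53 [⟨81,(Int.negSucc 0),1⟩] .nil .nil))) (.node 91 [⟨120,(Int.negSucc 0),1⟩] (.node 89 [⟨118,(Int.negSucc 0),1⟩] (.node 73 [⟨85,(Int.negSucc 0),1⟩] .nil .nil) (.node 90 [⟨119,(Int.negSucc 0),1⟩] .nil .nil)) (.node 93 [⟨123,(Int.ofNat 1),1⟩] (.node 92 [⟨122,(Int.ofNat 1),1⟩] .nil .nil) (.node 94 [⟨124,(Int.ofNat 1),1⟩] .nil .nil))))) (.node 174 [⟨202,(Int.ofNat 1),1⟩] (.node 131 [⟨161,(Int.negSucc 0),1⟩] (.node 110 [⟨150,(Int.ofNat 1),1⟩]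 (.node 104 [⟨144,(Int.ofNat 1),1⟩] (.node 100 [⟨139,(Int.negSucc 0),1⟩] (.node 99 [⟨138,(Int.ofNat 1),1⟩] .nil .nil) .nil) (.node 105 [⟨145,(Int.negSucc 0),1⟩] .nil .nil)) (.node 116 [⟨155,(Int.ofNat 1),1⟩] (.node 111 [⟨151,(Int.negSucc 0),1⟩] .nil .nil) (.node 117 [⟨156,(Int.negSucc 0),1⟩] .nil .nil))) (.node 136 [⟨165,(Int.ofNat 1),1⟩] (.node 133 [⟨163,(Int.negSucc 0),1⟩] (.node 132 [⟨162,(Int.negSucc 0),1⟩] .nil .nil) (.node 135 [⟨164,(Int.ofNat 1),1⟩] .nil .nil)) (.node 170 [⟨182,(Int.ofNat 1),1⟩] (.node 137 [⟨166,(Int.ofNat 1),1⟩] .nil .nil) (.node 171 [⟨192,(Int.ofNat 1),1⟩] .nil .nil)))) (.node 191 [⟨224,(Int.ofNat 1),1⟩] (.node 180 [⟨213,(Int.ofNat 1),1⟩] (.node 176 [⟨204,(Int.ofNat 1),1⟩] (.node 175 [⟨203,(Int.ofNat 1),1⟩] .nil .nil) (.node 179 [⟨212,(Int.ofNat 1),1⟩] .nil .nil)) (.node 189 [⟨222,(Int.ofNat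 1),1⟩] (.node 181 [⟨214,(Int.ofNat 1),1⟩] .nil .nil) (.node 190 [⟨223,(Int.ofNat 1),1⟩] .nil .nil))) (.node 211 [⟨232,(Int.ofNat 1),1⟩] (.node 200 [⟨228,(Int.ofNat 1),1⟩] (.node 199 [⟨227,(Int.ofNat 1),1⟩] .nil .nil) (.node 201 [⟨229,(Int.ofNat 1),1⟩] .nil .nil)) (.node 237 [⟨243,(Int.ofNat 1),1⟩] (.node 221 [⟨233,(Int.ofNat 1),1⟩] .nil .nil) (.node 238 [⟨244,(Int.ofNat 1),1⟩] .nil .nil))))))
noncomputable def col153 : Tr Cl := (.node 95 [⟨131,(Int.ofNat 1),1⟩] (.node 32 [⟨67,(Int.ofNat 1),1⟩] (.node 10 [⟨17,(Int.negSucc 0),1⟩] (.node 4 [⟨161,(Int.ofNat 1),1⟩] (.node 2 [⟨161,(Int.ofNat 0),1⟩] (.node 1 [⟨161,(Int.ofNat 0),1⟩] (.node 0 [⟨161,(Int.ofNat 1),1⟩] .nil .nil) .nil) (.node 3 [⟨161,(Int.negSucc 0),1⟩] .nil .nil)) (.node 6 [⟨161,(Int.ofNat 1),1⟩] (.node 5 [⟨161,(Int.negSucc 0),1⟩] .nil .nil) (.node 7 [⟨161,(Int.ofNat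 0),1⟩] .nil .nil))) (.node 25 [⟨54,(Int.negSucc 0),1⟩] (.node 22 [⟨35,(Int.ofNat 1),1⟩] (.node 12 [⟨19,(Int.ofNat 1),1⟩] .nil .nil) (.node 23 [⟨45,(Int.ofNat 1),1⟩] .nil .nil)) (.node 28 [⟨58,(Int.ofNat 1),1⟩] (.node 27 [⟨57,(Int.ofNat 1),1⟩] .nil .nil) (.node 30 [⟨64,(Int.negSucc 0),1⟩] .nil .nil)))) (.node 62 [⟨84,(Int.negSucc 0),1⟩] (.node 43 [⟨77,(Int.ofNat 1),1⟩] (.node 39 [⟨74,(Int.negSucc 0),1⟩] (.node 33 [⟨68,(Int.ofNat 1),1⟩] .nil .nil) (.node 40 [⟨75,(Int.negSucc 0),1⟩] .nil .nil)) (.node 50 [⟨80,(Int.negSucc 0),1⟩] (.node 49 [⟨79,(Int.negSucc 0),1⟩] .nil .nil) (.node 53 [⟨82,(Int.ofNat 1),1⟩] .nil .nil))) (.node 91 [⟨121,(Int.ofNat 1),1⟩] (.node 87 [⟨118,(Int.negSucc 0),1⟩] (.node 72 [⟨85,(Int.negSucc 0),1⟩] .nil .nil) (.node 88 [⟨119,(Int.negSucc 0),1⟩] .nil .nil)) (.node 93 [⟨126,(Int.ofNat 1),1⟩]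 (.node 92 [⟨125,(Int.ofNat 1),1⟩] .nil .nil) (.node 94 [⟨0,(Int.ofNat 0),1⟩, ⟨1,(Int.ofNat 1),1⟩, ⟨2,(Int.ofNat 1),1⟩, ⟨3,(Int.ofNat 2),1⟩, ⟨4,(Int.ofNat 1),1⟩, ⟨5,(Int.ofNat 1),1⟩, ⟨6,(Int.ofNat 0),1⟩, ⟨7,(Int.ofNat 0),1⟩, ⟨161,(Int.negSucc 0),2⟩] .nil .nil))))) (.node 173 [⟨202,(Int.negSucc 0),1⟩] (.node 124 [⟨160,(Int.negSucc 0),1⟩] (.node 109 [⟨150,(Int.ofNat 1),1⟩] (.node 103 [⟨144,(Int.ofNat 1),1⟩] (.node 100 [⟨140,(Int.negSucc 0),1⟩] (.node 98 [⟨138,(Int.ofNat 1),1⟩] .nil .nil) .nil) (.node 105 [⟨146,(Int.negSucc 0),1⟩] .nil .nil)) (.node 115 [⟨155,(Int.ofNat 1),1⟩] (.node 111 [⟨152,(Int.negSucc 0),1⟩] .nil .nil) (.node 117 [⟨157,(Int.negSucc 0),1⟩] .nil .nil))) (.node 136 [⟨167,(Int.ofNat 1),1⟩] (.node 130 [⟨163,(Int.negSucc 0),1⟩] (.node 129 [⟨162,(Int.negSucc 0),1⟩] .nil .nil) (.node 134 [⟨164,(Int.negSucc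 0),1⟩] .nil .nil)) (.node 170 [⟨183,(Int.ofNat 1),1⟩] (.node 137 [⟨168,(Int.ofNat 1),1⟩] .nil .nil) (.node 171 [⟨193,(Int.ofNat 1),1⟩] .nil .nil)))) (.node 191 [⟨225,(Int.ofNat 1),1⟩] (.node 180 [⟨215,(Int.ofNat 1),1⟩] (.node 176 [⟨206,(Int.ofNat 1),1⟩] (.node 175 [⟨205,(Int.ofNat 1),1⟩] .nil .nil) (.node 178 [⟨212,(Int.negSucc 0),1⟩] .nil .nil)) (.node 187 [⟨222,(Int.negSucc 0),1⟩] (.node 181 [⟨216,(Int.ofNat 1),1⟩] .nil .nil) (.node 188 [⟨223,(Int.negSucc 0),1⟩] .nil .nil))) (.node 210 [⟨232,(Int.negSucc 0),1⟩] (.node 198 [⟨228,(Int.negSucc 0),1⟩] (.node 197 [⟨227,(Int.negSucc 0),1⟩] .nil .nil) (.node 201 [⟨230,(Int.ofNat 1),1⟩] .nil .nil)) (.node 236 [⟨243,(Int.negSucc 0),1⟩] (.node 220 [⟨233,(Int.negSucc 0),1⟩] .nil .nil) (.node 238 [⟨245,(Int.ofNat 1),1⟩] .nil .nil))))))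
noncomputable def col154 : Tr Cl := (.node 95 [⟨132,(Int.ofNat 1),1⟩] (.node 31 [⟨67,(Int.ofNat 1),1⟩] (.node 9 [⟨17,(Int.negSucc 0),1⟩] (.node 4 [⟨162,(Int.ofNat 1),1⟩] (.node 2 [⟨162,(Int.ofNat 0),1⟩] (.node 1 [⟨162,(Int.ofNat 0),1⟩] (.node 0 [⟨162,(Int.ofNat 1),1⟩] .nil .nil) .nil) (.node 3 [⟨162,(Int.negSucc 0),1⟩] .nil .nil)) (.node 6 [⟨162,(Int.negSucc 0),1⟩] (.node 5 [⟨162,(Int.ofNat 0),1⟩] .nil .nil) (.node 7 [⟨162,(Int.ofNat 1),1⟩] .nil .nil))) (.node 25 [⟨55,(Int.ofNat 1),1⟩] (.node 22 [⟨36,(Int.negSucc 0),1⟩] (.node 12 [⟨20,(Int.negSucc 0),1⟩] .nil .nil) (.node 23 [⟨46,(Int.negSucc 0),1⟩] .nil .nil)) (.node 28 [⟨59,(Int.negSucc 0),1⟩] (.node 26 [⟨57,(Int.ofNat 1),1⟩] .nil .nil) (.node 30 [⟨65,(Int.ofNat 1),1⟩] .nil .nil)))) (.node 61 [⟨84,(Int.negSucc 0),1⟩] (.node 42 [⟨77,(Int.ofNat 1),1⟩] (.node 38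 [⟨74,(Int.negSucc 0),1⟩] (.node 33 [⟨69,(Int.negSucc 0),1⟩] .nil .nil) (.node 40 [⟨76,(Int.ofNat 1),1⟩] .nil .nil)) (.node 50 [⟨81,(Int.ofNat 1),1⟩] (.node 48 [⟨79,(Int.negSucc 0),1⟩] .nil .nil) (.node 52 [⟨82,(Int.ofNat 1),1⟩] .nil .nil))) (.node 90 [⟨121,(Int.ofNat 1),1⟩] (.node 86 [⟨118,(Int.negSucc 0),1⟩] (.node 71 [⟨85,(Int.negSucc 0),1⟩] .nil .nil) (.node 88 [⟨120,(Int.ofNat 1),1⟩] .nil .nil)) (.node 93 [⟨0,(Int.ofNat 0),1⟩, ⟨1,(Int.ofNat 1),1⟩, ⟨2,(Int.ofNat 1),1⟩, ⟨3,(Int.ofNat 2),1⟩, ⟨4,(Int.ofNat 1),1⟩, ⟨5,(Int.ofNat 1),1⟩, ⟨6,(Int.ofNat 1),1⟩, ⟨7,(Int.ofNat 0),1⟩, ⟨162,(Int.negSucc 0),2⟩] (.node 92 [⟨127,(Int.ofNat 1),1⟩] .nil .nil) (.node 94 [⟨129,(Int.ofNat 1),1⟩] .nil .nil))))) (.node 173 [⟨203,(Int.negSucc 0),1⟩] (.node 123 [⟨160,(Int.negSucc 0),1⟩] (.node 108 [⟨150,(Int.ofNat 1),1⟩] (.node 102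 [⟨144,(Int.ofNat 1),1⟩] (.node 100 [⟨141,(Int.negSucc 0),1⟩] (.node 97 [⟨138,(Int.ofNat 1),1⟩] .nil .nil) .nil) (.node 105 [⟨147,(Int.negSucc 0),1⟩] .nil .nil)) (.node 114 [⟨155,(Int.ofNat 1),1⟩] (.node 111 [⟨153,(Int.negSucc 0),1⟩] .nil .nil) (.node 117 [⟨158,(Int.negSucc 0),1⟩] .nil .nil))) (.node 135 [⟨167,(Int.negSucc 0),1⟩] (.node 128 [⟨163,(Int.negSucc 0),1⟩] (.node 126 [⟨161,(Int.negSucc 0),1⟩] .nil .nil) (.node 134 [⟨165,(Int.negSucc 0),1⟩] .nil .nil)) (.node 170 [⟨184,(Int.ofNat 1),1⟩] (.node 137 [⟨169,(Int.ofNat 1),1⟩] .nil .nil) (.node 171 [⟨194,(Int.ofNat 1),1⟩] .nil .nil)))) (.node 190 [⟨225,(Int.negSucc 0),1⟩] (.node 179 [⟨215,(Int.negSucc 0),1⟩] (.node 176 [⟨207,(Int.ofNat 1),1⟩] (.node 174 [⟨205,(Int.negSucc 0),1⟩] .nil .nil) (.node 178 [⟨213,(Int.negSucc 0),1⟩] .nil .nil)) (.node 186 [⟨222,(Int.ofNat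 1),1⟩] (.node 181 [⟨217,(Int.ofNat 1),1⟩] .nil .nil) (.node 188 [⟨224,(Int.negSucc 0),1⟩] .nil .nil))) (.node 209 [⟨232,(Int.ofNat 1),1⟩] (.node 198 [⟨229,(Int.negSucc 0),1⟩] (.node 196 [⟨227,(Int.ofNat 1),1⟩] .nil .nil) (.node 200 [⟨230,(Int.negSucc 0),1⟩] .nil .nil)) (.node 235 [⟨243,(Int.ofNat 1),1⟩] (.node 219 [⟨233,(Int.ofNat 1),1⟩] .nil .nil) (.node 238 [⟨246,(Int.ofNat 1),1⟩] .nil .nil))))))
noncomputable def col155 : Tr Cl := (.node 95 [⟨133,(Int.ofNat 1),1⟩] (.node 31 [⟨68,(Int.negSucc 0),1⟩] (.node 8 [⟨17,(Int.negSucc 0),1⟩] (.node 4 [⟨163,(Int.ofNat 1),1⟩] (.node 2 [⟨163,(Int.ofNat 0),1⟩] (.node 1 [⟨163,(Int.ofNat 0),1⟩] (.node 0 [⟨163,(Int.ofNat 1),1⟩] .nil .nil) .nil) (.node 3 [⟨163,(Int.negSucc 0),1⟩] .nil .nil)) (.node 6 [⟨163,(Int.ofNat 0),1⟩] (.node 5 [⟨163,(Int.ofNat 0),1⟩] .nil .nil) (.node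 7 [⟨163,(Int.negSucc 0),1⟩] .nil .nil))) (.node 25 [⟨56,(Int.negSucc 0),1⟩] (.node 22 [⟨37,(Int.ofNat 1),1⟩] (.node 12 [⟨21,(Int.ofNat 1),1⟩] .nil .nil) (.node 23 [⟨47,(Int.ofNat 1),1⟩] .nil .nil)) (.node 27 [⟨59,(Int.negSucc 0),1⟩] (.node 26 [⟨58,(Int.negSucc 0),1⟩] .nil .nil) (.node 30 [⟨66,(Int.negSucc 0),1⟩] .nil .nil)))) (.node 60 [⟨84,(Int.negSucc 0),1⟩] (.node 41 [⟨77,(Int.ofNat 1),1⟩] (.node 38 [⟨75,(Int.ofNat 1),1⟩] (.node 32 [⟨69,(Int.negSucc 0),1⟩] .nil .nil) (.node 39 [⟨76,(Int.ofNat 1),1⟩] .nil .nil)) (.node 49 [⟨81,(Int.ofNat 1),1⟩] (.node 48 [⟨80,(Int.ofNat 1),1⟩] .nil .nil) (.node 51 [⟨82,(Int.ofNat 1),1⟩] .nil .nil))) (.node 89 [⟨121,(Int.ofNat 1),1⟩] (.node 86 [⟨119,(Int.ofNat 1),1⟩] (.node 70 [⟨85,(Int.negSucc 0),1⟩] .nil .nil) (.node 87 [⟨120,(Int.ofNat 1),1⟩] .nil .nil)) (.node 93 [⟨128,(Int.ofNat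 1),1⟩] (.node 92 [⟨0,(Int.ofNat 0),1⟩, ⟨1,(Int.ofNat 1),1⟩, ⟨2,(Int.ofNat 1),1⟩, ⟨3,(Int.ofNat 2),1⟩, ⟨4,(Int.ofNat 1),1⟩, ⟨5,(Int.ofNat 1),1⟩, ⟨6,(Int.ofNat 1),1⟩, ⟨7,(Int.ofNat 1),1⟩, ⟨163,(Int.negSucc 0),2⟩] .nil .nil) (.node 94 [⟨130,(Int.ofNat 1),1⟩] .nil .nil))))) (.node 173 [⟨204,(Int.negSucc 0),1⟩] (.node 122 [⟨160,(Int.negSucc 0),1⟩] (.node 107 [⟨150,(Int.ofNat 1),1⟩] (.node 101 [⟨144,(Int.ofNat 1),1⟩] (.node 100 [⟨142,(Int.negSucc 0),1⟩] (.node 96 [⟨138,(Int.ofNat 1),1⟩] .nil .nil) .nil) (.node 105 [⟨148,(Int.negSucc 0),1⟩] .nil .nil)) (.node 113 [⟨155,(Int.ofNat 1),1⟩] (.node 111 [⟨154,(Int.negSucc 0),1⟩] .nil .nil) (.node 117 [⟨159,(Int.negSucc 0),1⟩] .nil .nil))) (.node 135 [⟨168,(Int.negSucc 0),1⟩] (.node 127 [⟨162,(Int.negSucc 0),1⟩] (.node 125 [⟨161,(Int.negSucc 0),1⟩] .nil .nil) (.node 134 [⟨166,(Int.negSucc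 0),1⟩] .nil .nil)) (.node 170 [⟨185,(Int.ofNat 1),1⟩] (.node 136 [⟨169,(Int.negSucc 0),1⟩] .nil .nil) (.node 171 [⟨195,(Int.ofNat 1),1⟩] .nil .nil)))) (.node 189 [⟨225,(Int.ofNat 1),1⟩] (.node 179 [⟨216,(Int.negSucc 0),1⟩] (.node 175 [⟨207,(Int.negSucc 0),1⟩] (.node 174 [⟨206,(Int.negSucc 0),1⟩] .nil .nil) (.node 178 [⟨214,(Int.negSucc 0),1⟩] .nil .nil)) (.node 186 [⟨223,(Int.ofNat 1),1⟩] (.node 180 [⟨217,(Int.negSucc 0),1⟩] .nil .nil) (.node 187 [⟨224,(Int.ofNat 1),1⟩] .nil .nil))) (.node 208 [⟨232,(Int.negSucc 0),1⟩] (.node 197 [⟨229,(Int.ofNat 1),1⟩] (.node 196 [⟨228,(Int.ofNat 1),1⟩] .nil .nil) (.node 199 [⟨230,(Int.ofNat 1),1⟩] .nil .nil)) (.node 234 [⟨243,(Int.negSucc 0),1⟩] (.node 218 [⟨233,(Int.negSucc 0),1⟩] .nil .nil) (.node 238 [⟨247,(Int.ofNat 1),1⟩] .nil .nil))))))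
noncomputable def col156 : Tr Cl := (.node 95 [⟨135,(Int.negSucc 0),1⟩] (.node 32 [⟨70,(Int.negSucc 0),1⟩] (.node 10 [⟨18,(Int.ofNat 1),1⟩] (.node 4 [⟨164,(Int.negSucc 0),1⟩] (.node 2 [⟨164,(Int.ofNat 0),1⟩] (.node 1 [⟨164,(Int.ofNat 0),1⟩] (.node 0 [⟨164,(Int.ofNat 1),1⟩] .nil .nil) .nil) (.node 3 [⟨164,(Int.ofNat 0),1⟩] .nil .nil)) (.node 6 [⟨164,(Int.ofNat 1),1⟩] (.node 5 [⟨164,(Int.ofNat 0),1⟩] .nil .nil) (.node 7 [⟨164,(Int.ofNat 0),1⟩] .nil .nil))) (.node 24 [⟨54,(Int.negSucc 0),1⟩] (.node 22 [⟨38,(Int.negSucc 0),1⟩] (.node 11 [⟨19,(Int.ofNat 1),1⟩] .nil .nil) (.node 23 [⟨48,(Int.negSucc 0),1⟩] .nil .nil)) (.node 28 [⟨61,(Int.negSucc 0),1⟩] (.node 27 [⟨60,(Int.negSucc 0),1⟩] .nil .nil) (.node 29 [⟨64,(Int.negSucc 0),1⟩] .nil .nil)))) (.node 59 [⟨84,(Int.negSucc 0),1⟩] (.node 43 [⟨78,(Int.negSucc 0),1⟩] (.node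 36 [⟨74,(Int.negSucc 0),1⟩] (.node 33 [⟨71,(Int.negSucc 0),1⟩] .nil .nil) (.node 37 [⟨75,(Int.negSucc 0),1⟩] .nil .nil)) (.node 47 [⟨80,(Int.negSucc 0),1⟩] (.node 46 [⟨79,(Int.negSucc 0),1⟩] .nil .nil) (.node 53 [⟨83,(Int.negSucc 0),1⟩] .nil .nil))) (.node 89 [⟨125,(Int.ofNat 1),1⟩] (.node 87 [⟨122,(Int.negSucc 0),1⟩] (.node 69 [⟨85,(Int.negSucc 0),1⟩] .nil .nil) (.node 88 [⟨123,(Int.negSucc 0),1⟩] .nil .nil)) (.node 91 [⟨0,(Int.ofNat 0),1⟩, ⟨1,(Int.ofNat 1),1⟩, ⟨2,(Int.ofNat 1),1⟩, ⟨3,(Int.ofNat 2),1⟩, ⟨4,(Int.ofNat 2),1⟩, ⟨5,(Int.ofNat 1),1⟩, ⟨6,(Int.ofNat 0),1⟩, ⟨7,(Int.ofNat 0),1⟩, ⟨164,(Int.negSucc 0),2⟩] (.node 90 [⟨126,(Int.ofNat 1),1⟩] .nil .nil) (.node 94 [⟨134,(Int.ofNat 1),1⟩] .nil .nil))))) (.node 172 [⟨202,(Int.ofNat 1),1⟩] (.node 120 [⟨160,(Int.ofNat 1),1⟩] (.node 109 [⟨151,(Int.ofNat 1),1⟩] (.node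 103 [⟨145,(Int.ofNat 1),1⟩] (.node 99 [⟨140,(Int.negSucc 0),1⟩] (.node 98 [⟨139,(Int.ofNat 1),1⟩] .nil .nil) .nil) (.node 104 [⟨146,(Int.negSucc 0),1⟩] .nil .nil)) (.node 115 [⟨156,(Int.ofNat 1),1⟩] (.node 110 [⟨152,(Int.negSucc 0),1⟩] .nil .nil) (.node 116 [⟨157,(Int.negSucc 0),1⟩] .nil .nil))) (.node 132 [⟨167,(Int.ofNat 1),1⟩] (.node 129 [⟨165,(Int.negSucc 0),1⟩] (.node 121 [⟨161,(Int.negSucc 0),1⟩] .nil .nil) (.node 130 [⟨166,(Int.negSucc 0),1⟩] .nil .nil)) (.node 170 [⟨186,(Int.ofNat 1),1⟩] (.node 133 [⟨168,(Int.ofNat 1),1⟩] .nil .nil) (.node 171 [⟨196,(Int.ofNat 1),1⟩] .nil .nil)))) (.node 191 [⟨226,(Int.ofNat 1),1⟩] (.node 180 [⟨218,(Int.ofNat 1),1⟩] (.node 176 [⟨209,(Int.ofNat 1),1⟩] (.node 175 [⟨208,(Int.ofNat 1),1⟩] .nil .nil) (.node 177 [⟨212,(Int.ofNat 1),1⟩] .nil .nil)) (.node 184 [⟨222,(Int.ofNat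 1),1⟩] (.node 181 [⟨219,(Int.ofNat 1),1⟩] .nil .nil) (.node 185 [⟨223,(Int.ofNat 1),1⟩] .nil .nil))) (.node 207 [⟨232,(Int.ofNat 1),1⟩] (.node 195 [⟨228,(Int.ofNat 1),1⟩] (.node 194 [⟨227,(Int.ofNat 1),1⟩] .nil .nil) (.node 201 [⟨231,(Int.ofNat 1),1⟩] .nil .nil)) (.node 236 [⟨244,(Int.negSucc 0),1⟩] (.node 217 [⟨233,(Int.ofNat 1),1⟩] .nil .nil) (.node 237 [⟨245,(Int.negSucc 0),1⟩] .nil .nil))))))
noncomputable def col157 : Tr Cl := (.node 95 [⟨136,(Int.negSucc 0),1⟩] (.node 31 [⟨70,(Int.negSucc 0),1⟩] (.node 9 [⟨18,(Int.ofNat 1),1⟩] (.node 4 [⟨165,(Int.negSucc 0),1⟩] (.node 2 [⟨165,(Int.ofNat 0),1⟩] (.node 1 [⟨165,(Int.ofNat 0),1⟩] (.node 0 [⟨165,(Int.ofNat 1),1⟩] .nil .nil) .nil) (.node 3 [⟨165,(Int.ofNat 0),1⟩] .nil .nil)) (.node 6 [⟨165,(Int.negSucc 0),1⟩] (.node 5 [⟨165,(Int.ofNat 1),1⟩] .nil .nil) (.node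 7 [⟨165,(Int.ofNat 1),1⟩] .nil .nil))) (.node 24 [⟨55,(Int.ofNat 1),1⟩] (.node 22 [⟨39,(Int.ofNat 1),1⟩] (.node 11 [⟨20,(Int.negSucc 0),1⟩] .nil .nil) (.node 23 [⟨49,(Int.ofNat 1),1⟩] .nil .nil)) (.node 28 [⟨62,(Int.ofNat 1),1⟩] (.node 26 [⟨60,(Int.negSucc 0),1⟩] .nil .nil) (.node 29 [⟨65,(Int.ofNat 1),1⟩] .nil .nil)))) (.node 58 [⟨84,(Int.negSucc 0),1⟩] (.node 42 [⟨78,(Int.negSucc 0),1⟩] (.node 35 [⟨74,(Int.negSucc 0),1⟩] (.node 33 [⟨72,(Int.ofNat 1),1⟩] .nil .nil) (.node 37 [⟨76,(Int.ofNat 1),1⟩] .nil .nil)) (.node 47 [⟨81,(Int.ofNat 1),1⟩] (.node 45 [⟨79,(Int.negSucc 0),1⟩] .nil .nil) (.node 52 [⟨83,(Int.negSucc 0),1⟩] .nil .nil))) (.node 89 [⟨127,(Int.ofNat 1),1⟩] (.node 86 [⟨122,(Int.negSucc 0),1⟩] (.node 68 [⟨85,(Int.negSucc 0),1⟩] .nil .nil) (.node 88 [⟨124,(Int.ofNat 1),1⟩] .nil .nil)) (.node 91 [⟨129,(Int.ofNat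 1),1⟩] (.node 90 [⟨0,(Int.ofNat 0),1⟩, ⟨1,(Int.ofNat 1),1⟩, ⟨2,(Int.ofNat 1),1⟩, ⟨3,(Int.ofNat 2),1⟩, ⟨4,(Int.ofNat 2),1⟩, ⟨5,(Int.ofNat 1),1⟩, ⟨6,(Int.ofNat 1),1⟩, ⟨7,(Int.ofNat 0),1⟩, ⟨165,(Int.negSucc 0),2⟩] .nil .nil) (.node 93 [⟨134,(Int.ofNat 1),1⟩] .nil .nil))))) (.node 172 [⟨203,(Int.ofNat 1),1⟩] (.node 119 [⟨160,(Int.ofNat 1),1⟩] (.node 108 [⟨151,(Int.ofNat 1),1⟩] (.node 102 [⟨145,(Int.ofNat 1),1⟩] (.node 99 [⟨141,(Int.negSucc 0),1⟩] (.node 97 [⟨139,(Int.ofNat 1),1⟩] .nil .nil) .nil) (.node 104 [⟨147,(Int.negSucc 0),1⟩] .nil .nil)) (.node 114 [⟨156,(Int.ofNat 1),1⟩] (.node 110 [⟨153,(Int.negSucc 0),1⟩] .nil .nil) (.node 116 [⟨158,(Int.negSucc 0),1⟩] .nil .nil))) (.node 131 [⟨167,(Int.negSucc 0),1⟩] (.node 126 [⟨164,(Int.negSucc 0),1⟩] (.node 121 [⟨162,(Int.negSucc 0),1⟩] .nil .nil) (.node 128 [⟨166,(Int.negSucc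 0),1⟩] .nil .nil)) (.node 170 [⟨187,(Int.ofNat 1),1⟩] (.node 133 [⟨169,(Int.ofNat 1),1⟩] .nil .nil) (.node 171 [⟨197,(Int.ofNat 1),1⟩] .nil .nil)))) (.node 190 [⟨226,(Int.negSucc 0),1⟩] (.node 179 [⟨218,(Int.negSucc 0),1⟩] (.node 176 [⟨210,(Int.ofNat 1),1⟩] (.node 174 [⟨208,(Int.negSucc 0),1⟩] .nil .nil) (.node 177 [⟨213,(Int.ofNat 1),1⟩] .nil .nil)) (.node 183 [⟨222,(Int.negSucc 0),1⟩] (.node 181 [⟨220,(Int.ofNat 1),1⟩] .nil .nil) (.node 185 [⟨224,(Int.ofNat 1),1⟩] .nil .nil))) (.node 206 [⟨232,(Int.negSucc 0),1⟩] (.node 195 [⟨229,(Int.ofNat 1),1⟩] (.node 193 [⟨227,(Int.negSucc 0),1⟩] .nil .nil) (.node 200 [⟨231,(Int.negSucc 0),1⟩] .nil .nil)) (.node 235 [⟨244,(Int.ofNat 1),1⟩] (.node 216 [⟨233,(Int.negSucc 0),1⟩] .nil .nil) (.node 237 [⟨246,(Int.negSucc 0),1⟩] .nil .nil))))))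
noncomputable def col158 : Tr Cl := (.node 95 [⟨137,(Int.negSucc 0),1⟩] (.node 31 [⟨71,(Int.ofNat 1),1⟩] (.node 8 [⟨18,(Int.ofNat 1),1⟩] (.node 4 [⟨166,(Int.negSucc 0),1⟩] (.node 2 [⟨166,(Int.ofNat 0),1⟩] (.node 1 [⟨166,(Int.ofNat 0),1⟩] (.node 0 [⟨166,(Int.ofNat 1),1⟩] .nil .nil) .nil) (.node 3 [⟨166,(Int.ofNat 0),1⟩] .nil .nil)) (.node 6 [⟨166,(Int.ofNat 0),1⟩] (.node 5 [⟨166,(Int.ofNat 1),1⟩] .nil .nil) (.node 7 [⟨166,(Int.negSucc 0),1⟩] .nil .nil))) (.node 24 [⟨56,(Int.negSucc 0),1⟩] (.node 22 [⟨40,(Int.negSucc 0),1⟩] (.node 11 [⟨21,(Int.ofNat 1),1⟩] .nil .nil) (.node 23 [⟨50,(Int.negSucc 0),1⟩] .nil .nil)) (.node 27 [⟨62,(Int.ofNat 1),1⟩] (.node 26 [⟨61,(Int.ofNat 1),1⟩] .nil .nil) (.node 29 [⟨66,(Int.negSucc 0),1⟩] .nil .nil)))) (.node 57 [⟨84,(Int.negSucc 0),1⟩] (.node 41 [⟨78,(Int.negSucc 0),1⟩] (.node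 35 [⟨75,(Int.ofNat 1),1⟩] (.node 32 [⟨72,(Int.ofNat 1),1⟩] .nil .nil) (.node 36 [⟨76,(Int.ofNat 1),1⟩] .nil .nil)) (.node 46 [⟨81,(Int.ofNat 1),1⟩] (.node 45 [⟨80,(Int.ofNat 1),1⟩] .nil .nil) (.node 51 [⟨83,(Int.negSucc 0),1⟩] .nil .nil))) (.node 89 [⟨0,(Int.ofNat 0),1⟩, ⟨1,(Int.ofNat 1),1⟩, ⟨2,(Int.ofNat 1),1⟩, ⟨3,(Int.ofNat 2),1⟩, ⟨4,(Int.ofNat 2),1⟩, ⟨5,(Int.ofNat 1),1⟩, ⟨6,(Int.ofNat 1),1⟩, ⟨7,(Int.ofNat 1),1⟩, ⟨166,(Int.negSucc 0),2⟩] (.node 86 [⟨123,(Int.ofNat 1),1⟩] (.node 67 [⟨85,(Int.negSucc 0),1⟩] .nil .nil) (.node 87 [⟨124,(Int.ofNat 1),1⟩] .nil .nil)) (.node 91 [⟨130,(Int.ofNat 1),1⟩] (.node 90 [⟨128,(Int.ofNat 1),1⟩] .nil .nil) (.node 92 [⟨134,(Int.ofNat 1),1⟩] .nil .nil))))) (.node 172 [⟨204,(Int.ofNat 1),1⟩] (.node 118 [⟨160,(Int.ofNat 1),1⟩] (.node 107 [⟨151,(Int.ofNat 1),1⟩] (.node 101 [⟨145,(Int.ofNat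 1),1⟩] (.node 99 [⟨142,(Int.negSucc 0),1⟩] (.node 96 [⟨139,(Int.ofNat 1),1⟩] .nil .nil) .nil) (.node 104 [⟨148,(Int.negSucc 0),1⟩] .nil .nil)) (.node 113 [⟨156,(Int.ofNat 1),1⟩] (.node 110 [⟨154,(Int.negSucc 0),1⟩] .nil .nil) (.node 116 [⟨159,(Int.negSucc 0),1⟩] .nil .nil))) (.node 131 [⟨168,(Int.negSucc 0),1⟩] (.node 125 [⟨164,(Int.negSucc 0),1⟩] (.node 121 [⟨163,(Int.negSucc 0),1⟩] .nil .nil) (.node 127 [⟨165,(Int.negSucc 0),1⟩] .nil .nil)) (.node 170 [⟨188,(Int.ofNat 1),1⟩] (.node 132 [⟨169,(Int.negSucc 0),1⟩] .nil .nil) (.node 171 [⟨198,(Int.ofNat 1),1⟩] .nil .nil)))) (.node 189 [⟨226,(Int.ofNat 1),1⟩] (.node 179 [⟨219,(Int.negSucc 0),1⟩] (.node 175 [⟨210,(Int.negSucc 0),1⟩] (.node 174 [⟨209,(Int.negSucc 0),1⟩] .nil .nil) (.node 177 [⟨214,(Int.ofNat 1),1⟩] .nil .nil)) (.node 183 [⟨223,(Int.negSucc 0),1⟩] (.node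 180 [⟨220,(Int.negSucc 0),1⟩] .nil .nil) (.node 184 [⟨224,(Int.negSucc 0),1⟩] .nil .nil))) (.node 205 [⟨232,(Int.ofNat 1),1⟩] (.node 194 [⟨229,(Int.negSucc 0),1⟩] (.node 193 [⟨228,(Int.negSucc 0),1⟩] .nil .nil) (.node 199 [⟨231,(Int.ofNat 1),1⟩] .nil .nil)) (.node 234 [⟨244,(Int.negSucc 0),1⟩] (.node 215 [⟨233,(Int.ofNat 1),1⟩] .nil .nil) (.node 237 [⟨247,(Int.negSucc 0),1⟩] .nil .nil))))))
noncomputable def col159 : Tr Cl := (.node 94 [⟨136,(Int.negSucc 0),1⟩] (.node 30 [⟨70,(Int.negSucc 0),1⟩] (.node 9 [⟨19,(Int.negSucc 0),1⟩] (.node 4 [⟨167,(Int.ofNat 0),1⟩] (.node 2 [⟨167,(Int.ofNat 0),1⟩] (.node 1 [⟨167,(Int.ofNat 0),1⟩] (.node 0 [⟨167,(Int.ofNat 1),1⟩] .nil .nil) .nil) (.node 3 [⟨167,(Int.ofNat 0),1⟩] .nil .nil)) (.node 6 [⟨167,(Int.ofNat 0),1⟩] (.node 5 [⟨167,(Int.negSucc 0),1⟩] .nil .nil) (.node 7 [⟨167,(Int.ofNat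 1),1⟩] .nil .nil))) (.node 24 [⟨57,(Int.negSucc 0),1⟩] (.node 22 [⟨41,(Int.negSucc 0),1⟩] (.node 10 [⟨20,(Int.negSucc 0),1⟩] .nil .nil) (.node 23 [⟨51,(Int.negSucc 0),1⟩] .nil .nil)) (.node 28 [⟨63,(Int.negSucc 0),1⟩] (.node 25 [⟨60,(Int.negSucc 0),1⟩] .nil .nil) (.node 29 [⟨67,(Int.negSucc 0),1⟩] .nil .nil)))) (.node 56 [⟨84,(Int.negSucc 0),1⟩] (.node 40 [⟨78,(Int.negSucc 0),1⟩] (.node 34 [⟨74,(Int.negSucc 0),1⟩] (.node 33 [⟨73,(Int.negSucc 0),1⟩] .nil .nil) (.node 37 [⟨77,(Int.negSucc 0),1⟩] .nil .nil)) (.node 47 [⟨82,(Int.negSucc 0),1⟩] (.node 44 [⟨79,(Int.negSucc 0),1⟩] .nil .nil) (.node 50 [⟨83,(Int.negSucc 0),1⟩] .nil .nil))) (.node 88 [⟨0,(Int.ofNat 0),1⟩, ⟨1,(Int.ofNat 1),1⟩, ⟨2,(Int.ofNat 1),1⟩, ⟨3,(Int.ofNat 2),1⟩, ⟨4,(Int.ofNat 2),1⟩, ⟨5,(Int.ofNat 2),1⟩, ⟨6,(Int.ofNat 1),1⟩, ⟨7,(Int.ofNat 0),1⟩, ⟨167,(Int.negSucc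 0),2⟩] (.node 86 [⟨125,(Int.negSucc 0),1⟩] (.node 66 [⟨85,(Int.negSucc 0),1⟩] .nil .nil) (.node 87 [⟨127,(Int.ofNat 1),1⟩] .nil .nil)) (.node 91 [⟨132,(Int.negSucc 0),1⟩] (.node 90 [⟨131,(Int.ofNat 1),1⟩] .nil .nil) (.node 93 [⟨135,(Int.ofNat 1),1⟩] .nil .nil))))) (.node 172 [⟨205,(Int.ofNat 1),1⟩] (.node 119 [⟨161,(Int.ofNat 1),1⟩] (.node 108 [⟨152,(Int.ofNat 1),1⟩] (.node 102 [⟨146,(Int.ofNat 1),1⟩] (.node 98 [⟨141,(Int.negSucc 0),1⟩] (.node 97 [⟨140,(Int.ofNat 1),1⟩] .nil .nil) .nil) (.node 103 [⟨147,(Int.negSucc 0),1⟩] .nil .nil)) (.node 114 [⟨157,(Int.ofNat 1),1⟩] (.node 109 [⟨153,(Int.negSucc 0),1⟩] .nil .nil) (.node 115 [⟨158,(Int.negSucc 0),1⟩] .nil .nil))) (.node 128 [⟨168,(Int.negSucc 0),1⟩] (.node 123 [⟨164,(Int.ofNat 1),1⟩] (.node 120 [⟨162,(Int.negSucc 0),1⟩] .nil .nil) (.node 124 [⟨165,(Int.negSucc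 0),1⟩] .nil .nil)) (.node 170 [⟨189,(Int.ofNat 1),1⟩] (.node 130 [⟨169,(Int.ofNat 1),1⟩] .nil .nil) (.node 171 [⟨199,(Int.ofNat 1),1⟩] .nil .nil)))) (.node 188 [⟨226,(Int.ofNat 1),1⟩] (.node 178 [⟨218,(Int.ofNat 1),1⟩] (.node 176 [⟨211,(Int.ofNat 1),1⟩] (.node 173 [⟨208,(Int.ofNat 1),1⟩] .nil .nil) (.node 177 [⟨215,(Int.ofNat 1),1⟩] .nil .nil)) (.node 182 [⟨222,(Int.ofNat 1),1⟩] (.node 181 [⟨221,(Int.ofNat 1),1⟩] .nil .nil) (.node 185 [⟨225,(Int.ofNat 1),1⟩] .nil .nil))) (.node 204 [⟨232,(Int.ofNat 1),1⟩] (.node 195 [⟨230,(Int.ofNat 1),1⟩] (.node 192 [⟨227,(Int.ofNat 1),1⟩] .nil .nil) (.node 198 [⟨231,(Int.ofNat 1),1⟩] .nil .nil)) (.node 235 [⟨245,(Int.ofNat 1),1⟩] (.node 214 [⟨233,(Int.ofNat 1),1⟩] .nil .nil) (.node 236 [⟨246,(Int.ofNat 1),1⟩] .nil .nil))))))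
noncomputable def col160 : Tr Cl := (.node 94 [⟨137,(Int.negSucc 0),1⟩] (.node 30 [⟨71,(Int.ofNat 1),1⟩] (.node 8 [⟨19,(Int.negSucc 0),1⟩] (.node 4 [⟨168,(Int.ofNat 0),1⟩] (.node 2 [⟨168,(Int.ofNat 0),1⟩] (.node 1 [⟨168,(Int.ofNat 0),1⟩] (.node 0 [⟨168,(Int.ofNat 1),1⟩] .nil .nil) .nil) (.node 3 [⟨168,(Int.ofNat 0),1⟩] .nil .nil)) (.node 6 [⟨168,(Int.ofNat 1),1⟩] (.node 5 [⟨168,(Int.negSucc 0),1⟩] .nil .nil) (.node 7 [⟨168,(Int.negSucc 0),1⟩] .nil .nil))) (.node 24 [⟨58,(Int.ofNat 1),1⟩] (.node 22 [⟨42,(Int.ofNat 1),1⟩] (.node 10 [⟨21,(Int.ofNat 1),1⟩] .nil .nil) (.node 23 [⟨52,(Int.ofNat 1),1⟩] .nil .nil)) (.node 27 [⟨63,(Int.negSucc 0),1⟩] (.node 25 [⟨61,(Int.ofNat 1),1⟩] .nil .nil) (.node 29 [⟨68,(Int.ofNat 1),1⟩] .nil .nil)))) (.node 55 [⟨84,(Int.negSucc 0),1⟩] (.node 39 [⟨78,(Int.negSucc 0),1⟩] (.node 34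 [⟨75,(Int.ofNat 1),1⟩] (.node 32 [⟨73,(Int.negSucc 0),1⟩] .nil .nil) (.node 36 [⟨77,(Int.negSucc 0),1⟩] .nil .nil)) (.node 46 [⟨82,(Int.negSucc 0),1⟩] (.node 44 [⟨80,(Int.ofNat 1),1⟩] .nil .nil) (.node 49 [⟨83,(Int.negSucc 0),1⟩] .nil .nil))) (.node 88 [⟨128,(Int.ofNat 1),1⟩] (.node 86 [⟨126,(Int.ofNat 1),1⟩] (.node 65 [⟨85,(Int.negSucc 0),1⟩] .nil .nil) (.node 87 [⟨0,(Int.ofNat 0),1⟩, ⟨1,(Int.ofNat 1),1⟩, ⟨2,(Int.ofNat 1),1⟩, ⟨3,(Int.ofNat 2),1⟩, ⟨4,(Int.ofNat 2),1⟩, ⟨5,(Int.ofNat 2),1⟩, ⟨6,(Int.ofNat 1),1⟩, ⟨7,(Int.ofNat 1),1⟩, ⟨168,(Int.negSucc 0),2⟩] .nil .nil)) (.node 91 [⟨133,(Int.negSucc 0),1⟩] (.node 89 [⟨131,(Int.ofNat 1),1⟩] .nil .nil) (.node 92 [⟨135,(Int.ofNat 1),1⟩] .nil .nil))))) (.node 172 [⟨206,(Int.ofNat 1),1⟩] (.node 118 [⟨161,(Int.ofNat 1),1⟩] (.node 107 [⟨152,(Int.ofNat 1),1⟩] (.node 101 [⟨146,(Int.ofNat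 1),1⟩] (.node 98 [⟨142,(Int.negSucc 0),1⟩] (.node 96 [⟨140,(Int.ofNat 1),1⟩] .nil .nil) .nil) (.node 103 [⟨148,(Int.negSucc 0),1⟩] .nil .nil)) (.node 113 [⟨157,(Int.ofNat 1),1⟩] (.node 109 [⟨154,(Int.negSucc 0),1⟩] .nil .nil) (.node 115 [⟨159,(Int.negSucc 0),1⟩] .nil .nil))) (.node 127 [⟨167,(Int.negSucc 0),1⟩] (.node 122 [⟨164,(Int.ofNat 1),1⟩] (.node 120 [⟨163,(Int.negSucc 0),1⟩] .nil .nil) (.node 124 [⟨166,(Int.negSucc 0),1⟩] .nil .nil)) (.node 170 [⟨190,(Int.ofNat 1),1⟩] (.node 129 [⟨169,(Int.negSucc 0),1⟩] .nil .nil) (.node 171 [⟨200,(Int.ofNat 1),1⟩] .nil .nil)))) (.node 187 [⟨226,(Int.negSucc 0),1⟩] (.node 178 [⟨219,(Int.ofNat 1),1⟩] (.node 175 [⟨211,(Int.negSucc 0),1⟩] (.node 173 [⟨209,(Int.ofNat 1),1⟩] .nil .nil) (.node 177 [⟨216,(Int.ofNat 1),1⟩] .nil .nil)) (.node 182 [⟨223,(Int.ofNat 1),1⟩] (.node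 180 [⟨221,(Int.negSucc 0),1⟩] .nil .nil) (.node 184 [⟨225,(Int.negSucc 0),1⟩] .nil .nil))) (.node 203 [⟨232,(Int.negSucc 0),1⟩] (.node 194 [⟨230,(Int.negSucc 0),1⟩] (.node 192 [⟨228,(Int.ofNat 1),1⟩] .nil .nil) (.node 197 [⟨231,(Int.negSucc 0),1⟩] .nil .nil)) (.node 234 [⟨245,(Int.negSucc 0),1⟩] (.node 213 [⟨233,(Int.negSucc 0),1⟩] .nil .nil) (.node 236 [⟨247,(Int.ofNat 1),1⟩] .nil .nil))))))
noncomputable def col161 : Tr Cl := (.node 93 [⟨137,(Int.negSucc 0),1⟩] (.node 30 [⟨72,(Int.negSucc 0),1⟩] (.node 8 [⟨20,(Int.ofNat 1),1⟩] (.node 4 [⟨169,(Int.ofNat 0),1⟩] (.node 2 [⟨169,(Int.ofNat 0),1⟩] (.node 1 [⟨169,(Int.ofNat 0),1⟩] (.node 0 [⟨169,(Int.ofNat 1),1⟩] .nil .nil) .nil) (.node 3 [⟨169,(Int.ofNat 0),1⟩] .nil .nil)) (.node 6 [⟨169,(Int.negSucc 0),1⟩] (.node 5 [⟨169,(Int.ofNat 0),1⟩] .nil .nil) (.node 7 [⟨169,(Int.ofNat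 0),1⟩] .nil .nil))) (.node 24 [⟨59,(Int.negSucc 0),1⟩] (.node 22 [⟨43,(Int.negSucc 0),1⟩] (.node 9 [⟨21,(Int.ofNat 1),1⟩] .nil .nil) (.node 23 [⟨53,(Int.negSucc 0),1⟩] .nil .nil)) (.node 26 [⟨63,(Int.negSucc 0),1⟩] (.node 25 [⟨62,(Int.negSucc 0),1⟩] .nil .nil) (.node 29 [⟨69,(Int.negSucc 0),1⟩] .nil .nil)))) (.node 54 [⟨84,(Int.negSucc 0),1⟩] (.node 38 [⟨78,(Int.negSucc 0),1⟩] (.node 34 [⟨76,(Int.negSucc 0),1⟩] (.node 31 [⟨73,(Int.negSucc 0),1⟩] .nil .nil) (.node 35 [⟨77,(Int.negSucc 0),1⟩] .nil .nil)) (.node 45 [⟨82,(Int.negSucc 0),1⟩] (.node 44 [⟨81,(Int.negSucc 0),1⟩] .nil .nil) (.node 48 [⟨83,(Int.negSucc 0),1⟩] .nil .nil))) (.node 88 [⟨130,(Int.negSucc 0),1⟩] (.node 86 [⟨0,(Int.ofNat 0),1⟩, ⟨1,(Int.ofNat 1),1⟩, ⟨2,(Int.ofNat 1),1⟩, ⟨3,(Int.ofNat 2),1⟩, ⟨4,(Int.ofNat 2),1⟩, ⟨5,(Int.ofNat 2),1⟩, ⟨6,(Int.ofNat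 2),1⟩, ⟨7,(Int.ofNat 1),1⟩, ⟨169,(Int.negSucc 0),2⟩] (.node 64 [⟨85,(Int.negSucc 0),1⟩] .nil .nil) (.node 87 [⟨129,(Int.ofNat 1),1⟩] .nil .nil)) (.node 90 [⟨133,(Int.negSucc 0),1⟩] (.node 89 [⟨132,(Int.ofNat 1),1⟩] .nil .nil) (.node 92 [⟨136,(Int.ofNat 1),1⟩] .nil .nil))))) (.node 172 [⟨207,(Int.ofNat 1),1⟩] (.node 118 [⟨162,(Int.ofNat 1),1⟩] (.node 107 [⟨153,(Int.ofNat 1),1⟩] (.node 101 [⟨147,(Int.ofNat 1),1⟩] (.node 97 [⟨142,(Int.negSucc 0),1⟩] (.node 96 [⟨141,(Int.ofNat 1),1⟩] .nil .nil) .nil) (.node 102 [⟨148,(Int.negSucc 0),1⟩] .nil .nil)) (.node 113 [⟨158,(Int.ofNat 1),1⟩] (.node 108 [⟨154,(Int.negSucc 0),1⟩] .nil .nil) (.node 114 [⟨159,(Int.negSucc 0),1⟩] .nil .nil))) (.node 125 [⟨167,(Int.ofNat 1),1⟩] (.node 122 [⟨165,(Int.ofNat 1),1⟩] (.node 119 [⟨163,(Int.negSucc 0),1⟩] .nil .nil) (.node 123 [⟨166,(Int.negSucc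 0),1⟩] .nil .nil)) (.node 170 [⟨191,(Int.ofNat 1),1⟩] (.node 126 [⟨168,(Int.negSucc 0),1⟩] .nil .nil) (.node 171 [⟨201,(Int.ofNat 1),1⟩] .nil .nil)))) (.node 186 [⟨226,(Int.ofNat 1),1⟩] (.node 178 [⟨220,(Int.ofNat 1),1⟩] (.node 174 [⟨211,(Int.ofNat 1),1⟩] (.node 173 [⟨210,(Int.ofNat 1),1⟩] .nil .nil) (.node 177 [⟨217,(Int.ofNat 1),1⟩] .nil .nil)) (.node 182 [⟨224,(Int.ofNat 1),1⟩] (.node 179 [⟨221,(Int.ofNat 1),1⟩] .nil .nil) (.node 183 [⟨225,(Int.ofNat 1),1⟩] .nil .nil))) (.node 202 [⟨232,(Int.ofNat 1),1⟩] (.node 193 [⟨230,(Int.ofNat 1),1⟩] (.node 192 [⟨229,(Int.ofNat 1),1⟩] .nil .nil) (.node 196 [⟨231,(Int.ofNat 1),1⟩] .nil .nil)) (.node 234 [⟨246,(Int.negSucc 0),1⟩] (.node 212 [⟨233,(Int.ofNat 1),1⟩] .nil .nil) (.node 235 [⟨247,(Int.negSucc 0),1⟩] .nil .nil))))))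
noncomputable def col162 : Tr Cl := (.node 81 [⟨109,(Int.ofNat 1),1⟩] (.node 65 [⟨87,(Int.ofNat 1),1⟩] (.node 14 [⟨22,(Int.negSucc 0),1⟩] (.node 4 [⟨170,(Int.ofNat 0),1⟩] (.node 2 [⟨170,(Int.ofNat 1),1⟩] (.node 1 [⟨170,(Int.ofNat 0),1⟩] (.node 0 [⟨170,(Int.negSucc 1),1⟩] .nil .nil) .nil) (.node 3 [⟨170,(Int.ofNat 0),1⟩] .nil .nil)) (.node 6 [⟨170,(Int.ofNat 0),1⟩] (.node 5 [⟨170,(Int.ofNat 0),1⟩] .nil .nil) (.node 7 [⟨170,(Int.ofNat 0),1⟩] .nil .nil))) (.node 19 [⟨26,(Int.negSucc 0),1⟩] (.node 17 [⟨24,(Int.negSucc 0),1⟩] (.node 16 [⟨23,(Int.negSucc 0),1⟩] .nil .nil) (.node 18 [⟨25,(Int.negSucc 0),1⟩] .nil .nil)) (.node 21 [⟨28,(Int.negSucc 0),1⟩] (.node 20 [⟨27,(Int.negSucc 0),1⟩] .nil .nil) (.node 64 [⟨86,(Int.ofNat 1),1⟩] .nil .nil)))) (.node 73 [⟨95,(Int.ofNat 1),1⟩] (.node 69 [⟨91,(Int.ofNat 1),1⟩] (.node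 67 [⟨89,(Int.ofNat 1),1⟩] (.node 66 [⟨88,(Int.ofNat 1),1⟩] .nil .nil) (.node 68 [⟨90,(Int.ofNat 1),1⟩] .nil .nil)) (.node 71 [⟨93,(Int.ofNat 1),1⟩] (.node 70 [⟨92,(Int.ofNat 1),1⟩] .nil .nil) (.node 72 [⟨94,(Int.ofNat 1),1⟩] .nil .nil))) (.node 77 [⟨99,(Int.ofNat 1),1⟩] (.node 75 [⟨97,(Int.ofNat 1),1⟩] (.node 74 [⟨96,(Int.ofNat 1),1⟩] .nil .nil) (.node 76 [⟨98,(Int.ofNat 1),1⟩] .nil .nil)) (.node 79 [⟨107,(Int.ofNat 1),1⟩] (.node 78 [⟨100,(Int.ofNat 1),1⟩] .nil .nil) (.node 80 [⟨108,(Int.ofNat 1),1⟩] .nil .nil))))) (.node 161 [⟨183,(Int.negSucc 0),1⟩] (.node 147 [⟨175,(Int.negSucc 0),1⟩] (.node 143 [⟨171,(Int.negSucc 0),1⟩] (.node 84 [⟨112,(Int.ofNat 1),1⟩] (.node 83 [⟨111,(Int.ofNat 1),1⟩] (.node 82 [⟨110,(Int.ofNat 1),1⟩] .nil .nil) .nil) (.node 85 [⟨0,(Int.ofNat 1),1⟩, ⟨1,(Int.ofNat 0),1⟩, ⟨2,(Int.ofNat 0),1⟩,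 ⟨3,(Int.ofNat 0),1⟩, ⟨4,(Int.ofNat 0),1⟩, ⟨5,(Int.ofNat 0),1⟩, ⟨6,(Int.ofNat 0),1⟩, ⟨7,(Int.ofNat 0),1⟩, ⟨170,(Int.negSucc 0),2⟩] .nil .nil)) (.node 145 [⟨173,(Int.negSucc 0),1⟩] (.node 144 [⟨172,(Int.negSucc 0),1⟩] .nil .nil) (.node 146 [⟨174,(Int.negSucc 0),1⟩] .nil .nil))) (.node 157 [⟨179,(Int.negSucc 0),1⟩] (.node 155 [⟨177,(Int.negSucc 0),1⟩] (.node 148 [⟨176,(Int.negSucc 0),1⟩] .nil .nil) (.node 156 [⟨178,(Int.negSucc 0),1⟩] .nil .nil)) (.node 159 [⟨181,(Int.negSucc 0),1⟩] (.node 158 [⟨180,(Int.negSucc 0),1⟩] .nil .nil) (.node 160 [⟨182,(Int.negSucc 0),1⟩] .nil .nil)))) (.node 169 [⟨191,(Int.negSucc 0),1⟩] (.node 165 [⟨187,(Int.negSucc 0),1⟩] (.node 163 [⟨185,(Int.negSucc 0),1⟩] (.node 162 [⟨184,(Int.negSucc 0),1⟩] .nil .nil) (.node 164 [⟨186,(Int.negSucc 0),1⟩] .nil .nil)) (.node 167 [⟨189,(Int.negSucc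 0),1⟩] (.node 166 [⟨188,(Int.negSucc 0),1⟩] .nil .nil) (.node 168 [⟨190,(Int.negSucc 0),1⟩] .nil .nil))) (.node 230 [⟨237,(Int.ofNat 1),1⟩] (.node 228 [⟨235,(Int.ofNat 1),1⟩] (.node 227 [⟨234,(Int.ofNat 1),1⟩] .nil .nil) (.node 229 [⟨236,(Int.ofNat 1),1⟩] .nil .nil)) (.node 232 [⟨239,(Int.ofNat 1),1⟩] (.node 231 [⟨238,(Int.ofNat 1),1⟩] .nil .nil) (.node 233 [⟨241,(Int.ofNat 1),1⟩] .nil .nil))))))
noncomputable def col163 : Tr Cl := (.node 81 [⟨115,(Int.ofNat 1),1⟩] (.node 55 [⟨87,(Int.ofNat 1),1⟩] (.node 13 [⟨22,(Int.negSucc 0),1⟩] (.node 4 [⟨171,(Int.ofNat 0),1⟩] (.node 2 [⟨171,(Int.negSucc 0),1⟩] (.node 1 [⟨171,(Int.ofNat 0),1⟩] (.node 0 [⟨171,(Int.negSucc 0),1⟩] .nil .nil) .nil) (.node 3 [⟨171,(Int.ofNat 1),1⟩] .nil .nil)) (.node 6 [⟨171,(Int.ofNat 0),1⟩] (.node 5 [⟨171,(Int.ofNat 0),1⟩] .nil .nil) (.node 7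 [⟨171,(Int.ofNat 0),1⟩] .nil .nil))) (.node 19 [⟨31,(Int.ofNat 1),1⟩] (.node 17 [⟨29,(Int.ofNat 1),1⟩] (.node 15 [⟨23,(Int.negSucc 0),1⟩] .nil .nil) (.node 18 [⟨30,(Int.ofNat 1),1⟩] .nil .nil)) (.node 21 [⟨33,(Int.ofNat 1),1⟩] (.node 20 [⟨32,(Int.ofNat 1),1⟩] .nil .nil) (.node 54 [⟨86,(Int.ofNat 1),1⟩] .nil .nil)))) (.node 63 [⟨95,(Int.ofNat 1),1⟩] (.node 59 [⟨91,(Int.ofNat 1),1⟩] (.node 57 [⟨89,(Int.ofNat 1),1⟩] (.node 56 [⟨88,(Int.ofNat 1),1⟩] .nil .nil) (.node 58 [⟨90,(Int.ofNat 1),1⟩] .nil .nil)) (.node 61 [⟨93,(Int.ofNat 1),1⟩] (.node 60 [⟨92,(Int.ofNat 1),1⟩] .nil .nil) (.node 62 [⟨94,(Int.ofNat 1),1⟩] .nil .nil))) (.node 77 [⟨104,(Int.negSucc 0),1⟩] (.node 75 [⟨102,(Int.negSucc 0),1⟩] (.node 74 [⟨101,(Int.negSucc 0),1⟩] .nil .nil) (.node 76 [⟨103,(Int.negSucc 0),1⟩] .nil .nil)) (.node 79 [⟨113,(Int.ofNat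 1),1⟩] (.node 78 [⟨105,(Int.negSucc 0),1⟩] .nil .nil) (.node 80 [⟨114,(Int.ofNat 1),1⟩] .nil .nil))))) (.node 161 [⟨193,(Int.negSucc 0),1⟩] (.node 141 [⟨175,(Int.negSucc 0),1⟩] (.node 112 [⟨170,(Int.negSucc 0),1⟩] (.node 84 [⟨0,(Int.ofNat 1),1⟩, ⟨1,(Int.ofNat 0),1⟩, ⟨2,(Int.ofNat 1),1⟩, ⟨3,(Int.ofNat 0),1⟩, ⟨4,(Int.ofNat 0),1⟩, ⟨5,(Int.ofNat 0),1⟩, ⟨6,(Int.ofNat 0),1⟩, ⟨7,(Int.ofNat 0),1⟩, ⟨171,(Int.negSucc 0),2⟩] (.node 83 [⟨117,(Int.ofNat 1),1⟩] (.node 82 [⟨116,(Int.ofNat 1),1⟩] .nil .nil) .nil) (.node 85 [⟨143,(Int.ofNat 1),1⟩] .nil .nil)) (.node 139 [⟨173,(Int.negSucc 0),1⟩] (.node 138 [⟨172,(Int.negSucc 0),1⟩] .nil .nil) (.node 140 [⟨174,(Int.negSucc 0),1⟩] .nil .nil))) (.node 152 [⟨179,(Int.ofNat 1),1⟩] (.node 150 [⟨177,(Int.ofNat 1),1⟩] (.node 142 [⟨176,(Int.negSucc 0),1⟩] .nil .nil) (.node 151 [⟨178,(Int.ofNat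 1),1⟩] .nil .nil)) (.node 154 [⟨181,(Int.ofNat 1),1⟩] (.node 153 [⟨180,(Int.ofNat 1),1⟩] .nil .nil) (.node 160 [⟨192,(Int.negSucc 0),1⟩] .nil .nil)))) (.node 169 [⟨201,(Int.negSucc 0),1⟩] (.node 165 [⟨197,(Int.negSucc 0),1⟩] (.node 163 [⟨195,(Int.negSucc 0),1⟩] (.node 162 [⟨194,(Int.negSucc 0),1⟩] .nil .nil) (.node 164 [⟨196,(Int.negSucc 0),1⟩] .nil .nil)) (.node 167 [⟨199,(Int.negSucc 0),1⟩] (.node 166 [⟨198,(Int.negSucc 0),1⟩] .nil .nil) (.node 168 [⟨200,(Int.negSucc 0),1⟩] .nil .nil))) (.node 225 [⟨237,(Int.negSucc 0),1⟩] (.node 223 [⟨235,(Int.negSucc 0),1⟩] (.node 222 [⟨234,(Int.negSucc 0),1⟩] .nil .nil) (.node 224 [⟨236,(Int.negSucc 0),1⟩] .nil .nil)) (.node 232 [⟨240,(Int.ofNat 1),1⟩] (.node 226 [⟨238,(Int.negSucc 0),1⟩] .nil .nil) (.node 233 [⟨242,(Int.ofNat 1),1⟩] .nil .nil))))))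
noncomputable def col164 : Tr Cl := (.node 81 [⟨120,(Int.ofNat 1),1⟩] (.node 49 [⟨87,(Int.ofNat 1),1⟩] (.node 12 [⟨22,(Int.negSucc 0),1⟩] (.node 4 [⟨172,(Int.ofNat 1),1⟩] (.node 2 [⟨172,(Int.ofNat 0),1⟩] (.node 1 [⟨172,(Int.ofNat 1),1⟩] (.node 0 [⟨172,(Int.negSucc 0),1⟩] .nil .nil) .nil) (.node 3 [⟨172,(Int.negSucc 0),1⟩] .nil .nil)) (.node 6 [⟨172,(Int.ofNat 0),1⟩] (.node 5 [⟨172,(Int.ofNat 0),1⟩] .nil .nil) (.node 7 [⟨172,(Int.ofNat 0),1⟩] .nil .nil))) (.node 19 [⟨35,(Int.negSucc 0),1⟩] (.node 16 [⟨29,(Int.ofNat 1),1⟩] (.node 15 [⟨24,(Int.ofNat 1),1⟩] .nil .nil) (.node 18 [⟨34,(Int.negSucc 0),1⟩] .nil .nil)) (.node 21 [⟨37,(Int.negSucc 0),1⟩] (.node 20 [⟨36,(Int.negSucc 0),1⟩] .nil .nil) (.node 48 [⟨86,(Int.ofNat 1),1⟩] .nil .nil)))) (.node 63 [⟨99,(Int.negSucc 0),1⟩] (.node 53 [⟨91,(Int.ofNat 1),1⟩] (.node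 51 [⟨89,(Int.ofNat 1),1⟩] (.node 50 [⟨88,(Int.ofNat 1),1⟩] .nil .nil) (.node 52 [⟨90,(Int.ofNat 1),1⟩] .nil .nil)) (.node 61 [⟨97,(Int.negSucc 0),1⟩] (.node 60 [⟨96,(Int.negSucc 0),1⟩] .nil .nil) (.node 62 [⟨98,(Int.negSucc 0),1⟩] .nil .nil))) (.node 73 [⟨104,(Int.negSucc 0),1⟩] (.node 71 [⟨102,(Int.negSucc 0),1⟩] (.node 70 [⟨101,(Int.negSucc 0),1⟩] .nil .nil) (.node 72 [⟨103,(Int.negSucc 0),1⟩] .nil .nil)) (.node 79 [⟨118,(Int.ofNat 1),1⟩] (.node 78 [⟨106,(Int.ofNat 1),1⟩] .nil .nil) (.node 80 [⟨119,(Int.ofNat 1),1⟩] .nil .nil))))) (.node 157 [⟨193,(Int.ofNat 1),1⟩] (.node 136 [⟨175,(Int.negSucc 0),1⟩] (.node 111 [⟨170,(Int.negSucc 0),1⟩] (.node 84 [⟨138,(Int.ofNat 1),1⟩] (.node 83 [⟨0,(Int.ofNat 1),1⟩, ⟨1,(Int.ofNat 0),1⟩, ⟨2,(Int.ofNat 1),1⟩, ⟨3,(Int.ofNat 1),1⟩, ⟨4,(Int.ofNat 0),1⟩, ⟨5,(Int.ofNat 0),1⟩, ⟨6,(Int.ofNat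 0),1⟩, ⟨7,(Int.ofNat 0),1⟩, ⟨172,(Int.negSucc 0),2⟩] (.node 82 [⟨121,(Int.ofNat 1),1⟩] .nil .nil) .nil) (.node 85 [⟨144,(Int.ofNat 1),1⟩] .nil .nil)) (.node 134 [⟨173,(Int.negSucc 0),1⟩] (.node 117 [⟨171,(Int.negSucc 0),1⟩] .nil .nil) (.node 135 [⟨174,(Int.negSucc 0),1⟩] .nil .nil))) (.node 152 [⟨183,(Int.ofNat 1),1⟩] (.node 149 [⟨177,(Int.negSucc 0),1⟩] (.node 137 [⟨176,(Int.negSucc 0),1⟩] .nil .nil) (.node 151 [⟨182,(Int.ofNat 1),1⟩] .nil .nil)) (.node 154 [⟨185,(Int.ofNat 1),1⟩] (.node 153 [⟨184,(Int.ofNat 1),1⟩] .nil .nil) (.node 156 [⟨192,(Int.ofNat 1),1⟩] .nil .nil)))) (.node 169 [⟨207,(Int.negSucc 0),1⟩] (.node 165 [⟨203,(Int.negSucc 0),1⟩] (.node 159 [⟨195,(Int.ofNat 1),1⟩] (.node 158 [⟨194,(Int.ofNat 1),1⟩] .nil .nil) (.node 164 [⟨202,(Int.negSucc 0),1⟩] .nil .nil)) (.node 167 [⟨205,(Int.negSucc 0),1⟩]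 (.node 166 [⟨204,(Int.negSucc 0),1⟩] .nil .nil) (.node 168 [⟨206,(Int.negSucc 0),1⟩] .nil .nil))) (.node 221 [⟨237,(Int.ofNat 1),1⟩] (.node 219 [⟨235,(Int.ofNat 1),1⟩] (.node 218 [⟨234,(Int.ofNat 1),1⟩] .nil .nil) (.node 220 [⟨236,(Int.ofNat 1),1⟩] .nil .nil)) (.node 231 [⟨240,(Int.negSucc 0),1⟩] (.node 226 [⟨239,(Int.negSucc 0),1⟩] .nil .nil) (.node 233 [⟨243,(Int.ofNat 1),1⟩] .nil .nil))))))
noncomputable def col165 : Tr Cl := (.node 81 [⟨124,(Int.ofNat 1),1⟩] (.node 46 [⟨87,(Int.ofNat 1),1⟩] (.node 11 [⟨22,(Int.negSucc 0),1⟩] (.node 4 [⟨173,(Int.negSucc 0),1⟩] (.node 2 [⟨173,(Int.ofNat 0),1⟩] (.node 1 [⟨173,(Int.ofNat 1),1⟩] (.node 0 [⟨173,(Int.negSucc 0),1⟩] .nil .nil) .nil) (.node 3 [⟨173,(Int.ofNat 0),1⟩] .nil .nil)) (.node 6 [⟨173,(Int.ofNat 0),1⟩] (.node 5 [⟨173,(Int.ofNat 1),1⟩] .nil .nil) (.node 7 [⟨173,(Int.ofNat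 0),1⟩] .nil .nil))) (.node 19 [⟨38,(Int.ofNat 1),1⟩] (.node 16 [⟨30,(Int.negSucc 0),1⟩] (.node 15 [⟨25,(Int.negSucc 0),1⟩] .nil .nil) (.node 17 [⟨34,(Int.negSucc 0),1⟩] .nil .nil)) (.node 21 [⟨40,(Int.ofNat 1),1⟩] (.node 20 [⟨39,(Int.ofNat 1),1⟩] .nil .nil) (.node 45 [⟨86,(Int.ofNat 1),1⟩] .nil .nil)))) (.node 63 [⟨100,(Int.ofNat 1),1⟩] (.node 53 [⟨94,(Int.negSucc 0),1⟩] (.node 51 [⟨92,(Int.negSucc 0),1⟩] (.node 47 [⟨88,(Int.ofNat 1),1⟩] .nil .nil) (.node 52 [⟨93,(Int.negSucc 0),1⟩] .nil .nil)) (.node 58 [⟨97,(Int.negSucc 0),1⟩] (.node 57 [⟨96,(Int.negSucc 0),1⟩] .nil .nil) (.node 59 [⟨98,(Int.negSucc 0),1⟩] .nil .nil))) (.node 73 [⟨105,(Int.ofNat 1),1⟩] (.node 68 [⟨102,(Int.negSucc 0),1⟩] (.node 67 [⟨101,(Int.negSucc 0),1⟩] .nil .nil) (.node 69 [⟨103,(Int.negSucc 0),1⟩] .nil .nil)) (.node 79 [⟨122,(Int.ofNat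 1),1⟩] (.node 77 [⟨106,(Int.ofNat 1),1⟩] .nil .nil) (.node 80 [⟨123,(Int.ofNat 1),1⟩] .nil .nil))))) (.node 157 [⟨196,(Int.ofNat 1),1⟩] (.node 132 [⟨175,(Int.negSucc 0),1⟩] (.node 110 [⟨170,(Int.negSucc 0),1⟩] (.node 84 [⟨139,(Int.ofNat 1),1⟩] (.node 83 [⟨134,(Int.ofNat 1),1⟩] (.node 82 [⟨0,(Int.ofNat 1),1⟩, ⟨1,(Int.ofNat 0),1⟩, ⟨2,(Int.ofNat 1),1⟩, ⟨3,(Int.ofNat 1),1⟩, ⟨4,(Int.ofNat 1),1⟩, ⟨5,(Int.ofNat 0),1⟩, ⟨6,(Int.ofNat 0),1⟩, ⟨7,(Int.ofNat 0),1⟩, ⟨173,(Int.negSucc 0),2⟩] .nil .nil) .nil) (.node 85 [⟨145,(Int.ofNat 1),1⟩] .nil .nil)) (.node 121 [⟨172,(Int.negSucc 0),1⟩] (.node 116 [⟨171,(Int.negSucc 0),1⟩] .nil .nil) (.node 131 [⟨174,(Int.negSucc 0),1⟩] .nil .nil))) (.node 152 [⟨186,(Int.ofNat 1),1⟩] (.node 149 [⟨178,(Int.negSucc 0),1⟩] (.node 133 [⟨176,(Int.negSucc 0),1⟩] .nil .nil) (.node 150 [⟨182,(Int.negSucc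 0),1⟩] .nil .nil)) (.node 154 [⟨188,(Int.ofNat 1),1⟩] (.node 153 [⟨187,(Int.ofNat 1),1⟩] .nil .nil) (.node 155 [⟨192,(Int.negSucc 0),1⟩] .nil .nil)))) (.node 169 [⟨210,(Int.negSucc 0),1⟩] (.node 162 [⟨203,(Int.ofNat 1),1⟩] (.node 159 [⟨198,(Int.ofNat 1),1⟩] (.node 158 [⟨197,(Int.ofNat 1),1⟩] .nil .nil) (.node 161 [⟨202,(Int.ofNat 1),1⟩] .nil .nil)) (.node 167 [⟨208,(Int.negSucc 0),1⟩] (.node 163 [⟨204,(Int.ofNat 1),1⟩] .nil .nil) (.node 168 [⟨209,(Int.negSucc 0),1⟩] .nil .nil))) (.node 221 [⟨238,(Int.ofNat 1),1⟩] (.node 216 [⟨235,(Int.negSucc 0),1⟩] (.node 215 [⟨234,(Int.negSucc 0),1⟩] .nil .nil) (.node 217 [⟨236,(Int.negSucc 0),1⟩] .nil .nil)) (.node 230 [⟨240,(Int.ofNat 1),1⟩] (.node 225 [⟨239,(Int.ofNat 1),1⟩] .nil .nil) (.node 233 [⟨244,(Int.ofNat 1),1⟩] .nil .nil))))))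
noncomputable def col166 : Tr Cl := (.node 81 [⟨0,(Int.ofNat 1),1⟩, ⟨1,(Int.ofNat 0),1⟩, ⟨2,(Int.ofNat 1),1⟩, ⟨3,(Int.ofNat 1),1⟩, ⟨4,(Int.ofNat 1),1⟩, ⟨5,(Int.ofNat 1),1⟩, ⟨6,(Int.ofNat 0),1⟩, ⟨7,(Int.ofNat 0),1⟩, ⟨174,(Int.negSucc 0),2⟩] (.node 46 [⟨89,(Int.negSucc 0),1⟩] (.node 10 [⟨22,(Int.negSucc 0),1⟩] (.node 4 [⟨174,(Int.ofNat 0),1⟩] (.node 2 [⟨174,(Int.ofNat 0),1⟩] (.node 1 [⟨174,(Int.ofNat 1),1⟩] (.node 0 [⟨174,(Int.negSucc 0),1⟩] .nil .nil) .nil) (.node 3 [⟨174,(Int.ofNat 0),1⟩] .nil .nil)) (.node 6 [⟨174,(Int.ofNat 1),1⟩] (.node 5 [⟨174,(Int.negSucc 0),1⟩] .nil .nil) (.node 7 [⟨174,(Int.ofNat 0),1⟩] .nil .nil))) (.node 18 [⟨38,(Int.ofNat 1),1⟩] (.node 16 [⟨31,(Int.ofNat 1),1⟩] (.node 15 [⟨26,(Int.ofNat 1),1⟩] .nil .nil) (.node 17 [⟨35,(Int.ofNat 1),1⟩] .nil .nil)) (.node 21 [⟨42,(Int.negSucc 0),1⟩]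 (.node 20 [⟨41,(Int.negSucc 0),1⟩] .nil .nil) (.node 44 [⟨86,(Int.ofNat 1),1⟩] .nil .nil)))) (.node 62 [⟨100,(Int.ofNat 1),1⟩] (.node 53 [⟨95,(Int.ofNat 1),1⟩] (.node 49 [⟨92,(Int.negSucc 0),1⟩] (.node 47 [⟨90,(Int.negSucc 0),1⟩] .nil .nil) (.node 50 [⟨93,(Int.negSucc 0),1⟩] .nil .nil)) (.node 56 [⟨97,(Int.negSucc 0),1⟩] (.node 55 [⟨96,(Int.negSucc 0),1⟩] .nil .nil) (.node 59 [⟨99,(Int.ofNat 1),1⟩] .nil .nil))) (.node 72 [⟨105,(Int.ofNat 1),1⟩] (.node 66 [⟨102,(Int.negSucc 0),1⟩] (.node 65 [⟨101,(Int.negSucc 0),1⟩] .nil .nil) (.node 69 [⟨104,(Int.ofNat 1),1⟩] .nil .nil)) (.node 79 [⟨125,(Int.ofNat 1),1⟩] (.node 76 [⟨106,(Int.ofNat 1),1⟩] .nil .nil) (.node 80 [⟨126,(Int.ofNat 1),1⟩] .nil .nil))))) (.node 156 [⟨196,(Int.negSucc 0),1⟩] (.node 129 [⟨175,(Int.negSucc 0),1⟩] (.node 109 [⟨170,(Int.negSucc 0),1⟩] (.node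 84 [⟨140,(Int.ofNat 1),1⟩] (.node 83 [⟨135,(Int.ofNat 1),1⟩] (.node 82 [⟨131,(Int.ofNat 1),1⟩] .nil .nil) .nil) (.node 85 [⟨146,(Int.ofNat 1),1⟩] .nil .nil)) (.node 120 [⟨172,(Int.negSucc 0),1⟩] (.node 115 [⟨171,(Int.negSucc 0),1⟩] .nil .nil) (.node 124 [⟨173,(Int.negSucc 0),1⟩] .nil .nil))) (.node 151 [⟨186,(Int.negSucc 0),1⟩] (.node 149 [⟨179,(Int.negSucc 0),1⟩] (.node 130 [⟨176,(Int.negSucc 0),1⟩] .nil .nil) (.node 150 [⟨183,(Int.negSucc 0),1⟩] .nil .nil)) (.node 154 [⟨190,(Int.ofNat 1),1⟩] (.node 153 [⟨189,(Int.ofNat 1),1⟩] .nil .nil) (.node 155 [⟨193,(Int.negSucc 0),1⟩] .nil .nil)))) (.node 169 [⟨211,(Int.negSucc 0),1⟩] (.node 162 [⟨205,(Int.ofNat 1),1⟩] (.node 159 [⟨200,(Int.ofNat 1),1⟩] (.node 158 [⟨199,(Int.ofNat 1),1⟩] .nil .nil) (.node 160 [⟨202,(Int.negSucc 0),1⟩] .nil .nil)) (.node 165 [⟨208,(Int.ofNat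 1),1⟩] (.node 163 [⟨206,(Int.ofNat 1),1⟩] .nil .nil) (.node 166 [⟨209,(Int.ofNat 1),1⟩] .nil .nil))) (.node 220 [⟨238,(Int.negSucc 0),1⟩] (.node 214 [⟨235,(Int.ofNat 1),1⟩] (.node 213 [⟨234,(Int.ofNat 1),1⟩] .nil .nil) (.node 217 [⟨237,(Int.negSucc 0),1⟩] .nil .nil)) (.node 229 [⟨240,(Int.negSucc 0),1⟩] (.node 224 [⟨239,(Int.negSucc 0),1⟩] .nil .nil) (.node 233 [⟨245,(Int.ofNat 1),1⟩] .nil .nil))))))
noncomputable def col167 : Tr Cl := (.node 81 [⟨129,(Int.ofNat 1),1⟩] (.node 45 [⟨89,(Int.negSucc 0),1⟩] (.node 9 [⟨22,(Int.negSucc 0),1⟩] (.node 4 [⟨175,(Int.ofNat 0),1⟩] (.node 2 [⟨175,(Int.ofNat 0),1⟩] (.node 1 [⟨175,(Int.ofNat 1),1⟩] (.node 0 [⟨175,(Int.negSucc 0),1⟩] .nil .nil) .nil) (.node 3 [⟨175,(Int.ofNat 0),1⟩] .nil .nil)) (.node 6 [⟨175,(Int.negSucc 0),1⟩] (.node 5 [⟨175,(Int.ofNat 0),1⟩] .nil .nil) (.node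 7 [⟨175,(Int.ofNat 1),1⟩] .nil .nil))) (.node 18 [⟨39,(Int.negSucc 0),1⟩] (.node 16 [⟨32,(Int.negSucc 0),1⟩] (.node 15 [⟨27,(Int.negSucc 0),1⟩] .nil .nil) (.node 17 [⟨36,(Int.negSucc 0),1⟩] .nil .nil)) (.node 21 [⟨43,(Int.ofNat 1),1⟩] (.node 19 [⟨41,(Int.negSucc 0),1⟩] .nil .nil) (.node 44 [⟨87,(Int.negSucc 0),1⟩] .nil .nil)))) (.node 61 [⟨100,(Int.ofNat 1),1⟩] (.node 52 [⟨95,(Int.ofNat 1),1⟩] (.node 48 [⟨92,(Int.negSucc 0),1⟩] (.node 47 [⟨91,(Int.ofNat 1),1⟩] .nil .nil) (.node 50 [⟨94,(Int.ofNat 1),1⟩] .nil .nil)) (.node 56 [⟨98,(Int.ofNat 1),1⟩] (.node 54 [⟨96,(Int.negSucc 0),1⟩] .nil .nil) (.node 58 [⟨99,(Int.ofNat 1),1⟩] .nil .nil))) (.node 71 [⟨105,(Int.ofNat 1),1⟩] (.node 66 [⟨103,(Int.ofNat 1),1⟩] (.node 64 [⟨101,(Int.negSucc 0),1⟩] .nil .nil) (.node 68 [⟨104,(Int.ofNat 1),1⟩] .nil .nil)) (.node 79 [⟨127,(Int.ofNat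 1),1⟩] (.node 75 [⟨106,(Int.ofNat 1),1⟩] .nil .nil) (.node 80 [⟨0,(Int.ofNat 1),1⟩, ⟨1,(Int.ofNat 0),1⟩, ⟨2,(Int.ofNat 1),1⟩, ⟨3,(Int.ofNat 1),1⟩, ⟨4,(Int.ofNat 1),1⟩, ⟨5,(Int.ofNat 1),1⟩, ⟨6,(Int.ofNat 1),1⟩, ⟨7,(Int.ofNat 0),1⟩, ⟨175,(Int.negSucc 0),2⟩] .nil .nil))))) (.node 156 [⟨197,(Int.negSucc 0),1⟩] (.node 126 [⟨174,(Int.negSucc 0),1⟩] (.node 108 [⟨170,(Int.negSucc 0),1⟩] (.node 84 [⟨141,(Int.ofNat 1),1⟩] (.node 83 [⟨136,(Int.ofNat 1),1⟩] (.node 82 [⟨132,(Int.ofNat 1),1⟩] .nil .nil) .nil) (.node 85 [⟨147,(Int.ofNat 1),1⟩] .nil .nil)) (.node 119 [⟨172,(Int.negSucc 0),1⟩] (.node 114 [⟨171,(Int.negSucc 0),1⟩] .nil .nil) (.node 123 [⟨173,(Int.negSucc 0),1⟩] .nil .nil))) (.node 151 [⟨187,(Int.negSucc 0),1⟩] (.node 149 [⟨180,(Int.negSucc 0),1⟩] (.node 128 [⟨176,(Int.negSucc 0),1⟩] .nil .nil) (.node 150 [⟨184,(Int.negSucc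 0),1⟩] .nil .nil)) (.node 154 [⟨191,(Int.ofNat 1),1⟩] (.node 152 [⟨189,(Int.negSucc 0),1⟩] .nil .nil) (.node 155 [⟨194,(Int.negSucc 0),1⟩] .nil .nil)))) (.node 168 [⟨211,(Int.ofNat 1),1⟩] (.node 161 [⟨205,(Int.negSucc 0),1⟩] (.node 159 [⟨201,(Int.ofNat 1),1⟩] (.node 157 [⟨199,(Int.negSucc 0),1⟩] .nil .nil) (.node 160 [⟨203,(Int.negSucc 0),1⟩] .nil .nil)) (.node 164 [⟨208,(Int.negSucc 0),1⟩] (.node 163 [⟨207,(Int.ofNat 1),1⟩] .nil .nil) (.node 166 [⟨210,(Int.ofNat 1),1⟩] .nil .nil))) (.node 219 [⟨238,(Int.ofNat 1),1⟩] (.node 214 [⟨236,(Int.ofNat 1),1⟩] (.node 212 [⟨234,(Int.negSucc 0),1⟩] .nil .nil) (.node 216 [⟨237,(Int.ofNat 1),1⟩] .nil .nil)) (.node 228 [⟨240,(Int.ofNat 1),1⟩] (.node 223 [⟨239,(Int.ofNat 1),1⟩] .nil .nil) (.node 233 [⟨246,(Int.ofNat 1),1⟩] .nil .nil))))))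
noncomputable def col168 : Tr Cl := (.node 81 [⟨130,(Int.ofNat 1),1⟩] (.node 45 [⟨90,(Int.ofNat 1),1⟩] (.node 8 [⟨22,(Int.negSucc 0),1⟩] (.node 4 [⟨176,(Int.ofNat 0),1⟩] (.node 2 [⟨176,(Int.ofNat 0),1⟩] (.node 1 [⟨176,(Int.ofNat 1),1⟩] (.node 0 [⟨176,(Int.negSucc 0),1⟩] .nil .nil) .nil) (.node 3 [⟨176,(Int.ofNat 0),1⟩] .nil .nil)) (.node 6 [⟨176,(Int.ofNat 0),1⟩] (.node 5 [⟨176,(Int.ofNat 0),1⟩] .nil .nil) (.node 7 [⟨176,(Int.negSucc 0),1⟩] .nil .nil))) (.node 18 [⟨40,(Int.ofNat 1),1⟩] (.node 16 [⟨33,(Int.ofNat 1),1⟩] (.node 15 [⟨28,(Int.ofNat 1),1⟩] .nil .nil) (.node 17 [⟨37,(Int.ofNat 1),1⟩] .nil .nil)) (.node 20 [⟨43,(Int.ofNat 1),1⟩] (.node 19 [⟨42,(Int.ofNat 1),1⟩] .nil .nil) (.node 44 [⟨88,(Int.ofNat 1),1⟩] .nil .nil)))) (.node 60 [⟨100,(Int.ofNat 1),1⟩] (.node 51 [⟨95,(Int.ofNat 1),1⟩] (.node 48 [⟨93,(Int.ofNat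 1),1⟩] (.node 46 [⟨91,(Int.ofNat 1),1⟩] .nil .nil) (.node 49 [⟨94,(Int.ofNat 1),1⟩] .nil .nil)) (.node 55 [⟨98,(Int.ofNat 1),1⟩] (.node 54 [⟨97,(Int.ofNat 1),1⟩] .nil .nil) (.node 57 [⟨99,(Int.ofNat 1),1⟩] .nil .nil))) (.node 70 [⟨105,(Int.ofNat 1),1⟩] (.node 65 [⟨103,(Int.ofNat 1),1⟩] (.node 64 [⟨102,(Int.ofNat 1),1⟩] .nil .nil) (.node 67 [⟨104,(Int.ofNat 1),1⟩] .nil .nil)) (.node 79 [⟨0,(Int.ofNat 1),1⟩, ⟨1,(Int.ofNat 0),1⟩, ⟨2,(Int.ofNat 1),1⟩, ⟨3,(Int.ofNat 1),1⟩, ⟨4,(Int.ofNat 1),1⟩, ⟨5,(Int.ofNat 1),1⟩, ⟨6,(Int.ofNat 1),1⟩, ⟨7,(Int.ofNat 1),1⟩, ⟨176,(Int.negSucc 0),2⟩] (.node 74 [⟨106,(Int.ofNat 1),1⟩] .nil .nil) (.node 80 [⟨128,(Int.ofNat 1),1⟩] .nil .nil))))) (.node 156 [⟨198,(Int.negSucc 0),1⟩] (.node 125 [⟨174,(Int.negSucc 0),1⟩] (.node 107 [⟨170,(Int.negSucc 0),1⟩] (.node 84 [⟨142,(Int.ofNat 1),1⟩]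 (.node 83 [⟨137,(Int.ofNat 1),1⟩] (.node 82 [⟨133,(Int.ofNat 1),1⟩] .nil .nil) .nil) (.node 85 [⟨148,(Int.ofNat 1),1⟩] .nil .nil)) (.node 118 [⟨172,(Int.negSucc 0),1⟩] (.node 113 [⟨171,(Int.negSucc 0),1⟩] .nil .nil) (.node 122 [⟨173,(Int.negSucc 0),1⟩] .nil .nil))) (.node 151 [⟨188,(Int.negSucc 0),1⟩] (.node 149 [⟨181,(Int.negSucc 0),1⟩] (.node 127 [⟨175,(Int.negSucc 0),1⟩] .nil .nil) (.node 150 [⟨185,(Int.negSucc 0),1⟩] .nil .nil)) (.node 153 [⟨191,(Int.negSucc 0),1⟩] (.node 152 [⟨190,(Int.negSucc 0),1⟩] .nil .nil) (.node 155 [⟨195,(Int.negSucc 0),1⟩] .nil .nil)))) (.node 167 [⟨211,(Int.negSucc 0),1⟩] (.node 161 [⟨206,(Int.negSucc 0),1⟩] (.node 158 [⟨201,(Int.negSucc 0),1⟩] (.node 157 [⟨200,(Int.negSucc 0),1⟩] .nil .nil) (.node 160 [⟨204,(Int.negSucc 0),1⟩] .nil .nil)) (.node 164 [⟨209,(Int.negSucc 0),1⟩] (.node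 162 [⟨207,(Int.negSucc 0),1⟩] .nil .nil) (.node 165 [⟨210,(Int.negSucc 0),1⟩] .nil .nil))) (.node 218 [⟨238,(Int.negSucc 0),1⟩] (.node 213 [⟨236,(Int.negSucc 0),1⟩] (.node 212 [⟨235,(Int.negSucc 0),1⟩] .nil .nil) (.node 215 [⟨237,(Int.negSucc 0),1⟩] .nil .nil)) (.node 227 [⟨240,(Int.negSucc 0),1⟩] (.node 222 [⟨239,(Int.negSucc 0),1⟩] .nil .nil) (.node 233 [⟨247,(Int.ofNat 1),1⟩] .nil .nil))))))
noncomputable def col169 : Tr Cl := (.node 77 [⟨121,(Int.ofNat 1),1⟩] (.node 39 [⟨87,(Int.ofNat 1),1⟩] (.node 12 [⟨23,(Int.ofNat 1),1⟩] (.node 4 [⟨177,(Int.ofNat 1),1⟩] (.node 2 [⟨177,(Int.ofNat 0),1⟩] (.node 1 [⟨177,(Int.negSucc 0),1⟩] (.node 0 [⟨177,(Int.negSucc 0),1⟩] .nil .nil) .nil) (.node 3 [⟨177,(Int.ofNat 0),1⟩] .nil .nil)) (.node 6 [⟨177,(Int.ofNat 0),1⟩] (.node 5 [⟨177,(Int.ofNat 0),1⟩] .nil .nil) (.node 7 [⟨177,(Int.ofNat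 0),1⟩] .nil .nil))) (.node 19 [⟨45,(Int.ofNat 1),1⟩] (.node 14 [⟨29,(Int.ofNat 1),1⟩] (.node 13 [⟨24,(Int.ofNat 1),1⟩] .nil .nil) (.node 18 [⟨44,(Int.ofNat 1),1⟩] .nil .nil)) (.node 21 [⟨47,(Int.ofNat 1),1⟩] (.node 20 [⟨46,(Int.ofNat 1),1⟩] .nil .nil) (.node 38 [⟨86,(Int.ofNat 1),1⟩] .nil .nil)))) (.node 63 [⟨110,(Int.ofNat 1),1⟩] (.node 43 [⟨91,(Int.ofNat 1),1⟩] (.node 41 [⟨89,(Int.ofNat 1),1⟩] (.node 40 [⟨88,(Int.ofNat 1),1⟩] .nil .nil) (.node 42 [⟨90,(Int.ofNat 1),1⟩] .nil .nil)) (.node 61 [⟨108,(Int.ofNat 1),1⟩] (.node 60 [⟨107,(Int.ofNat 1),1⟩] .nil .nil) (.node 62 [⟨109,(Int.ofNat 1),1⟩] .nil .nil))) (.node 73 [⟨116,(Int.negSucc 0),1⟩] (.node 71 [⟨114,(Int.negSucc 0),1⟩] (.node 70 [⟨113,(Int.negSucc 0),1⟩] .nil .nil) (.node 72 [⟨115,(Int.negSucc 0),1⟩] .nil .nil)) (.node 75 [⟨119,(Int.ofNat 1),1⟩] (.node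 74 [⟨118,(Int.ofNat 1),1⟩] .nil .nil) (.node 76 [⟨120,(Int.ofNat 1),1⟩] .nil .nil))))) (.node 146 [⟨193,(Int.negSucc 0),1⟩] (.node 135 [⟨179,(Int.negSucc 0),1⟩] (.node 100 [⟨170,(Int.negSucc 0),1⟩] (.node 84 [⟨150,(Int.negSucc 0),1⟩] (.node 83 [⟨149,(Int.ofNat 1),1⟩] (.node 78 [⟨0,(Int.ofNat 1),1⟩, ⟨1,(Int.ofNat 1),1⟩, ⟨2,(Int.ofNat 1),1⟩, ⟨3,(Int.ofNat 1),1⟩, ⟨4,(Int.ofNat 0),1⟩, ⟨5,(Int.ofNat 0),1⟩, ⟨6,(Int.ofNat 0),1⟩, ⟨7,(Int.ofNat 0),1⟩, ⟨177,(Int.negSucc 0),2⟩] .nil .nil) .nil) (.node 85 [⟨155,(Int.ofNat 1),1⟩] .nil .nil)) (.node 106 [⟨172,(Int.negSucc 0),1⟩] (.node 105 [⟨171,(Int.ofNat 1),1⟩] .nil .nil) (.node 134 [⟨178,(Int.negSucc 0),1⟩] .nil .nil))) (.node 140 [⟨183,(Int.ofNat 1),1⟩] (.node 137 [⟨181,(Int.negSucc 0),1⟩] (.node 136 [⟨180,(Int.negSucc 0),1⟩] .nil .nil) (.node 139 [⟨182,(Int.ofNat 1),1⟩]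 .nil .nil)) (.node 142 [⟨185,(Int.ofNat 1),1⟩] (.node 141 [⟨184,(Int.ofNat 1),1⟩] .nil .nil) (.node 145 [⟨192,(Int.negSucc 0),1⟩] .nil .nil)))) (.node 169 [⟨217,(Int.negSucc 0),1⟩] (.node 165 [⟨213,(Int.negSucc 0),1⟩] (.node 148 [⟨195,(Int.negSucc 0),1⟩] (.node 147 [⟨194,(Int.negSucc 0),1⟩] .nil .nil) (.node 164 [⟨212,(Int.negSucc 0),1⟩] .nil .nil)) (.node 167 [⟨215,(Int.negSucc 0),1⟩] (.node 166 [⟨214,(Int.negSucc 0),1⟩] .nil .nil) (.node 168 [⟨216,(Int.negSucc 0),1⟩] .nil .nil))) (.node 211 [⟨237,(Int.negSucc 0),1⟩] (.node 209 [⟨235,(Int.negSucc 0),1⟩] (.node 208 [⟨234,(Int.negSucc 0),1⟩] .nil .nil) (.node 210 [⟨236,(Int.negSucc 0),1⟩] .nil .nil)) (.node 231 [⟨242,(Int.negSucc 0),1⟩] (.node 226 [⟨241,(Int.negSucc 0),1⟩] .nil .nil) (.node 232 [⟨243,(Int.negSucc 0),1⟩] .nil .nil))))))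
noncomputable def col170 : Tr Cl := (.node 77 [⟨0,(Int.ofNat 1),1⟩, ⟨1,(Int.ofNat 1),1⟩, ⟨2,(Int.ofNat 1),1⟩, ⟨3,(Int.ofNat 1),1⟩, ⟨4,(Int.ofNat 1),1⟩, ⟨5,(Int.ofNat 0),1⟩, ⟨6,(Int.ofNat 0),1⟩, ⟨7,(Int.ofNat 0),1⟩, ⟨178,(Int.negSucc 0),2⟩] (.node 36 [⟨87,(Int.ofNat 1),1⟩] (.node 11 [⟨23,(Int.ofNat 1),1⟩] (.node 4 [⟨178,(Int.negSucc 0),1⟩] (.node 2 [⟨178,(Int.ofNat 0),1⟩] (.node 1 [⟨178,(Int.negSucc 0),1⟩] (.node 0 [⟨178,(Int.negSucc 0),1⟩] .nil .nil) .nil) (.node 3 [⟨178,(Int.ofNat 1),1⟩] .nil .nil)) (.node 6 [⟨178,(Int.ofNat 0),1⟩] (.node 5 [⟨178,(Int.ofNat 1),1⟩] .nil .nil) (.node 7 [⟨178,(Int.ofNat 0),1⟩] .nil .nil))) (.node 19 [⟨48,(Int.negSucc 0),1⟩] (.node 14 [⟨30,(Int.negSucc 0),1⟩] (.node 13 [⟨25,(Int.negSucc 0),1⟩] .nil .nil) (.node 17 [⟨44,(Int.ofNat 1),1⟩] .nil .nil)) (.node 21 [⟨50,(Int.negSucc 0),1⟩]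 (.node 20 [⟨49,(Int.negSucc 0),1⟩] .nil .nil) (.node 35 [⟨86,(Int.ofNat 1),1⟩] .nil .nil)))) (.node 63 [⟨111,(Int.negSucc 0),1⟩] (.node 43 [⟨94,(Int.negSucc 0),1⟩] (.node 41 [⟨92,(Int.negSucc 0),1⟩] (.node 37 [⟨88,(Int.ofNat 1),1⟩] .nil .nil) (.node 42 [⟨93,(Int.negSucc 0),1⟩] .nil .nil)) (.node 58 [⟨108,(Int.ofNat 1),1⟩] (.node 57 [⟨107,(Int.ofNat 1),1⟩] .nil .nil) (.node 59 [⟨109,(Int.ofNat 1),1⟩] .nil .nil))) (.node 73 [⟨117,(Int.ofNat 1),1⟩] (.node 68 [⟨114,(Int.negSucc 0),1⟩] (.node 67 [⟨113,(Int.negSucc 0),1⟩] .nil .nil) (.node 69 [⟨115,(Int.negSucc 0),1⟩] .nil .nil)) (.node 75 [⟨123,(Int.ofNat 1),1⟩] (.node 74 [⟨122,(Int.ofNat 1),1⟩] .nil .nil) (.node 76 [⟨124,(Int.ofNat 1),1⟩] .nil .nil))))) (.node 146 [⟨196,(Int.negSucc 0),1⟩] (.node 131 [⟨179,(Int.negSucc 0),1⟩] (.node 99 [⟨170,(Int.negSucc 0),1⟩] (.node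 84 [⟨151,(Int.negSucc 0),1⟩] (.node 82 [⟨149,(Int.ofNat 1),1⟩] (.node 78 [⟨134,(Int.ofNat 1),1⟩] .nil .nil) .nil) (.node 85 [⟨156,(Int.ofNat 1),1⟩] .nil .nil)) (.node 106 [⟨173,(Int.negSucc 0),1⟩] (.node 104 [⟨171,(Int.ofNat 1),1⟩] .nil .nil) (.node 121 [⟨177,(Int.negSucc 0),1⟩] .nil .nil))) (.node 140 [⟨186,(Int.ofNat 1),1⟩] (.node 133 [⟨181,(Int.negSucc 0),1⟩] (.node 132 [⟨180,(Int.negSucc 0),1⟩] .nil .nil) (.node 138 [⟨182,(Int.negSucc 0),1⟩] .nil .nil)) (.node 142 [⟨188,(Int.ofNat 1),1⟩] (.node 141 [⟨187,(Int.ofNat 1),1⟩] .nil .nil) (.node 144 [⟨192,(Int.ofNat 1),1⟩] .nil .nil)))) (.node 169 [⟨220,(Int.negSucc 0),1⟩] (.node 162 [⟨213,(Int.ofNat 1),1⟩] (.node 148 [⟨198,(Int.negSucc 0),1⟩] (.node 147 [⟨197,(Int.negSucc 0),1⟩] .nil .nil) (.node 161 [⟨212,(Int.ofNat 1),1⟩] .nil .nil)) (.node 167 [⟨218,(Int.negSucc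 0),1⟩] (.node 163 [⟨214,(Int.ofNat 1),1⟩] .nil .nil) (.node 168 [⟨219,(Int.negSucc 0),1⟩] .nil .nil))) (.node 211 [⟨238,(Int.negSucc 0),1⟩] (.node 206 [⟨235,(Int.ofNat 1),1⟩] (.node 205 [⟨234,(Int.ofNat 1),1⟩] .nil .nil) (.node 207 [⟨236,(Int.ofNat 1),1⟩] .nil .nil)) (.node 230 [⟨242,(Int.ofNat 1),1⟩] (.node 225 [⟨241,(Int.ofNat 1),1⟩] .nil .nil) (.node 232 [⟨244,(Int.negSucc 0),1⟩] .nil .nil))))))
noncomputable def col171 : Tr Cl := (.node 77 [⟨131,(Int.ofNat 1),1⟩] (.node 36 [⟨89,(Int.negSucc 0),1⟩] (.node 10 [⟨23,(Int.ofNat 1),1⟩] (.node 4 [⟨179,(Int.ofNat 0),1⟩] (.node 2 [⟨179,(Int.ofNat 0),1⟩] (.node 1 [⟨179,(Int.negSucc 0),1⟩] (.node 0 [⟨179,(Int.negSucc 0),1⟩] .nil .nil) .nil) (.node 3 [⟨179,(Int.ofNat 1),1⟩] .nil .nil)) (.node 6 [⟨179,(Int.ofNat 1),1⟩] (.node 5 [⟨179,(Int.negSucc 0),1⟩] .nil .nil) (.node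 7 [⟨179,(Int.ofNat 0),1⟩] .nil .nil))) (.node 18 [⟨48,(Int.negSucc 0),1⟩] (.node 14 [⟨31,(Int.ofNat 1),1⟩] (.node 13 [⟨26,(Int.ofNat 1),1⟩] .nil .nil) (.node 17 [⟨45,(Int.negSucc 0),1⟩] .nil .nil)) (.node 21 [⟨52,(Int.ofNat 1),1⟩] (.node 20 [⟨51,(Int.ofNat 1),1⟩] .nil .nil) (.node 34 [⟨86,(Int.ofNat 1),1⟩] .nil .nil)))) (.node 62 [⟨111,(Int.negSucc 0),1⟩] (.node 43 [⟨95,(Int.ofNat 1),1⟩] (.node 39 [⟨92,(Int.negSucc 0),1⟩] (.node 37 [⟨90,(Int.negSucc 0),1⟩] .nil .nil) (.node 40 [⟨93,(Int.negSucc 0),1⟩] .nil .nil)) (.node 56 [⟨108,(Int.ofNat 1),1⟩] (.node 55 [⟨107,(Int.ofNat 1),1⟩] .nil .nil) (.node 59 [⟨110,(Int.negSucc 0),1⟩] .nil .nil))) (.node 72 [⟨117,(Int.ofNat 1),1⟩] (.node 66 [⟨114,(Int.negSucc 0),1⟩] (.node 65 [⟨113,(Int.negSucc 0),1⟩] .nil .nil) (.node 69 [⟨116,(Int.ofNat 1),1⟩] .nil .nil)) (.node 75 [⟨126,(Int.ofNat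 1),1⟩] (.node 74 [⟨125,(Int.ofNat 1),1⟩] .nil .nil) (.node 76 [⟨0,(Int.ofNat 1),1⟩, ⟨1,(Int.ofNat 1),1⟩, ⟨2,(Int.ofNat 1),1⟩, ⟨3,(Int.ofNat 1),1⟩, ⟨4,(Int.ofNat 1),1⟩, ⟨5,(Int.ofNat 1),1⟩, ⟨6,(Int.ofNat 0),1⟩, ⟨7,(Int.ofNat 0),1⟩, ⟨179,(Int.negSucc 0),2⟩] .nil .nil))))) (.node 145 [⟨196,(Int.ofNat 1),1⟩] (.node 124 [⟨178,(Int.negSucc 0),1⟩] (.node 98 [⟨170,(Int.negSucc 0),1⟩] (.node 84 [⟨152,(Int.negSucc 0),1⟩] (.node 81 [⟨149,(Int.ofNat 1),1⟩] (.node 78 [⟨135,(Int.ofNat 1),1⟩] .nil .nil) .nil) (.node 85 [⟨157,(Int.ofNat 1),1⟩] .nil .nil)) (.node 106 [⟨174,(Int.negSucc 0),1⟩] (.node 103 [⟨171,(Int.ofNat 1),1⟩] .nil .nil) (.node 120 [⟨177,(Int.negSucc 0),1⟩] .nil .nil))) (.node 139 [⟨186,(Int.negSucc 0),1⟩] (.node 130 [⟨181,(Int.negSucc 0),1⟩] (.node 129 [⟨180,(Int.negSucc 0),1⟩] .nil .nil) (.node 138 [⟨183,(Int.negSucc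 0),1⟩] .nil .nil)) (.node 142 [⟨190,(Int.ofNat 1),1⟩] (.node 141 [⟨189,(Int.ofNat 1),1⟩] .nil .nil) (.node 144 [⟨193,(Int.ofNat 1),1⟩] .nil .nil)))) (.node 169 [⟨221,(Int.negSucc 0),1⟩] (.node 162 [⟨215,(Int.ofNat 1),1⟩] (.node 148 [⟨200,(Int.negSucc 0),1⟩] (.node 147 [⟨199,(Int.negSucc 0),1⟩] .nil .nil) (.node 160 [⟨212,(Int.negSucc 0),1⟩] .nil .nil)) (.node 165 [⟨218,(Int.ofNat 1),1⟩] (.node 163 [⟨216,(Int.ofNat 1),1⟩] .nil .nil) (.node 166 [⟨219,(Int.ofNat 1),1⟩] .nil .nil))) (.node 210 [⟨238,(Int.ofNat 1),1⟩] (.node 204 [⟨235,(Int.negSucc 0),1⟩] (.node 203 [⟨234,(Int.negSucc 0),1⟩] .nil .nil) (.node 207 [⟨237,(Int.ofNat 1),1⟩] .nil .nil)) (.node 229 [⟨242,(Int.negSucc 0),1⟩] (.node 224 [⟨241,(Int.negSucc 0),1⟩] .nil .nil) (.node 232 [⟨245,(Int.negSucc 0),1⟩] .nil .nil))))))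
noncomputable def col172 : Tr Cl := (.node 77 [⟨132,(Int.ofNat 1),1⟩] (.node 35 [⟨89,(Int.negSucc 0),1⟩] (.node 9 [⟨23,(Int.ofNat 1),1⟩] (.node 4 [⟨180,(Int.ofNat 0),1⟩] (.node 2 [⟨180,(Int.ofNat 0),1⟩] (.node 1 [⟨180,(Int.negSucc 0),1⟩] (.node 0 [⟨180,(Int.negSucc 0),1⟩] .nil .nil) .nil) (.node 3 [⟨180,(Int.ofNat 1),1⟩] .nil .nil)) (.node 6 [⟨180,(Int.negSucc 0),1⟩] (.node 5 [⟨180,(Int.ofNat 0),1⟩] .nil .nil) (.node 7 [⟨180,(Int.ofNat 1),1⟩] .nil .nil))) (.node 18 [⟨49,(Int.ofNat 1),1⟩] (.node 14 [⟨32,(Int.negSucc 0),1⟩] (.node 13 [⟨27,(Int.negSucc 0),1⟩] .nil .nil) (.node 17 [⟨46,(Int.ofNat 1),1⟩] .nil .nil)) (.node 21 [⟨53,(Int.negSucc 0),1⟩] (.node 19 [⟨51,(Int.ofNat 1),1⟩] .nil .nil) (.node 34 [⟨87,(Int.negSucc 0),1⟩] .nil .nil)))) (.node 61 [⟨111,(Int.negSucc 0),1⟩] (.node 42 [⟨95,(Int.ofNat 1),1⟩] (.node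 38 [⟨92,(Int.negSucc 0),1⟩] (.node 37 [⟨91,(Int.ofNat 1),1⟩] .nil .nil) (.node 40 [⟨94,(Int.ofNat 1),1⟩] .nil .nil)) (.node 56 [⟨109,(Int.negSucc 0),1⟩] (.node 54 [⟨107,(Int.ofNat 1),1⟩] .nil .nil) (.node 58 [⟨110,(Int.negSucc 0),1⟩] .nil .nil))) (.node 71 [⟨117,(Int.ofNat 1),1⟩] (.node 66 [⟨115,(Int.ofNat 1),1⟩] (.node 64 [⟨113,(Int.negSucc 0),1⟩] .nil .nil) (.node 68 [⟨116,(Int.ofNat 1),1⟩] .nil .nil)) (.node 75 [⟨0,(Int.ofNat 1),1⟩, ⟨1,(Int.ofNat 1),1⟩, ⟨2,(Int.ofNat 1),1⟩, ⟨3,(Int.ofNat 1),1⟩, ⟨4,(Int.ofNat 1),1⟩, ⟨5,(Int.ofNat 1),1⟩, ⟨6,(Int.ofNat 1),1⟩, ⟨7,(Int.ofNat 0),1⟩, ⟨180,(Int.negSucc 0),2⟩] (.node 74 [⟨127,(Int.ofNat 1),1⟩] .nil .nil) (.node 76 [⟨129,(Int.ofNat 1),1⟩] .nil .nil))))) (.node 145 [⟨197,(Int.ofNat 1),1⟩] (.node 123 [⟨178,(Int.negSucc 0),1⟩] (.node 97 [⟨170,(Int.negSucc 0),1⟩] (.node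 84 [⟨153,(Int.negSucc 0),1⟩] (.node 80 [⟨149,(Int.ofNat 1),1⟩] (.node 78 [⟨136,(Int.ofNat 1),1⟩] .nil .nil) .nil) (.node 85 [⟨158,(Int.ofNat 1),1⟩] .nil .nil)) (.node 106 [⟨175,(Int.negSucc 0),1⟩] (.node 102 [⟨171,(Int.ofNat 1),1⟩] .nil .nil) (.node 119 [⟨177,(Int.negSucc 0),1⟩] .nil .nil))) (.node 139 [⟨187,(Int.negSucc 0),1⟩] (.node 128 [⟨181,(Int.negSucc 0),1⟩] (.node 126 [⟨179,(Int.negSucc 0),1⟩] .nil .nil) (.node 138 [⟨184,(Int.negSucc 0),1⟩] .nil .nil)) (.node 142 [⟨191,(Int.ofNat 1),1⟩] (.node 140 [⟨189,(Int.negSucc 0),1⟩] .nil .nil) (.node 144 [⟨194,(Int.ofNat 1),1⟩] .nil .nil)))) (.node 168 [⟨221,(Int.ofNat 1),1⟩] (.node 161 [⟨215,(Int.negSucc 0),1⟩] (.node 148 [⟨201,(Int.negSucc 0),1⟩] (.node 146 [⟨199,(Int.ofNat 1),1⟩] .nil .nil) (.node 160 [⟨213,(Int.negSucc 0),1⟩] .nil .nil)) (.node 164 [⟨218,(Int.negSucc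 0),1⟩] (.node 163 [⟨217,(Int.ofNat 1),1⟩] .nil .nil) (.node 166 [⟨220,(Int.ofNat 1),1⟩] .nil .nil))) (.node 209 [⟨238,(Int.negSucc 0),1⟩] (.node 204 [⟨236,(Int.negSucc 0),1⟩] (.node 202 [⟨234,(Int.ofNat 1),1⟩] .nil .nil) (.node 206 [⟨237,(Int.negSucc 0),1⟩] .nil .nil)) (.node 228 [⟨242,(Int.ofNat 1),1⟩] (.node 223 [⟨241,(Int.ofNat 1),1⟩] .nil .nil) (.node 232 [⟨246,(Int.negSucc 0),1⟩] .nil .nil))))))
noncomputable def col173 : Tr Cl := (.node 77 [⟨133,(Int.ofNat 1),1⟩] (.node 35 [⟨90,(Int.ofNat 1),1⟩] (.node 8 [⟨23,(Int.ofNat 1),1⟩] (.node 4 [⟨181,(Int.ofNat 0),1⟩] (.node 2 [⟨181,(Int.ofNat 0),1⟩] (.node 1 [⟨181,(Int.negSucc 0),1⟩] (.node 0 [⟨181,(Int.negSucc 0),1⟩] .nil .nil) .nil) (.node 3 [⟨181,(Int.ofNat 1),1⟩] .nil .nil)) (.node 6 [⟨181,(Int.ofNat 0),1⟩] (.node 5 [⟨181,(Int.ofNat 0),1⟩] .nil .nil) (.node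 7 [⟨181,(Int.negSucc 0),1⟩] .nil .nil))) (.node 18 [⟨50,(Int.negSucc 0),1⟩] (.node 14 [⟨33,(Int.ofNat 1),1⟩] (.node 13 [⟨28,(Int.ofNat 1),1⟩] .nil .nil) (.node 17 [⟨47,(Int.negSucc 0),1⟩] .nil .nil)) (.node 20 [⟨53,(Int.negSucc 0),1⟩] (.node 19 [⟨52,(Int.negSucc 0),1⟩] .nil .nil) (.node 34 [⟨88,(Int.ofNat 1),1⟩] .nil .nil)))) (.node 60 [⟨111,(Int.negSucc 0),1⟩] (.node 41 [⟨95,(Int.ofNat 1),1⟩] (.node 38 [⟨93,(Int.ofNat 1),1⟩] (.node 36 [⟨91,(Int.ofNat 1),1⟩] .nil .nil) (.node 39 [⟨94,(Int.ofNat 1),1⟩] .nil .nil)) (.node 55 [⟨109,(Int.negSucc 0),1⟩] (.node 54 [⟨108,(Int.negSucc 0),1⟩] .nil .nil) (.node 57 [⟨110,(Int.negSucc 0),1⟩] .nil .nil))) (.node 70 [⟨117,(Int.ofNat 1),1⟩] (.node 65 [⟨115,(Int.ofNat 1),1⟩] (.node 64 [⟨114,(Int.ofNat 1),1⟩] .nil .nil) (.node 67 [⟨116,(Int.ofNat 1),1⟩] .nil .nil)) (.node 75 [⟨128,(Int.ofNat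 1),1⟩] (.node 74 [⟨0,(Int.ofNat 1),1⟩, ⟨1,(Int.ofNat 1),1⟩, ⟨2,(Int.ofNat 1),1⟩, ⟨3,(Int.ofNat 1),1⟩, ⟨4,(Int.ofNat 1),1⟩, ⟨5,(Int.ofNat 1),1⟩, ⟨6,(Int.ofNat 1),1⟩, ⟨7,(Int.ofNat 1),1⟩, ⟨181,(Int.negSucc 0),2⟩] .nil .nil) (.node 76 [⟨130,(Int.ofNat 1),1⟩] .nil .nil))))) (.node 145 [⟨198,(Int.ofNat 1),1⟩] (.node 122 [⟨178,(Int.negSucc 0),1⟩] (.node 96 [⟨170,(Int.negSucc 0),1⟩] (.node 84 [⟨154,(Int.negSucc 0),1⟩] (.node 79 [⟨149,(Int.ofNat 1),1⟩] (.node 78 [⟨137,(Int.ofNat 1),1⟩] .nil .nil) .nil) (.node 85 [⟨159,(Int.ofNat 1),1⟩] .nil .nil)) (.node 106 [⟨176,(Int.negSucc 0),1⟩] (.node 101 [⟨171,(Int.ofNat 1),1⟩] .nil .nil) (.node 118 [⟨177,(Int.negSucc 0),1⟩] .nil .nil))) (.node 139 [⟨188,(Int.negSucc 0),1⟩] (.node 127 [⟨180,(Int.negSucc 0),1⟩] (.node 125 [⟨179,(Int.negSucc 0),1⟩] .nil .nil) (.node 138 [⟨185,(Int.negSucc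 0),1⟩] .nil .nil)) (.node 141 [⟨191,(Int.negSucc 0),1⟩] (.node 140 [⟨190,(Int.negSucc 0),1⟩] .nil .nil) (.node 144 [⟨195,(Int.ofNat 1),1⟩] .nil .nil)))) (.node 167 [⟨221,(Int.negSucc 0),1⟩] (.node 161 [⟨216,(Int.negSucc 0),1⟩] (.node 147 [⟨201,(Int.ofNat 1),1⟩] (.node 146 [⟨200,(Int.ofNat 1),1⟩] .nil .nil) (.node 160 [⟨214,(Int.negSucc 0),1⟩] .nil .nil)) (.node 164 [⟨219,(Int.negSucc 0),1⟩] (.node 162 [⟨217,(Int.negSucc 0),1⟩] .nil .nil) (.node 165 [⟨220,(Int.negSucc 0),1⟩] .nil .nil))) (.node 208 [⟨238,(Int.ofNat 1),1⟩] (.node 203 [⟨236,(Int.ofNat 1),1⟩] (.node 202 [⟨235,(Int.ofNat 1),1⟩] .nil .nil) (.node 205 [⟨237,(Int.ofNat 1),1⟩] .nil .nil)) (.node 227 [⟨242,(Int.negSucc 0),1⟩] (.node 222 [⟨241,(Int.negSucc 0),1⟩] .nil .nil) (.node 232 [⟨247,(Int.negSucc 0),1⟩] .nil .nil))))))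
noncomputable def col174 : Tr Cl := (.node 77 [⟨138,(Int.ofNat 1),1⟩] (.node 32 [⟨87,(Int.ofNat 1),1⟩] (.node 11 [⟨24,(Int.negSucc 0),1⟩] (.node 4 [⟨182,(Int.ofNat 0),1⟩] (.node 2 [⟨182,(Int.ofNat 1),1⟩] (.node 1 [⟨182,(Int.ofNat 0),1⟩] (.node 0 [⟨182,(Int.negSucc 0),1⟩] .nil .nil) .nil) (.node 3 [⟨182,(Int.negSucc 0),1⟩] .nil .nil)) (.node 6 [⟨182,(Int.ofNat 0),1⟩] (.node 5 [⟨182,(Int.ofNat 1),1⟩] .nil .nil) (.node 7 [⟨182,(Int.ofNat 0),1⟩] .nil .nil))) (.node 19 [⟨54,(Int.ofNat 1),1⟩] (.node 14 [⟨34,(Int.ofNat 1),1⟩] (.node 12 [⟨25,(Int.negSucc 0),1⟩] .nil .nil) (.node 16 [⟨44,(Int.ofNat 1),1⟩] .nil .nil)) (.node 21 [⟨56,(Int.ofNat 1),1⟩] (.node 20 [⟨55,(Int.ofNat 1),1⟩] .nil .nil) (.node 31 [⟨86,(Int.ofNat 1),1⟩] .nil .nil)))) (.node 63 [⟨112,(Int.ofNat 1),1⟩] (.node 43 [⟨98,(Int.ofNat 1),1⟩] (.node 41 [⟨96,(Int.ofNat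 1),1⟩] (.node 33 [⟨88,(Int.ofNat 1),1⟩] .nil .nil) (.node 42 [⟨97,(Int.ofNat 1),1⟩] .nil .nil)) (.node 52 [⟨108,(Int.ofNat 1),1⟩] (.node 51 [⟨107,(Int.ofNat 1),1⟩] .nil .nil) (.node 53 [⟨109,(Int.ofNat 1),1⟩] .nil .nil))) (.node 70 [⟨122,(Int.ofNat 1),1⟩] (.node 68 [⟨119,(Int.negSucc 0),1⟩] (.node 67 [⟨118,(Int.negSucc 0),1⟩] .nil .nil) (.node 69 [⟨120,(Int.negSucc 0),1⟩] .nil .nil)) (.node 72 [⟨124,(Int.ofNat 1),1⟩] (.node 71 [⟨123,(Int.ofNat 1),1⟩] .nil .nil) (.node 73 [⟨0,(Int.ofNat 1),1⟩, ⟨1,(Int.ofNat 1),1⟩, ⟨2,(Int.ofNat 1),1⟩, ⟨3,(Int.ofNat 2),1⟩, ⟨4,(Int.ofNat 1),1⟩, ⟨5,(Int.ofNat 0),1⟩, ⟨6,(Int.ofNat 0),1⟩, ⟨7,(Int.ofNat 0),1⟩, ⟨182,(Int.negSucc 0),2⟩] .nil .nil))))) (.node 146 [⟨202,(Int.negSucc 0),1⟩] (.node 117 [⟨178,(Int.negSucc 0),1⟩] (.node 95 [⟨170,(Int.negSucc 0),1⟩] (.node 83 [⟨151,(Int.negSucc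 0),1⟩] (.node 82 [⟨150,(Int.ofNat 1),1⟩] (.node 78 [⟨139,(Int.negSucc 0),1⟩] .nil .nil) .nil) (.node 85 [⟨160,(Int.ofNat 1),1⟩] .nil .nil)) (.node 105 [⟨173,(Int.negSucc 0),1⟩] (.node 104 [⟨172,(Int.ofNat 1),1⟩] .nil .nil) (.node 116 [⟨177,(Int.ofNat 1),1⟩] .nil .nil))) (.node 135 [⟨186,(Int.ofNat 1),1⟩] (.node 132 [⟨184,(Int.negSucc 0),1⟩] (.node 131 [⟨183,(Int.negSucc 0),1⟩] .nil .nil) (.node 133 [⟨185,(Int.negSucc 0),1⟩] .nil .nil)) (.node 137 [⟨188,(Int.ofNat 1),1⟩] (.node 136 [⟨187,(Int.ofNat 1),1⟩] .nil .nil) (.node 143 [⟨192,(Int.negSucc 0),1⟩] .nil .nil)))) (.node 169 [⟨224,(Int.negSucc 0),1⟩] (.node 158 [⟨213,(Int.negSucc 0),1⟩] (.node 148 [⟨204,(Int.negSucc 0),1⟩] (.node 147 [⟨203,(Int.negSucc 0),1⟩] .nil .nil) (.node 157 [⟨212,(Int.negSucc 0),1⟩] .nil .nil)) (.node 167 [⟨222,(Int.negSucc 0),1⟩] (.node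 159 [⟨214,(Int.negSucc 0),1⟩] .nil .nil) (.node 168 [⟨223,(Int.negSucc 0),1⟩] .nil .nil))) (.node 211 [⟨239,(Int.negSucc 0),1⟩] (.node 200 [⟨235,(Int.negSucc 0),1⟩] (.node 199 [⟨234,(Int.negSucc 0),1⟩] .nil .nil) (.node 201 [⟨236,(Int.negSucc 0),1⟩] .nil .nil)) (.node 230 [⟨243,(Int.ofNat 1),1⟩] (.node 221 [⟨241,(Int.negSucc 0),1⟩] .nil .nil) (.node 231 [⟨244,(Int.ofNat 1),1⟩] .nil .nil))))))
noncomputable def col175 : Tr Cl := (.node 76 [⟨138,(Int.ofNat 1),1⟩] (.node 32 [⟨89,(Int.negSucc 0),1⟩] (.node 10 [⟨24,(Int.negSucc 0),1⟩] (.node 4 [⟨183,(Int.ofNat 1),1⟩] (.node 2 [⟨183,(Int.ofNat 1),1⟩] (.node 1 [⟨183,(Int.ofNat 0),1⟩] (.node 0 [⟨183,(Int.negSucc 0),1⟩] .nil .nil) .nil) (.node 3 [⟨183,(Int.negSucc 0),1⟩] .nil .nil)) (.node 6 [⟨183,(Int.ofNat 1),1⟩] (.node 5 [⟨183,(Int.negSucc 0),1⟩] .nil .nil) (.node 7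 [⟨183,(Int.ofNat 0),1⟩] .nil .nil))) (.node 18 [⟨54,(Int.ofNat 1),1⟩] (.node 14 [⟨35,(Int.negSucc 0),1⟩] (.node 12 [⟨26,(Int.ofNat 1),1⟩] .nil .nil) (.node 16 [⟨45,(Int.negSucc 0),1⟩] .nil .nil)) (.node 21 [⟨58,(Int.negSucc 0),1⟩] (.node 20 [⟨57,(Int.negSucc 0),1⟩] .nil .nil) (.node 30 [⟨86,(Int.ofNat 1),1⟩] .nil .nil)))) (.node 62 [⟨112,(Int.ofNat 1),1⟩] (.node 43 [⟨99,(Int.negSucc 0),1⟩] (.node 39 [⟨96,(Int.ofNat 1),1⟩] (.node 33 [⟨90,(Int.negSucc 0),1⟩] .nil .nil) (.node 40 [⟨97,(Int.ofNat 1),1⟩] .nil .nil)) (.node 50 [⟨108,(Int.ofNat 1),1⟩] (.node 49 [⟨107,(Int.ofNat 1),1⟩] .nil .nil) (.node 53 [⟨110,(Int.negSucc 0),1⟩] .nil .nil))) (.node 70 [⟨125,(Int.ofNat 1),1⟩] (.node 66 [⟨119,(Int.negSucc 0),1⟩] (.node 65 [⟨118,(Int.negSucc 0),1⟩] .nil .nil) (.node 69 [⟨121,(Int.ofNat 1),1⟩] .nil .nil)) (.node 72 [⟨0,(Int.ofNat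 1),1⟩, ⟨1,(Int.ofNat 1),1⟩, ⟨2,(Int.ofNat 1),1⟩, ⟨3,(Int.ofNat 2),1⟩, ⟨4,(Int.ofNat 1),1⟩, ⟨5,(Int.ofNat 1),1⟩, ⟨6,(Int.ofNat 0),1⟩, ⟨7,(Int.ofNat 0),1⟩, ⟨183,(Int.negSucc 0),2⟩] (.node 71 [⟨126,(Int.ofNat 1),1⟩] .nil .nil) (.node 73 [⟨131,(Int.ofNat 1),1⟩] .nil .nil))))) (.node 145 [⟨202,(Int.ofNat 1),1⟩] (.node 117 [⟨179,(Int.negSucc 0),1⟩] (.node 94 [⟨170,(Int.negSucc 0),1⟩] (.node 83 [⟨152,(Int.negSucc 0),1⟩] (.node 81 [⟨150,(Int.ofNat 1),1⟩] (.node 78 [⟨140,(Int.negSucc 0),1⟩] .nil .nil) .nil) (.node 85 [⟨161,(Int.ofNat 1),1⟩] .nil .nil)) (.node 105 [⟨174,(Int.negSucc 0),1⟩] (.node 103 [⟨172,(Int.ofNat 1),1⟩] .nil .nil) (.node 115 [⟨177,(Int.ofNat 1),1⟩] .nil .nil))) (.node 134 [⟨186,(Int.negSucc 0),1⟩] (.node 129 [⟨184,(Int.negSucc 0),1⟩] (.node 124 [⟨182,(Int.negSucc 0),1⟩] .nil .nil) (.node 130 [⟨185,(Int.negSucc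 0),1⟩] .nil .nil)) (.node 137 [⟨190,(Int.ofNat 1),1⟩] (.node 136 [⟨189,(Int.ofNat 1),1⟩] .nil .nil) (.node 143 [⟨193,(Int.negSucc 0),1⟩] .nil .nil)))) (.node 169 [⟨225,(Int.negSucc 0),1⟩] (.node 158 [⟨215,(Int.negSucc 0),1⟩] (.node 148 [⟨206,(Int.negSucc 0),1⟩] (.node 147 [⟨205,(Int.negSucc 0),1⟩] .nil .nil) (.node 156 [⟨212,(Int.ofNat 1),1⟩] .nil .nil)) (.node 165 [⟨222,(Int.ofNat 1),1⟩] (.node 159 [⟨216,(Int.negSucc 0),1⟩] .nil .nil) (.node 166 [⟨223,(Int.ofNat 1),1⟩] .nil .nil))) (.node 210 [⟨239,(Int.ofNat 1),1⟩] (.node 198 [⟨235,(Int.ofNat 1),1⟩] (.node 197 [⟨234,(Int.ofNat 1),1⟩] .nil .nil) (.node 201 [⟨237,(Int.negSucc 0),1⟩] .nil .nil)) (.node 229 [⟨243,(Int.negSucc 0),1⟩] (.node 220 [⟨241,(Int.ofNat 1),1⟩] .nil .nil) (.node 231 [⟨245,(Int.ofNat 1),1⟩] .nil .nil))))))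
noncomputable def col176 : Tr Cl := (.node 75 [⟨138,(Int.ofNat 1),1⟩] (.node 31 [⟨89,(Int.negSucc 0),1⟩] (.node 9 [⟨24,(Int.negSucc 0),1⟩] (.node 4 [⟨184,(Int.ofNat 1),1⟩] (.node 2 [⟨184,(Int.ofNat 1),1⟩] (.node 1 [⟨184,(Int.ofNat 0),1⟩] (.node 0 [⟨184,(Int.negSucc 0),1⟩] .nil .nil) .nil) (.node 3 [⟨184,(Int.negSucc 0),1⟩] .nil .nil)) (.node 6 [⟨184,(Int.negSucc 0),1⟩] (.node 5 [⟨184,(Int.ofNat 0),1⟩] .nil .nil) (.node 7 [⟨184,(Int.ofNat 1),1⟩] .nil .nil))) (.node 18 [⟨55,(Int.negSucc 0),1⟩] (.node 14 [⟨36,(Int.ofNat 1),1⟩] (.node 12 [⟨27,(Int.negSucc 0),1⟩] .nil .nil) (.node 16 [⟨46,(Int.ofNat 1),1⟩] .nil .nil)) (.node 21 [⟨59,(Int.ofNat 1),1⟩] (.node 19 [⟨57,(Int.negSucc 0),1⟩] .nil .nil) (.node 30 [⟨87,(Int.negSucc 0),1⟩] .nil .nil)))) (.node 61 [⟨112,(Int.ofNat 1),1⟩] (.node 42 [⟨99,(Int.negSucc 0),1⟩] (.node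 38 [⟨96,(Int.ofNat 1),1⟩] (.node 33 [⟨91,(Int.ofNat 1),1⟩] .nil .nil) (.node 40 [⟨98,(Int.negSucc 0),1⟩] .nil .nil)) (.node 50 [⟨109,(Int.negSucc 0),1⟩] (.node 48 [⟨107,(Int.ofNat 1),1⟩] .nil .nil) (.node 52 [⟨110,(Int.negSucc 0),1⟩] .nil .nil))) (.node 70 [⟨127,(Int.ofNat 1),1⟩] (.node 66 [⟨120,(Int.ofNat 1),1⟩] (.node 64 [⟨118,(Int.negSucc 0),1⟩] .nil .nil) (.node 68 [⟨121,(Int.ofNat 1),1⟩] .nil .nil)) (.node 72 [⟨129,(Int.ofNat 1),1⟩] (.node 71 [⟨0,(Int.ofNat 1),1⟩, ⟨1,(Int.ofNat 1),1⟩, ⟨2,(Int.ofNat 1),1⟩, ⟨3,(Int.ofNat 2),1⟩, ⟨4,(Int.ofNat 1),1⟩, ⟨5,(Int.ofNat 1),1⟩, ⟨6,(Int.ofNat 1),1⟩, ⟨7,(Int.ofNat 0),1⟩, ⟨184,(Int.negSucc 0),2⟩] .nil .nil) (.node 73 [⟨132,(Int.ofNat 1),1⟩] .nil .nil))))) (.node 145 [⟨203,(Int.ofNat 1),1⟩] (.node 117 [⟨180,(Int.negSucc 0),1⟩] (.node 93 [⟨170,(Int.negSucc 0),1⟩] (.node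 83 [⟨153,(Int.negSucc 0),1⟩] (.node 80 [⟨150,(Int.ofNat 1),1⟩] (.node 78 [⟨141,(Int.negSucc 0),1⟩] .nil .nil) .nil) (.node 85 [⟨162,(Int.ofNat 1),1⟩] .nil .nil)) (.node 105 [⟨175,(Int.negSucc 0),1⟩] (.node 102 [⟨172,(Int.ofNat 1),1⟩] .nil .nil) (.node 114 [⟨177,(Int.ofNat 1),1⟩] .nil .nil))) (.node 134 [⟨187,(Int.negSucc 0),1⟩] (.node 126 [⟨183,(Int.negSucc 0),1⟩] (.node 123 [⟨182,(Int.negSucc 0),1⟩] .nil .nil) (.node 128 [⟨185,(Int.negSucc 0),1⟩] .nil .nil)) (.node 137 [⟨191,(Int.ofNat 1),1⟩] (.node 135 [⟨189,(Int.negSucc 0),1⟩] .nil .nil) (.node 143 [⟨194,(Int.negSucc 0),1⟩] .nil .nil)))) (.node 168 [⟨225,(Int.ofNat 1),1⟩] (.node 157 [⟨215,(Int.ofNat 1),1⟩] (.node 148 [⟨207,(Int.negSucc 0),1⟩] (.node 146 [⟨205,(Int.ofNat 1),1⟩] .nil .nil) (.node 156 [⟨213,(Int.ofNat 1),1⟩] .nil .nil)) (.node 164 [⟨222,(Int.negSucc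 0),1⟩] (.node 159 [⟨217,(Int.negSucc 0),1⟩] .nil .nil) (.node 166 [⟨224,(Int.ofNat 1),1⟩] .nil .nil))) (.node 209 [⟨239,(Int.negSucc 0),1⟩] (.node 198 [⟨236,(Int.ofNat 1),1⟩] (.node 196 [⟨234,(Int.negSucc 0),1⟩] .nil .nil) (.node 200 [⟨237,(Int.ofNat 1),1⟩] .nil .nil)) (.node 228 [⟨243,(Int.ofNat 1),1⟩] (.node 219 [⟨241,(Int.negSucc 0),1⟩] .nil .nil) (.node 231 [⟨246,(Int.ofNat 1),1⟩] .nil .nil))))))
noncomputable def col177 : Tr Cl := (.node 74 [⟨138,(Int.ofNat 1),1⟩] (.node 31 [⟨90,(Int.ofNat 1),1⟩] (.node 8 [⟨24,(Int.negSucc 0),1⟩] (.node 4 [⟨185,(Int.ofNat 1),1⟩] (.node 2 [⟨185,(Int.ofNat 1),1⟩] (.node 1 [⟨185,(Int.ofNat 0),1⟩] (.node 0 [⟨185,(Int.negSucc 0),1⟩] .nil .nil) .nil) (.node 3 [⟨185,(Int.negSucc 0),1⟩] .nil .nil)) (.node 6 [⟨185,(Int.ofNat 0),1⟩] (.node 5 [⟨185,(Int.ofNat 0),1⟩] .nil .nil) (.node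 7 [⟨185,(Int.negSucc 0),1⟩] .nil .nil))) (.node 18 [⟨56,(Int.ofNat 1),1⟩] (.node 14 [⟨37,(Int.negSucc 0),1⟩] (.node 12 [⟨28,(Int.ofNat 1),1⟩] .nil .nil) (.node 16 [⟨47,(Int.negSucc 0),1⟩] .nil .nil)) (.node 20 [⟨59,(Int.ofNat 1),1⟩] (.node 19 [⟨58,(Int.ofNat 1),1⟩] .nil .nil) (.node 30 [⟨88,(Int.ofNat 1),1⟩] .nil .nil)))) (.node 60 [⟨112,(Int.ofNat 1),1⟩] (.node 41 [⟨99,(Int.negSucc 0),1⟩] (.node 38 [⟨97,(Int.negSucc 0),1⟩] (.node 32 [⟨91,(Int.ofNat 1),1⟩] .nil .nil) (.node 39 [⟨98,(Int.negSucc 0),1⟩] .nil .nil)) (.node 49 [⟨109,(Int.negSucc 0),1⟩] (.node 48 [⟨108,(Int.negSucc 0),1⟩] .nil .nil) (.node 51 [⟨110,(Int.negSucc 0),1⟩] .nil .nil))) (.node 70 [⟨0,(Int.ofNat 1),1⟩, ⟨1,(Int.ofNat 1),1⟩, ⟨2,(Int.ofNat 1),1⟩, ⟨3,(Int.ofNat 2),1⟩, ⟨4,(Int.ofNat 1),1⟩, ⟨5,(Int.ofNat 1),1⟩, ⟨6,(Int.ofNat 1),1⟩, ⟨7,(Int.ofNat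 1),1⟩, ⟨185,(Int.negSucc 0),2⟩] (.node 65 [⟨120,(Int.ofNat 1),1⟩] (.node 64 [⟨119,(Int.ofNat 1),1⟩] .nil .nil) (.node 67 [⟨121,(Int.ofNat 1),1⟩] .nil .nil)) (.node 72 [⟨130,(Int.ofNat 1),1⟩] (.node 71 [⟨128,(Int.ofNat 1),1⟩] .nil .nil) (.node 73 [⟨133,(Int.ofNat 1),1⟩] .nil .nil))))) (.node 145 [⟨204,(Int.ofNat 1),1⟩] (.node 117 [⟨181,(Int.negSucc 0),1⟩] (.node 92 [⟨170,(Int.negSucc 0),1⟩] (.node 83 [⟨154,(Int.negSucc 0),1⟩] (.node 79 [⟨150,(Int.ofNat 1),1⟩] (.node 78 [⟨142,(Int.negSucc 0),1⟩] .nil .nil) .nil) (.node 85 [⟨163,(Int.ofNat 1),1⟩] .nil .nil)) (.node 105 [⟨176,(Int.negSucc 0),1⟩] (.node 101 [⟨172,(Int.ofNat 1),1⟩] .nil .nil) (.node 113 [⟨177,(Int.ofNat 1),1⟩] .nil .nil))) (.node 134 [⟨188,(Int.negSucc 0),1⟩] (.node 125 [⟨183,(Int.negSucc 0),1⟩] (.node 122 [⟨182,(Int.negSucc 0),1⟩] .nil .nil) (.node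 127 [⟨184,(Int.negSucc 0),1⟩] .nil .nil)) (.node 136 [⟨191,(Int.negSucc 0),1⟩] (.node 135 [⟨190,(Int.negSucc 0),1⟩] .nil .nil) (.node 143 [⟨195,(Int.negSucc 0),1⟩] .nil .nil)))) (.node 167 [⟨225,(Int.negSucc 0),1⟩] (.node 157 [⟨216,(Int.ofNat 1),1⟩] (.node 147 [⟨207,(Int.ofNat 1),1⟩] (.node 146 [⟨206,(Int.ofNat 1),1⟩] .nil .nil) (.node 156 [⟨214,(Int.ofNat 1),1⟩] .nil .nil)) (.node 164 [⟨223,(Int.negSucc 0),1⟩] (.node 158 [⟨217,(Int.ofNat 1),1⟩] .nil .nil) (.node 165 [⟨224,(Int.negSucc 0),1⟩] .nil .nil))) (.node 208 [⟨239,(Int.ofNat 1),1⟩] (.node 197 [⟨236,(Int.negSucc 0),1⟩] (.node 196 [⟨235,(Int.negSucc 0),1⟩] .nil .nil) (.node 199 [⟨237,(Int.negSucc 0),1⟩] .nil .nil)) (.node 227 [⟨243,(Int.negSucc 0),1⟩] (.node 218 [⟨241,(Int.ofNat 1),1⟩] .nil .nil) (.node 231 [⟨247,(Int.ofNat 1),1⟩] .nil .nil))))))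
noncomputable def col178 : Tr Cl := (.node 76 [⟨139,(Int.ofNat 1),1⟩] (.node 32 [⟨92,(Int.ofNat 1),1⟩] (.node 10 [⟨25,(Int.ofNat 1),1⟩] (.node 4 [⟨186,(Int.negSucc 0),1⟩] (.node 2 [⟨186,(Int.ofNat 1),1⟩] (.node 1 [⟨186,(Int.ofNat 0),1⟩] (.node 0 [⟨186,(Int.negSucc 0),1⟩] .nil .nil) .nil) (.node 3 [⟨186,(Int.ofNat 0),1⟩] .nil .nil)) (.node 6 [⟨186,(Int.ofNat 1),1⟩] (.node 5 [⟨186,(Int.ofNat 0),1⟩] .nil .nil) (.node 7 [⟨186,(Int.ofNat 0),1⟩] .nil .nil))) (.node 17 [⟨54,(Int.ofNat 1),1⟩] (.node 14 [⟨38,(Int.ofNat 1),1⟩] (.node 11 [⟨26,(Int.ofNat 1),1⟩] .nil .nil) (.node 16 [⟨48,(Int.ofNat 1),1⟩] .nil .nil)) (.node 21 [⟨61,(Int.ofNat 1),1⟩] (.node 20 [⟨60,(Int.ofNat 1),1⟩] .nil .nil) (.node 29 [⟨86,(Int.ofNat 1),1⟩] .nil .nil)))) (.node 59 [⟨112,(Int.ofNat 1),1⟩] (.node 43 [⟨100,(Int.ofNat 1),1⟩] (.node 36 [⟨96,(Int.ofNat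 1),1⟩] (.node 33 [⟨93,(Int.ofNat 1),1⟩] .nil .nil) (.node 37 [⟨97,(Int.ofNat 1),1⟩] .nil .nil)) (.node 47 [⟨108,(Int.ofNat 1),1⟩] (.node 46 [⟨107,(Int.ofNat 1),1⟩] .nil .nil) (.node 53 [⟨111,(Int.ofNat 1),1⟩] .nil .nil))) (.node 68 [⟨126,(Int.ofNat 1),1⟩] (.node 66 [⟨123,(Int.negSucc 0),1⟩] (.node 65 [⟨122,(Int.negSucc 0),1⟩] .nil .nil) (.node 67 [⟨125,(Int.ofNat 1),1⟩] .nil .nil)) (.node 72 [⟨134,(Int.ofNat 1),1⟩] (.node 69 [⟨0,(Int.ofNat 1),1⟩, ⟨1,(Int.ofNat 1),1⟩, ⟨2,(Int.ofNat 1),1⟩, ⟨3,(Int.ofNat 2),1⟩, ⟨4,(Int.ofNat 2),1⟩, ⟨5,(Int.ofNat 1),1⟩, ⟨6,(Int.ofNat 0),1⟩, ⟨7,(Int.ofNat 0),1⟩, ⟨186,(Int.negSucc 0),2⟩] .nil .nil) (.node 73 [⟨135,(Int.negSucc 0),1⟩] .nil .nil))))) (.node 144 [⟨202,(Int.negSucc 0),1⟩] (.node 116 [⟨179,(Int.negSucc 0),1⟩] (.node 91 [⟨170,(Int.negSucc 0),1⟩] (.node 82 [⟨152,(Int.negSucc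 0),1⟩] (.node 81 [⟨151,(Int.ofNat 1),1⟩] (.node 77 [⟨140,(Int.negSucc 0),1⟩] .nil .nil) .nil) (.node 85 [⟨164,(Int.ofNat 1),1⟩] .nil .nil)) (.node 104 [⟨174,(Int.negSucc 0),1⟩] (.node 103 [⟨173,(Int.ofNat 1),1⟩] .nil .nil) (.node 115 [⟨178,(Int.ofNat 1),1⟩] .nil .nil))) (.node 130 [⟨188,(Int.negSucc 0),1⟩] (.node 121 [⟨183,(Int.negSucc 0),1⟩] (.node 120 [⟨182,(Int.ofNat 1),1⟩] .nil .nil) (.node 129 [⟨187,(Int.negSucc 0),1⟩] .nil .nil)) (.node 133 [⟨190,(Int.ofNat 1),1⟩] (.node 132 [⟨189,(Int.ofNat 1),1⟩] .nil .nil) (.node 143 [⟨196,(Int.negSucc 0),1⟩] .nil .nil)))) (.node 169 [⟨226,(Int.negSucc 0),1⟩] (.node 158 [⟨218,(Int.negSucc 0),1⟩] (.node 148 [⟨209,(Int.negSucc 0),1⟩] (.node 147 [⟨208,(Int.negSucc 0),1⟩] .nil .nil) (.node 155 [⟨212,(Int.negSucc 0),1⟩] .nil .nil)) (.node 162 [⟨222,(Int.negSucc 0),1⟩] (.node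 159 [⟨219,(Int.negSucc 0),1⟩] .nil .nil) (.node 163 [⟨223,(Int.negSucc 0),1⟩] .nil .nil))) (.node 207 [⟨239,(Int.negSucc 0),1⟩] (.node 195 [⟨235,(Int.negSucc 0),1⟩] (.node 194 [⟨234,(Int.negSucc 0),1⟩] .nil .nil) (.node 201 [⟨238,(Int.negSucc 0),1⟩] .nil .nil)) (.node 229 [⟨244,(Int.negSucc 0),1⟩] (.node 217 [⟨241,(Int.negSucc 0),1⟩] .nil .nil) (.node 230 [⟨245,(Int.negSucc 0),1⟩] .nil .nil))))))
noncomputable def col179 : Tr Cl := (.node 75 [⟨139,(Int.ofNat 1),1⟩] (.node 31 [⟨92,(Int.ofNat 1),1⟩] (.node 9 [⟨25,(Int.ofNat 1),1⟩] (.node 4 [⟨187,(Int.negSucc 0),1⟩] (.node 2 [⟨187,(Int.ofNat 1),1⟩] (.node 1 [⟨187,(Int.ofNat 0),1⟩] (.node 0 [⟨187,(Int.negSucc 0),1⟩] .nil .nil) .nil) (.node 3 [⟨187,(Int.ofNat 0),1⟩] .nil .nil)) (.node 6 [⟨187,(Int.negSucc 0),1⟩] (.node 5 [⟨187,(Int.ofNat 1),1⟩] .nil .nil) (.node 7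 [⟨187,(Int.ofNat 1),1⟩] .nil .nil))) (.node 17 [⟨55,(Int.negSucc 0),1⟩] (.node 14 [⟨39,(Int.negSucc 0),1⟩] (.node 11 [⟨27,(Int.negSucc 0),1⟩] .nil .nil) (.node 16 [⟨49,(Int.negSucc 0),1⟩] .nil .nil)) (.node 21 [⟨62,(Int.negSucc 0),1⟩] (.node 19 [⟨60,(Int.ofNat 1),1⟩] .nil .nil) (.node 29 [⟨87,(Int.negSucc 0),1⟩] .nil .nil)))) (.node 58 [⟨112,(Int.ofNat 1),1⟩] (.node 42 [⟨100,(Int.ofNat 1),1⟩] (.node 35 [⟨96,(Int.ofNat 1),1⟩] (.node 33 [⟨94,(Int.negSucc 0),1⟩] .nil .nil) (.node 37 [⟨98,(Int.negSucc 0),1⟩] .nil .nil)) (.node 47 [⟨109,(Int.negSucc 0),1⟩] (.node 45 [⟨107,(Int.ofNat 1),1⟩] .nil .nil) (.node 52 [⟨111,(Int.ofNat 1),1⟩] .nil .nil))) (.node 68 [⟨0,(Int.ofNat 1),1⟩, ⟨1,(Int.ofNat 1),1⟩, ⟨2,(Int.ofNat 1),1⟩, ⟨3,(Int.ofNat 2),1⟩, ⟨4,(Int.ofNat 2),1⟩, ⟨5,(Int.ofNat 1),1⟩, ⟨6,(Int.ofNat 1),1⟩, ⟨7,(Int.ofNat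 0),1⟩, ⟨187,(Int.negSucc 0),2⟩] (.node 66 [⟨124,(Int.ofNat 1),1⟩] (.node 64 [⟨122,(Int.negSucc 0),1⟩] .nil .nil) (.node 67 [⟨127,(Int.ofNat 1),1⟩] .nil .nil)) (.node 71 [⟨134,(Int.ofNat 1),1⟩] (.node 69 [⟨129,(Int.ofNat 1),1⟩] .nil .nil) (.node 73 [⟨136,(Int.negSucc 0),1⟩] .nil .nil))))) (.node 144 [⟨203,(Int.negSucc 0),1⟩] (.node 116 [⟨180,(Int.negSucc 0),1⟩] (.node 90 [⟨170,(Int.negSucc 0),1⟩] (.node 82 [⟨153,(Int.negSucc 0),1⟩] (.node 80 [⟨151,(Int.ofNat 1),1⟩] (.node 77 [⟨141,(Int.negSucc 0),1⟩] .nil .nil) .nil) (.node 85 [⟨165,(Int.ofNat 1),1⟩] .nil .nil)) (.node 104 [⟨175,(Int.negSucc 0),1⟩] (.node 102 [⟨173,(Int.ofNat 1),1⟩] .nil .nil) (.node 114 [⟨178,(Int.ofNat 1),1⟩] .nil .nil))) (.node 128 [⟨188,(Int.negSucc 0),1⟩] (.node 121 [⟨184,(Int.negSucc 0),1⟩] (.node 119 [⟨182,(Int.ofNat 1),1⟩] .nil .nil) (.node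 126 [⟨186,(Int.negSucc 0),1⟩] .nil .nil)) (.node 133 [⟨191,(Int.ofNat 1),1⟩] (.node 131 [⟨189,(Int.negSucc 0),1⟩] .nil .nil) (.node 143 [⟨197,(Int.negSucc 0),1⟩] .nil .nil)))) (.node 168 [⟨226,(Int.ofNat 1),1⟩] (.node 157 [⟨218,(Int.ofNat 1),1⟩] (.node 148 [⟨210,(Int.negSucc 0),1⟩] (.node 146 [⟨208,(Int.ofNat 1),1⟩] .nil .nil) (.node 155 [⟨213,(Int.negSucc 0),1⟩] .nil .nil)) (.node 161 [⟨222,(Int.ofNat 1),1⟩] (.node 159 [⟨220,(Int.negSucc 0),1⟩] .nil .nil) (.node 163 [⟨224,(Int.negSucc 0),1⟩] .nil .nil))) (.node 206 [⟨239,(Int.ofNat 1),1⟩] (.node 195 [⟨236,(Int.negSucc 0),1⟩] (.node 193 [⟨234,(Int.ofNat 1),1⟩] .nil .nil) (.node 200 [⟨238,(Int.ofNat 1),1⟩] .nil .nil)) (.node 228 [⟨244,(Int.ofNat 1),1⟩] (.node 216 [⟨241,(Int.ofNat 1),1⟩] .nil .nil) (.node 230 [⟨246,(Int.negSucc 0),1⟩] .nil .nil))))))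
noncomputable def col180 : Tr Cl := (.node 74 [⟨139,(Int.ofNat 1),1⟩] (.node 31 [⟨93,(Int.negSucc 0),1⟩] (.node 8 [⟨25,(Int.ofNat 1),1⟩] (.node 4 [⟨188,(Int.negSucc 0),1⟩] (.node 2 [⟨188,(Int.ofNat 1),1⟩] (.node 1 [⟨188,(Int.ofNat 0),1⟩] (.node 0 [⟨188,(Int.negSucc 0),1⟩] .nil .nil) .nil) (.node 3 [⟨188,(Int.ofNat 0),1⟩] .nil .nil)) (.node 6 [⟨188,(Int.ofNat 0),1⟩] (.node 5 [⟨188,(Int.ofNat 1),1⟩] .nil .nil) (.node 7 [⟨188,(Int.negSucc 0),1⟩] .nil .nil))) (.node 17 [⟨56,(Int.ofNat 1),1⟩] (.node 14 [⟨40,(Int.ofNat 1),1⟩] (.node 11 [⟨28,(Int.ofNat 1),1⟩] .nil .nil) (.node 16 [⟨50,(Int.ofNat 1),1⟩] .nil .nil)) (.node 20 [⟨62,(Int.negSucc 0),1⟩] (.node 19 [⟨61,(Int.negSucc 0),1⟩] .nil .nil) (.node 29 [⟨88,(Int.ofNat 1),1⟩] .nil .nil)))) (.node 57 [⟨112,(Int.ofNat 1),1⟩] (.node 41 [⟨100,(Int.ofNat 1),1⟩] (.node 35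 [⟨97,(Int.negSucc 0),1⟩] (.node 32 [⟨94,(Int.negSucc 0),1⟩] .nil .nil) (.node 36 [⟨98,(Int.negSucc 0),1⟩] .nil .nil)) (.node 46 [⟨109,(Int.negSucc 0),1⟩] (.node 45 [⟨108,(Int.negSucc 0),1⟩] .nil .nil) (.node 51 [⟨111,(Int.ofNat 1),1⟩] .nil .nil))) (.node 68 [⟨128,(Int.ofNat 1),1⟩] (.node 65 [⟨124,(Int.ofNat 1),1⟩] (.node 64 [⟨123,(Int.ofNat 1),1⟩] .nil .nil) (.node 67 [⟨0,(Int.ofNat 1),1⟩, ⟨1,(Int.ofNat 1),1⟩, ⟨2,(Int.ofNat 1),1⟩, ⟨3,(Int.ofNat 2),1⟩, ⟨4,(Int.ofNat 2),1⟩, ⟨5,(Int.ofNat 1),1⟩, ⟨6,(Int.ofNat 1),1⟩, ⟨7,(Int.ofNat 1),1⟩, ⟨188,(Int.negSucc 0),2⟩] .nil .nil)) (.node 70 [⟨134,(Int.ofNat 1),1⟩] (.node 69 [⟨130,(Int.ofNat 1),1⟩] .nil .nil) (.node 73 [⟨137,(Int.negSucc 0),1⟩] .nil .nil))))) (.node 144 [⟨204,(Int.negSucc 0),1⟩] (.node 116 [⟨181,(Int.negSucc 0),1⟩] (.node 89 [⟨170,(Int.negSucc 0),1⟩] (.node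 82 [⟨154,(Int.negSucc 0),1⟩] (.node 79 [⟨151,(Int.ofNat 1),1⟩] (.node 77 [⟨142,(Int.negSucc 0),1⟩] .nil .nil) .nil) (.node 85 [⟨166,(Int.ofNat 1),1⟩] .nil .nil)) (.node 104 [⟨176,(Int.negSucc 0),1⟩] (.node 101 [⟨173,(Int.ofNat 1),1⟩] .nil .nil) (.node 113 [⟨178,(Int.ofNat 1),1⟩] .nil .nil))) (.node 127 [⟨187,(Int.negSucc 0),1⟩] (.node 121 [⟨185,(Int.negSucc 0),1⟩] (.node 118 [⟨182,(Int.ofNat 1),1⟩] .nil .nil) (.node 125 [⟨186,(Int.negSucc 0),1⟩] .nil .nil)) (.node 132 [⟨191,(Int.negSucc 0),1⟩] (.node 131 [⟨190,(Int.negSucc 0),1⟩] .nil .nil) (.node 143 [⟨198,(Int.negSucc 0),1⟩] .nil .nil)))) (.node 167 [⟨226,(Int.negSucc 0),1⟩] (.node 157 [⟨219,(Int.ofNat 1),1⟩] (.node 147 [⟨210,(Int.ofNat 1),1⟩] (.node 146 [⟨209,(Int.ofNat 1),1⟩] .nil .nil) (.node 155 [⟨214,(Int.negSucc 0),1⟩] .nil .nil)) (.node 161 [⟨223,(Int.ofNat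 1),1⟩] (.node 158 [⟨220,(Int.ofNat 1),1⟩] .nil .nil) (.node 162 [⟨224,(Int.ofNat 1),1⟩] .nil .nil))) (.node 205 [⟨239,(Int.negSucc 0),1⟩] (.node 194 [⟨236,(Int.ofNat 1),1⟩] (.node 193 [⟨235,(Int.ofNat 1),1⟩] .nil .nil) (.node 199 [⟨238,(Int.negSucc 0),1⟩] .nil .nil)) (.node 227 [⟨244,(Int.negSucc 0),1⟩] (.node 215 [⟨241,(Int.negSucc 0),1⟩] .nil .nil) (.node 230 [⟨247,(Int.negSucc 0),1⟩] .nil .nil))))))
noncomputable def col181 : Tr Cl := (.node 75 [⟨140,(Int.ofNat 1),1⟩] (.node 30 [⟨92,(Int.ofNat 1),1⟩] (.node 9 [⟨26,(Int.negSucc 0),1⟩] (.node 4 [⟨189,(Int.ofNat 0),1⟩] (.node 2 [⟨189,(Int.ofNat 1),1⟩] (.node 1 [⟨189,(Int.ofNat 0),1⟩] (.node 0 [⟨189,(Int.negSucc 0),1⟩] .nil .nil) .nil) (.node 3 [⟨189,(Int.ofNat 0),1⟩] .nil .nil)) (.node 6 [⟨189,(Int.ofNat 0),1⟩] (.node 5 [⟨189,(Int.negSucc 0),1⟩] .nil .nil) (.node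 7 [⟨189,(Int.ofNat 1),1⟩] .nil .nil))) (.node 17 [⟨57,(Int.ofNat 1),1⟩] (.node 14 [⟨41,(Int.ofNat 1),1⟩] (.node 10 [⟨27,(Int.negSucc 0),1⟩] .nil .nil) (.node 16 [⟨51,(Int.ofNat 1),1⟩] .nil .nil)) (.node 21 [⟨63,(Int.ofNat 1),1⟩] (.node 18 [⟨60,(Int.ofNat 1),1⟩] .nil .nil) (.node 29 [⟨89,(Int.ofNat 1),1⟩] .nil .nil)))) (.node 56 [⟨112,(Int.ofNat 1),1⟩] (.node 40 [⟨100,(Int.ofNat 1),1⟩] (.node 34 [⟨96,(Int.ofNat 1),1⟩] (.node 33 [⟨95,(Int.ofNat 1),1⟩] .nil .nil) (.node 37 [⟨99,(Int.ofNat 1),1⟩] .nil .nil)) (.node 47 [⟨110,(Int.ofNat 1),1⟩] (.node 44 [⟨107,(Int.ofNat 1),1⟩] .nil .nil) (.node 50 [⟨111,(Int.ofNat 1),1⟩] .nil .nil))) (.node 68 [⟨131,(Int.ofNat 1),1⟩] (.node 65 [⟨127,(Int.ofNat 1),1⟩] (.node 64 [⟨125,(Int.negSucc 0),1⟩] .nil .nil) (.node 66 [⟨0,(Int.ofNat 1),1⟩, ⟨1,(Int.ofNat 1),1⟩, ⟨2,(Int.ofNat 1),1⟩,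 ⟨3,(Int.ofNat 2),1⟩, ⟨4,(Int.ofNat 2),1⟩, ⟨5,(Int.ofNat 2),1⟩, ⟨6,(Int.ofNat 1),1⟩, ⟨7,(Int.ofNat 0),1⟩, ⟨189,(Int.negSucc 0),2⟩] .nil .nil)) (.node 71 [⟨135,(Int.ofNat 1),1⟩] (.node 69 [⟨132,(Int.negSucc 0),1⟩] .nil .nil) (.node 72 [⟨136,(Int.negSucc 0),1⟩] .nil .nil))))) (.node 144 [⟨205,(Int.negSucc 0),1⟩] (.node 115 [⟨180,(Int.negSucc 0),1⟩] (.node 88 [⟨170,(Int.negSucc 0),1⟩] (.node 81 [⟨153,(Int.negSucc 0),1⟩] (.node 80 [⟨152,(Int.ofNat 1),1⟩] (.node 76 [⟨141,(Int.negSucc 0),1⟩] .nil .nil) .nil) (.node 85 [⟨167,(Int.ofNat 1),1⟩] .nil .nil)) (.node 103 [⟨175,(Int.negSucc 0),1⟩] (.node 102 [⟨174,(Int.ofNat 1),1⟩] .nil .nil) (.node 114 [⟨179,(Int.ofNat 1),1⟩] .nil .nil))) (.node 124 [⟨187,(Int.negSucc 0),1⟩] (.node 120 [⟨184,(Int.negSucc 0),1⟩] (.node 119 [⟨183,(Int.ofNat 1),1⟩] .nil .nil) (.node 123 [⟨186,(Int.ofNat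 1),1⟩] .nil .nil)) (.node 130 [⟨191,(Int.ofNat 1),1⟩] (.node 128 [⟨190,(Int.negSucc 0),1⟩] .nil .nil) (.node 143 [⟨199,(Int.negSucc 0),1⟩] .nil .nil)))) (.node 166 [⟨226,(Int.negSucc 0),1⟩] (.node 156 [⟨218,(Int.negSucc 0),1⟩] (.node 148 [⟨211,(Int.negSucc 0),1⟩] (.node 145 [⟨208,(Int.negSucc 0),1⟩] .nil .nil) (.node 155 [⟨215,(Int.negSucc 0),1⟩] .nil .nil)) (.node 160 [⟨222,(Int.negSucc 0),1⟩] (.node 159 [⟨221,(Int.negSucc 0),1⟩] .nil .nil) (.node 163 [⟨225,(Int.negSucc 0),1⟩] .nil .nil))) (.node 204 [⟨239,(Int.negSucc 0),1⟩] (.node 195 [⟨237,(Int.negSucc 0),1⟩] (.node 192 [⟨234,(Int.negSucc 0),1⟩] .nil .nil) (.node 198 [⟨238,(Int.negSucc 0),1⟩] .nil .nil)) (.node 228 [⟨245,(Int.ofNat 1),1⟩] (.node 214 [⟨241,(Int.negSucc 0),1⟩] .nil .nil) (.node 229 [⟨246,(Int.ofNat 1),1⟩] .nil .nil))))))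
noncomputable def col182 : Tr Cl := (.node 74 [⟨140,(Int.ofNat 1),1⟩] (.node 30 [⟨93,(Int.negSucc 0),1⟩] (.node 8 [⟨26,(Int.negSucc 0),1⟩] (.node 4 [⟨190,(Int.ofNat 0),1⟩] (.node 2 [⟨190,(Int.ofNat 1),1⟩] (.node 1 [⟨190,(Int.ofNat 0),1⟩] (.node 0 [⟨190,(Int.negSucc 0),1⟩] .nil .nil) .nil) (.node 3 [⟨190,(Int.ofNat 0),1⟩] .nil .nil)) (.node 6 [⟨190,(Int.ofNat 1),1⟩] (.node 5 [⟨190,(Int.negSucc 0),1⟩] .nil .nil) (.node 7 [⟨190,(Int.negSucc 0),1⟩] .nil .nil))) (.node 17 [⟨58,(Int.negSucc 0),1⟩] (.node 14 [⟨42,(Int.negSucc 0),1⟩] (.node 10 [⟨28,(Int.ofNat 1),1⟩] .nil .nil) (.node 16 [⟨52,(Int.negSucc 0),1⟩] .nil .nil)) (.node 20 [⟨63,(Int.ofNat 1),1⟩] (.node 18 [⟨61,(Int.negSucc 0),1⟩] .nil .nil) (.node 29 [⟨90,(Int.negSucc 0),1⟩] .nil .nil)))) (.node 55 [⟨112,(Int.ofNat 1),1⟩] (.node 39 [⟨100,(Int.ofNat 1),1⟩] (.node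 34 [⟨97,(Int.negSucc 0),1⟩] (.node 32 [⟨95,(Int.ofNat 1),1⟩] .nil .nil) (.node 36 [⟨99,(Int.ofNat 1),1⟩] .nil .nil)) (.node 46 [⟨110,(Int.ofNat 1),1⟩] (.node 44 [⟨108,(Int.negSucc 0),1⟩] .nil .nil) (.node 49 [⟨111,(Int.ofNat 1),1⟩] .nil .nil))) (.node 67 [⟨131,(Int.ofNat 1),1⟩] (.node 65 [⟨0,(Int.ofNat 1),1⟩, ⟨1,(Int.ofNat 1),1⟩, ⟨2,(Int.ofNat 1),1⟩, ⟨3,(Int.ofNat 2),1⟩, ⟨4,(Int.ofNat 2),1⟩, ⟨5,(Int.ofNat 2),1⟩, ⟨6,(Int.ofNat 1),1⟩, ⟨7,(Int.ofNat 1),1⟩, ⟨190,(Int.negSucc 0),2⟩] (.node 64 [⟨126,(Int.ofNat 1),1⟩] .nil .nil) (.node 66 [⟨128,(Int.ofNat 1),1⟩] .nil .nil)) (.node 70 [⟨135,(Int.ofNat 1),1⟩] (.node 69 [⟨133,(Int.negSucc 0),1⟩] .nil .nil) (.node 72 [⟨137,(Int.negSucc 0),1⟩] .nil .nil))))) (.node 144 [⟨206,(Int.negSucc 0),1⟩] (.node 115 [⟨181,(Int.negSucc 0),1⟩] (.node 87 [⟨170,(Int.negSucc 0),1⟩] (.node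 81 [⟨154,(Int.negSucc 0),1⟩] (.node 79 [⟨152,(Int.ofNat 1),1⟩] (.node 76 [⟨142,(Int.negSucc 0),1⟩] .nil .nil) .nil) (.node 85 [⟨168,(Int.ofNat 1),1⟩] .nil .nil)) (.node 103 [⟨176,(Int.negSucc 0),1⟩] (.node 101 [⟨174,(Int.ofNat 1),1⟩] .nil .nil) (.node 113 [⟨179,(Int.ofNat 1),1⟩] .nil .nil))) (.node 124 [⟨188,(Int.negSucc 0),1⟩] (.node 120 [⟨185,(Int.negSucc 0),1⟩] (.node 118 [⟨183,(Int.ofNat 1),1⟩] .nil .nil) (.node 122 [⟨186,(Int.ofNat 1),1⟩] .nil .nil)) (.node 129 [⟨191,(Int.negSucc 0),1⟩] (.node 127 [⟨189,(Int.negSucc 0),1⟩] .nil .nil) (.node 143 [⟨200,(Int.negSucc 0),1⟩] .nil .nil)))) (.node 165 [⟨226,(Int.ofNat 1),1⟩] (.node 156 [⟨219,(Int.negSucc 0),1⟩] (.node 147 [⟨211,(Int.ofNat 1),1⟩] (.node 145 [⟨209,(Int.negSucc 0),1⟩] .nil .nil) (.node 155 [⟨216,(Int.negSucc 0),1⟩] .nil .nil)) (.node 160 [⟨223,(Int.negSucc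 0),1⟩] (.node 158 [⟨221,(Int.ofNat 1),1⟩] .nil .nil) (.node 162 [⟨225,(Int.ofNat 1),1⟩] .nil .nil))) (.node 203 [⟨239,(Int.ofNat 1),1⟩] (.node 194 [⟨237,(Int.ofNat 1),1⟩] (.node 192 [⟨235,(Int.negSucc 0),1⟩] .nil .nil) (.node 197 [⟨238,(Int.ofNat 1),1⟩] .nil .nil)) (.node 227 [⟨245,(Int.negSucc 0),1⟩] (.node 213 [⟨241,(Int.ofNat 1),1⟩] .nil .nil) (.node 229 [⟨247,(Int.ofNat 1),1⟩] .nil .nil))))))
noncomputable def col183 : Tr Cl := (.node 74 [⟨141,(Int.ofNat 1),1⟩] (.node 30 [⟨94,(Int.ofNat 1),1⟩] (.node 8 [⟨27,(Int.ofNat 1),1⟩] (.node 4 [⟨191,(Int.ofNat 0),1⟩] (.node 2 [⟨191,(Int.ofNat 1),1⟩] (.node 1 [⟨191,(Int.ofNat 0),1⟩] (.node 0 [⟨191,(Int.negSucc 0),1⟩] .nil .nil) .nil) (.node 3 [⟨191,(Int.ofNat 0),1⟩] .nil .nil)) (.node 6 [⟨191,(Int.negSucc 0),1⟩] (.node 5 [⟨191,(Int.ofNat 0),1⟩] .nil .nil) (.node 7 [⟨191,(Int.ofNat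 0),1⟩] .nil .nil))) (.node 17 [⟨59,(Int.ofNat 1),1⟩] (.node 14 [⟨43,(Int.ofNat 1),1⟩] (.node 9 [⟨28,(Int.ofNat 1),1⟩] .nil .nil) (.node 16 [⟨53,(Int.ofNat 1),1⟩] .nil .nil)) (.node 19 [⟨63,(Int.ofNat 1),1⟩] (.node 18 [⟨62,(Int.ofNat 1),1⟩] .nil .nil) (.node 29 [⟨91,(Int.ofNat 1),1⟩] .nil .nil)))) (.node 54 [⟨112,(Int.ofNat 1),1⟩] (.node 38 [⟨100,(Int.ofNat 1),1⟩] (.node 34 [⟨98,(Int.ofNat 1),1⟩] (.node 31 [⟨95,(Int.ofNat 1),1⟩] .nil .nil) (.node 35 [⟨99,(Int.ofNat 1),1⟩] .nil .nil)) (.node 45 [⟨110,(Int.ofNat 1),1⟩] (.node 44 [⟨109,(Int.ofNat 1),1⟩] .nil .nil) (.node 48 [⟨111,(Int.ofNat 1),1⟩] .nil .nil))) (.node 67 [⟨132,(Int.ofNat 1),1⟩] (.node 65 [⟨129,(Int.ofNat 1),1⟩] (.node 64 [⟨0,(Int.ofNat 1),1⟩, ⟨1,(Int.ofNat 1),1⟩, ⟨2,(Int.ofNat 1),1⟩, ⟨3,(Int.ofNat 2),1⟩, ⟨4,(Int.ofNat 2),1⟩, ⟨5,(Int.ofNat 2),1⟩, ⟨6,(Int.ofNat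 2),1⟩, ⟨7,(Int.ofNat 1),1⟩, ⟨191,(Int.negSucc 0),2⟩] .nil .nil) (.node 66 [⟨130,(Int.negSucc 0),1⟩] .nil .nil)) (.node 70 [⟨136,(Int.ofNat 1),1⟩] (.node 68 [⟨133,(Int.negSucc 0),1⟩] .nil .nil) (.node 71 [⟨137,(Int.negSucc 0),1⟩] .nil .nil))))) (.node 144 [⟨207,(Int.negSucc 0),1⟩] (.node 114 [⟨181,(Int.negSucc 0),1⟩] (.node 86 [⟨170,(Int.negSucc 0),1⟩] (.node 80 [⟨154,(Int.negSucc 0),1⟩] (.node 79 [⟨153,(Int.ofNat 1),1⟩] (.node 75 [⟨142,(Int.negSucc 0),1⟩] .nil .nil) .nil) (.node 85 [⟨169,(Int.ofNat 1),1⟩] .nil .nil)) (.node 102 [⟨176,(Int.negSucc 0),1⟩] (.node 101 [⟨175,(Int.ofNat 1),1⟩] .nil .nil) (.node 113 [⟨180,(Int.ofNat 1),1⟩] .nil .nil))) (.node 123 [⟨188,(Int.negSucc 0),1⟩] (.node 119 [⟨185,(Int.negSucc 0),1⟩] (.node 118 [⟨184,(Int.ofNat 1),1⟩] .nil .nil) (.node 122 [⟨187,(Int.ofNat 1),1⟩] .nil .nil))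 (.node 126 [⟨190,(Int.negSucc 0),1⟩] (.node 125 [⟨189,(Int.ofNat 1),1⟩] .nil .nil) (.node 143 [⟨201,(Int.negSucc 0),1⟩] .nil .nil)))) (.node 164 [⟨226,(Int.negSucc 0),1⟩] (.node 156 [⟨220,(Int.negSucc 0),1⟩] (.node 146 [⟨211,(Int.negSucc 0),1⟩] (.node 145 [⟨210,(Int.negSucc 0),1⟩] .nil .nil) (.node 155 [⟨217,(Int.negSucc 0),1⟩] .nil .nil)) (.node 160 [⟨224,(Int.negSucc 0),1⟩] (.node 157 [⟨221,(Int.negSucc 0),1⟩] .nil .nil) (.node 161 [⟨225,(Int.negSucc 0),1⟩] .nil .nil))) (.node 202 [⟨239,(Int.negSucc 0),1⟩] (.node 193 [⟨237,(Int.negSucc 0),1⟩] (.node 192 [⟨236,(Int.negSucc 0),1⟩] .nil .nil) (.node 196 [⟨238,(Int.negSucc 0),1⟩] .nil .nil)) (.node 227 [⟨246,(Int.negSucc 0),1⟩] (.node 212 [⟨241,(Int.negSucc 0),1⟩] .nil .nil) (.node 228 [⟨247,(Int.negSucc 0),1⟩] .nil .nil))))))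
noncomputable def col184 : Tr Cl := (.node 77 [⟨144,(Int.negSucc 0),1⟩] (.node 27 [⟨87,(Int.ofNat 1),1⟩] (.node 11 [⟨29,(Int.ofNat 1),1⟩] (.node 4 [⟨192,(Int.ofNat 0),1⟩] (.node 2 [⟨192,(Int.negSucc 0),1⟩] (.node 1 [⟨192,(Int.ofNat 0),1⟩] (.node 0 [⟨192,(Int.ofNat 0),1⟩] .nil .nil) .nil) (.node 3 [⟨192,(Int.ofNat 0),1⟩] .nil .nil)) (.node 6 [⟨192,(Int.ofNat 0),1⟩] (.node 5 [⟨192,(Int.ofNat 1),1⟩] .nil .nil) (.node 7 [⟨192,(Int.ofNat 0),1⟩] .nil .nil))) (.node 19 [⟨64,(Int.negSucc 0),1⟩] (.node 13 [⟨34,(Int.ofNat 1),1⟩] (.node 12 [⟨30,(Int.ofNat 1),1⟩] .nil .nil) (.node 15 [⟨44,(Int.ofNat 1),1⟩] .nil .nil)) (.node 21 [⟨66,(Int.negSucc 0),1⟩] (.node 20 [⟨65,(Int.negSucc 0),1⟩] .nil .nil) (.node 26 [⟨86,(Int.ofNat 1),1⟩] .nil .nil)))) (.node 57 [⟨118,(Int.negSucc 0),1⟩] (.node 43 [⟨103,(Int.negSucc 0),1⟩] (.node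 41 [⟨101,(Int.negSucc 0),1⟩] (.node 28 [⟨88,(Int.ofNat 1),1⟩] .nil .nil) (.node 42 [⟨102,(Int.negSucc 0),1⟩] .nil .nil)) (.node 52 [⟨114,(Int.ofNat 1),1⟩] (.node 51 [⟨113,(Int.ofNat 1),1⟩] .nil .nil) (.node 53 [⟨115,(Int.ofNat 1),1⟩] .nil .nil))) (.node 61 [⟨123,(Int.ofNat 1),1⟩] (.node 59 [⟨120,(Int.negSucc 0),1⟩] (.node 58 [⟨119,(Int.negSucc 0),1⟩] .nil .nil) (.node 60 [⟨122,(Int.ofNat 1),1⟩] .nil .nil)) (.node 63 [⟨0,(Int.ofNat 1),1⟩, ⟨1,(Int.ofNat 1),1⟩, ⟨2,(Int.ofNat 2),1⟩, ⟨3,(Int.ofNat 2),1⟩, ⟨4,(Int.ofNat 1),1⟩, ⟨5,(Int.ofNat 0),1⟩, ⟨6,(Int.ofNat 0),1⟩, ⟨7,(Int.ofNat 0),1⟩, ⟨192,(Int.negSucc 0),2⟩] (.node 62 [⟨124,(Int.ofNat 1),1⟩] .nil .nil) (.node 73 [⟨143,(Int.ofNat 1),1⟩] .nil .nil))))) (.node 140 [⟨202,(Int.negSucc 0),1⟩] (.node 111 [⟨178,(Int.ofNat 1),1⟩] (.node 95 [⟨171,(Int.negSucc 0),1⟩] (.node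 83 [⟨156,(Int.negSucc 0),1⟩] (.node 82 [⟨155,(Int.ofNat 1),1⟩] (.node 78 [⟨145,(Int.ofNat 1),1⟩] .nil .nil) .nil) (.node 84 [⟨160,(Int.ofNat 1),1⟩] .nil .nil)) (.node 100 [⟨173,(Int.negSucc 0),1⟩] (.node 99 [⟨172,(Int.ofNat 1),1⟩] .nil .nil) (.node 110 [⟨177,(Int.negSucc 0),1⟩] .nil .nil))) (.node 133 [⟨195,(Int.negSucc 0),1⟩] (.node 131 [⟨193,(Int.negSucc 0),1⟩] (.node 112 [⟨182,(Int.negSucc 0),1⟩] .nil .nil) (.node 132 [⟨194,(Int.negSucc 0),1⟩] .nil .nil)) (.node 136 [⟨197,(Int.ofNat 1),1⟩] (.node 135 [⟨196,(Int.ofNat 1),1⟩] .nil .nil) (.node 137 [⟨198,(Int.ofNat 1),1⟩] .nil .nil)))) (.node 169 [⟨229,(Int.negSucc 0),1⟩] (.node 153 [⟨213,(Int.ofNat 1),1⟩] (.node 142 [⟨204,(Int.negSucc 0),1⟩] (.node 141 [⟨203,(Int.negSucc 0),1⟩] .nil .nil) (.node 152 [⟨212,(Int.ofNat 1),1⟩] .nil .nil)) (.node 167 [⟨227,(Int.negSucc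 0),1⟩] (.node 154 [⟨214,(Int.ofNat 1),1⟩] .nil .nil) (.node 168 [⟨228,(Int.negSucc 0),1⟩] .nil .nil))) (.node 211 [⟨240,(Int.negSucc 0),1⟩] (.node 190 [⟨235,(Int.ofNat 1),1⟩] (.node 189 [⟨234,(Int.ofNat 1),1⟩] .nil .nil) (.node 191 [⟨236,(Int.ofNat 1),1⟩] .nil .nil)) (.node 225 [⟨243,(Int.negSucc 0),1⟩] (.node 221 [⟨242,(Int.negSucc 0),1⟩] .nil .nil) (.node 226 [⟨244,(Int.negSucc 0),1⟩] .nil .nil))))))
noncomputable def col185 : Tr Cl := (.node 76 [⟨144,(Int.negSucc 0),1⟩] (.node 27 [⟨89,(Int.negSucc 0),1⟩] (.node 10 [⟨29,(Int.ofNat 1),1⟩] (.node 4 [⟨193,(Int.ofNat 1),1⟩] (.node 2 [⟨193,(Int.negSucc 0),1⟩] (.node 1 [⟨193,(Int.ofNat 0),1⟩] (.node 0 [⟨193,(Int.ofNat 0),1⟩] .nil .nil) .nil) (.node 3 [⟨193,(Int.ofNat 0),1⟩] .nil .nil)) (.node 6 [⟨193,(Int.ofNat 1),1⟩] (.node 5 [⟨193,(Int.negSucc 0),1⟩] .nil .nil)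 (.node 7 [⟨193,(Int.ofNat 0),1⟩] .nil .nil))) (.node 18 [⟨64,(Int.negSucc 0),1⟩] (.node 13 [⟨35,(Int.negSucc 0),1⟩] (.node 12 [⟨31,(Int.negSucc 0),1⟩] .nil .nil) (.node 15 [⟨45,(Int.negSucc 0),1⟩] .nil .nil)) (.node 21 [⟨68,(Int.ofNat 1),1⟩] (.node 20 [⟨67,(Int.ofNat 1),1⟩] .nil .nil) (.node 25 [⟨86,(Int.ofNat 1),1⟩] .nil .nil)))) (.node 55 [⟨118,(Int.negSucc 0),1⟩] (.node 43 [⟨104,(Int.ofNat 1),1⟩] (.node 39 [⟨101,(Int.negSucc 0),1⟩] (.node 28 [⟨90,(Int.negSucc 0),1⟩] .nil .nil) (.node 40 [⟨102,(Int.negSucc 0),1⟩] .nil .nil)) (.node 50 [⟨114,(Int.ofNat 1),1⟩] (.node 49 [⟨113,(Int.ofNat 1),1⟩] .nil .nil) (.node 53 [⟨116,(Int.negSucc 0),1⟩] .nil .nil))) (.node 61 [⟨126,(Int.ofNat 1),1⟩] (.node 59 [⟨121,(Int.ofNat 1),1⟩] (.node 56 [⟨119,(Int.negSucc 0),1⟩] .nil .nil) (.node 60 [⟨125,(Int.ofNat 1),1⟩] .nil .nil))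 (.node 63 [⟨131,(Int.ofNat 1),1⟩] (.node 62 [⟨0,(Int.ofNat 1),1⟩, ⟨1,(Int.ofNat 1),1⟩, ⟨2,(Int.ofNat 2),1⟩, ⟨3,(Int.ofNat 2),1⟩, ⟨4,(Int.ofNat 1),1⟩, ⟨5,(Int.ofNat 1),1⟩, ⟨6,(Int.ofNat 0),1⟩, ⟨7,(Int.ofNat 0),1⟩, ⟨193,(Int.negSucc 0),2⟩] .nil .nil) (.node 72 [⟨143,(Int.ofNat 1),1⟩] .nil .nil))))) (.node 139 [⟨202,(Int.ofNat 1),1⟩] (.node 111 [⟨179,(Int.ofNat 1),1⟩] (.node 94 [⟨171,(Int.negSucc 0),1⟩] (.node 83 [⟨157,(Int.negSucc 0),1⟩] (.node 81 [⟨155,(Int.ofNat 1),1⟩] (.node 78 [⟨146,(Int.ofNat 1),1⟩] .nil .nil) .nil) (.node 84 [⟨161,(Int.ofNat 1),1⟩] .nil .nil)) (.node 100 [⟨174,(Int.negSucc 0),1⟩] (.node 98 [⟨172,(Int.ofNat 1),1⟩] .nil .nil) (.node 109 [⟨177,(Int.negSucc 0),1⟩] .nil .nil))) (.node 130 [⟨195,(Int.negSucc 0),1⟩] (.node 124 [⟨192,(Int.negSucc 0),1⟩] (.node 112 [⟨183,(Int.negSucc 0),1⟩] .nil .nil)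 (.node 129 [⟨194,(Int.negSucc 0),1⟩] .nil .nil)) (.node 136 [⟨199,(Int.ofNat 1),1⟩] (.node 134 [⟨196,(Int.negSucc 0),1⟩] .nil .nil) (.node 137 [⟨200,(Int.ofNat 1),1⟩] .nil .nil)))) (.node 169 [⟨230,(Int.negSucc 0),1⟩] (.node 153 [⟨215,(Int.ofNat 1),1⟩] (.node 142 [⟨206,(Int.negSucc 0),1⟩] (.node 141 [⟨205,(Int.negSucc 0),1⟩] .nil .nil) (.node 151 [⟨212,(Int.negSucc 0),1⟩] .nil .nil)) (.node 165 [⟨227,(Int.ofNat 1),1⟩] (.node 154 [⟨216,(Int.ofNat 1),1⟩] .nil .nil) (.node 166 [⟨228,(Int.ofNat 1),1⟩] .nil .nil))) (.node 210 [⟨240,(Int.ofNat 1),1⟩] (.node 188 [⟨235,(Int.negSucc 0),1⟩] (.node 187 [⟨234,(Int.negSucc 0),1⟩] .nil .nil) (.node 191 [⟨237,(Int.ofNat 1),1⟩] .nil .nil)) (.node 224 [⟨243,(Int.ofNat 1),1⟩] (.node 220 [⟨242,(Int.ofNat 1),1⟩] .nil .nil) (.node 226 [⟨245,(Int.negSucc 0),1⟩] .nil .nil))))))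
noncomputable def col186 : Tr Cl := (.node 75 [⟨144,(Int.negSucc 0),1⟩] (.node 26 [⟨89,(Int.negSucc 0),1⟩] (.node 9 [⟨29,(Int.ofNat 1),1⟩] (.node 4 [⟨194,(Int.ofNat 1),1⟩] (.node 2 [⟨194,(Int.negSucc 0),1⟩] (.node 1 [⟨194,(Int.ofNat 0),1⟩] (.node 0 [⟨194,(Int.ofNat 0),1⟩] .nil .nil) .nil) (.node 3 [⟨194,(Int.ofNat 0),1⟩] .nil .nil)) (.node 6 [⟨194,(Int.negSucc 0),1⟩] (.node 5 [⟨194,(Int.ofNat 0),1⟩] .nil .nil) (.node 7 [⟨194,(Int.ofNat 1),1⟩] .nil .nil))) (.node 18 [⟨65,(Int.ofNat 1),1⟩] (.node 13 [⟨36,(Int.ofNat 1),1⟩] (.node 12 [⟨32,(Int.ofNat 1),1⟩] .nil .nil) (.node 15 [⟨46,(Int.ofNat 1),1⟩] .nil .nil)) (.node 21 [⟨69,(Int.negSucc 0),1⟩] (.node 19 [⟨67,(Int.ofNat 1),1⟩] .nil .nil) (.node 25 [⟨87,(Int.negSucc 0),1⟩] .nil .nil)))) (.node 54 [⟨118,(Int.negSucc 0),1⟩] (.node 42 [⟨104,(Int.ofNat 1),1⟩] (.node 38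 [⟨101,(Int.negSucc 0),1⟩] (.node 28 [⟨91,(Int.ofNat 1),1⟩] .nil .nil) (.node 40 [⟨103,(Int.ofNat 1),1⟩] .nil .nil)) (.node 50 [⟨115,(Int.negSucc 0),1⟩] (.node 48 [⟨113,(Int.ofNat 1),1⟩] .nil .nil) (.node 52 [⟨116,(Int.negSucc 0),1⟩] .nil .nil))) (.node 61 [⟨0,(Int.ofNat 1),1⟩, ⟨1,(Int.ofNat 1),1⟩, ⟨2,(Int.ofNat 2),1⟩, ⟨3,(Int.ofNat 2),1⟩, ⟨4,(Int.ofNat 1),1⟩, ⟨5,(Int.ofNat 1),1⟩, ⟨6,(Int.ofNat 1),1⟩, ⟨7,(Int.ofNat 0),1⟩, ⟨194,(Int.negSucc 0),2⟩] (.node 58 [⟨121,(Int.ofNat 1),1⟩] (.node 56 [⟨120,(Int.ofNat 1),1⟩] .nil .nil) (.node 60 [⟨127,(Int.ofNat 1),1⟩] .nil .nil)) (.node 63 [⟨132,(Int.ofNat 1),1⟩] (.node 62 [⟨129,(Int.ofNat 1),1⟩] .nil .nil) (.node 71 [⟨143,(Int.ofNat 1),1⟩] .nil .nil))))) (.node 139 [⟨203,(Int.ofNat 1),1⟩] (.node 111 [⟨180,(Int.ofNat 1),1⟩] (.node 93 [⟨171,(Int.negSucc 0),1⟩] (.node 83 [⟨158,(Int.negSucc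 0),1⟩] (.node 80 [⟨155,(Int.ofNat 1),1⟩] (.node 78 [⟨147,(Int.ofNat 1),1⟩] .nil .nil) .nil) (.node 84 [⟨162,(Int.ofNat 1),1⟩] .nil .nil)) (.node 100 [⟨175,(Int.negSucc 0),1⟩] (.node 97 [⟨172,(Int.ofNat 1),1⟩] .nil .nil) (.node 108 [⟨177,(Int.negSucc 0),1⟩] .nil .nil))) (.node 128 [⟨195,(Int.negSucc 0),1⟩] (.node 123 [⟨192,(Int.negSucc 0),1⟩] (.node 112 [⟨184,(Int.negSucc 0),1⟩] .nil .nil) (.node 126 [⟨193,(Int.negSucc 0),1⟩] .nil .nil)) (.node 135 [⟨199,(Int.negSucc 0),1⟩] (.node 134 [⟨197,(Int.negSucc 0),1⟩] .nil .nil) (.node 137 [⟨201,(Int.ofNat 1),1⟩] .nil .nil)))) (.node 168 [⟨230,(Int.ofNat 1),1⟩] (.node 152 [⟨215,(Int.negSucc 0),1⟩] (.node 142 [⟨207,(Int.negSucc 0),1⟩] (.node 140 [⟨205,(Int.ofNat 1),1⟩] .nil .nil) (.node 151 [⟨213,(Int.negSucc 0),1⟩] .nil .nil)) (.node 164 [⟨227,(Int.negSucc 0),1⟩] (.node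 154 [⟨217,(Int.ofNat 1),1⟩] .nil .nil) (.node 166 [⟨229,(Int.ofNat 1),1⟩] .nil .nil))) (.node 209 [⟨240,(Int.negSucc 0),1⟩] (.node 188 [⟨236,(Int.negSucc 0),1⟩] (.node 186 [⟨234,(Int.ofNat 1),1⟩] .nil .nil) (.node 190 [⟨237,(Int.negSucc 0),1⟩] .nil .nil)) (.node 223 [⟨243,(Int.negSucc 0),1⟩] (.node 219 [⟨242,(Int.negSucc 0),1⟩] .nil .nil) (.node 226 [⟨246,(Int.negSucc 0),1⟩] .nil .nil))))))
noncomputable def col187 : Tr Cl := (.node 74 [⟨144,(Int.negSucc 0),1⟩] (.node 26 [⟨90,(Int.ofNat 1),1⟩] (.node 8 [⟨29,(Int.ofNat 1),1⟩] (.node 4 [⟨195,(Int.ofNat 1),1⟩] (.node 2 [⟨195,(Int.negSucc 0),1⟩] (.node 1 [⟨195,(Int.ofNat 0),1⟩] (.node 0 [⟨195,(Int.ofNat 0),1⟩] .nil .nil) .nil) (.node 3 [⟨195,(Int.ofNat 0),1⟩] .nil .nil)) (.node 6 [⟨195,(Int.ofNat 0),1⟩] (.node 5 [⟨195,(Int.ofNat 0),1⟩] .nil .nil) (.node 7 [⟨195,(Int.negSucc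 0),1⟩] .nil .nil))) (.node 18 [⟨66,(Int.negSucc 0),1⟩] (.node 13 [⟨37,(Int.negSucc 0),1⟩] (.node 12 [⟨33,(Int.negSucc 0),1⟩] .nil .nil) (.node 15 [⟨47,(Int.negSucc 0),1⟩] .nil .nil)) (.node 20 [⟨69,(Int.negSucc 0),1⟩] (.node 19 [⟨68,(Int.negSucc 0),1⟩] .nil .nil) (.node 25 [⟨88,(Int.ofNat 1),1⟩] .nil .nil)))) (.node 54 [⟨119,(Int.ofNat 1),1⟩] (.node 41 [⟨104,(Int.ofNat 1),1⟩] (.node 38 [⟨102,(Int.ofNat 1),1⟩] (.node 27 [⟨91,(Int.ofNat 1),1⟩] .nil .nil) (.node 39 [⟨103,(Int.ofNat 1),1⟩] .nil .nil)) (.node 49 [⟨115,(Int.negSucc 0),1⟩] (.node 48 [⟨114,(Int.negSucc 0),1⟩] .nil .nil) (.node 51 [⟨116,(Int.negSucc 0),1⟩] .nil .nil))) (.node 61 [⟨128,(Int.ofNat 1),1⟩] (.node 57 [⟨121,(Int.ofNat 1),1⟩] (.node 55 [⟨120,(Int.ofNat 1),1⟩] .nil .nil) (.node 60 [⟨0,(Int.ofNat 1),1⟩, ⟨1,(Int.ofNat 1),1⟩, ⟨2,(Int.ofNat 2),1⟩,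 ⟨3,(Int.ofNat 2),1⟩, ⟨4,(Int.ofNat 1),1⟩, ⟨5,(Int.ofNat 1),1⟩, ⟨6,(Int.ofNat 1),1⟩, ⟨7,(Int.ofNat 1),1⟩, ⟨195,(Int.negSucc 0),2⟩] .nil .nil)) (.node 63 [⟨133,(Int.ofNat 1),1⟩] (.node 62 [⟨130,(Int.ofNat 1),1⟩] .nil .nil) (.node 70 [⟨143,(Int.ofNat 1),1⟩] .nil .nil))))) (.node 139 [⟨204,(Int.ofNat 1),1⟩] (.node 111 [⟨181,(Int.ofNat 1),1⟩] (.node 92 [⟨171,(Int.negSucc 0),1⟩] (.node 83 [⟨159,(Int.negSucc 0),1⟩] (.node 79 [⟨155,(Int.ofNat 1),1⟩] (.node 78 [⟨148,(Int.ofNat 1),1⟩] .nil .nil) .nil) (.node 84 [⟨163,(Int.ofNat 1),1⟩] .nil .nil)) (.node 100 [⟨176,(Int.negSucc 0),1⟩] (.node 96 [⟨172,(Int.ofNat 1),1⟩] .nil .nil) (.node 107 [⟨177,(Int.negSucc 0),1⟩] .nil .nil))) (.node 127 [⟨194,(Int.negSucc 0),1⟩] (.node 122 [⟨192,(Int.negSucc 0),1⟩] (.node 112 [⟨185,(Int.negSucc 0),1⟩] .nil .nil) (.node 125 [⟨193,(Int.negSucc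 0),1⟩] .nil .nil)) (.node 135 [⟨200,(Int.negSucc 0),1⟩] (.node 134 [⟨198,(Int.negSucc 0),1⟩] .nil .nil) (.node 136 [⟨201,(Int.negSucc 0),1⟩] .nil .nil)))) (.node 167 [⟨230,(Int.negSucc 0),1⟩] (.node 152 [⟨216,(Int.negSucc 0),1⟩] (.node 141 [⟨207,(Int.ofNat 1),1⟩] (.node 140 [⟨206,(Int.ofNat 1),1⟩] .nil .nil) (.node 151 [⟨214,(Int.negSucc 0),1⟩] .nil .nil)) (.node 164 [⟨228,(Int.negSucc 0),1⟩] (.node 153 [⟨217,(Int.negSucc 0),1⟩] .nil .nil) (.node 165 [⟨229,(Int.negSucc 0),1⟩] .nil .nil))) (.node 208 [⟨240,(Int.ofNat 1),1⟩] (.node 187 [⟨236,(Int.ofNat 1),1⟩] (.node 186 [⟨235,(Int.ofNat 1),1⟩] .nil .nil) (.node 189 [⟨237,(Int.ofNat 1),1⟩] .nil .nil)) (.node 222 [⟨243,(Int.ofNat 1),1⟩] (.node 218 [⟨242,(Int.ofNat 1),1⟩] .nil .nil) (.node 226 [⟨247,(Int.negSucc 0),1⟩] .nil .nil))))))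
noncomputable def col188 : Tr Cl := (.node 76 [⟨145,(Int.negSucc 0),1⟩] (.node 27 [⟨92,(Int.ofNat 1),1⟩] (.node 10 [⟨30,(Int.negSucc 0),1⟩] (.node 4 [⟨196,(Int.negSucc 0),1⟩] (.node 2 [⟨196,(Int.negSucc 0),1⟩] (.node 1 [⟨196,(Int.ofNat 0),1⟩] (.node 0 [⟨196,(Int.ofNat 0),1⟩] .nil .nil) .nil) (.node 3 [⟨196,(Int.ofNat 1),1⟩] .nil .nil)) (.node 6 [⟨196,(Int.ofNat 1),1⟩] (.node 5 [⟨196,(Int.ofNat 0),1⟩] .nil .nil) (.node 7 [⟨196,(Int.ofNat 0),1⟩] .nil .nil))) (.node 17 [⟨64,(Int.negSucc 0),1⟩] (.node 13 [⟨38,(Int.ofNat 1),1⟩] (.node 11 [⟨31,(Int.negSucc 0),1⟩] .nil .nil) (.node 15 [⟨48,(Int.ofNat 1),1⟩] .nil .nil)) (.node 21 [⟨71,(Int.negSucc 0),1⟩] (.node 20 [⟨70,(Int.negSucc 0),1⟩] .nil .nil) (.node 24 [⟨86,(Int.ofNat 1),1⟩] .nil .nil)))) (.node 55 [⟨122,(Int.negSucc 0),1⟩] (.node 43 [⟨105,(Int.negSucc 0),1⟩] (.node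 36 [⟨101,(Int.negSucc 0),1⟩] (.node 28 [⟨93,(Int.ofNat 1),1⟩] .nil .nil) (.node 37 [⟨102,(Int.negSucc 0),1⟩] .nil .nil)) (.node 47 [⟨114,(Int.ofNat 1),1⟩] (.node 46 [⟨113,(Int.ofNat 1),1⟩] .nil .nil) (.node 53 [⟨117,(Int.ofNat 1),1⟩] .nil .nil))) (.node 59 [⟨0,(Int.ofNat 1),1⟩, ⟨1,(Int.ofNat 1),1⟩, ⟨2,(Int.ofNat 2),1⟩, ⟨3,(Int.ofNat 2),1⟩, ⟨4,(Int.ofNat 2),1⟩, ⟨5,(Int.ofNat 1),1⟩, ⟨6,(Int.ofNat 0),1⟩, ⟨7,(Int.ofNat 0),1⟩, ⟨196,(Int.negSucc 0),2⟩] (.node 57 [⟨125,(Int.ofNat 1),1⟩] (.node 56 [⟨123,(Int.negSucc 0),1⟩] .nil .nil) (.node 58 [⟨126,(Int.ofNat 1),1⟩] .nil .nil)) (.node 63 [⟨135,(Int.negSucc 0),1⟩] (.node 62 [⟨134,(Int.ofNat 1),1⟩] .nil .nil) (.node 69 [⟨143,(Int.ofNat 1),1⟩] .nil .nil))))) (.node 138 [⟨202,(Int.negSucc 0),1⟩] (.node 110 [⟨179,(Int.ofNat 1),1⟩] (.node 91 [⟨171,(Int.negSucc 0),1⟩] (.node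 82 [⟨157,(Int.negSucc 0),1⟩] (.node 81 [⟨156,(Int.ofNat 1),1⟩] (.node 77 [⟨146,(Int.ofNat 1),1⟩] .nil .nil) .nil) (.node 84 [⟨164,(Int.ofNat 1),1⟩] .nil .nil)) (.node 99 [⟨174,(Int.negSucc 0),1⟩] (.node 98 [⟨173,(Int.ofNat 1),1⟩] .nil .nil) (.node 109 [⟨178,(Int.negSucc 0),1⟩] .nil .nil))) (.node 129 [⟨197,(Int.negSucc 0),1⟩] (.node 120 [⟨192,(Int.ofNat 1),1⟩] (.node 112 [⟨186,(Int.negSucc 0),1⟩] .nil .nil) (.node 121 [⟨193,(Int.negSucc 0),1⟩] .nil .nil)) (.node 132 [⟨199,(Int.ofNat 1),1⟩] (.node 130 [⟨198,(Int.negSucc 0),1⟩] .nil .nil) (.node 133 [⟨200,(Int.ofNat 1),1⟩] .nil .nil)))) (.node 169 [⟨231,(Int.negSucc 0),1⟩] (.node 153 [⟨218,(Int.ofNat 1),1⟩] (.node 142 [⟨209,(Int.negSucc 0),1⟩] (.node 141 [⟨208,(Int.negSucc 0),1⟩] .nil .nil) (.node 150 [⟨212,(Int.ofNat 1),1⟩] .nil .nil)) (.node 162 [⟨227,(Int.negSucc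 0),1⟩] (.node 154 [⟨219,(Int.ofNat 1),1⟩] .nil .nil) (.node 163 [⟨228,(Int.negSucc 0),1⟩] .nil .nil))) (.node 207 [⟨240,(Int.negSucc 0),1⟩] (.node 185 [⟨235,(Int.ofNat 1),1⟩] (.node 184 [⟨234,(Int.ofNat 1),1⟩] .nil .nil) (.node 191 [⟨238,(Int.ofNat 1),1⟩] .nil .nil)) (.node 224 [⟨244,(Int.ofNat 1),1⟩] (.node 217 [⟨242,(Int.negSucc 0),1⟩] .nil .nil) (.node 225 [⟨245,(Int.ofNat 1),1⟩] .nil .nil))))))
noncomputable def col189 : Tr Cl := (.node 75 [⟨145,(Int.negSucc 0),1⟩] (.node 26 [⟨92,(Int.ofNat 1),1⟩] (.node 9 [⟨30,(Int.negSucc 0),1⟩] (.node 4 [⟨197,(Int.negSucc 0),1⟩] (.node 2 [⟨197,(Int.negSucc 0),1⟩] (.node 1 [⟨197,(Int.ofNat 0),1⟩] (.node 0 [⟨197,(Int.ofNat 0),1⟩] .nil .nil) .nil) (.node 3 [⟨197,(Int.ofNat 1),1⟩] .nil .nil)) (.node 6 [⟨197,(Int.negSucc 0),1⟩] (.node 5 [⟨197,(Int.ofNat 1),1⟩] .nil .nil) (.node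 7 [⟨197,(Int.ofNat 1),1⟩] .nil .nil))) (.node 17 [⟨65,(Int.ofNat 1),1⟩] (.node 13 [⟨39,(Int.negSucc 0),1⟩] (.node 11 [⟨32,(Int.ofNat 1),1⟩] .nil .nil) (.node 15 [⟨49,(Int.negSucc 0),1⟩] .nil .nil)) (.node 21 [⟨72,(Int.ofNat 1),1⟩] (.node 19 [⟨70,(Int.negSucc 0),1⟩] .nil .nil) (.node 24 [⟨87,(Int.negSucc 0),1⟩] .nil .nil)))) (.node 54 [⟨122,(Int.negSucc 0),1⟩] (.node 42 [⟨105,(Int.negSucc 0),1⟩] (.node 35 [⟨101,(Int.negSucc 0),1⟩] (.node 28 [⟨94,(Int.negSucc 0),1⟩] .nil .nil) (.node 37 [⟨103,(Int.ofNat 1),1⟩] .nil .nil)) (.node 47 [⟨115,(Int.negSucc 0),1⟩] (.node 45 [⟨113,(Int.ofNat 1),1⟩] .nil .nil) (.node 52 [⟨117,(Int.ofNat 1),1⟩] .nil .nil))) (.node 59 [⟨129,(Int.ofNat 1),1⟩] (.node 57 [⟨127,(Int.ofNat 1),1⟩] (.node 56 [⟨124,(Int.ofNat 1),1⟩] .nil .nil) (.node 58 [⟨0,(Int.ofNat 1),1⟩, ⟨1,(Int.ofNat 1),1⟩, ⟨2,(Int.ofNat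 2),1⟩, ⟨3,(Int.ofNat 2),1⟩, ⟨4,(Int.ofNat 2),1⟩, ⟨5,(Int.ofNat 1),1⟩, ⟨6,(Int.ofNat 1),1⟩, ⟨7,(Int.ofNat 0),1⟩, ⟨197,(Int.negSucc 0),2⟩] .nil .nil)) (.node 63 [⟨136,(Int.negSucc 0),1⟩] (.node 61 [⟨134,(Int.ofNat 1),1⟩] .nil .nil) (.node 68 [⟨143,(Int.ofNat 1),1⟩] .nil .nil))))) (.node 138 [⟨203,(Int.negSucc 0),1⟩] (.node 110 [⟨180,(Int.ofNat 1),1⟩] (.node 90 [⟨171,(Int.negSucc 0),1⟩] (.node 82 [⟨158,(Int.negSucc 0),1⟩] (.node 80 [⟨156,(Int.ofNat 1),1⟩] (.node 77 [⟨147,(Int.ofNat 1),1⟩] .nil .nil) .nil) (.node 84 [⟨165,(Int.ofNat 1),1⟩] .nil .nil)) (.node 99 [⟨175,(Int.negSucc 0),1⟩] (.node 97 [⟨173,(Int.ofNat 1),1⟩] .nil .nil) (.node 108 [⟨178,(Int.negSucc 0),1⟩] .nil .nil))) (.node 126 [⟨196,(Int.negSucc 0),1⟩] (.node 119 [⟨192,(Int.ofNat 1),1⟩] (.node 112 [⟨187,(Int.negSucc 0),1⟩] .nil .nil) (.node 121 [⟨194,(Int.negSucc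 0),1⟩] .nil .nil)) (.node 131 [⟨199,(Int.negSucc 0),1⟩] (.node 128 [⟨198,(Int.negSucc 0),1⟩] .nil .nil) (.node 133 [⟨201,(Int.ofNat 1),1⟩] .nil .nil)))) (.node 168 [⟨231,(Int.ofNat 1),1⟩] (.node 152 [⟨218,(Int.negSucc 0),1⟩] (.node 142 [⟨210,(Int.negSucc 0),1⟩] (.node 140 [⟨208,(Int.ofNat 1),1⟩] .nil .nil) (.node 150 [⟨213,(Int.ofNat 1),1⟩] .nil .nil)) (.node 161 [⟨227,(Int.ofNat 1),1⟩] (.node 154 [⟨220,(Int.ofNat 1),1⟩] .nil .nil) (.node 163 [⟨229,(Int.negSucc 0),1⟩] .nil .nil))) (.node 206 [⟨240,(Int.ofNat 1),1⟩] (.node 185 [⟨236,(Int.ofNat 1),1⟩] (.node 183 [⟨234,(Int.negSucc 0),1⟩] .nil .nil) (.node 190 [⟨238,(Int.negSucc 0),1⟩] .nil .nil)) (.node 223 [⟨244,(Int.negSucc 0),1⟩] (.node 216 [⟨242,(Int.ofNat 1),1⟩] .nil .nil) (.node 225 [⟨246,(Int.ofNat 1),1⟩] .nil .nil))))))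
noncomputable def col190 : Tr Cl := (.node 74 [⟨145,(Int.negSucc 0),1⟩] (.node 26 [⟨93,(Int.negSucc 0),1⟩] (.node 8 [⟨30,(Int.negSucc 0),1⟩] (.node 4 [⟨198,(Int.negSucc 0),1⟩] (.node 2 [⟨198,(Int.negSucc 0),1⟩] (.node 1 [⟨198,(Int.ofNat 0),1⟩] (.node 0 [⟨198,(Int.ofNat 0),1⟩] .nil .nil) .nil) (.node 3 [⟨198,(Int.ofNat 1),1⟩] .nil .nil)) (.node 6 [⟨198,(Int.ofNat 0),1⟩] (.node 5 [⟨198,(Int.ofNat 1),1⟩] .nil .nil) (.node 7 [⟨198,(Int.negSucc 0),1⟩] .nil .nil))) (.node 17 [⟨66,(Int.negSucc 0),1⟩] (.node 13 [⟨40,(Int.ofNat 1),1⟩] (.node 11 [⟨33,(Int.negSucc 0),1⟩] .nil .nil) (.node 15 [⟨50,(Int.ofNat 1),1⟩] .nil .nil)) (.node 20 [⟨72,(Int.ofNat 1),1⟩] (.node 19 [⟨71,(Int.ofNat 1),1⟩] .nil .nil) (.node 24 [⟨88,(Int.ofNat 1),1⟩] .nil .nil)))) (.node 54 [⟨123,(Int.ofNat 1),1⟩] (.node 41 [⟨105,(Int.negSucc 0),1⟩] (.node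 35 [⟨102,(Int.ofNat 1),1⟩] (.node 27 [⟨94,(Int.negSucc 0),1⟩] .nil .nil) (.node 36 [⟨103,(Int.ofNat 1),1⟩] .nil .nil)) (.node 46 [⟨115,(Int.negSucc 0),1⟩] (.node 45 [⟨114,(Int.negSucc 0),1⟩] .nil .nil) (.node 51 [⟨117,(Int.ofNat 1),1⟩] .nil .nil))) (.node 59 [⟨130,(Int.ofNat 1),1⟩] (.node 57 [⟨0,(Int.ofNat 1),1⟩, ⟨1,(Int.ofNat 1),1⟩, ⟨2,(Int.ofNat 2),1⟩, ⟨3,(Int.ofNat 2),1⟩, ⟨4,(Int.ofNat 2),1⟩, ⟨5,(Int.ofNat 1),1⟩, ⟨6,(Int.ofNat 1),1⟩, ⟨7,(Int.ofNat 1),1⟩, ⟨198,(Int.negSucc 0),2⟩] (.node 55 [⟨124,(Int.ofNat 1),1⟩] .nil .nil) (.node 58 [⟨128,(Int.ofNat 1),1⟩] .nil .nil)) (.node 63 [⟨137,(Int.negSucc 0),1⟩] (.node 60 [⟨134,(Int.ofNat 1),1⟩] .nil .nil) (.node 67 [⟨143,(Int.ofNat 1),1⟩] .nil .nil))))) (.node 138 [⟨204,(Int.negSucc 0),1⟩] (.node 110 [⟨181,(Int.ofNat 1),1⟩] (.node 89 [⟨171,(Int.negSucc 0),1⟩] (.node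 82 [⟨159,(Int.negSucc 0),1⟩] (.node 79 [⟨156,(Int.ofNat 1),1⟩] (.node 77 [⟨148,(Int.ofNat 1),1⟩] .nil .nil) .nil) (.node 84 [⟨166,(Int.ofNat 1),1⟩] .nil .nil)) (.node 99 [⟨176,(Int.negSucc 0),1⟩] (.node 96 [⟨173,(Int.ofNat 1),1⟩] .nil .nil) (.node 107 [⟨178,(Int.negSucc 0),1⟩] .nil .nil))) (.node 125 [⟨196,(Int.negSucc 0),1⟩] (.node 118 [⟨192,(Int.ofNat 1),1⟩] (.node 112 [⟨188,(Int.negSucc 0),1⟩] .nil .nil) (.node 121 [⟨195,(Int.negSucc 0),1⟩] .nil .nil)) (.node 131 [⟨200,(Int.negSucc 0),1⟩] (.node 127 [⟨197,(Int.negSucc 0),1⟩] .nil .nil) (.node 132 [⟨201,(Int.negSucc 0),1⟩] .nil .nil)))) (.node 167 [⟨231,(Int.negSucc 0),1⟩] (.node 152 [⟨219,(Int.negSucc 0),1⟩] (.node 141 [⟨210,(Int.ofNat 1),1⟩] (.node 140 [⟨209,(Int.ofNat 1),1⟩] .nil .nil) (.node 150 [⟨214,(Int.ofNat 1),1⟩] .nil .nil)) (.node 161 [⟨228,(Int.ofNat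 1),1⟩] (.node 153 [⟨220,(Int.negSucc 0),1⟩] .nil .nil) (.node 162 [⟨229,(Int.ofNat 1),1⟩] .nil .nil))) (.node 205 [⟨240,(Int.negSucc 0),1⟩] (.node 184 [⟨236,(Int.negSucc 0),1⟩] (.node 183 [⟨235,(Int.negSucc 0),1⟩] .nil .nil) (.node 189 [⟨238,(Int.ofNat 1),1⟩] .nil .nil)) (.node 222 [⟨244,(Int.ofNat 1),1⟩] (.node 215 [⟨242,(Int.negSucc 0),1⟩] .nil .nil) (.node 225 [⟨247,(Int.ofNat 1),1⟩] .nil .nil))))))
noncomputable def col191 : Tr Cl := (.node 75 [⟨146,(Int.negSucc 0),1⟩] (.node 25 [⟨92,(Int.ofNat 1),1⟩] (.node 9 [⟨31,(Int.ofNat 1),1⟩] (.node 4 [⟨199,(Int.ofNat 0),1⟩] (.node 2 [⟨199,(Int.negSucc 0),1⟩] (.node 1 [⟨199,(Int.ofNat 0),1⟩] (.node 0 [⟨199,(Int.ofNat 0),1⟩] .nil .nil) .nil) (.node 3 [⟨199,(Int.ofNat 1),1⟩] .nil .nil)) (.node 6 [⟨199,(Int.ofNat 0),1⟩] (.node 5 [⟨199,(Int.negSucc 0),1⟩] .nil .nil) (.node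 7 [⟨199,(Int.ofNat 1),1⟩] .nil .nil))) (.node 17 [⟨67,(Int.negSucc 0),1⟩] (.node 13 [⟨41,(Int.ofNat 1),1⟩] (.node 10 [⟨32,(Int.ofNat 1),1⟩] .nil .nil) (.node 15 [⟨51,(Int.ofNat 1),1⟩] .nil .nil)) (.node 21 [⟨73,(Int.negSucc 0),1⟩] (.node 18 [⟨70,(Int.negSucc 0),1⟩] .nil .nil) (.node 24 [⟨89,(Int.ofNat 1),1⟩] .nil .nil)))) (.node 54 [⟨125,(Int.negSucc 0),1⟩] (.node 40 [⟨105,(Int.negSucc 0),1⟩] (.node 34 [⟨101,(Int.negSucc 0),1⟩] (.node 28 [⟨95,(Int.ofNat 1),1⟩] .nil .nil) (.node 37 [⟨104,(Int.negSucc 0),1⟩] .nil .nil)) (.node 47 [⟨116,(Int.ofNat 1),1⟩] (.node 44 [⟨113,(Int.ofNat 1),1⟩] .nil .nil) (.node 50 [⟨117,(Int.ofNat 1),1⟩] .nil .nil))) (.node 59 [⟨132,(Int.negSucc 0),1⟩] (.node 56 [⟨0,(Int.ofNat 1),1⟩, ⟨1,(Int.ofNat 1),1⟩, ⟨2,(Int.ofNat 2),1⟩, ⟨3,(Int.ofNat 2),1⟩, ⟨4,(Int.ofNat 2),1⟩, ⟨5,(Int.ofNat 2),1⟩,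 ⟨6,(Int.ofNat 1),1⟩, ⟨7,(Int.ofNat 0),1⟩, ⟨199,(Int.negSucc 0),2⟩] (.node 55 [⟨127,(Int.ofNat 1),1⟩] .nil .nil) (.node 58 [⟨131,(Int.ofNat 1),1⟩] .nil .nil)) (.node 62 [⟨136,(Int.negSucc 0),1⟩] (.node 61 [⟨135,(Int.ofNat 1),1⟩] .nil .nil) (.node 66 [⟨143,(Int.ofNat 1),1⟩] .nil .nil))))) (.node 138 [⟨205,(Int.negSucc 0),1⟩] (.node 109 [⟨180,(Int.ofNat 1),1⟩] (.node 88 [⟨171,(Int.negSucc 0),1⟩] (.node 81 [⟨158,(Int.negSucc 0),1⟩] (.node 80 [⟨157,(Int.ofNat 1),1⟩] (.node 76 [⟨147,(Int.ofNat 1),1⟩] .nil .nil) .nil) (.node 84 [⟨167,(Int.ofNat 1),1⟩] .nil .nil)) (.node 98 [⟨175,(Int.negSucc 0),1⟩] (.node 97 [⟨174,(Int.ofNat 1),1⟩] .nil .nil) (.node 108 [⟨179,(Int.negSucc 0),1⟩] .nil .nil))) (.node 123 [⟨196,(Int.ofNat 1),1⟩] (.node 119 [⟨193,(Int.ofNat 1),1⟩] (.node 112 [⟨189,(Int.negSucc 0),1⟩] .nil .nil) (.node 120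 [⟨194,(Int.negSucc 0),1⟩] .nil .nil)) (.node 128 [⟨200,(Int.negSucc 0),1⟩] (.node 124 [⟨197,(Int.negSucc 0),1⟩] .nil .nil) (.node 130 [⟨201,(Int.ofNat 1),1⟩] .nil .nil)))) (.node 166 [⟨231,(Int.negSucc 0),1⟩] (.node 151 [⟨218,(Int.ofNat 1),1⟩] (.node 142 [⟨211,(Int.negSucc 0),1⟩] (.node 139 [⟨208,(Int.negSucc 0),1⟩] .nil .nil) (.node 150 [⟨215,(Int.ofNat 1),1⟩] .nil .nil)) (.node 160 [⟨227,(Int.negSucc 0),1⟩] (.node 154 [⟨221,(Int.ofNat 1),1⟩] .nil .nil) (.node 163 [⟨230,(Int.negSucc 0),1⟩] .nil .nil))) (.node 204 [⟨240,(Int.negSucc 0),1⟩] (.node 185 [⟨237,(Int.ofNat 1),1⟩] (.node 182 [⟨234,(Int.ofNat 1),1⟩] .nil .nil) (.node 188 [⟨238,(Int.ofNat 1),1⟩] .nil .nil)) (.node 223 [⟨245,(Int.negSucc 0),1⟩] (.node 214 [⟨242,(Int.negSucc 0),1⟩] .nil .nil) (.node 224 [⟨246,(Int.negSucc 0),1⟩] .nil .nil))))))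
noncomputable def col192 : Tr Cl := (.node 74 [⟨146,(Int.negSucc 0),1⟩] (.node 25 [⟨93,(Int.negSucc 0),1⟩] (.node 8 [⟨31,(Int.ofNat 1),1⟩] (.node 4 [⟨200,(Int.ofNat 0),1⟩] (.node 2 [⟨200,(Int.negSucc 0),1⟩] (.node 1 [⟨200,(Int.ofNat 0),1⟩] (.node 0 [⟨200,(Int.ofNat 0),1⟩] .nil .nil) .nil) (.node 3 [⟨200,(Int.ofNat 1),1⟩] .nil .nil)) (.node 6 [⟨200,(Int.ofNat 1),1⟩] (.node 5 [⟨200,(Int.negSucc 0),1⟩] .nil .nil) (.node 7 [⟨200,(Int.negSucc 0),1⟩] .nil .nil))) (.node 17 [⟨68,(Int.ofNat 1),1⟩] (.node 13 [⟨42,(Int.negSucc 0),1⟩] (.node 10 [⟨33,(Int.negSucc 0),1⟩] .nil .nil) (.node 15 [⟨52,(Int.negSucc 0),1⟩] .nil .nil)) (.node 20 [⟨73,(Int.negSucc 0),1⟩] (.node 18 [⟨71,(Int.ofNat 1),1⟩] .nil .nil) (.node 24 [⟨90,(Int.negSucc 0),1⟩] .nil .nil)))) (.node 54 [⟨126,(Int.ofNat 1),1⟩] (.node 39 [⟨105,(Int.negSucc 0),1⟩]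 (.node 34 [⟨102,(Int.ofNat 1),1⟩] (.node 27 [⟨95,(Int.ofNat 1),1⟩] .nil .nil) (.node 36 [⟨104,(Int.negSucc 0),1⟩] .nil .nil)) (.node 46 [⟨116,(Int.ofNat 1),1⟩] (.node 44 [⟨114,(Int.negSucc 0),1⟩] .nil .nil) (.node 49 [⟨117,(Int.ofNat 1),1⟩] .nil .nil))) (.node 59 [⟨133,(Int.negSucc 0),1⟩] (.node 56 [⟨128,(Int.ofNat 1),1⟩] (.node 55 [⟨0,(Int.ofNat 1),1⟩, ⟨1,(Int.ofNat 1),1⟩, ⟨2,(Int.ofNat 2),1⟩, ⟨3,(Int.ofNat 2),1⟩, ⟨4,(Int.ofNat 2),1⟩, ⟨5,(Int.ofNat 2),1⟩, ⟨6,(Int.ofNat 1),1⟩, ⟨7,(Int.ofNat 1),1⟩, ⟨200,(Int.negSucc 0),2⟩] .nil .nil) (.node 57 [⟨131,(Int.ofNat 1),1⟩] .nil .nil)) (.node 62 [⟨137,(Int.negSucc 0),1⟩] (.node 60 [⟨135,(Int.ofNat 1),1⟩] .nil .nil) (.node 65 [⟨143,(Int.ofNat 1),1⟩] .nil .nil))))) (.node 138 [⟨206,(Int.negSucc 0),1⟩] (.node 109 [⟨181,(Int.ofNat 1),1⟩] (.node 87 [⟨171,(Int.negSucc 0),1⟩]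 (.node 81 [⟨159,(Int.negSucc 0),1⟩] (.node 79 [⟨157,(Int.ofNat 1),1⟩] (.node 76 [⟨148,(Int.ofNat 1),1⟩] .nil .nil) .nil) (.node 84 [⟨168,(Int.ofNat 1),1⟩] .nil .nil)) (.node 98 [⟨176,(Int.negSucc 0),1⟩] (.node 96 [⟨174,(Int.ofNat 1),1⟩] .nil .nil) (.node 107 [⟨179,(Int.negSucc 0),1⟩] .nil .nil))) (.node 122 [⟨196,(Int.ofNat 1),1⟩] (.node 118 [⟨193,(Int.ofNat 1),1⟩] (.node 112 [⟨190,(Int.negSucc 0),1⟩] .nil .nil) (.node 120 [⟨195,(Int.negSucc 0),1⟩] .nil .nil)) (.node 127 [⟨199,(Int.negSucc 0),1⟩] (.node 124 [⟨198,(Int.negSucc 0),1⟩] .nil .nil) (.node 129 [⟨201,(Int.negSucc 0),1⟩] .nil .nil)))) (.node 165 [⟨231,(Int.ofNat 1),1⟩] (.node 151 [⟨219,(Int.ofNat 1),1⟩] (.node 141 [⟨211,(Int.ofNat 1),1⟩] (.node 139 [⟨209,(Int.negSucc 0),1⟩] .nil .nil) (.node 150 [⟨216,(Int.ofNat 1),1⟩] .nil .nil)) (.node 160 [⟨228,(Int.negSucc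 0),1⟩] (.node 153 [⟨221,(Int.negSucc 0),1⟩] .nil .nil) (.node 162 [⟨230,(Int.ofNat 1),1⟩] .nil .nil))) (.node 203 [⟨240,(Int.ofNat 1),1⟩] (.node 184 [⟨237,(Int.negSucc 0),1⟩] (.node 182 [⟨235,(Int.ofNat 1),1⟩] .nil .nil) (.node 187 [⟨238,(Int.negSucc 0),1⟩] .nil .nil)) (.node 222 [⟨245,(Int.ofNat 1),1⟩] (.node 213 [⟨242,(Int.ofNat 1),1⟩] .nil .nil) (.node 224 [⟨247,(Int.negSucc 0),1⟩] .nil .nil))))))
noncomputable def col193 : Tr Cl := (.node 74 [⟨147,(Int.negSucc 0),1⟩] (.node 25 [⟨94,(Int.ofNat 1),1⟩] (.node 8 [⟨32,(Int.negSucc 0),1⟩] (.node 4 [⟨201,(Int.ofNat 0),1⟩] (.node 2 [⟨201,(Int.negSucc 0),1⟩] (.node 1 [⟨201,(Int.ofNat 0),1⟩] (.node 0 [⟨201,(Int.ofNat 0),1⟩] .nil .nil) .nil) (.node 3 [⟨201,(Int.ofNat 1),1⟩] .nil .nil)) (.node 6 [⟨201,(Int.negSucc 0),1⟩] (.node 5 [⟨201,(Int.ofNat 0),1⟩] .nil .nil) (.node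 7 [⟨201,(Int.ofNat 0),1⟩] .nil .nil))) (.node 17 [⟨69,(Int.negSucc 0),1⟩] (.node 13 [⟨43,(Int.ofNat 1),1⟩] (.node 9 [⟨33,(Int.negSucc 0),1⟩] .nil .nil) (.node 15 [⟨53,(Int.ofNat 1),1⟩] .nil .nil)) (.node 19 [⟨73,(Int.negSucc 0),1⟩] (.node 18 [⟨72,(Int.negSucc 0),1⟩] .nil .nil) (.node 24 [⟨91,(Int.ofNat 1),1⟩] .nil .nil)))) (.node 54 [⟨0,(Int.ofNat 1),1⟩, ⟨1,(Int.ofNat 1),1⟩, ⟨2,(Int.ofNat 2),1⟩, ⟨3,(Int.ofNat 2),1⟩, ⟨4,(Int.ofNat 2),1⟩, ⟨5,(Int.ofNat 2),1⟩, ⟨6,(Int.ofNat 2),1⟩, ⟨7,(Int.ofNat 1),1⟩, ⟨201,(Int.negSucc 0),2⟩] (.node 38 [⟨105,(Int.negSucc 0),1⟩] (.node 34 [⟨103,(Int.negSucc 0),1⟩] (.node 26 [⟨95,(Int.ofNat 1),1⟩] .nil .nil) (.node 35 [⟨104,(Int.negSucc 0),1⟩] .nil .nil)) (.node 45 [⟨116,(Int.ofNat 1),1⟩] (.node 44 [⟨115,(Int.ofNat 1),1⟩] .nil .nil) (.node 48 [⟨117,(Int.ofNat 1),1⟩] .nil .nil))) (.node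 58 [⟨133,(Int.negSucc 0),1⟩] (.node 56 [⟨130,(Int.negSucc 0),1⟩] (.node 55 [⟨129,(Int.ofNat 1),1⟩] .nil .nil) (.node 57 [⟨132,(Int.ofNat 1),1⟩] .nil .nil)) (.node 61 [⟨137,(Int.negSucc 0),1⟩] (.node 60 [⟨136,(Int.ofNat 1),1⟩] .nil .nil) (.node 64 [⟨143,(Int.ofNat 1),1⟩] .nil .nil))))) (.node 138 [⟨207,(Int.negSucc 0),1⟩] (.node 108 [⟨181,(Int.ofNat 1),1⟩] (.node 86 [⟨171,(Int.negSucc 0),1⟩] (.node 80 [⟨159,(Int.negSucc 0),1⟩] (.node 79 [⟨158,(Int.ofNat 1),1⟩] (.node 75 [⟨148,(Int.ofNat 1),1⟩] .nil .nil) .nil) (.node 84 [⟨169,(Int.ofNat 1),1⟩] .nil .nil)) (.node 97 [⟨176,(Int.negSucc 0),1⟩] (.node 96 [⟨175,(Int.ofNat 1),1⟩] .nil .nil) (.node 107 [⟨180,(Int.negSucc 0),1⟩] .nil .nil))) (.node 122 [⟨197,(Int.ofNat 1),1⟩] (.node 118 [⟨194,(Int.ofNat 1),1⟩] (.node 112 [⟨191,(Int.negSucc 0),1⟩] .nil .nil) (.node 119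 [⟨195,(Int.negSucc 0),1⟩] .nil .nil)) (.node 125 [⟨199,(Int.ofNat 1),1⟩] (.node 123 [⟨198,(Int.negSucc 0),1⟩] .nil .nil) (.node 126 [⟨200,(Int.negSucc 0),1⟩] .nil .nil)))) (.node 164 [⟨231,(Int.negSucc 0),1⟩] (.node 151 [⟨220,(Int.ofNat 1),1⟩] (.node 140 [⟨211,(Int.negSucc 0),1⟩] (.node 139 [⟨210,(Int.negSucc 0),1⟩] .nil .nil) (.node 150 [⟨217,(Int.ofNat 1),1⟩] .nil .nil)) (.node 160 [⟨229,(Int.negSucc 0),1⟩] (.node 152 [⟨221,(Int.ofNat 1),1⟩] .nil .nil) (.node 161 [⟨230,(Int.negSucc 0),1⟩] .nil .nil))) (.node 202 [⟨240,(Int.negSucc 0),1⟩] (.node 183 [⟨237,(Int.ofNat 1),1⟩] (.node 182 [⟨236,(Int.ofNat 1),1⟩] .nil .nil) (.node 186 [⟨238,(Int.ofNat 1),1⟩] .nil .nil)) (.node 222 [⟨246,(Int.ofNat 1),1⟩] (.node 212 [⟨242,(Int.negSucc 0),1⟩] .nil .nil) (.node 223 [⟨247,(Int.ofNat 1),1⟩] .nil .nil))))))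
noncomputable def col194 : Tr Cl := (.node 72 [⟨145,(Int.negSucc 0),1⟩] (.node 27 [⟨96,(Int.negSucc 0),1⟩] (.node 10 [⟨34,(Int.ofNat 1),1⟩] (.node 4 [⟨202,(Int.ofNat 0),1⟩] (.node 2 [⟨202,(Int.ofNat 0),1⟩] (.node 1 [⟨202,(Int.ofNat 1),1⟩] (.node 0 [⟨202,(Int.ofNat 0),1⟩] .nil .nil) .nil) (.node 3 [⟨202,(Int.negSucc 0),1⟩] .nil .nil)) (.node 6 [⟨202,(Int.ofNat 1),1⟩] (.node 5 [⟨202,(Int.ofNat 0),1⟩] .nil .nil) (.node 7 [⟨202,(Int.ofNat 0),1⟩] .nil .nil))) (.node 16 [⟨64,(Int.negSucc 0),1⟩] (.node 12 [⟨38,(Int.ofNat 1),1⟩] (.node 11 [⟨35,(Int.ofNat 1),1⟩] .nil .nil) (.node 15 [⟨54,(Int.negSucc 0),1⟩] .nil .nil)) (.node 21 [⟨75,(Int.ofNat 1),1⟩] (.node 20 [⟨74,(Int.ofNat 1),1⟩] .nil .nil) (.node 23 [⟨86,(Int.ofNat 1),1⟩] .nil .nil)))) (.node 50 [⟨123,(Int.negSucc 0),1⟩] (.node 43 [⟨106,(Int.ofNat 1),1⟩] (.node 32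 [⟨101,(Int.negSucc 0),1⟩] (.node 28 [⟨97,(Int.negSucc 0),1⟩] .nil .nil) (.node 33 [⟨102,(Int.negSucc 0),1⟩] .nil .nil)) (.node 47 [⟨119,(Int.ofNat 1),1⟩] (.node 46 [⟨118,(Int.ofNat 1),1⟩] .nil .nil) (.node 49 [⟨122,(Int.negSucc 0),1⟩] .nil .nil))) (.node 59 [⟨138,(Int.ofNat 1),1⟩] (.node 52 [⟨126,(Int.ofNat 1),1⟩] (.node 51 [⟨125,(Int.ofNat 1),1⟩] .nil .nil) (.node 53 [⟨0,(Int.ofNat 1),1⟩, ⟨1,(Int.ofNat 1),1⟩, ⟨2,(Int.ofNat 2),1⟩, ⟨3,(Int.ofNat 3),1⟩, ⟨4,(Int.ofNat 2),1⟩, ⟨5,(Int.ofNat 1),1⟩, ⟨6,(Int.ofNat 0),1⟩, ⟨7,(Int.ofNat 0),1⟩, ⟨202,(Int.negSucc 0),2⟩] .nil .nil)) (.node 63 [⟨140,(Int.ofNat 1),1⟩] (.node 62 [⟨139,(Int.negSucc 0),1⟩] .nil .nil) (.node 69 [⟨144,(Int.ofNat 1),1⟩] .nil .nil))))) (.node 133 [⟨206,(Int.ofNat 1),1⟩] (.node 110 [⟨183,(Int.ofNat 1),1⟩] (.node 91 [⟨172,(Int.negSucc 0),1⟩] (.node 82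 [⟨161,(Int.negSucc 0),1⟩] (.node 81 [⟨160,(Int.ofNat 1),1⟩] (.node 73 [⟨146,(Int.ofNat 1),1⟩] .nil .nil) .nil) (.node 83 [⟨164,(Int.ofNat 1),1⟩] .nil .nil)) (.node 95 [⟨174,(Int.negSucc 0),1⟩] (.node 94 [⟨173,(Int.ofNat 1),1⟩] .nil .nil) (.node 109 [⟨182,(Int.negSucc 0),1⟩] .nil .nil))) (.node 117 [⟨196,(Int.negSucc 0),1⟩] (.node 115 [⟨192,(Int.negSucc 0),1⟩] (.node 111 [⟨186,(Int.negSucc 0),1⟩] .nil .nil) (.node 116 [⟨193,(Int.ofNat 1),1⟩] .nil .nil)) (.node 130 [⟨204,(Int.negSucc 0),1⟩] (.node 129 [⟨203,(Int.negSucc 0),1⟩] .nil .nil) (.node 132 [⟨205,(Int.ofNat 1),1⟩] .nil .nil)))) (.node 169 [⟨232,(Int.negSucc 0),1⟩] (.node 153 [⟨222,(Int.ofNat 1),1⟩] (.node 137 [⟨209,(Int.negSucc 0),1⟩] (.node 136 [⟨208,(Int.negSucc 0),1⟩] .nil .nil) (.node 149 [⟨212,(Int.negSucc 0),1⟩] .nil .nil)) (.node 158 [⟨227,(Int.ofNat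 1),1⟩] (.node 154 [⟨223,(Int.ofNat 1),1⟩] .nil .nil) (.node 159 [⟨228,(Int.ofNat 1),1⟩] .nil .nil))) (.node 201 [⟨240,(Int.ofNat 1),1⟩] (.node 181 [⟨235,(Int.negSucc 0),1⟩] (.node 180 [⟨234,(Int.negSucc 0),1⟩] .nil .nil) (.node 191 [⟨239,(Int.ofNat 1),1⟩] .nil .nil)) (.node 220 [⟨244,(Int.negSucc 0),1⟩] (.node 217 [⟨243,(Int.negSucc 0),1⟩] .nil .nil) (.node 221 [⟨245,(Int.negSucc 0),1⟩] .nil .nil))))))
noncomputable def col195 : Tr Cl := (.node 71 [⟨145,(Int.negSucc 0),1⟩] (.node 26 [⟨96,(Int.negSucc 0),1⟩] (.node 9 [⟨34,(Int.ofNat 1),1⟩] (.node 4 [⟨203,(Int.ofNat 0),1⟩] (.node 2 [⟨203,(Int.ofNat 0),1⟩] (.node 1 [⟨203,(Int.ofNat 1),1⟩] (.node 0 [⟨203,(Int.ofNat 0),1⟩] .nil .nil) .nil) (.node 3 [⟨203,(Int.negSucc 0),1⟩] .nil .nil)) (.node 6 [⟨203,(Int.negSucc 0),1⟩] (.node 5 [⟨203,(Int.ofNat 1),1⟩] .nil .nil) (.node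 7 [⟨203,(Int.ofNat 1),1⟩] .nil .nil))) (.node 16 [⟨65,(Int.ofNat 1),1⟩] (.node 12 [⟨39,(Int.negSucc 0),1⟩] (.node 11 [⟨36,(Int.negSucc 0),1⟩] .nil .nil) (.node 15 [⟨55,(Int.ofNat 1),1⟩] .nil .nil)) (.node 21 [⟨76,(Int.negSucc 0),1⟩] (.node 19 [⟨74,(Int.ofNat 1),1⟩] .nil .nil) (.node 23 [⟨87,(Int.negSucc 0),1⟩] .nil .nil)))) (.node 50 [⟨124,(Int.ofNat 1),1⟩] (.node 42 [⟨106,(Int.ofNat 1),1⟩] (.node 31 [⟨101,(Int.negSucc 0),1⟩] (.node 28 [⟨98,(Int.ofNat 1),1⟩] .nil .nil) (.node 33 [⟨103,(Int.ofNat 1),1⟩] .nil .nil)) (.node 47 [⟨120,(Int.negSucc 0),1⟩] (.node 45 [⟨118,(Int.ofNat 1),1⟩] .nil .nil) (.node 48 [⟨122,(Int.negSucc 0),1⟩] .nil .nil))) (.node 58 [⟨138,(Int.ofNat 1),1⟩] (.node 52 [⟨0,(Int.ofNat 1),1⟩, ⟨1,(Int.ofNat 1),1⟩, ⟨2,(Int.ofNat 2),1⟩, ⟨3,(Int.ofNat 3),1⟩, ⟨4,(Int.ofNat 2),1⟩, ⟨5,(Int.ofNat 1),1⟩,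 ⟨6,(Int.ofNat 1),1⟩, ⟨7,(Int.ofNat 0),1⟩, ⟨203,(Int.negSucc 0),2⟩] (.node 51 [⟨127,(Int.ofNat 1),1⟩] .nil .nil) (.node 53 [⟨129,(Int.ofNat 1),1⟩] .nil .nil)) (.node 63 [⟨141,(Int.ofNat 1),1⟩] (.node 61 [⟨139,(Int.negSucc 0),1⟩] .nil .nil) (.node 68 [⟨144,(Int.ofNat 1),1⟩] .nil .nil))))) (.node 133 [⟨207,(Int.ofNat 1),1⟩] (.node 110 [⟨184,(Int.ofNat 1),1⟩] (.node 90 [⟨172,(Int.negSucc 0),1⟩] (.node 82 [⟨162,(Int.negSucc 0),1⟩] (.node 80 [⟨160,(Int.ofNat 1),1⟩] (.node 73 [⟨147,(Int.ofNat 1),1⟩] .nil .nil) .nil) (.node 83 [⟨165,(Int.ofNat 1),1⟩] .nil .nil)) (.node 95 [⟨175,(Int.negSucc 0),1⟩] (.node 93 [⟨173,(Int.ofNat 1),1⟩] .nil .nil) (.node 108 [⟨182,(Int.negSucc 0),1⟩] .nil .nil))) (.node 117 [⟨197,(Int.negSucc 0),1⟩] (.node 114 [⟨192,(Int.negSucc 0),1⟩] (.node 111 [⟨187,(Int.negSucc 0),1⟩] .nil .nil) (.node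 116 [⟨194,(Int.ofNat 1),1⟩] .nil .nil)) (.node 128 [⟨204,(Int.negSucc 0),1⟩] (.node 126 [⟨202,(Int.negSucc 0),1⟩] .nil .nil) (.node 131 [⟨205,(Int.negSucc 0),1⟩] .nil .nil)))) (.node 168 [⟨232,(Int.ofNat 1),1⟩] (.node 152 [⟨222,(Int.negSucc 0),1⟩] (.node 137 [⟨210,(Int.negSucc 0),1⟩] (.node 135 [⟨208,(Int.ofNat 1),1⟩] .nil .nil) (.node 149 [⟨213,(Int.negSucc 0),1⟩] .nil .nil)) (.node 157 [⟨227,(Int.negSucc 0),1⟩] (.node 154 [⟨224,(Int.ofNat 1),1⟩] .nil .nil) (.node 159 [⟨229,(Int.ofNat 1),1⟩] .nil .nil))) (.node 200 [⟨240,(Int.negSucc 0),1⟩] (.node 181 [⟨236,(Int.negSucc 0),1⟩] (.node 179 [⟨234,(Int.ofNat 1),1⟩] .nil .nil) (.node 190 [⟨239,(Int.negSucc 0),1⟩] .nil .nil)) (.node 219 [⟨244,(Int.ofNat 1),1⟩] (.node 216 [⟨243,(Int.ofNat 1),1⟩] .nil .nil) (.node 221 [⟨246,(Int.negSucc 0),1⟩] .nil .nil))))))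
noncomputable def col196 : Tr Cl := (.node 70 [⟨145,(Int.negSucc 0),1⟩] (.node 26 [⟨97,(Int.ofNat 1),1⟩] (.node 8 [⟨34,(Int.ofNat 1),1⟩] (.node 4 [⟨204,(Int.ofNat 0),1⟩] (.node 2 [⟨204,(Int.ofNat 0),1⟩] (.node 1 [⟨204,(Int.ofNat 1),1⟩] (.node 0 [⟨204,(Int.ofNat 0),1⟩] .nil .nil) .nil) (.node 3 [⟨204,(Int.negSucc 0),1⟩] .nil .nil)) (.node 6 [⟨204,(Int.ofNat 0),1⟩] (.node 5 [⟨204,(Int.ofNat 1),1⟩] .nil .nil) (.node 7 [⟨204,(Int.negSucc 0),1⟩] .nil .nil))) (.node 16 [⟨66,(Int.negSucc 0),1⟩] (.node 12 [⟨40,(Int.ofNat 1),1⟩] (.node 11 [⟨37,(Int.ofNat 1),1⟩] .nil .nil) (.node 15 [⟨56,(Int.negSucc 0),1⟩] .nil .nil)) (.node 20 [⟨76,(Int.negSucc 0),1⟩] (.node 19 [⟨75,(Int.negSucc 0),1⟩] .nil .nil) (.node 23 [⟨88,(Int.ofNat 1),1⟩] .nil .nil)))) (.node 49 [⟨124,(Int.ofNat 1),1⟩] (.node 41 [⟨106,(Int.ofNat 1),1⟩] (.node 31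 [⟨102,(Int.ofNat 1),1⟩] (.node 27 [⟨98,(Int.ofNat 1),1⟩] .nil .nil) (.node 32 [⟨103,(Int.ofNat 1),1⟩] .nil .nil)) (.node 46 [⟨120,(Int.negSucc 0),1⟩] (.node 45 [⟨119,(Int.negSucc 0),1⟩] .nil .nil) (.node 48 [⟨123,(Int.ofNat 1),1⟩] .nil .nil))) (.node 57 [⟨138,(Int.ofNat 1),1⟩] (.node 52 [⟨128,(Int.ofNat 1),1⟩] (.node 51 [⟨0,(Int.ofNat 1),1⟩, ⟨1,(Int.ofNat 1),1⟩, ⟨2,(Int.ofNat 2),1⟩, ⟨3,(Int.ofNat 3),1⟩, ⟨4,(Int.ofNat 2),1⟩, ⟨5,(Int.ofNat 1),1⟩, ⟨6,(Int.ofNat 1),1⟩, ⟨7,(Int.ofNat 1),1⟩, ⟨204,(Int.negSucc 0),2⟩] .nil .nil) (.node 53 [⟨130,(Int.ofNat 1),1⟩] .nil .nil)) (.node 63 [⟨142,(Int.ofNat 1),1⟩] (.node 60 [⟨139,(Int.negSucc 0),1⟩] .nil .nil) (.node 67 [⟨144,(Int.ofNat 1),1⟩] .nil .nil))))) (.node 132 [⟨207,(Int.negSucc 0),1⟩] (.node 110 [⟨185,(Int.ofNat 1),1⟩] (.node 89 [⟨172,(Int.negSucc 0),1⟩] (.node 82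 [⟨163,(Int.negSucc 0),1⟩] (.node 79 [⟨160,(Int.ofNat 1),1⟩] (.node 73 [⟨148,(Int.ofNat 1),1⟩] .nil .nil) .nil) (.node 83 [⟨166,(Int.ofNat 1),1⟩] .nil .nil)) (.node 95 [⟨176,(Int.negSucc 0),1⟩] (.node 92 [⟨173,(Int.ofNat 1),1⟩] .nil .nil) (.node 107 [⟨182,(Int.negSucc 0),1⟩] .nil .nil))) (.node 117 [⟨198,(Int.negSucc 0),1⟩] (.node 113 [⟨192,(Int.negSucc 0),1⟩] (.node 111 [⟨188,(Int.negSucc 0),1⟩] .nil .nil) (.node 116 [⟨195,(Int.ofNat 1),1⟩] .nil .nil)) (.node 127 [⟨203,(Int.negSucc 0),1⟩] (.node 125 [⟨202,(Int.negSucc 0),1⟩] .nil .nil) (.node 131 [⟨206,(Int.negSucc 0),1⟩] .nil .nil)))) (.node 167 [⟨232,(Int.negSucc 0),1⟩] (.node 152 [⟨223,(Int.negSucc 0),1⟩] (.node 136 [⟨210,(Int.ofNat 1),1⟩] (.node 135 [⟨209,(Int.ofNat 1),1⟩] .nil .nil) (.node 149 [⟨214,(Int.negSucc 0),1⟩] .nil .nil)) (.node 157 [⟨228,(Int.negSucc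 0),1⟩] (.node 153 [⟨224,(Int.negSucc 0),1⟩] .nil .nil) (.node 158 [⟨229,(Int.negSucc 0),1⟩] .nil .nil))) (.node 199 [⟨240,(Int.ofNat 1),1⟩] (.node 180 [⟨236,(Int.ofNat 1),1⟩] (.node 179 [⟨235,(Int.ofNat 1),1⟩] .nil .nil) (.node 189 [⟨239,(Int.ofNat 1),1⟩] .nil .nil)) (.node 218 [⟨244,(Int.negSucc 0),1⟩] (.node 215 [⟨243,(Int.negSucc 0),1⟩] .nil .nil) (.node 221 [⟨247,(Int.negSucc 0),1⟩] .nil .nil))))))
noncomputable def col197 : Tr Cl := (.node 71 [⟨146,(Int.negSucc 0),1⟩] (.node 25 [⟨96,(Int.negSucc 0),1⟩] (.node 9 [⟨35,(Int.negSucc 0),1⟩] (.node 4 [⟨205,(Int.ofNat 1),1⟩] (.node 2 [⟨205,(Int.ofNat 0),1⟩] (.node 1 [⟨205,(Int.ofNat 1),1⟩] (.node 0 [⟨205,(Int.ofNat 0),1⟩] .nil .nil) .nil) (.node 3 [⟨205,(Int.negSucc 0),1⟩] .nil .nil)) (.node 6 [⟨205,(Int.ofNat 0),1⟩] (.node 5 [⟨205,(Int.negSucc 0),1⟩] .nil .nil)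 (.node 7 [⟨205,(Int.ofNat 1),1⟩] .nil .nil))) (.node 16 [⟨67,(Int.negSucc 0),1⟩] (.node 12 [⟨41,(Int.ofNat 1),1⟩] (.node 10 [⟨36,(Int.negSucc 0),1⟩] .nil .nil) (.node 15 [⟨57,(Int.negSucc 0),1⟩] .nil .nil)) (.node 21 [⟨77,(Int.ofNat 1),1⟩] (.node 18 [⟨74,(Int.ofNat 1),1⟩] .nil .nil) (.node 23 [⟨89,(Int.ofNat 1),1⟩] .nil .nil)))) (.node 49 [⟨127,(Int.ofNat 1),1⟩] (.node 40 [⟨106,(Int.ofNat 1),1⟩] (.node 30 [⟨101,(Int.negSucc 0),1⟩] (.node 28 [⟨99,(Int.negSucc 0),1⟩] .nil .nil) (.node 33 [⟨104,(Int.negSucc 0),1⟩] .nil .nil)) (.node 47 [⟨121,(Int.ofNat 1),1⟩] (.node 44 [⟨118,(Int.ofNat 1),1⟩] .nil .nil) (.node 48 [⟨125,(Int.negSucc 0),1⟩] .nil .nil))) (.node 56 [⟨138,(Int.ofNat 1),1⟩] (.node 52 [⟨131,(Int.ofNat 1),1⟩] (.node 50 [⟨0,(Int.ofNat 1),1⟩, ⟨1,(Int.ofNat 1),1⟩, ⟨2,(Int.ofNat 2),1⟩, ⟨3,(Int.ofNat 3),1⟩, ⟨4,(Int.ofNat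 2),1⟩, ⟨5,(Int.ofNat 2),1⟩, ⟨6,(Int.ofNat 1),1⟩, ⟨7,(Int.ofNat 0),1⟩, ⟨205,(Int.negSucc 0),2⟩] .nil .nil) (.node 53 [⟨132,(Int.negSucc 0),1⟩] .nil .nil)) (.node 62 [⟨141,(Int.ofNat 1),1⟩] (.node 61 [⟨140,(Int.negSucc 0),1⟩] .nil .nil) (.node 66 [⟨144,(Int.ofNat 1),1⟩] .nil .nil))))) (.node 130 [⟨207,(Int.ofNat 1),1⟩] (.node 109 [⟨184,(Int.ofNat 1),1⟩] (.node 88 [⟨172,(Int.negSucc 0),1⟩] (.node 81 [⟨162,(Int.negSucc 0),1⟩] (.node 80 [⟨161,(Int.ofNat 1),1⟩] (.node 72 [⟨147,(Int.ofNat 1),1⟩] .nil .nil) .nil) (.node 83 [⟨167,(Int.ofNat 1),1⟩] .nil .nil)) (.node 94 [⟨175,(Int.negSucc 0),1⟩] (.node 93 [⟨174,(Int.ofNat 1),1⟩] .nil .nil) (.node 108 [⟨183,(Int.negSucc 0),1⟩] .nil .nil))) (.node 117 [⟨199,(Int.negSucc 0),1⟩] (.node 114 [⟨193,(Int.negSucc 0),1⟩] (.node 111 [⟨189,(Int.negSucc 0),1⟩] .nil .nil) (.node 115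 [⟨194,(Int.ofNat 1),1⟩] .nil .nil)) (.node 124 [⟨203,(Int.negSucc 0),1⟩] (.node 123 [⟨202,(Int.ofNat 1),1⟩] .nil .nil) (.node 128 [⟨206,(Int.negSucc 0),1⟩] .nil .nil)))) (.node 166 [⟨232,(Int.negSucc 0),1⟩] (.node 151 [⟨222,(Int.ofNat 1),1⟩] (.node 137 [⟨211,(Int.negSucc 0),1⟩] (.node 134 [⟨208,(Int.negSucc 0),1⟩] .nil .nil) (.node 149 [⟨215,(Int.negSucc 0),1⟩] .nil .nil)) (.node 156 [⟨227,(Int.ofNat 1),1⟩] (.node 154 [⟨225,(Int.ofNat 1),1⟩] .nil .nil) (.node 159 [⟨230,(Int.ofNat 1),1⟩] .nil .nil))) (.node 198 [⟨240,(Int.ofNat 1),1⟩] (.node 181 [⟨237,(Int.negSucc 0),1⟩] (.node 178 [⟨234,(Int.negSucc 0),1⟩] .nil .nil) (.node 188 [⟨239,(Int.ofNat 1),1⟩] .nil .nil)) (.node 219 [⟨245,(Int.ofNat 1),1⟩] (.node 214 [⟨243,(Int.negSucc 0),1⟩] .nil .nil) (.node 220 [⟨246,(Int.ofNat 1),1⟩] .nil .nil))))))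
noncomputable def col198 : Tr Cl := (.node 70 [⟨146,(Int.negSucc 0),1⟩] (.node 25 [⟨97,(Int.ofNat 1),1⟩] (.node 8 [⟨35,(Int.negSucc 0),1⟩] (.node 4 [⟨206,(Int.ofNat 1),1⟩] (.node 2 [⟨206,(Int.ofNat 0),1⟩] (.node 1 [⟨206,(Int.ofNat 1),1⟩] (.node 0 [⟨206,(Int.ofNat 0),1⟩] .nil .nil) .nil) (.node 3 [⟨206,(Int.negSucc 0),1⟩] .nil .nil)) (.node 6 [⟨206,(Int.ofNat 1),1⟩] (.node 5 [⟨206,(Int.negSucc 0),1⟩] .nil .nil) (.node 7 [⟨206,(Int.negSucc 0),1⟩] .nil .nil))) (.node 16 [⟨68,(Int.ofNat 1),1⟩] (.node 12 [⟨42,(Int.negSucc 0),1⟩] (.node 10 [⟨37,(Int.ofNat 1),1⟩] .nil .nil) (.node 15 [⟨58,(Int.ofNat 1),1⟩] .nil .nil)) (.node 20 [⟨77,(Int.ofNat 1),1⟩] (.node 18 [⟨75,(Int.negSucc 0),1⟩] .nil .nil) (.node 23 [⟨90,(Int.negSucc 0),1⟩] .nil .nil)))) (.node 49 [⟨0,(Int.ofNat 1),1⟩, ⟨1,(Int.ofNat 1),1⟩, ⟨2,(Int.ofNat 2),1⟩,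 ⟨3,(Int.ofNat 3),1⟩, ⟨4,(Int.ofNat 2),1⟩, ⟨5,(Int.ofNat 2),1⟩, ⟨6,(Int.ofNat 1),1⟩, ⟨7,(Int.ofNat 1),1⟩, ⟨206,(Int.negSucc 0),2⟩] (.node 39 [⟨106,(Int.ofNat 1),1⟩] (.node 30 [⟨102,(Int.ofNat 1),1⟩] (.node 27 [⟨99,(Int.negSucc 0),1⟩] .nil .nil) (.node 32 [⟨104,(Int.negSucc 0),1⟩] .nil .nil)) (.node 46 [⟨121,(Int.ofNat 1),1⟩] (.node 44 [⟨119,(Int.negSucc 0),1⟩] .nil .nil) (.node 48 [⟨126,(Int.ofNat 1),1⟩] .nil .nil))) (.node 55 [⟨138,(Int.ofNat 1),1⟩] (.node 51 [⟨131,(Int.ofNat 1),1⟩] (.node 50 [⟨128,(Int.ofNat 1),1⟩] .nil .nil) (.node 53 [⟨133,(Int.negSucc 0),1⟩] .nil .nil)) (.node 62 [⟨142,(Int.ofNat 1),1⟩] (.node 60 [⟨140,(Int.negSucc 0),1⟩] .nil .nil) (.node 65 [⟨144,(Int.ofNat 1),1⟩] .nil .nil))))) (.node 129 [⟨207,(Int.negSucc 0),1⟩] (.node 109 [⟨185,(Int.ofNat 1),1⟩] (.node 87 [⟨172,(Int.negSucc 0),1⟩] (.node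 81 [⟨163,(Int.negSucc 0),1⟩] (.node 79 [⟨161,(Int.ofNat 1),1⟩] (.node 72 [⟨148,(Int.ofNat 1),1⟩] .nil .nil) .nil) (.node 83 [⟨168,(Int.ofNat 1),1⟩] .nil .nil)) (.node 94 [⟨176,(Int.negSucc 0),1⟩] (.node 92 [⟨174,(Int.ofNat 1),1⟩] .nil .nil) (.node 107 [⟨183,(Int.negSucc 0),1⟩] .nil .nil))) (.node 117 [⟨200,(Int.negSucc 0),1⟩] (.node 113 [⟨193,(Int.negSucc 0),1⟩] (.node 111 [⟨190,(Int.negSucc 0),1⟩] .nil .nil) (.node 115 [⟨195,(Int.ofNat 1),1⟩] .nil .nil)) (.node 124 [⟨204,(Int.negSucc 0),1⟩] (.node 122 [⟨202,(Int.ofNat 1),1⟩] .nil .nil) (.node 127 [⟨205,(Int.negSucc 0),1⟩] .nil .nil)))) (.node 165 [⟨232,(Int.ofNat 1),1⟩] (.node 151 [⟨223,(Int.ofNat 1),1⟩] (.node 136 [⟨211,(Int.ofNat 1),1⟩] (.node 134 [⟨209,(Int.negSucc 0),1⟩] .nil .nil) (.node 149 [⟨216,(Int.negSucc 0),1⟩] .nil .nil)) (.node 156 [⟨228,(Int.ofNat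 1),1⟩] (.node 153 [⟨225,(Int.negSucc 0),1⟩] .nil .nil) (.node 158 [⟨230,(Int.negSucc 0),1⟩] .nil .nil))) (.node 197 [⟨240,(Int.negSucc 0),1⟩] (.node 180 [⟨237,(Int.ofNat 1),1⟩] (.node 178 [⟨235,(Int.negSucc 0),1⟩] .nil .nil) (.node 187 [⟨239,(Int.negSucc 0),1⟩] .nil .nil)) (.node 218 [⟨245,(Int.negSucc 0),1⟩] (.node 213 [⟨243,(Int.ofNat 1),1⟩] .nil .nil) (.node 220 [⟨247,(Int.ofNat 1),1⟩] .nil .nil))))))
noncomputable def col199 : Tr Cl := (.node 70 [⟨147,(Int.negSucc 0),1⟩] (.node 25 [⟨98,(Int.negSucc 0),1⟩] (.node 8 [⟨36,(Int.ofNat 1),1⟩] (.node 4 [⟨207,(Int.ofNat 1),1⟩] (.node 2 [⟨207,(Int.ofNat 0),1⟩] (.node 1 [⟨207,(Int.ofNat 1),1⟩] (.node 0 [⟨207,(Int.ofNat 0),1⟩] .nil .nil) .nil) (.node 3 [⟨207,(Int.negSucc 0),1⟩] .nil .nil)) (.node 6 [⟨207,(Int.negSucc 0),1⟩] (.node 5 [⟨207,(Int.ofNat 0),1⟩] .nil .nil)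 (.node 7 [⟨207,(Int.ofNat 0),1⟩] .nil .nil))) (.node 16 [⟨69,(Int.negSucc 0),1⟩] (.node 12 [⟨43,(Int.ofNat 1),1⟩] (.node 9 [⟨37,(Int.ofNat 1),1⟩] .nil .nil) (.node 15 [⟨59,(Int.negSucc 0),1⟩] .nil .nil)) (.node 19 [⟨77,(Int.ofNat 1),1⟩] (.node 18 [⟨76,(Int.ofNat 1),1⟩] .nil .nil) (.node 23 [⟨91,(Int.ofNat 1),1⟩] .nil .nil)))) (.node 49 [⟨129,(Int.ofNat 1),1⟩] (.node 38 [⟨106,(Int.ofNat 1),1⟩] (.node 30 [⟨103,(Int.negSucc 0),1⟩] (.node 26 [⟨99,(Int.negSucc 0),1⟩] .nil .nil) (.node 31 [⟨104,(Int.negSucc 0),1⟩] .nil .nil)) (.node 45 [⟨121,(Int.ofNat 1),1⟩] (.node 44 [⟨120,(Int.ofNat 1),1⟩] .nil .nil) (.node 48 [⟨0,(Int.ofNat 1),1⟩, ⟨1,(Int.ofNat 1),1⟩, ⟨2,(Int.ofNat 2),1⟩, ⟨3,(Int.ofNat 3),1⟩, ⟨4,(Int.ofNat 2),1⟩, ⟨5,(Int.ofNat 2),1⟩, ⟨6,(Int.ofNat 2),1⟩, ⟨7,(Int.ofNat 1),1⟩, ⟨207,(Int.negSucc 0),2⟩] .nil .nil)))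 (.node 54 [⟨138,(Int.ofNat 1),1⟩] (.node 51 [⟨132,(Int.ofNat 1),1⟩] (.node 50 [⟨130,(Int.negSucc 0),1⟩] .nil .nil) (.node 52 [⟨133,(Int.negSucc 0),1⟩] .nil .nil)) (.node 61 [⟨142,(Int.ofNat 1),1⟩] (.node 60 [⟨141,(Int.negSucc 0),1⟩] .nil .nil) (.node 64 [⟨144,(Int.ofNat 1),1⟩] .nil .nil))))) (.node 126 [⟨206,(Int.negSucc 0),1⟩] (.node 108 [⟨185,(Int.ofNat 1),1⟩] (.node 86 [⟨172,(Int.negSucc 0),1⟩] (.node 80 [⟨163,(Int.negSucc 0),1⟩] (.node 79 [⟨162,(Int.ofNat 1),1⟩] (.node 71 [⟨148,(Int.ofNat 1),1⟩] .nil .nil) .nil) (.node 83 [⟨169,(Int.ofNat 1),1⟩] .nil .nil)) (.node 93 [⟨176,(Int.negSucc 0),1⟩] (.node 92 [⟨175,(Int.ofNat 1),1⟩] .nil .nil) (.node 107 [⟨184,(Int.negSucc 0),1⟩] .nil .nil))) (.node 117 [⟨201,(Int.negSucc 0),1⟩] (.node 113 [⟨194,(Int.negSucc 0),1⟩] (.node 111 [⟨191,(Int.negSucc 0),1⟩] .nil .nil)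 (.node 114 [⟨195,(Int.ofNat 1),1⟩] .nil .nil)) (.node 123 [⟨204,(Int.negSucc 0),1⟩] (.node 122 [⟨203,(Int.ofNat 1),1⟩] .nil .nil) (.node 125 [⟨205,(Int.ofNat 1),1⟩] .nil .nil)))) (.node 164 [⟨232,(Int.negSucc 0),1⟩] (.node 151 [⟨224,(Int.ofNat 1),1⟩] (.node 135 [⟨211,(Int.negSucc 0),1⟩] (.node 134 [⟨210,(Int.negSucc 0),1⟩] .nil .nil) (.node 149 [⟨217,(Int.negSucc 0),1⟩] .nil .nil)) (.node 156 [⟨229,(Int.ofNat 1),1⟩] (.node 152 [⟨225,(Int.ofNat 1),1⟩] .nil .nil) (.node 157 [⟨230,(Int.ofNat 1),1⟩] .nil .nil))) (.node 196 [⟨240,(Int.ofNat 1),1⟩] (.node 179 [⟨237,(Int.negSucc 0),1⟩] (.node 178 [⟨236,(Int.negSucc 0),1⟩] .nil .nil) (.node 186 [⟨239,(Int.ofNat 1),1⟩] .nil .nil)) (.node 218 [⟨246,(Int.negSucc 0),1⟩] (.node 212 [⟨243,(Int.negSucc 0),1⟩] .nil .nil) (.node 219 [⟨247,(Int.negSucc 0),1⟩] .nil .nil))))))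
noncomputable def col200 : Tr Cl := (.node 68 [⟨146,(Int.negSucc 0),1⟩] (.node 24 [⟨96,(Int.negSucc 0),1⟩] (.node 9 [⟨38,(Int.ofNat 1),1⟩] (.node 4 [⟨208,(Int.negSucc 0),1⟩] (.node 2 [⟨208,(Int.ofNat 0),1⟩] (.node 1 [⟨208,(Int.ofNat 1),1⟩] (.node 0 [⟨208,(Int.ofNat 0),1⟩] .nil .nil) .nil) (.node 3 [⟨208,(Int.ofNat 0),1⟩] .nil .nil)) (.node 6 [⟨208,(Int.ofNat 0),1⟩] (.node 5 [⟨208,(Int.ofNat 0),1⟩] .nil .nil) (.node 7 [⟨208,(Int.ofNat 1),1⟩] .nil .nil))) (.node 16 [⟨70,(Int.ofNat 1),1⟩] (.node 11 [⟨41,(Int.ofNat 1),1⟩] (.node 10 [⟨39,(Int.ofNat 1),1⟩] .nil .nil) (.node 15 [⟨60,(Int.ofNat 1),1⟩] .nil .nil)) (.node 21 [⟨78,(Int.negSucc 0),1⟩] (.node 17 [⟨74,(Int.ofNat 1),1⟩] .nil .nil) (.node 23 [⟨92,(Int.negSucc 0),1⟩] .nil .nil)))) (.node 47 [⟨0,(Int.ofNat 1),1⟩, ⟨1,(Int.ofNat 1),1⟩, ⟨2,(Int.ofNat 2),1⟩, ⟨3,(Int.ofNat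 3),1⟩, ⟨4,(Int.ofNat 3),1⟩, ⟨5,(Int.ofNat 2),1⟩, ⟨6,(Int.ofNat 1),1⟩, ⟨7,(Int.ofNat 0),1⟩, ⟨208,(Int.negSucc 0),2⟩] (.node 37 [⟨106,(Int.ofNat 1),1⟩] (.node 29 [⟨101,(Int.negSucc 0),1⟩] (.node 28 [⟨100,(Int.ofNat 1),1⟩] .nil .nil) (.node 33 [⟨105,(Int.ofNat 1),1⟩] .nil .nil)) (.node 45 [⟨125,(Int.negSucc 0),1⟩] (.node 44 [⟨122,(Int.ofNat 1),1⟩] .nil .nil) (.node 46 [⟨127,(Int.ofNat 1),1⟩] .nil .nil))) (.node 56 [⟨139,(Int.ofNat 1),1⟩] (.node 52 [⟨135,(Int.negSucc 0),1⟩] (.node 50 [⟨134,(Int.ofNat 1),1⟩] .nil .nil) (.node 53 [⟨136,(Int.ofNat 1),1⟩] .nil .nil)) (.node 59 [⟨141,(Int.ofNat 1),1⟩] (.node 58 [⟨140,(Int.negSucc 0),1⟩] .nil .nil) (.node 66 [⟨145,(Int.ofNat 1),1⟩] .nil .nil))))) (.node 128 [⟨209,(Int.negSucc 0),1⟩] (.node 109 [⟨187,(Int.ofNat 1),1⟩] (.node 88 [⟨173,(Int.negSucc 0),1⟩] (.node 81 [⟨165,(Int.negSucc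 0),1⟩] (.node 80 [⟨164,(Int.ofNat 1),1⟩] (.node 69 [⟨147,(Int.ofNat 1),1⟩] .nil .nil) .nil) (.node 82 [⟨167,(Int.ofNat 1),1⟩] .nil .nil)) (.node 91 [⟨175,(Int.negSucc 0),1⟩] (.node 90 [⟨174,(Int.ofNat 1),1⟩] .nil .nil) (.node 108 [⟨186,(Int.negSucc 0),1⟩] .nil .nil))) (.node 116 [⟨199,(Int.negSucc 0),1⟩] (.node 114 [⟨196,(Int.negSucc 0),1⟩] (.node 110 [⟨189,(Int.negSucc 0),1⟩] .nil .nil) (.node 115 [⟨197,(Int.ofNat 1),1⟩] .nil .nil)) (.node 120 [⟨203,(Int.ofNat 1),1⟩] (.node 119 [⟨202,(Int.negSucc 0),1⟩] .nil .nil) (.node 121 [⟨205,(Int.negSucc 0),1⟩] .nil .nil)))) (.node 163 [⟨232,(Int.ofNat 1),1⟩] (.node 150 [⟨222,(Int.negSucc 0),1⟩] (.node 133 [⟨211,(Int.negSucc 0),1⟩] (.node 130 [⟨210,(Int.ofNat 1),1⟩] .nil .nil) (.node 149 [⟨218,(Int.negSucc 0),1⟩] .nil .nil)) (.node 155 [⟨227,(Int.negSucc 0),1⟩] (.node 154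 [⟨226,(Int.ofNat 1),1⟩] .nil .nil) (.node 159 [⟨231,(Int.ofNat 1),1⟩] .nil .nil))) (.node 195 [⟨240,(Int.negSucc 0),1⟩] (.node 181 [⟨238,(Int.negSucc 0),1⟩] (.node 177 [⟨234,(Int.ofNat 1),1⟩] .nil .nil) (.node 185 [⟨239,(Int.negSucc 0),1⟩] .nil .nil)) (.node 216 [⟨245,(Int.negSucc 0),1⟩] (.node 214 [⟨244,(Int.negSucc 0),1⟩] .nil .nil) (.node 217 [⟨246,(Int.negSucc 0),1⟩] .nil .nil))))))
noncomputable def col201 : Tr Cl := (.node 67 [⟨146,(Int.negSucc 0),1⟩] (.node 24 [⟨97,(Int.ofNat 1),1⟩] (.node 8 [⟨38,(Int.ofNat 1),1⟩] (.node 4 [⟨209,(Int.negSucc 0),1⟩] (.node 2 [⟨209,(Int.ofNat 0),1⟩] (.node 1 [⟨209,(Int.ofNat 1),1⟩] (.node 0 [⟨209,(Int.ofNat 0),1⟩] .nil .nil) .nil) (.node 3 [⟨209,(Int.ofNat 0),1⟩] .nil .nil)) (.node 6 [⟨209,(Int.ofNat 1),1⟩] (.node 5 [⟨209,(Int.ofNat 0),1⟩] .nil .nil) (.node 7 [⟨209,(Int.negSucc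 0),1⟩] .nil .nil))) (.node 16 [⟨71,(Int.negSucc 0),1⟩] (.node 11 [⟨42,(Int.negSucc 0),1⟩] (.node 10 [⟨40,(Int.negSucc 0),1⟩] .nil .nil) (.node 15 [⟨61,(Int.negSucc 0),1⟩] .nil .nil)) (.node 20 [⟨78,(Int.negSucc 0),1⟩] (.node 17 [⟨75,(Int.negSucc 0),1⟩] .nil .nil) (.node 23 [⟨93,(Int.ofNat 1),1⟩] .nil .nil)))) (.node 47 [⟨128,(Int.ofNat 1),1⟩] (.node 36 [⟨106,(Int.ofNat 1),1⟩] (.node 29 [⟨102,(Int.ofNat 1),1⟩] (.node 27 [⟨100,(Int.ofNat 1),1⟩] .nil .nil) (.node 32 [⟨105,(Int.ofNat 1),1⟩] .nil .nil)) (.node 45 [⟨126,(Int.ofNat 1),1⟩] (.node 44 [⟨123,(Int.negSucc 0),1⟩] .nil .nil) (.node 46 [⟨0,(Int.ofNat 1),1⟩, ⟨1,(Int.ofNat 1),1⟩, ⟨2,(Int.ofNat 2),1⟩, ⟨3,(Int.ofNat 3),1⟩, ⟨4,(Int.ofNat 3),1⟩, ⟨5,(Int.ofNat 2),1⟩, ⟨6,(Int.ofNat 1),1⟩, ⟨7,(Int.ofNat 1),1⟩, ⟨209,(Int.negSucc 0),2⟩] .nil .nil))) (.node 55 [⟨139,(Int.ofNat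 1),1⟩] (.node 51 [⟨135,(Int.negSucc 0),1⟩] (.node 49 [⟨134,(Int.ofNat 1),1⟩] .nil .nil) (.node 53 [⟨137,(Int.ofNat 1),1⟩] .nil .nil)) (.node 59 [⟨142,(Int.ofNat 1),1⟩] (.node 57 [⟨140,(Int.negSucc 0),1⟩] .nil .nil) (.node 65 [⟨145,(Int.ofNat 1),1⟩] .nil .nil))))) (.node 127 [⟨208,(Int.negSucc 0),1⟩] (.node 109 [⟨188,(Int.ofNat 1),1⟩] (.node 87 [⟨173,(Int.negSucc 0),1⟩] (.node 81 [⟨166,(Int.negSucc 0),1⟩] (.node 79 [⟨164,(Int.ofNat 1),1⟩] (.node 69 [⟨148,(Int.ofNat 1),1⟩] .nil .nil) .nil) (.node 82 [⟨168,(Int.ofNat 1),1⟩] .nil .nil)) (.node 91 [⟨176,(Int.negSucc 0),1⟩] (.node 89 [⟨174,(Int.ofNat 1),1⟩] .nil .nil) (.node 107 [⟨186,(Int.negSucc 0),1⟩] .nil .nil))) (.node 116 [⟨200,(Int.negSucc 0),1⟩] (.node 113 [⟨196,(Int.negSucc 0),1⟩] (.node 110 [⟨190,(Int.negSucc 0),1⟩] .nil .nil) (.node 115 [⟨198,(Int.ofNat 1),1⟩]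 .nil .nil)) (.node 120 [⟨204,(Int.ofNat 1),1⟩] (.node 118 [⟨202,(Int.negSucc 0),1⟩] .nil .nil) (.node 121 [⟨206,(Int.negSucc 0),1⟩] .nil .nil)))) (.node 162 [⟨232,(Int.negSucc 0),1⟩] (.node 150 [⟨223,(Int.negSucc 0),1⟩] (.node 132 [⟨211,(Int.ofNat 1),1⟩] (.node 129 [⟨210,(Int.negSucc 0),1⟩] .nil .nil) (.node 149 [⟨219,(Int.negSucc 0),1⟩] .nil .nil)) (.node 155 [⟨228,(Int.negSucc 0),1⟩] (.node 153 [⟨226,(Int.negSucc 0),1⟩] .nil .nil) (.node 158 [⟨231,(Int.negSucc 0),1⟩] .nil .nil))) (.node 194 [⟨240,(Int.ofNat 1),1⟩] (.node 180 [⟨238,(Int.ofNat 1),1⟩] (.node 177 [⟨235,(Int.ofNat 1),1⟩] .nil .nil) (.node 184 [⟨239,(Int.ofNat 1),1⟩] .nil .nil)) (.node 215 [⟨245,(Int.ofNat 1),1⟩] (.node 213 [⟨244,(Int.ofNat 1),1⟩] .nil .nil) (.node 217 [⟨247,(Int.negSucc 0),1⟩] .nil .nil))))))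
noncomputable def col202 : Tr Cl := (.node 67 [⟨147,(Int.negSucc 0),1⟩] (.node 24 [⟨98,(Int.negSucc 0),1⟩] (.node 8 [⟨39,(Int.negSucc 0),1⟩] (.node 4 [⟨210,(Int.negSucc 0),1⟩] (.node 2 [⟨210,(Int.ofNat 0),1⟩] (.node 1 [⟨210,(Int.ofNat 1),1⟩] (.node 0 [⟨210,(Int.ofNat 0),1⟩] .nil .nil) .nil) (.node 3 [⟨210,(Int.ofNat 0),1⟩] .nil .nil)) (.node 6 [⟨210,(Int.negSucc 0),1⟩] (.node 5 [⟨210,(Int.ofNat 1),1⟩] .nil .nil) (.node 7 [⟨210,(Int.ofNat 0),1⟩] .nil .nil))) (.node 16 [⟨72,(Int.ofNat 1),1⟩] (.node 11 [⟨43,(Int.ofNat 1),1⟩] (.node 9 [⟨40,(Int.negSucc 0),1⟩] .nil .nil) (.node 15 [⟨62,(Int.ofNat 1),1⟩] .nil .nil)) (.node 19 [⟨78,(Int.negSucc 0),1⟩] (.node 17 [⟨76,(Int.ofNat 1),1⟩] .nil .nil) (.node 23 [⟨94,(Int.negSucc 0),1⟩] .nil .nil)))) (.node 47 [⟨130,(Int.negSucc 0),1⟩] (.node 35 [⟨106,(Int.ofNat 1),1⟩] (.node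 29 [⟨103,(Int.negSucc 0),1⟩] (.node 26 [⟨100,(Int.ofNat 1),1⟩] .nil .nil) (.node 31 [⟨105,(Int.ofNat 1),1⟩] .nil .nil)) (.node 45 [⟨0,(Int.ofNat 1),1⟩, ⟨1,(Int.ofNat 1),1⟩, ⟨2,(Int.ofNat 2),1⟩, ⟨3,(Int.ofNat 3),1⟩, ⟨4,(Int.ofNat 3),1⟩, ⟨5,(Int.ofNat 2),1⟩, ⟨6,(Int.ofNat 2),1⟩, ⟨7,(Int.ofNat 1),1⟩, ⟨210,(Int.negSucc 0),2⟩] (.node 44 [⟨124,(Int.ofNat 1),1⟩] .nil .nil) (.node 46 [⟨129,(Int.ofNat 1),1⟩] .nil .nil))) (.node 54 [⟨139,(Int.ofNat 1),1⟩] (.node 51 [⟨136,(Int.negSucc 0),1⟩] (.node 48 [⟨134,(Int.ofNat 1),1⟩] .nil .nil) (.node 52 [⟨137,(Int.ofNat 1),1⟩] .nil .nil)) (.node 58 [⟨142,(Int.ofNat 1),1⟩] (.node 57 [⟨141,(Int.negSucc 0),1⟩] .nil .nil) (.node 64 [⟨145,(Int.ofNat 1),1⟩] .nil .nil))))) (.node 125 [⟨208,(Int.ofNat 1),1⟩] (.node 108 [⟨188,(Int.ofNat 1),1⟩] (.node 86 [⟨173,(Int.negSucc 0),1⟩] (.node 80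 [⟨166,(Int.negSucc 0),1⟩] (.node 79 [⟨165,(Int.ofNat 1),1⟩] (.node 68 [⟨148,(Int.ofNat 1),1⟩] .nil .nil) .nil) (.node 82 [⟨169,(Int.ofNat 1),1⟩] .nil .nil)) (.node 90 [⟨176,(Int.negSucc 0),1⟩] (.node 89 [⟨175,(Int.ofNat 1),1⟩] .nil .nil) (.node 107 [⟨187,(Int.negSucc 0),1⟩] .nil .nil))) (.node 116 [⟨201,(Int.negSucc 0),1⟩] (.node 113 [⟨197,(Int.negSucc 0),1⟩] (.node 110 [⟨191,(Int.negSucc 0),1⟩] .nil .nil) (.node 114 [⟨198,(Int.ofNat 1),1⟩] .nil .nil)) (.node 119 [⟨204,(Int.ofNat 1),1⟩] (.node 118 [⟨203,(Int.negSucc 0),1⟩] .nil .nil) (.node 121 [⟨207,(Int.negSucc 0),1⟩] .nil .nil)))) (.node 161 [⟨232,(Int.ofNat 1),1⟩] (.node 150 [⟨224,(Int.negSucc 0),1⟩] (.node 131 [⟨211,(Int.negSucc 0),1⟩] (.node 126 [⟨209,(Int.negSucc 0),1⟩] .nil .nil) (.node 149 [⟨220,(Int.negSucc 0),1⟩] .nil .nil)) (.node 155 [⟨229,(Int.negSucc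 0),1⟩] (.node 152 [⟨226,(Int.ofNat 1),1⟩] .nil .nil) (.node 157 [⟨231,(Int.ofNat 1),1⟩] .nil .nil))) (.node 193 [⟨240,(Int.negSucc 0),1⟩] (.node 179 [⟨238,(Int.negSucc 0),1⟩] (.node 177 [⟨236,(Int.ofNat 1),1⟩] .nil .nil) (.node 183 [⟨239,(Int.negSucc 0),1⟩] .nil .nil)) (.node 215 [⟨246,(Int.ofNat 1),1⟩] (.node 212 [⟨244,(Int.negSucc 0),1⟩] .nil .nil) (.node 216 [⟨247,(Int.ofNat 1),1⟩] .nil .nil))))))
noncomputable def col203 : Tr Cl := (.node 65 [⟨147,(Int.negSucc 0),1⟩] (.node 24 [⟨99,(Int.ofNat 1),1⟩] (.node 8 [⟨41,(Int.ofNat 1),1⟩] (.node 4 [⟨211,(Int.ofNat 0),1⟩] (.node 2 [⟨211,(Int.ofNat 0),1⟩] (.node 1 [⟨211,(Int.ofNat 1),1⟩] (.node 0 [⟨211,(Int.ofNat 0),1⟩] .nil .nil) .nil) (.node 3 [⟨211,(Int.ofNat 0),1⟩] .nil .nil)) (.node 6 [⟨211,(Int.ofNat 0),1⟩] (.node 5 [⟨211,(Int.negSucc 0),1⟩] .nil .nil) (.node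 7 [⟨211,(Int.ofNat 0),1⟩] .nil .nil))) (.node 16 [⟨73,(Int.negSucc 0),1⟩] (.node 10 [⟨43,(Int.ofNat 1),1⟩] (.node 9 [⟨42,(Int.ofNat 1),1⟩] .nil .nil) (.node 15 [⟨63,(Int.negSucc 0),1⟩] .nil .nil)) (.node 18 [⟨78,(Int.negSucc 0),1⟩] (.node 17 [⟨77,(Int.negSucc 0),1⟩] .nil .nil) (.node 23 [⟨95,(Int.ofNat 1),1⟩] .nil .nil)))) (.node 47 [⟨133,(Int.ofNat 1),1⟩] (.node 34 [⟨106,(Int.ofNat 1),1⟩] (.node 29 [⟨104,(Int.ofNat 1),1⟩] (.node 25 [⟨100,(Int.ofNat 1),1⟩] .nil .nil) (.node 30 [⟨105,(Int.ofNat 1),1⟩] .nil .nil)) (.node 45 [⟨131,(Int.ofNat 1),1⟩] (.node 44 [⟨0,(Int.ofNat 1),1⟩, ⟨1,(Int.ofNat 1),1⟩, ⟨2,(Int.ofNat 2),1⟩, ⟨3,(Int.ofNat 3),1⟩, ⟨4,(Int.ofNat 3),1⟩, ⟨5,(Int.ofNat 3),1⟩, ⟨6,(Int.ofNat 2),1⟩, ⟨7,(Int.ofNat 1),1⟩, ⟨211,(Int.negSucc 0),2⟩] .nil .nil) (.node 46 [⟨132,(Int.negSucc 0),1⟩] .nil .nil))) (.node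 54 [⟨140,(Int.ofNat 1),1⟩] (.node 49 [⟨136,(Int.negSucc 0),1⟩] (.node 48 [⟨135,(Int.ofNat 1),1⟩] .nil .nil) (.node 50 [⟨137,(Int.ofNat 1),1⟩] .nil .nil)) (.node 56 [⟨142,(Int.ofNat 1),1⟩] (.node 55 [⟨141,(Int.negSucc 0),1⟩] .nil .nil) (.node 64 [⟨146,(Int.ofNat 1),1⟩] .nil .nil))))) (.node 122 [⟨208,(Int.negSucc 0),1⟩] (.node 108 [⟨190,(Int.ofNat 1),1⟩] (.node 86 [⟨174,(Int.negSucc 0),1⟩] (.node 80 [⟨168,(Int.negSucc 0),1⟩] (.node 79 [⟨167,(Int.ofNat 1),1⟩] (.node 66 [⟨148,(Int.ofNat 1),1⟩] .nil .nil) .nil) (.node 81 [⟨169,(Int.ofNat 1),1⟩] .nil .nil)) (.node 88 [⟨176,(Int.negSucc 0),1⟩] (.node 87 [⟨175,(Int.ofNat 1),1⟩] .nil .nil) (.node 107 [⟨189,(Int.negSucc 0),1⟩] .nil .nil))) (.node 115 [⟨201,(Int.negSucc 0),1⟩] (.node 113 [⟨199,(Int.negSucc 0),1⟩] (.node 109 [⟨191,(Int.negSucc 0),1⟩] .nil .nil) (.node 114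 [⟨200,(Int.ofNat 1),1⟩] .nil .nil)) (.node 119 [⟨206,(Int.ofNat 1),1⟩] (.node 118 [⟨205,(Int.negSucc 0),1⟩] .nil .nil) (.node 120 [⟨207,(Int.negSucc 0),1⟩] .nil .nil)))) (.node 160 [⟨232,(Int.negSucc 0),1⟩] (.node 150 [⟨225,(Int.negSucc 0),1⟩] (.node 124 [⟨210,(Int.negSucc 0),1⟩] (.node 123 [⟨209,(Int.ofNat 1),1⟩] .nil .nil) (.node 149 [⟨221,(Int.negSucc 0),1⟩] .nil .nil)) (.node 155 [⟨230,(Int.negSucc 0),1⟩] (.node 151 [⟨226,(Int.negSucc 0),1⟩] .nil .nil) (.node 156 [⟨231,(Int.negSucc 0),1⟩] .nil .nil))) (.node 192 [⟨240,(Int.ofNat 1),1⟩] (.node 178 [⟨238,(Int.ofNat 1),1⟩] (.node 177 [⟨237,(Int.ofNat 1),1⟩] .nil .nil) (.node 182 [⟨239,(Int.ofNat 1),1⟩] .nil .nil)) (.node 213 [⟨246,(Int.negSucc 0),1⟩] (.node 212 [⟨245,(Int.negSucc 0),1⟩] .nil .nil) (.node 214 [⟨247,(Int.negSucc 0),1⟩] .nil .nil))))))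
noncomputable def col204 : Tr Cl := (.node 72 [⟨156,(Int.negSucc 0),1⟩] (.node 27 [⟨107,(Int.ofNat 1),1⟩] (.node 10 [⟨44,(Int.negSucc 0),1⟩] (.node 4 [⟨212,(Int.ofNat 0),1⟩] (.node 2 [⟨212,(Int.ofNat 0),1⟩] (.node 1 [⟨212,(Int.negSucc 0),1⟩] (.node 0 [⟨212,(Int.ofNat 0),1⟩] .nil .nil) .nil) (.node 3 [⟨212,(Int.ofNat 0),1⟩] .nil .nil)) (.node 6 [⟨212,(Int.ofNat 1),1⟩] (.node 5 [⟨212,(Int.ofNat 0),1⟩] .nil .nil) (.node 7 [⟨212,(Int.ofNat 0),1⟩] .nil .nil))) (.node 14 [⟨64,(Int.negSucc 0),1⟩] (.node 12 [⟨48,(Int.negSucc 0),1⟩] (.node 11 [⟨45,(Int.negSucc 0),1⟩] .nil .nil) (.node 13 [⟨54,(Int.negSucc 0),1⟩] .nil .nil)) (.node 21 [⟨80,(Int.negSucc 0),1⟩] (.node 20 [⟨79,(Int.negSucc 0),1⟩] .nil .nil) (.node 22 [⟨86,(Int.ofNat 1),1⟩] .nil .nil)))) (.node 41 [⟨125,(Int.ofNat 1),1⟩] (.node 36 [⟨118,(Int.ofNat 1),1⟩] (.node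 32 [⟨113,(Int.negSucc 0),1⟩] (.node 28 [⟨108,(Int.ofNat 1),1⟩] .nil .nil) (.node 33 [⟨114,(Int.negSucc 0),1⟩] .nil .nil)) (.node 39 [⟨122,(Int.negSucc 0),1⟩] (.node 37 [⟨119,(Int.ofNat 1),1⟩] .nil .nil) (.node 40 [⟨123,(Int.negSucc 0),1⟩] .nil .nil))) (.node 59 [⟨150,(Int.negSucc 0),1⟩] (.node 43 [⟨0,(Int.ofNat 1),1⟩, ⟨1,(Int.ofNat 2),1⟩, ⟨2,(Int.ofNat 2),1⟩, ⟨3,(Int.ofNat 3),1⟩, ⟨4,(Int.ofNat 2),1⟩, ⟨5,(Int.ofNat 1),1⟩, ⟨6,(Int.ofNat 0),1⟩, ⟨7,(Int.ofNat 0),1⟩, ⟨212,(Int.negSucc 0),2⟩] (.node 42 [⟨126,(Int.ofNat 1),1⟩] .nil .nil) (.node 53 [⟨149,(Int.ofNat 1),1⟩] .nil .nil)) (.node 63 [⟨152,(Int.negSucc 0),1⟩] (.node 62 [⟨151,(Int.ofNat 1),1⟩] .nil .nil) (.node 69 [⟨155,(Int.ofNat 1),1⟩] .nil .nil))))) (.node 132 [⟨215,(Int.ofNat 1),1⟩] (.node 99 [⟨183,(Int.ofNat 1),1⟩] (.node 91 [⟨177,(Int.negSucc 0),1⟩] (.node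 77 [⟨161,(Int.negSucc 0),1⟩] (.node 76 [⟨160,(Int.ofNat 1),1⟩] (.node 73 [⟨157,(Int.ofNat 1),1⟩] .nil .nil) .nil) (.node 78 [⟨164,(Int.ofNat 1),1⟩] .nil .nil)) (.node 95 [⟨179,(Int.negSucc 0),1⟩] (.node 94 [⟨178,(Int.ofNat 1),1⟩] .nil .nil) (.node 98 [⟨182,(Int.negSucc 0),1⟩] .nil .nil))) (.node 105 [⟨196,(Int.ofNat 1),1⟩] (.node 103 [⟨192,(Int.ofNat 1),1⟩] (.node 100 [⟨186,(Int.negSucc 0),1⟩] .nil .nil) (.node 104 [⟨193,(Int.negSucc 0),1⟩] .nil .nil)) (.node 129 [⟨213,(Int.negSucc 0),1⟩] (.node 106 [⟨202,(Int.negSucc 0),1⟩] .nil .nil) (.node 130 [⟨214,(Int.negSucc 0),1⟩] .nil .nil)))) (.node 169 [⟨233,(Int.negSucc 0),1⟩] (.node 141 [⟨222,(Int.ofNat 1),1⟩] (.node 136 [⟨218,(Int.negSucc 0),1⟩] (.node 133 [⟨216,(Int.ofNat 1),1⟩] .nil .nil) (.node 137 [⟨219,(Int.negSucc 0),1⟩] .nil .nil)) (.node 147 [⟨227,(Int.negSucc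 0),1⟩] (.node 142 [⟨223,(Int.ofNat 1),1⟩] .nil .nil) (.node 148 [⟨228,(Int.negSucc 0),1⟩] .nil .nil))) (.node 201 [⟨242,(Int.ofNat 1),1⟩] (.node 176 [⟨235,(Int.ofNat 1),1⟩] (.node 175 [⟨234,(Int.ofNat 1),1⟩] .nil .nil) (.node 191 [⟨241,(Int.ofNat 1),1⟩] .nil .nil)) (.node 210 [⟨244,(Int.ofNat 1),1⟩] (.node 207 [⟨243,(Int.ofNat 1),1⟩] .nil .nil) (.node 211 [⟨245,(Int.ofNat 1),1⟩] .nil .nil))))))
noncomputable def col205 : Tr Cl := (.node 71 [⟨156,(Int.negSucc 0),1⟩] (.node 26 [⟨107,(Int.ofNat 1),1⟩] (.node 9 [⟨44,(Int.negSucc 0),1⟩] (.node 4 [⟨213,(Int.ofNat 0),1⟩] (.node 2 [⟨213,(Int.ofNat 0),1⟩] (.node 1 [⟨213,(Int.negSucc 0),1⟩] (.node 0 [⟨213,(Int.ofNat 0),1⟩] .nil .nil) .nil) (.node 3 [⟨213,(Int.ofNat 0),1⟩] .nil .nil)) (.node 6 [⟨213,(Int.negSucc 0),1⟩] (.node 5 [⟨213,(Int.ofNat 1),1⟩] .nil .nil) (.node 7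 [⟨213,(Int.ofNat 1),1⟩] .nil .nil))) (.node 14 [⟨65,(Int.ofNat 1),1⟩] (.node 12 [⟨49,(Int.ofNat 1),1⟩] (.node 11 [⟨46,(Int.ofNat 1),1⟩] .nil .nil) (.node 13 [⟨55,(Int.ofNat 1),1⟩] .nil .nil)) (.node 21 [⟨81,(Int.ofNat 1),1⟩] (.node 19 [⟨79,(Int.negSucc 0),1⟩] .nil .nil) (.node 22 [⟨87,(Int.negSucc 0),1⟩] .nil .nil)))) (.node 41 [⟨127,(Int.ofNat 1),1⟩] (.node 35 [⟨118,(Int.ofNat 1),1⟩] (.node 31 [⟨113,(Int.negSucc 0),1⟩] (.node 28 [⟨109,(Int.negSucc 0),1⟩] .nil .nil) (.node 33 [⟨115,(Int.ofNat 1),1⟩] .nil .nil)) (.node 38 [⟨122,(Int.negSucc 0),1⟩] (.node 37 [⟨120,(Int.negSucc 0),1⟩] .nil .nil) (.node 40 [⟨124,(Int.ofNat 1),1⟩] .nil .nil))) (.node 58 [⟨150,(Int.negSucc 0),1⟩] (.node 43 [⟨129,(Int.ofNat 1),1⟩] (.node 42 [⟨0,(Int.ofNat 1),1⟩, ⟨1,(Int.ofNat 2),1⟩, ⟨2,(Int.ofNat 2),1⟩, ⟨3,(Int.ofNat 3),1⟩, ⟨4,(Int.ofNat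 2),1⟩, ⟨5,(Int.ofNat 1),1⟩, ⟨6,(Int.ofNat 1),1⟩, ⟨7,(Int.ofNat 0),1⟩, ⟨213,(Int.negSucc 0),2⟩] .nil .nil) (.node 52 [⟨149,(Int.ofNat 1),1⟩] .nil .nil)) (.node 63 [⟨153,(Int.negSucc 0),1⟩] (.node 61 [⟨151,(Int.ofNat 1),1⟩] .nil .nil) (.node 68 [⟨155,(Int.ofNat 1),1⟩] .nil .nil))))) (.node 131 [⟨215,(Int.negSucc 0),1⟩] (.node 99 [⟨184,(Int.ofNat 1),1⟩] (.node 90 [⟨177,(Int.negSucc 0),1⟩] (.node 77 [⟨162,(Int.negSucc 0),1⟩] (.node 75 [⟨160,(Int.ofNat 1),1⟩] (.node 73 [⟨158,(Int.ofNat 1),1⟩] .nil .nil) .nil) (.node 78 [⟨165,(Int.ofNat 1),1⟩] .nil .nil)) (.node 95 [⟨180,(Int.negSucc 0),1⟩] (.node 93 [⟨178,(Int.ofNat 1),1⟩] .nil .nil) (.node 97 [⟨182,(Int.negSucc 0),1⟩] .nil .nil))) (.node 105 [⟨197,(Int.ofNat 1),1⟩] (.node 102 [⟨192,(Int.ofNat 1),1⟩] (.node 100 [⟨187,(Int.negSucc 0),1⟩] .nil .nil) (.node 104 [⟨194,(Int.negSucc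 0),1⟩] .nil .nil)) (.node 126 [⟨212,(Int.negSucc 0),1⟩] (.node 106 [⟨203,(Int.negSucc 0),1⟩] .nil .nil) (.node 128 [⟨214,(Int.negSucc 0),1⟩] .nil .nil)))) (.node 168 [⟨233,(Int.ofNat 1),1⟩] (.node 140 [⟨222,(Int.negSucc 0),1⟩] (.node 135 [⟨218,(Int.ofNat 1),1⟩] (.node 133 [⟨217,(Int.ofNat 1),1⟩] .nil .nil) (.node 137 [⟨220,(Int.negSucc 0),1⟩] .nil .nil)) (.node 146 [⟨227,(Int.ofNat 1),1⟩] (.node 142 [⟨224,(Int.ofNat 1),1⟩] .nil .nil) (.node 148 [⟨229,(Int.negSucc 0),1⟩] .nil .nil))) (.node 200 [⟨242,(Int.negSucc 0),1⟩] (.node 176 [⟨236,(Int.ofNat 1),1⟩] (.node 174 [⟨234,(Int.negSucc 0),1⟩] .nil .nil) (.node 190 [⟨241,(Int.negSucc 0),1⟩] .nil .nil)) (.node 209 [⟨244,(Int.negSucc 0),1⟩] (.node 206 [⟨243,(Int.negSucc 0),1⟩] .nil .nil) (.node 211 [⟨246,(Int.ofNat 1),1⟩] .nil .nil))))))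
noncomputable def col206 : Tr Cl := (.node 70 [⟨156,(Int.negSucc 0),1⟩] (.node 26 [⟨108,(Int.negSucc 0),1⟩] (.node 8 [⟨44,(Int.negSucc 0),1⟩] (.node 4 [⟨214,(Int.ofNat 0),1⟩] (.node 2 [⟨214,(Int.ofNat 0),1⟩] (.node 1 [⟨214,(Int.negSucc 0),1⟩] (.node 0 [⟨214,(Int.ofNat 0),1⟩] .nil .nil) .nil) (.node 3 [⟨214,(Int.ofNat 0),1⟩] .nil .nil)) (.node 6 [⟨214,(Int.ofNat 0),1⟩] (.node 5 [⟨214,(Int.ofNat 1),1⟩] .nil .nil) (.node 7 [⟨214,(Int.negSucc 0),1⟩] .nil .nil))) (.node 14 [⟨66,(Int.negSucc 0),1⟩] (.node 12 [⟨50,(Int.negSucc 0),1⟩] (.node 11 [⟨47,(Int.negSucc 0),1⟩] .nil .nil) (.node 13 [⟨56,(Int.negSucc 0),1⟩] .nil .nil)) (.node 20 [⟨81,(Int.ofNat 1),1⟩] (.node 19 [⟨80,(Int.ofNat 1),1⟩] .nil .nil) (.node 22 [⟨88,(Int.ofNat 1),1⟩] .nil .nil)))) (.node 41 [⟨0,(Int.ofNat 1),1⟩, ⟨1,(Int.ofNat 2),1⟩, ⟨2,(Int.ofNat 2),1⟩,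 ⟨3,(Int.ofNat 3),1⟩, ⟨4,(Int.ofNat 2),1⟩, ⟨5,(Int.ofNat 1),1⟩, ⟨6,(Int.ofNat 1),1⟩, ⟨7,(Int.ofNat 1),1⟩, ⟨214,(Int.negSucc 0),2⟩] (.node 35 [⟨119,(Int.negSucc 0),1⟩] (.node 31 [⟨114,(Int.ofNat 1),1⟩] (.node 27 [⟨109,(Int.negSucc 0),1⟩] .nil .nil) (.node 32 [⟨115,(Int.ofNat 1),1⟩] .nil .nil)) (.node 38 [⟨123,(Int.ofNat 1),1⟩] (.node 36 [⟨120,(Int.negSucc 0),1⟩] .nil .nil) (.node 39 [⟨124,(Int.ofNat 1),1⟩] .nil .nil))) (.node 57 [⟨150,(Int.negSucc 0),1⟩] (.node 43 [⟨130,(Int.ofNat 1),1⟩] (.node 42 [⟨128,(Int.ofNat 1),1⟩] .nil .nil) (.node 51 [⟨149,(Int.ofNat 1),1⟩] .nil .nil)) (.node 63 [⟨154,(Int.negSucc 0),1⟩] (.node 60 [⟨151,(Int.ofNat 1),1⟩] .nil .nil) (.node 67 [⟨155,(Int.ofNat 1),1⟩] .nil .nil))))) (.node 131 [⟨216,(Int.negSucc 0),1⟩] (.node 99 [⟨185,(Int.ofNat 1),1⟩] (.node 89 [⟨177,(Int.negSucc 0),1⟩] (.node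 77 [⟨163,(Int.negSucc 0),1⟩] (.node 74 [⟨160,(Int.ofNat 1),1⟩] (.node 73 [⟨159,(Int.ofNat 1),1⟩] .nil .nil) .nil) (.node 78 [⟨166,(Int.ofNat 1),1⟩] .nil .nil)) (.node 95 [⟨181,(Int.negSucc 0),1⟩] (.node 92 [⟨178,(Int.ofNat 1),1⟩] .nil .nil) (.node 96 [⟨182,(Int.negSucc 0),1⟩] .nil .nil))) (.node 105 [⟨198,(Int.ofNat 1),1⟩] (.node 101 [⟨192,(Int.ofNat 1),1⟩] (.node 100 [⟨188,(Int.negSucc 0),1⟩] .nil .nil) (.node 104 [⟨195,(Int.negSucc 0),1⟩] .nil .nil)) (.node 125 [⟨212,(Int.negSucc 0),1⟩] (.node 106 [⟨204,(Int.negSucc 0),1⟩] .nil .nil) (.node 127 [⟨213,(Int.negSucc 0),1⟩] .nil .nil)))) (.node 167 [⟨233,(Int.negSucc 0),1⟩] (.node 140 [⟨223,(Int.negSucc 0),1⟩] (.node 135 [⟨219,(Int.ofNat 1),1⟩] (.node 132 [⟨217,(Int.negSucc 0),1⟩] .nil .nil) (.node 136 [⟨220,(Int.ofNat 1),1⟩] .nil .nil)) (.node 146 [⟨228,(Int.ofNat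 1),1⟩] (.node 141 [⟨224,(Int.negSucc 0),1⟩] .nil .nil) (.node 147 [⟨229,(Int.ofNat 1),1⟩] .nil .nil))) (.node 199 [⟨242,(Int.ofNat 1),1⟩] (.node 175 [⟨236,(Int.negSucc 0),1⟩] (.node 174 [⟨235,(Int.negSucc 0),1⟩] .nil .nil) (.node 189 [⟨241,(Int.ofNat 1),1⟩] .nil .nil)) (.node 208 [⟨244,(Int.ofNat 1),1⟩] (.node 205 [⟨243,(Int.ofNat 1),1⟩] .nil .nil) (.node 211 [⟨247,(Int.ofNat 1),1⟩] .nil .nil))))))
noncomputable def col207 : Tr Cl := (.node 71 [⟨157,(Int.negSucc 0),1⟩] (.node 25 [⟨107,(Int.ofNat 1),1⟩] (.node 9 [⟨45,(Int.ofNat 1),1⟩] (.node 4 [⟨215,(Int.ofNat 1),1⟩] (.node 2 [⟨215,(Int.ofNat 0),1⟩] (.node 1 [⟨215,(Int.negSucc 0),1⟩] (.node 0 [⟨215,(Int.ofNat 0),1⟩] .nil .nil) .nil) (.node 3 [⟨215,(Int.ofNat 0),1⟩] .nil .nil)) (.node 6 [⟨215,(Int.ofNat 0),1⟩] (.node 5 [⟨215,(Int.negSucc 0),1⟩] .nil .nil) (.node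 7 [⟨215,(Int.ofNat 1),1⟩] .nil .nil))) (.node 14 [⟨67,(Int.negSucc 0),1⟩] (.node 12 [⟨51,(Int.negSucc 0),1⟩] (.node 10 [⟨46,(Int.ofNat 1),1⟩] .nil .nil) (.node 13 [⟨57,(Int.negSucc 0),1⟩] .nil .nil)) (.node 21 [⟨82,(Int.negSucc 0),1⟩] (.node 18 [⟨79,(Int.negSucc 0),1⟩] .nil .nil) (.node 22 [⟨89,(Int.ofNat 1),1⟩] .nil .nil)))) (.node 40 [⟨0,(Int.ofNat 1),1⟩, ⟨1,(Int.ofNat 2),1⟩, ⟨2,(Int.ofNat 2),1⟩, ⟨3,(Int.ofNat 3),1⟩, ⟨4,(Int.ofNat 2),1⟩, ⟨5,(Int.ofNat 2),1⟩, ⟨6,(Int.ofNat 1),1⟩, ⟨7,(Int.ofNat 0),1⟩, ⟨215,(Int.negSucc 0),2⟩] (.node 34 [⟨118,(Int.ofNat 1),1⟩] (.node 30 [⟨113,(Int.negSucc 0),1⟩] (.node 28 [⟨110,(Int.ofNat 1),1⟩] .nil .nil) (.node 33 [⟨116,(Int.negSucc 0),1⟩] .nil .nil)) (.node 38 [⟨125,(Int.negSucc 0),1⟩] (.node 37 [⟨121,(Int.ofNat 1),1⟩] .nil .nil) (.node 39 [⟨127,(Int.ofNat 1),1⟩] .nil .nil)))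 (.node 56 [⟨150,(Int.negSucc 0),1⟩] (.node 43 [⟨132,(Int.negSucc 0),1⟩] (.node 42 [⟨131,(Int.ofNat 1),1⟩] .nil .nil) (.node 50 [⟨149,(Int.ofNat 1),1⟩] .nil .nil)) (.node 62 [⟨153,(Int.negSucc 0),1⟩] (.node 61 [⟨152,(Int.ofNat 1),1⟩] .nil .nil) (.node 66 [⟨155,(Int.ofNat 1),1⟩] .nil .nil))))) (.node 128 [⟨216,(Int.negSucc 0),1⟩] (.node 98 [⟨184,(Int.ofNat 1),1⟩] (.node 88 [⟨177,(Int.negSucc 0),1⟩] (.node 76 [⟨162,(Int.negSucc 0),1⟩] (.node 75 [⟨161,(Int.ofNat 1),1⟩] (.node 72 [⟨158,(Int.ofNat 1),1⟩] .nil .nil) .nil) (.node 78 [⟨167,(Int.ofNat 1),1⟩] .nil .nil)) (.node 94 [⟨180,(Int.negSucc 0),1⟩] (.node 93 [⟨179,(Int.ofNat 1),1⟩] .nil .nil) (.node 97 [⟨183,(Int.negSucc 0),1⟩] .nil .nil))) (.node 105 [⟨199,(Int.ofNat 1),1⟩] (.node 102 [⟨193,(Int.ofNat 1),1⟩] (.node 100 [⟨189,(Int.negSucc 0),1⟩] .nil .nil) (.node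 103 [⟨194,(Int.negSucc 0),1⟩] .nil .nil)) (.node 123 [⟨212,(Int.ofNat 1),1⟩] (.node 106 [⟨205,(Int.negSucc 0),1⟩] .nil .nil) (.node 124 [⟨213,(Int.negSucc 0),1⟩] .nil .nil)))) (.node 166 [⟨233,(Int.negSucc 0),1⟩] (.node 139 [⟨222,(Int.ofNat 1),1⟩] (.node 134 [⟨218,(Int.negSucc 0),1⟩] (.node 130 [⟨217,(Int.ofNat 1),1⟩] .nil .nil) (.node 137 [⟨221,(Int.negSucc 0),1⟩] .nil .nil)) (.node 145 [⟨227,(Int.negSucc 0),1⟩] (.node 142 [⟨225,(Int.ofNat 1),1⟩] .nil .nil) (.node 148 [⟨230,(Int.negSucc 0),1⟩] .nil .nil))) (.node 198 [⟨242,(Int.ofNat 1),1⟩] (.node 176 [⟨237,(Int.ofNat 1),1⟩] (.node 173 [⟨234,(Int.ofNat 1),1⟩] .nil .nil) (.node 188 [⟨241,(Int.ofNat 1),1⟩] .nil .nil)) (.node 209 [⟨245,(Int.negSucc 0),1⟩] (.node 204 [⟨243,(Int.ofNat 1),1⟩] .nil .nil) (.node 210 [⟨246,(Int.negSucc 0),1⟩] .nil .nil))))))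
noncomputable def col208 : Tr Cl := (.node 70 [⟨157,(Int.negSucc 0),1⟩] (.node 25 [⟨108,(Int.negSucc 0),1⟩] (.node 8 [⟨45,(Int.ofNat 1),1⟩] (.node 4 [⟨216,(Int.ofNat 1),1⟩] (.node 2 [⟨216,(Int.ofNat 0),1⟩] (.node 1 [⟨216,(Int.negSucc 0),1⟩] (.node 0 [⟨216,(Int.ofNat 0),1⟩] .nil .nil) .nil) (.node 3 [⟨216,(Int.ofNat 0),1⟩] .nil .nil)) (.node 6 [⟨216,(Int.ofNat 1),1⟩] (.node 5 [⟨216,(Int.negSucc 0),1⟩] .nil .nil) (.node 7 [⟨216,(Int.negSucc 0),1⟩] .nil .nil))) (.node 14 [⟨68,(Int.ofNat 1),1⟩] (.node 12 [⟨52,(Int.ofNat 1),1⟩] (.node 10 [⟨47,(Int.negSucc 0),1⟩] .nil .nil) (.node 13 [⟨58,(Int.ofNat 1),1⟩] .nil .nil)) (.node 20 [⟨82,(Int.negSucc 0),1⟩] (.node 18 [⟨80,(Int.ofNat 1),1⟩] .nil .nil) (.node 22 [⟨90,(Int.negSucc 0),1⟩] .nil .nil)))) (.node 40 [⟨128,(Int.ofNat 1),1⟩] (.node 34 [⟨119,(Int.negSucc 0),1⟩] (.node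 30 [⟨114,(Int.ofNat 1),1⟩] (.node 27 [⟨110,(Int.ofNat 1),1⟩] .nil .nil) (.node 32 [⟨116,(Int.negSucc 0),1⟩] .nil .nil)) (.node 38 [⟨126,(Int.ofNat 1),1⟩] (.node 36 [⟨121,(Int.ofNat 1),1⟩] .nil .nil) (.node 39 [⟨0,(Int.ofNat 1),1⟩, ⟨1,(Int.ofNat 2),1⟩, ⟨2,(Int.ofNat 2),1⟩, ⟨3,(Int.ofNat 3),1⟩, ⟨4,(Int.ofNat 2),1⟩, ⟨5,(Int.ofNat 2),1⟩, ⟨6,(Int.ofNat 1),1⟩, ⟨7,(Int.ofNat 1),1⟩, ⟨216,(Int.negSucc 0),2⟩] .nil .nil))) (.node 55 [⟨150,(Int.negSucc 0),1⟩] (.node 43 [⟨133,(Int.negSucc 0),1⟩] (.node 41 [⟨131,(Int.ofNat 1),1⟩] .nil .nil) (.node 49 [⟨149,(Int.ofNat 1),1⟩] .nil .nil)) (.node 62 [⟨154,(Int.negSucc 0),1⟩] (.node 60 [⟨152,(Int.ofNat 1),1⟩] .nil .nil) (.node 65 [⟨155,(Int.ofNat 1),1⟩] .nil .nil))))) (.node 127 [⟨215,(Int.negSucc 0),1⟩] (.node 98 [⟨185,(Int.ofNat 1),1⟩] (.node 87 [⟨177,(Int.negSucc 0),1⟩] (.node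 76 [⟨163,(Int.negSucc 0),1⟩] (.node 74 [⟨161,(Int.ofNat 1),1⟩] (.node 72 [⟨159,(Int.ofNat 1),1⟩] .nil .nil) .nil) (.node 78 [⟨168,(Int.ofNat 1),1⟩] .nil .nil)) (.node 94 [⟨181,(Int.negSucc 0),1⟩] (.node 92 [⟨179,(Int.ofNat 1),1⟩] .nil .nil) (.node 96 [⟨183,(Int.negSucc 0),1⟩] .nil .nil))) (.node 105 [⟨200,(Int.ofNat 1),1⟩] (.node 101 [⟨193,(Int.ofNat 1),1⟩] (.node 100 [⟨190,(Int.negSucc 0),1⟩] .nil .nil) (.node 103 [⟨195,(Int.negSucc 0),1⟩] .nil .nil)) (.node 122 [⟨212,(Int.ofNat 1),1⟩] (.node 106 [⟨206,(Int.negSucc 0),1⟩] .nil .nil) (.node 124 [⟨214,(Int.negSucc 0),1⟩] .nil .nil)))) (.node 165 [⟨233,(Int.ofNat 1),1⟩] (.node 139 [⟨223,(Int.ofNat 1),1⟩] (.node 134 [⟨219,(Int.negSucc 0),1⟩] (.node 129 [⟨217,(Int.negSucc 0),1⟩] .nil .nil) (.node 136 [⟨221,(Int.ofNat 1),1⟩] .nil .nil)) (.node 145 [⟨228,(Int.negSucc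 0),1⟩] (.node 141 [⟨225,(Int.negSucc 0),1⟩] .nil .nil) (.node 147 [⟨230,(Int.ofNat 1),1⟩] .nil .nil))) (.node 197 [⟨242,(Int.negSucc 0),1⟩] (.node 175 [⟨237,(Int.negSucc 0),1⟩] (.node 173 [⟨235,(Int.ofNat 1),1⟩] .nil .nil) (.node 187 [⟨241,(Int.negSucc 0),1⟩] .nil .nil)) (.node 208 [⟨245,(Int.ofNat 1),1⟩] (.node 203 [⟨243,(Int.negSucc 0),1⟩] .nil .nil) (.node 210 [⟨247,(Int.negSucc 0),1⟩] .nil .nil))))))
noncomputable def col209 : Tr Cl := (.node 70 [⟨158,(Int.negSucc 0),1⟩] (.node 25 [⟨109,(Int.ofNat 1),1⟩] (.node 8 [⟨46,(Int.negSucc 0),1⟩] (.node 4 [⟨217,(Int.ofNat 1),1⟩] (.node 2 [⟨217,(Int.ofNat 0),1⟩] (.node 1 [⟨217,(Int.negSucc 0),1⟩] (.node 0 [⟨217,(Int.ofNat 0),1⟩] .nil .nil) .nil) (.node 3 [⟨217,(Int.ofNat 0),1⟩] .nil .nil)) (.node 6 [⟨217,(Int.negSucc 0),1⟩] (.node 5 [⟨217,(Int.ofNat 0),1⟩] .nil .nil)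 (.node 7 [⟨217,(Int.ofNat 0),1⟩] .nil .nil))) (.node 14 [⟨69,(Int.negSucc 0),1⟩] (.node 12 [⟨53,(Int.negSucc 0),1⟩] (.node 9 [⟨47,(Int.negSucc 0),1⟩] .nil .nil) (.node 13 [⟨59,(Int.negSucc 0),1⟩] .nil .nil)) (.node 19 [⟨82,(Int.negSucc 0),1⟩] (.node 18 [⟨81,(Int.negSucc 0),1⟩] .nil .nil) (.node 22 [⟨91,(Int.ofNat 1),1⟩] .nil .nil)))) (.node 40 [⟨130,(Int.negSucc 0),1⟩] (.node 34 [⟨120,(Int.ofNat 1),1⟩] (.node 30 [⟨115,(Int.negSucc 0),1⟩] (.node 26 [⟨110,(Int.ofNat 1),1⟩] .nil .nil) (.node 31 [⟨116,(Int.negSucc 0),1⟩] .nil .nil)) (.node 38 [⟨0,(Int.ofNat 1),1⟩, ⟨1,(Int.ofNat 2),1⟩, ⟨2,(Int.ofNat 2),1⟩, ⟨3,(Int.ofNat 3),1⟩, ⟨4,(Int.ofNat 2),1⟩, ⟨5,(Int.ofNat 2),1⟩, ⟨6,(Int.ofNat 2),1⟩, ⟨7,(Int.ofNat 1),1⟩, ⟨217,(Int.negSucc 0),2⟩] (.node 35 [⟨121,(Int.ofNat 1),1⟩] .nil .nil) (.node 39 [⟨129,(Int.ofNat 1),1⟩] .nil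 .nil))) (.node 54 [⟨150,(Int.negSucc 0),1⟩] (.node 42 [⟨133,(Int.negSucc 0),1⟩] (.node 41 [⟨132,(Int.ofNat 1),1⟩] .nil .nil) (.node 48 [⟨149,(Int.ofNat 1),1⟩] .nil .nil)) (.node 61 [⟨154,(Int.negSucc 0),1⟩] (.node 60 [⟨153,(Int.ofNat 1),1⟩] .nil .nil) (.node 64 [⟨155,(Int.ofNat 1),1⟩] .nil .nil))))) (.node 125 [⟨215,(Int.ofNat 1),1⟩] (.node 97 [⟨185,(Int.ofNat 1),1⟩] (.node 86 [⟨177,(Int.negSucc 0),1⟩] (.node 75 [⟨163,(Int.negSucc 0),1⟩] (.node 74 [⟨162,(Int.ofNat 1),1⟩] (.node 71 [⟨159,(Int.ofNat 1),1⟩] .nil .nil) .nil) (.node 78 [⟨169,(Int.ofNat 1),1⟩] .nil .nil)) (.node 93 [⟨181,(Int.negSucc 0),1⟩] (.node 92 [⟨180,(Int.ofNat 1),1⟩] .nil .nil) (.node 96 [⟨184,(Int.negSucc 0),1⟩] .nil .nil))) (.node 105 [⟨201,(Int.ofNat 1),1⟩] (.node 101 [⟨194,(Int.ofNat 1),1⟩] (.node 100 [⟨191,(Int.negSucc 0),1⟩] .nil .nil)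 (.node 102 [⟨195,(Int.negSucc 0),1⟩] .nil .nil)) (.node 122 [⟨213,(Int.ofNat 1),1⟩] (.node 106 [⟨207,(Int.negSucc 0),1⟩] .nil .nil) (.node 123 [⟨214,(Int.negSucc 0),1⟩] .nil .nil)))) (.node 164 [⟨233,(Int.negSucc 0),1⟩] (.node 139 [⟨224,(Int.ofNat 1),1⟩] (.node 134 [⟨220,(Int.negSucc 0),1⟩] (.node 126 [⟨216,(Int.negSucc 0),1⟩] .nil .nil) (.node 135 [⟨221,(Int.negSucc 0),1⟩] .nil .nil)) (.node 145 [⟨229,(Int.negSucc 0),1⟩] (.node 140 [⟨225,(Int.ofNat 1),1⟩] .nil .nil) (.node 146 [⟨230,(Int.negSucc 0),1⟩] .nil .nil))) (.node 196 [⟨242,(Int.ofNat 1),1⟩] (.node 174 [⟨237,(Int.ofNat 1),1⟩] (.node 173 [⟨236,(Int.ofNat 1),1⟩] .nil .nil) (.node 186 [⟨241,(Int.ofNat 1),1⟩] .nil .nil)) (.node 208 [⟨246,(Int.ofNat 1),1⟩] (.node 202 [⟨243,(Int.ofNat 1),1⟩] .nil .nil) (.node 209 [⟨247,(Int.ofNat 1),1⟩] .nil .nil))))))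
noncomputable def col210 : Tr Cl := (.node 68 [⟨157,(Int.negSucc 0),1⟩] (.node 24 [⟨107,(Int.ofNat 1),1⟩] (.node 9 [⟨48,(Int.negSucc 0),1⟩] (.node 4 [⟨218,(Int.negSucc 0),1⟩] (.node 2 [⟨218,(Int.ofNat 0),1⟩] (.node 1 [⟨218,(Int.negSucc 0),1⟩] (.node 0 [⟨218,(Int.ofNat 0),1⟩] .nil .nil) .nil) (.node 3 [⟨218,(Int.ofNat 1),1⟩] .nil .nil)) (.node 6 [⟨218,(Int.ofNat 0),1⟩] (.node 5 [⟨218,(Int.ofNat 0),1⟩] .nil .nil) (.node 7 [⟨218,(Int.ofNat 1),1⟩] .nil .nil))) (.node 14 [⟨70,(Int.ofNat 1),1⟩] (.node 11 [⟨51,(Int.negSucc 0),1⟩] (.node 10 [⟨49,(Int.negSucc 0),1⟩] .nil .nil) (.node 13 [⟨60,(Int.ofNat 1),1⟩] .nil .nil)) (.node 21 [⟨83,(Int.ofNat 1),1⟩] (.node 17 [⟨79,(Int.negSucc 0),1⟩] .nil .nil) (.node 22 [⟨92,(Int.negSucc 0),1⟩] .nil .nil)))) (.node 40 [⟨134,(Int.ofNat 1),1⟩] (.node 34 [⟨122,(Int.ofNat 1),1⟩] (.node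 29 [⟨113,(Int.negSucc 0),1⟩] (.node 28 [⟨111,(Int.negSucc 0),1⟩] .nil .nil) (.node 33 [⟨117,(Int.ofNat 1),1⟩] .nil .nil)) (.node 36 [⟨127,(Int.ofNat 1),1⟩] (.node 35 [⟨125,(Int.negSucc 0),1⟩] .nil .nil) (.node 37 [⟨0,(Int.ofNat 1),1⟩, ⟨1,(Int.ofNat 2),1⟩, ⟨2,(Int.ofNat 2),1⟩, ⟨3,(Int.ofNat 3),1⟩, ⟨4,(Int.ofNat 3),1⟩, ⟨5,(Int.ofNat 2),1⟩, ⟨6,(Int.ofNat 1),1⟩, ⟨7,(Int.ofNat 0),1⟩, ⟨218,(Int.negSucc 0),2⟩] .nil .nil))) (.node 56 [⟨151,(Int.negSucc 0),1⟩] (.node 43 [⟨136,(Int.ofNat 1),1⟩] (.node 42 [⟨135,(Int.negSucc 0),1⟩] .nil .nil) (.node 47 [⟨149,(Int.ofNat 1),1⟩] .nil .nil)) (.node 59 [⟨153,(Int.negSucc 0),1⟩] (.node 58 [⟨152,(Int.ofNat 1),1⟩] .nil .nil) (.node 66 [⟨156,(Int.ofNat 1),1⟩] .nil .nil))))) (.node 121 [⟨215,(Int.negSucc 0),1⟩] (.node 98 [⟨187,(Int.ofNat 1),1⟩] (.node 88 [⟨178,(Int.negSucc 0),1⟩] (.node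 76 [⟨165,(Int.negSucc 0),1⟩] (.node 75 [⟨164,(Int.ofNat 1),1⟩] (.node 69 [⟨158,(Int.ofNat 1),1⟩] .nil .nil) .nil) (.node 77 [⟨167,(Int.ofNat 1),1⟩] .nil .nil)) (.node 91 [⟨180,(Int.negSucc 0),1⟩] (.node 90 [⟨179,(Int.ofNat 1),1⟩] .nil .nil) (.node 97 [⟨186,(Int.negSucc 0),1⟩] .nil .nil))) (.node 104 [⟨199,(Int.ofNat 1),1⟩] (.node 102 [⟨196,(Int.ofNat 1),1⟩] (.node 99 [⟨189,(Int.negSucc 0),1⟩] .nil .nil) (.node 103 [⟨197,(Int.negSucc 0),1⟩] .nil .nil)) (.node 119 [⟨212,(Int.negSucc 0),1⟩] (.node 106 [⟨208,(Int.negSucc 0),1⟩] .nil .nil) (.node 120 [⟨213,(Int.ofNat 1),1⟩] .nil .nil)))) (.node 163 [⟨233,(Int.ofNat 1),1⟩] (.node 138 [⟨222,(Int.negSucc 0),1⟩] (.node 130 [⟨220,(Int.ofNat 1),1⟩] (.node 128 [⟨219,(Int.negSucc 0),1⟩] .nil .nil) (.node 133 [⟨221,(Int.negSucc 0),1⟩] .nil .nil)) (.node 144 [⟨227,(Int.ofNat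 1),1⟩] (.node 142 [⟨226,(Int.ofNat 1),1⟩] .nil .nil) (.node 148 [⟨231,(Int.negSucc 0),1⟩] .nil .nil))) (.node 195 [⟨242,(Int.negSucc 0),1⟩] (.node 176 [⟨238,(Int.ofNat 1),1⟩] (.node 172 [⟨234,(Int.negSucc 0),1⟩] .nil .nil) (.node 185 [⟨241,(Int.negSucc 0),1⟩] .nil .nil)) (.node 206 [⟨245,(Int.ofNat 1),1⟩] (.node 204 [⟨244,(Int.ofNat 1),1⟩] .nil .nil) (.node 207 [⟨246,(Int.ofNat 1),1⟩] .nil .nil))))))
noncomputable def col211 : Tr Cl := (.node 67 [⟨157,(Int.negSucc 0),1⟩] (.node 24 [⟨108,(Int.negSucc 0),1⟩] (.node 8 [⟨48,(Int.negSucc 0),1⟩] (.node 4 [⟨219,(Int.negSucc 0),1⟩] (.node 2 [⟨219,(Int.ofNat 0),1⟩] (.node 1 [⟨219,(Int.negSucc 0),1⟩] (.node 0 [⟨219,(Int.ofNat 0),1⟩] .nil .nil) .nil) (.node 3 [⟨219,(Int.ofNat 1),1⟩] .nil .nil)) (.node 6 [⟨219,(Int.ofNat 1),1⟩] (.node 5 [⟨219,(Int.ofNat 0),1⟩] .nil .nil)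 (.node 7 [⟨219,(Int.negSucc 0),1⟩] .nil .nil))) (.node 14 [⟨71,(Int.negSucc 0),1⟩] (.node 11 [⟨52,(Int.ofNat 1),1⟩] (.node 10 [⟨50,(Int.ofNat 1),1⟩] .nil .nil) (.node 13 [⟨61,(Int.negSucc 0),1⟩] .nil .nil)) (.node 20 [⟨83,(Int.ofNat 1),1⟩] (.node 17 [⟨80,(Int.ofNat 1),1⟩] .nil .nil) (.node 22 [⟨93,(Int.ofNat 1),1⟩] .nil .nil)))) (.node 39 [⟨134,(Int.ofNat 1),1⟩] (.node 34 [⟨123,(Int.negSucc 0),1⟩] (.node 29 [⟨114,(Int.ofNat 1),1⟩] (.node 27 [⟨111,(Int.negSucc 0),1⟩] .nil .nil) (.node 32 [⟨117,(Int.ofNat 1),1⟩] .nil .nil)) (.node 36 [⟨0,(Int.ofNat 1),1⟩, ⟨1,(Int.ofNat 2),1⟩, ⟨2,(Int.ofNat 2),1⟩, ⟨3,(Int.ofNat 3),1⟩, ⟨4,(Int.ofNat 3),1⟩, ⟨5,(Int.ofNat 2),1⟩, ⟨6,(Int.ofNat 1),1⟩, ⟨7,(Int.ofNat 1),1⟩, ⟨219,(Int.negSucc 0),2⟩] (.node 35 [⟨126,(Int.ofNat 1),1⟩] .nil .nil) (.node 37 [⟨128,(Int.ofNat 1),1⟩] .nil .nil)))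 (.node 55 [⟨151,(Int.negSucc 0),1⟩] (.node 43 [⟨137,(Int.ofNat 1),1⟩] (.node 41 [⟨135,(Int.negSucc 0),1⟩] .nil .nil) (.node 46 [⟨149,(Int.ofNat 1),1⟩] .nil .nil)) (.node 59 [⟨154,(Int.negSucc 0),1⟩] (.node 57 [⟨152,(Int.ofNat 1),1⟩] .nil .nil) (.node 65 [⟨156,(Int.ofNat 1),1⟩] .nil .nil))))) (.node 121 [⟨216,(Int.negSucc 0),1⟩] (.node 98 [⟨188,(Int.ofNat 1),1⟩] (.node 87 [⟨178,(Int.negSucc 0),1⟩] (.node 76 [⟨166,(Int.negSucc 0),1⟩] (.node 74 [⟨164,(Int.ofNat 1),1⟩] (.node 69 [⟨159,(Int.ofNat 1),1⟩] .nil .nil) .nil) (.node 77 [⟨168,(Int.ofNat 1),1⟩] .nil .nil)) (.node 91 [⟨181,(Int.negSucc 0),1⟩] (.node 89 [⟨179,(Int.ofNat 1),1⟩] .nil .nil) (.node 96 [⟨186,(Int.negSucc 0),1⟩] .nil .nil))) (.node 104 [⟨200,(Int.ofNat 1),1⟩] (.node 101 [⟨196,(Int.ofNat 1),1⟩] (.node 99 [⟨190,(Int.negSucc 0),1⟩] .nil .nil) (.node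 103 [⟨198,(Int.negSucc 0),1⟩] .nil .nil)) (.node 118 [⟨212,(Int.negSucc 0),1⟩] (.node 106 [⟨209,(Int.negSucc 0),1⟩] .nil .nil) (.node 120 [⟨214,(Int.ofNat 1),1⟩] .nil .nil)))) (.node 162 [⟨233,(Int.negSucc 0),1⟩] (.node 138 [⟨223,(Int.negSucc 0),1⟩] (.node 129 [⟨220,(Int.negSucc 0),1⟩] (.node 127 [⟨218,(Int.negSucc 0),1⟩] .nil .nil) (.node 132 [⟨221,(Int.ofNat 1),1⟩] .nil .nil)) (.node 144 [⟨228,(Int.ofNat 1),1⟩] (.node 141 [⟨226,(Int.negSucc 0),1⟩] .nil .nil) (.node 147 [⟨231,(Int.ofNat 1),1⟩] .nil .nil))) (.node 194 [⟨242,(Int.ofNat 1),1⟩] (.node 175 [⟨238,(Int.negSucc 0),1⟩] (.node 172 [⟨235,(Int.negSucc 0),1⟩] .nil .nil) (.node 184 [⟨241,(Int.ofNat 1),1⟩] .nil .nil)) (.node 205 [⟨245,(Int.negSucc 0),1⟩] (.node 203 [⟨244,(Int.negSucc 0),1⟩] .nil .nil) (.node 207 [⟨247,(Int.ofNat 1),1⟩] .nil .nil))))))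
noncomputable def col212 : Tr Cl := (.node 67 [⟨158,(Int.negSucc 0),1⟩] (.node 24 [⟨109,(Int.ofNat 1),1⟩] (.node 8 [⟨49,(Int.ofNat 1),1⟩] (.node 4 [⟨220,(Int.negSucc 0),1⟩] (.node 2 [⟨220,(Int.ofNat 0),1⟩] (.node 1 [⟨220,(Int.negSucc 0),1⟩] (.node 0 [⟨220,(Int.ofNat 0),1⟩] .nil .nil) .nil) (.node 3 [⟨220,(Int.ofNat 1),1⟩] .nil .nil)) (.node 6 [⟨220,(Int.negSucc 0),1⟩] (.node 5 [⟨220,(Int.ofNat 1),1⟩] .nil .nil) (.node 7 [⟨220,(Int.ofNat 0),1⟩] .nil .nil))) (.node 14 [⟨72,(Int.ofNat 1),1⟩] (.node 11 [⟨53,(Int.negSucc 0),1⟩] (.node 9 [⟨50,(Int.ofNat 1),1⟩] .nil .nil) (.node 13 [⟨62,(Int.ofNat 1),1⟩] .nil .nil)) (.node 19 [⟨83,(Int.ofNat 1),1⟩] (.node 17 [⟨81,(Int.negSucc 0),1⟩] .nil .nil) (.node 22 [⟨94,(Int.negSucc 0),1⟩] .nil .nil)))) (.node 38 [⟨134,(Int.ofNat 1),1⟩] (.node 34 [⟨124,(Int.ofNat 1),1⟩] (.node 29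 [⟨115,(Int.negSucc 0),1⟩] (.node 26 [⟨111,(Int.negSucc 0),1⟩] .nil .nil) (.node 31 [⟨117,(Int.ofNat 1),1⟩] .nil .nil)) (.node 36 [⟨129,(Int.ofNat 1),1⟩] (.node 35 [⟨0,(Int.ofNat 1),1⟩, ⟨1,(Int.ofNat 2),1⟩, ⟨2,(Int.ofNat 2),1⟩, ⟨3,(Int.ofNat 3),1⟩, ⟨4,(Int.ofNat 3),1⟩, ⟨5,(Int.ofNat 2),1⟩, ⟨6,(Int.ofNat 2),1⟩, ⟨7,(Int.ofNat 1),1⟩, ⟨220,(Int.negSucc 0),2⟩] .nil .nil) (.node 37 [⟨130,(Int.negSucc 0),1⟩] .nil .nil))) (.node 54 [⟨151,(Int.negSucc 0),1⟩] (.node 42 [⟨137,(Int.ofNat 1),1⟩] (.node 41 [⟨136,(Int.negSucc 0),1⟩] .nil .nil) (.node 45 [⟨149,(Int.ofNat 1),1⟩] .nil .nil)) (.node 58 [⟨154,(Int.negSucc 0),1⟩] (.node 57 [⟨153,(Int.ofNat 1),1⟩] .nil .nil) (.node 64 [⟨156,(Int.ofNat 1),1⟩] .nil .nil))))) (.node 121 [⟨217,(Int.negSucc 0),1⟩] (.node 97 [⟨188,(Int.ofNat 1),1⟩] (.node 86 [⟨178,(Int.negSucc 0),1⟩] (.node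 75 [⟨166,(Int.negSucc 0),1⟩] (.node 74 [⟨165,(Int.ofNat 1),1⟩] (.node 68 [⟨159,(Int.ofNat 1),1⟩] .nil .nil) .nil) (.node 77 [⟨169,(Int.ofNat 1),1⟩] .nil .nil)) (.node 90 [⟨181,(Int.negSucc 0),1⟩] (.node 89 [⟨180,(Int.ofNat 1),1⟩] .nil .nil) (.node 96 [⟨187,(Int.negSucc 0),1⟩] .nil .nil))) (.node 104 [⟨201,(Int.ofNat 1),1⟩] (.node 101 [⟨197,(Int.ofNat 1),1⟩] (.node 99 [⟨191,(Int.negSucc 0),1⟩] .nil .nil) (.node 102 [⟨198,(Int.negSucc 0),1⟩] .nil .nil)) (.node 118 [⟨213,(Int.negSucc 0),1⟩] (.node 106 [⟨210,(Int.negSucc 0),1⟩] .nil .nil) (.node 119 [⟨214,(Int.ofNat 1),1⟩] .nil .nil)))) (.node 161 [⟨233,(Int.ofNat 1),1⟩] (.node 138 [⟨224,(Int.negSucc 0),1⟩] (.node 126 [⟨219,(Int.negSucc 0),1⟩] (.node 125 [⟨218,(Int.ofNat 1),1⟩] .nil .nil) (.node 131 [⟨221,(Int.negSucc 0),1⟩] .nil .nil)) (.node 144 [⟨229,(Int.ofNat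 1),1⟩] (.node 140 [⟨226,(Int.ofNat 1),1⟩] .nil .nil) (.node 146 [⟨231,(Int.negSucc 0),1⟩] .nil .nil))) (.node 193 [⟨242,(Int.negSucc 0),1⟩] (.node 174 [⟨238,(Int.ofNat 1),1⟩] (.node 172 [⟨236,(Int.negSucc 0),1⟩] .nil .nil) (.node 183 [⟨241,(Int.negSucc 0),1⟩] .nil .nil)) (.node 205 [⟨246,(Int.negSucc 0),1⟩] (.node 202 [⟨244,(Int.ofNat 1),1⟩] .nil .nil) (.node 206 [⟨247,(Int.negSucc 0),1⟩] .nil .nil))))))
noncomputable def col213 : Tr Cl := (.node 65 [⟨158,(Int.negSucc 0),1⟩] (.node 24 [⟨110,(Int.negSucc 0),1⟩] (.node 8 [⟨51,(Int.negSucc 0),1⟩] (.node 4 [⟨221,(Int.ofNat 0),1⟩] (.node 2 [⟨221,(Int.ofNat 0),1⟩] (.node 1 [⟨221,(Int.negSucc 0),1⟩] (.node 0 [⟨221,(Int.ofNat 0),1⟩] .nil .nil) .nil) (.node 3 [⟨221,(Int.ofNat 1),1⟩] .nil .nil)) (.node 6 [⟨221,(Int.ofNat 0),1⟩] (.node 5 [⟨221,(Int.negSucc 0),1⟩] .nil .nil)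 (.node 7 [⟨221,(Int.ofNat 0),1⟩] .nil .nil))) (.node 14 [⟨73,(Int.negSucc 0),1⟩] (.node 10 [⟨53,(Int.negSucc 0),1⟩] (.node 9 [⟨52,(Int.negSucc 0),1⟩] .nil .nil) (.node 13 [⟨63,(Int.negSucc 0),1⟩] .nil .nil)) (.node 18 [⟨83,(Int.ofNat 1),1⟩] (.node 17 [⟨82,(Int.ofNat 1),1⟩] .nil .nil) (.node 22 [⟨95,(Int.ofNat 1),1⟩] .nil .nil)))) (.node 38 [⟨135,(Int.ofNat 1),1⟩] (.node 34 [⟨0,(Int.ofNat 1),1⟩, ⟨1,(Int.ofNat 2),1⟩, ⟨2,(Int.ofNat 2),1⟩, ⟨3,(Int.ofNat 3),1⟩, ⟨4,(Int.ofNat 3),1⟩, ⟨5,(Int.ofNat 3),1⟩, ⟨6,(Int.ofNat 2),1⟩, ⟨7,(Int.ofNat 1),1⟩, ⟨221,(Int.negSucc 0),2⟩] (.node 29 [⟨116,(Int.ofNat 1),1⟩] (.node 25 [⟨111,(Int.negSucc 0),1⟩] .nil .nil) (.node 30 [⟨117,(Int.ofNat 1),1⟩] .nil .nil)) (.node 36 [⟨132,(Int.negSucc 0),1⟩] (.node 35 [⟨131,(Int.ofNat 1),1⟩] .nil .nil) (.node 37 [⟨133,(Int.ofNat 1),1⟩] .nil .nil)))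 (.node 54 [⟨152,(Int.negSucc 0),1⟩] (.node 40 [⟨137,(Int.ofNat 1),1⟩] (.node 39 [⟨136,(Int.negSucc 0),1⟩] .nil .nil) (.node 44 [⟨149,(Int.ofNat 1),1⟩] .nil .nil)) (.node 56 [⟨154,(Int.negSucc 0),1⟩] (.node 55 [⟨153,(Int.ofNat 1),1⟩] .nil .nil) (.node 64 [⟨157,(Int.ofNat 1),1⟩] .nil .nil))))) (.node 120 [⟨217,(Int.negSucc 0),1⟩] (.node 97 [⟨190,(Int.ofNat 1),1⟩] (.node 86 [⟨179,(Int.negSucc 0),1⟩] (.node 75 [⟨168,(Int.negSucc 0),1⟩] (.node 74 [⟨167,(Int.ofNat 1),1⟩] (.node 66 [⟨159,(Int.ofNat 1),1⟩] .nil .nil) .nil) (.node 76 [⟨169,(Int.ofNat 1),1⟩] .nil .nil)) (.node 88 [⟨181,(Int.negSucc 0),1⟩] (.node 87 [⟨180,(Int.ofNat 1),1⟩] .nil .nil) (.node 96 [⟨189,(Int.negSucc 0),1⟩] .nil .nil))) (.node 103 [⟨201,(Int.ofNat 1),1⟩] (.node 101 [⟨199,(Int.ofNat 1),1⟩] (.node 98 [⟨191,(Int.negSucc 0),1⟩] .nil .nil) (.node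 102 [⟨200,(Int.negSucc 0),1⟩] .nil .nil)) (.node 118 [⟨215,(Int.negSucc 0),1⟩] (.node 106 [⟨211,(Int.negSucc 0),1⟩] .nil .nil) (.node 119 [⟨216,(Int.ofNat 1),1⟩] .nil .nil)))) (.node 160 [⟨233,(Int.negSucc 0),1⟩] (.node 138 [⟨225,(Int.negSucc 0),1⟩] (.node 123 [⟨219,(Int.ofNat 1),1⟩] (.node 122 [⟨218,(Int.negSucc 0),1⟩] .nil .nil) (.node 124 [⟨220,(Int.negSucc 0),1⟩] .nil .nil)) (.node 144 [⟨230,(Int.ofNat 1),1⟩] (.node 139 [⟨226,(Int.negSucc 0),1⟩] .nil .nil) (.node 145 [⟨231,(Int.ofNat 1),1⟩] .nil .nil))) (.node 192 [⟨242,(Int.ofNat 1),1⟩] (.node 173 [⟨238,(Int.negSucc 0),1⟩] (.node 172 [⟨237,(Int.negSucc 0),1⟩] .nil .nil) (.node 182 [⟨241,(Int.ofNat 1),1⟩] .nil .nil)) (.node 203 [⟨246,(Int.ofNat 1),1⟩] (.node 202 [⟨245,(Int.ofNat 1),1⟩] .nil .nil) (.node 204 [⟨247,(Int.ofNat 1),1⟩] .nil .nil))))))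
noncomputable def col214 : Tr Cl := (.node 68 [⟨161,(Int.negSucc 0),1⟩] (.node 23 [⟨107,(Int.ofNat 1),1⟩] (.node 9 [⟨54,(Int.ofNat 1),1⟩] (.node 4 [⟨222,(Int.ofNat 0),1⟩] (.node 2 [⟨222,(Int.ofNat 1),1⟩] (.node 1 [⟨222,(Int.ofNat 0),1⟩] (.node 0 [⟨222,(Int.ofNat 0),1⟩] .nil .nil) .nil) (.node 3 [⟨222,(Int.negSucc 0),1⟩] .nil .nil)) (.node 6 [⟨222,(Int.ofNat 0),1⟩] (.node 5 [⟨222,(Int.ofNat 0),1⟩] .nil .nil) (.node 7 [⟨222,(Int.ofNat 1),1⟩] .nil .nil))) (.node 14 [⟨74,(Int.negSucc 0),1⟩] (.node 11 [⟨57,(Int.ofNat 1),1⟩] (.node 10 [⟨55,(Int.ofNat 1),1⟩] .nil .nil) (.node 12 [⟨60,(Int.ofNat 1),1⟩] .nil .nil)) (.node 21 [⟨84,(Int.negSucc 0),1⟩] (.node 16 [⟨79,(Int.negSucc 0),1⟩] .nil .nil) (.node 22 [⟨96,(Int.ofNat 1),1⟩] .nil .nil)))) (.node 40 [⟨139,(Int.negSucc 0),1⟩] (.node 31 [⟨125,(Int.negSucc 0),1⟩] (.node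 29 [⟨118,(Int.negSucc 0),1⟩] (.node 28 [⟨112,(Int.ofNat 1),1⟩] .nil .nil) (.node 30 [⟨122,(Int.ofNat 1),1⟩] .nil .nil)) (.node 33 [⟨0,(Int.ofNat 1),1⟩, ⟨1,(Int.ofNat 2),1⟩, ⟨2,(Int.ofNat 2),1⟩, ⟨3,(Int.ofNat 4),1⟩, ⟨4,(Int.ofNat 3),1⟩, ⟨5,(Int.ofNat 2),1⟩, ⟨6,(Int.ofNat 1),1⟩, ⟨7,(Int.ofNat 0),1⟩, ⟨222,(Int.negSucc 0),2⟩] (.node 32 [⟨127,(Int.ofNat 1),1⟩] .nil .nil) (.node 37 [⟨138,(Int.ofNat 1),1⟩] .nil .nil))) (.node 50 [⟨151,(Int.negSucc 0),1⟩] (.node 43 [⟨141,(Int.negSucc 0),1⟩] (.node 42 [⟨140,(Int.ofNat 1),1⟩] .nil .nil) (.node 47 [⟨150,(Int.ofNat 1),1⟩] .nil .nil)) (.node 53 [⟨153,(Int.negSucc 0),1⟩] (.node 52 [⟨152,(Int.ofNat 1),1⟩] .nil .nil) (.node 66 [⟨160,(Int.ofNat 1),1⟩] .nil .nil))))) (.node 116 [⟨215,(Int.ofNat 1),1⟩] (.node 94 [⟨187,(Int.ofNat 1),1⟩] (.node 88 [⟨182,(Int.negSucc 0),1⟩] (.node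 72 [⟨165,(Int.negSucc 0),1⟩] (.node 71 [⟨164,(Int.ofNat 1),1⟩] (.node 69 [⟨162,(Int.ofNat 1),1⟩] .nil .nil) .nil) (.node 73 [⟨167,(Int.ofNat 1),1⟩] .nil .nil)) (.node 91 [⟨184,(Int.negSucc 0),1⟩] (.node 90 [⟨183,(Int.ofNat 1),1⟩] .nil .nil) (.node 93 [⟨186,(Int.negSucc 0),1⟩] .nil .nil))) (.node 104 [⟨205,(Int.ofNat 1),1⟩] (.node 102 [⟨202,(Int.ofNat 1),1⟩] (.node 95 [⟨189,(Int.negSucc 0),1⟩] .nil .nil) (.node 103 [⟨203,(Int.negSucc 0),1⟩] .nil .nil)) (.node 114 [⟨212,(Int.ofNat 1),1⟩] (.node 105 [⟨208,(Int.negSucc 0),1⟩] .nil .nil) (.node 115 [⟨213,(Int.negSucc 0),1⟩] .nil .nil)))) (.node 159 [⟨233,(Int.negSucc 0),1⟩] (.node 133 [⟨225,(Int.negSucc 0),1⟩] (.node 128 [⟨223,(Int.negSucc 0),1⟩] (.node 117 [⟨218,(Int.negSucc 0),1⟩] .nil .nil) (.node 130 [⟨224,(Int.ofNat 1),1⟩] .nil .nil)) (.node 143 [⟨227,(Int.negSucc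 0),1⟩] (.node 137 [⟨226,(Int.ofNat 1),1⟩] .nil .nil) (.node 148 [⟨232,(Int.negSucc 0),1⟩] .nil .nil))) (.node 195 [⟨243,(Int.negSucc 0),1⟩] (.node 176 [⟨239,(Int.ofNat 1),1⟩] (.node 171 [⟨234,(Int.ofNat 1),1⟩] .nil .nil) (.node 181 [⟨241,(Int.ofNat 1),1⟩] .nil .nil)) (.node 200 [⟨245,(Int.negSucc 0),1⟩] (.node 198 [⟨244,(Int.negSucc 0),1⟩] .nil .nil) (.node 201 [⟨246,(Int.negSucc 0),1⟩] .nil .nil))))))
noncomputable def col215 : Tr Cl := (.node 67 [⟨161,(Int.negSucc 0),1⟩] (.node 23 [⟨108,(Int.negSucc 0),1⟩] (.node 8 [⟨54,(Int.ofNat 1),1⟩] (.node 4 [⟨223,(Int.ofNat 0),1⟩] (.node 2 [⟨223,(Int.ofNat 1),1⟩] (.node 1 [⟨223,(Int.ofNat 0),1⟩] (.node 0 [⟨223,(Int.ofNat 0),1⟩] .nil .nil) .nil) (.node 3 [⟨223,(Int.negSucc 0),1⟩] .nil .nil)) (.node 6 [⟨223,(Int.ofNat 1),1⟩] (.node 5 [⟨223,(Int.ofNat 0),1⟩] .nil .nil) (.node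 7 [⟨223,(Int.negSucc 0),1⟩] .nil .nil))) (.node 14 [⟨75,(Int.ofNat 1),1⟩] (.node 11 [⟨58,(Int.negSucc 0),1⟩] (.node 10 [⟨56,(Int.negSucc 0),1⟩] .nil .nil) (.node 12 [⟨61,(Int.negSucc 0),1⟩] .nil .nil)) (.node 20 [⟨84,(Int.negSucc 0),1⟩] (.node 16 [⟨80,(Int.ofNat 1),1⟩] .nil .nil) (.node 22 [⟨97,(Int.negSucc 0),1⟩] .nil .nil)))) (.node 39 [⟨139,(Int.negSucc 0),1⟩] (.node 31 [⟨126,(Int.ofNat 1),1⟩] (.node 29 [⟨119,(Int.ofNat 1),1⟩] (.node 27 [⟨112,(Int.ofNat 1),1⟩] .nil .nil) (.node 30 [⟨123,(Int.negSucc 0),1⟩] .nil .nil)) (.node 33 [⟨128,(Int.ofNat 1),1⟩] (.node 32 [⟨0,(Int.ofNat 1),1⟩, ⟨1,(Int.ofNat 2),1⟩, ⟨2,(Int.ofNat 2),1⟩, ⟨3,(Int.ofNat 4),1⟩, ⟨4,(Int.ofNat 3),1⟩, ⟨5,(Int.ofNat 2),1⟩, ⟨6,(Int.ofNat 1),1⟩, ⟨7,(Int.ofNat 1),1⟩, ⟨223,(Int.negSucc 0),2⟩] .nil .nil) (.node 36 [⟨138,(Int.ofNat 1),1⟩] .nil .nil)))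 (.node 49 [⟨151,(Int.negSucc 0),1⟩] (.node 43 [⟨142,(Int.negSucc 0),1⟩] (.node 41 [⟨140,(Int.ofNat 1),1⟩] .nil .nil) (.node 46 [⟨150,(Int.ofNat 1),1⟩] .nil .nil)) (.node 53 [⟨154,(Int.negSucc 0),1⟩] (.node 51 [⟨152,(Int.ofNat 1),1⟩] .nil .nil) (.node 65 [⟨160,(Int.ofNat 1),1⟩] .nil .nil))))) (.node 116 [⟨216,(Int.ofNat 1),1⟩] (.node 94 [⟨188,(Int.ofNat 1),1⟩] (.node 87 [⟨182,(Int.negSucc 0),1⟩] (.node 72 [⟨166,(Int.negSucc 0),1⟩] (.node 70 [⟨164,(Int.ofNat 1),1⟩] (.node 69 [⟨163,(Int.ofNat 1),1⟩] .nil .nil) .nil) (.node 73 [⟨168,(Int.ofNat 1),1⟩] .nil .nil)) (.node 91 [⟨185,(Int.negSucc 0),1⟩] (.node 89 [⟨183,(Int.ofNat 1),1⟩] .nil .nil) (.node 92 [⟨186,(Int.negSucc 0),1⟩] .nil .nil))) (.node 104 [⟨206,(Int.ofNat 1),1⟩] (.node 101 [⟨202,(Int.ofNat 1),1⟩] (.node 95 [⟨190,(Int.negSucc 0),1⟩] .nil .nil) (.node 103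 [⟨204,(Int.negSucc 0),1⟩] .nil .nil)) (.node 113 [⟨212,(Int.ofNat 1),1⟩] (.node 105 [⟨209,(Int.negSucc 0),1⟩] .nil .nil) (.node 115 [⟨214,(Int.negSucc 0),1⟩] .nil .nil)))) (.node 158 [⟨233,(Int.ofNat 1),1⟩] (.node 132 [⟨225,(Int.ofNat 1),1⟩] (.node 127 [⟨222,(Int.negSucc 0),1⟩] (.node 117 [⟨219,(Int.negSucc 0),1⟩] .nil .nil) (.node 129 [⟨224,(Int.negSucc 0),1⟩] .nil .nil)) (.node 143 [⟨228,(Int.negSucc 0),1⟩] (.node 136 [⟨226,(Int.negSucc 0),1⟩] .nil .nil) (.node 147 [⟨232,(Int.ofNat 1),1⟩] .nil .nil))) (.node 194 [⟨243,(Int.ofNat 1),1⟩] (.node 175 [⟨239,(Int.negSucc 0),1⟩] (.node 171 [⟨235,(Int.ofNat 1),1⟩] .nil .nil) (.node 180 [⟨241,(Int.negSucc 0),1⟩] .nil .nil)) (.node 199 [⟨245,(Int.ofNat 1),1⟩] (.node 197 [⟨244,(Int.ofNat 1),1⟩] .nil .nil) (.node 201 [⟨247,(Int.negSucc 0),1⟩] .nil .nil))))))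
noncomputable def col216 : Tr Cl := (.node 67 [⟨162,(Int.negSucc 0),1⟩] (.node 23 [⟨109,(Int.ofNat 1),1⟩] (.node 8 [⟨55,(Int.negSucc 0),1⟩] (.node 4 [⟨224,(Int.ofNat 0),1⟩] (.node 2 [⟨224,(Int.ofNat 1),1⟩] (.node 1 [⟨224,(Int.ofNat 0),1⟩] (.node 0 [⟨224,(Int.ofNat 0),1⟩] .nil .nil) .nil) (.node 3 [⟨224,(Int.negSucc 0),1⟩] .nil .nil)) (.node 6 [⟨224,(Int.negSucc 0),1⟩] (.node 5 [⟨224,(Int.ofNat 1),1⟩] .nil .nil) (.node 7 [⟨224,(Int.ofNat 0),1⟩] .nil .nil))) (.node 14 [⟨76,(Int.negSucc 0),1⟩] (.node 11 [⟨59,(Int.ofNat 1),1⟩] (.node 9 [⟨56,(Int.negSucc 0),1⟩] .nil .nil) (.node 12 [⟨62,(Int.ofNat 1),1⟩] .nil .nil)) (.node 19 [⟨84,(Int.negSucc 0),1⟩] (.node 16 [⟨81,(Int.negSucc 0),1⟩] .nil .nil) (.node 22 [⟨98,(Int.ofNat 1),1⟩] .nil .nil)))) (.node 38 [⟨139,(Int.negSucc 0),1⟩] (.node 31 [⟨0,(Int.ofNat 1),1⟩, ⟨1,(Int.ofNat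 2),1⟩, ⟨2,(Int.ofNat 2),1⟩, ⟨3,(Int.ofNat 4),1⟩, ⟨4,(Int.ofNat 3),1⟩, ⟨5,(Int.ofNat 2),1⟩, ⟨6,(Int.ofNat 2),1⟩, ⟨7,(Int.ofNat 1),1⟩, ⟨224,(Int.negSucc 0),2⟩] (.node 29 [⟨120,(Int.negSucc 0),1⟩] (.node 26 [⟨112,(Int.ofNat 1),1⟩] .nil .nil) (.node 30 [⟨124,(Int.ofNat 1),1⟩] .nil .nil)) (.node 33 [⟨130,(Int.negSucc 0),1⟩] (.node 32 [⟨129,(Int.ofNat 1),1⟩] .nil .nil) (.node 35 [⟨138,(Int.ofNat 1),1⟩] .nil .nil))) (.node 48 [⟨151,(Int.negSucc 0),1⟩] (.node 42 [⟨142,(Int.negSucc 0),1⟩] (.node 41 [⟨141,(Int.ofNat 1),1⟩] .nil .nil) (.node 45 [⟨150,(Int.ofNat 1),1⟩] .nil .nil)) (.node 52 [⟨154,(Int.negSucc 0),1⟩] (.node 51 [⟨153,(Int.ofNat 1),1⟩] .nil .nil) (.node 64 [⟨160,(Int.ofNat 1),1⟩] .nil .nil))))) (.node 116 [⟨217,(Int.ofNat 1),1⟩] (.node 93 [⟨188,(Int.ofNat 1),1⟩] (.node 86 [⟨182,(Int.negSucc 0),1⟩] (.node 71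 [⟨166,(Int.negSucc 0),1⟩] (.node 70 [⟨165,(Int.ofNat 1),1⟩] (.node 68 [⟨163,(Int.ofNat 1),1⟩] .nil .nil) .nil) (.node 73 [⟨169,(Int.ofNat 1),1⟩] .nil .nil)) (.node 90 [⟨185,(Int.negSucc 0),1⟩] (.node 89 [⟨184,(Int.ofNat 1),1⟩] .nil .nil) (.node 92 [⟨187,(Int.negSucc 0),1⟩] .nil .nil))) (.node 104 [⟨207,(Int.ofNat 1),1⟩] (.node 101 [⟨203,(Int.ofNat 1),1⟩] (.node 95 [⟨191,(Int.negSucc 0),1⟩] .nil .nil) (.node 102 [⟨204,(Int.negSucc 0),1⟩] .nil .nil)) (.node 113 [⟨213,(Int.ofNat 1),1⟩] (.node 105 [⟨210,(Int.negSucc 0),1⟩] .nil .nil) (.node 114 [⟨214,(Int.negSucc 0),1⟩] .nil .nil)))) (.node 157 [⟨233,(Int.negSucc 0),1⟩] (.node 131 [⟨225,(Int.negSucc 0),1⟩] (.node 125 [⟨222,(Int.ofNat 1),1⟩] (.node 117 [⟨220,(Int.negSucc 0),1⟩] .nil .nil) (.node 126 [⟨223,(Int.negSucc 0),1⟩] .nil .nil)) (.node 143 [⟨229,(Int.negSucc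 0),1⟩] (.node 135 [⟨226,(Int.ofNat 1),1⟩] .nil .nil) (.node 146 [⟨232,(Int.negSucc 0),1⟩] .nil .nil))) (.node 193 [⟨243,(Int.negSucc 0),1⟩] (.node 174 [⟨239,(Int.ofNat 1),1⟩] (.node 171 [⟨236,(Int.ofNat 1),1⟩] .nil .nil) (.node 179 [⟨241,(Int.ofNat 1),1⟩] .nil .nil)) (.node 199 [⟨246,(Int.ofNat 1),1⟩] (.node 196 [⟨244,(Int.negSucc 0),1⟩] .nil .nil) (.node 200 [⟨247,(Int.ofNat 1),1⟩] .nil .nil))))))
noncomputable def col217 : Tr Cl := (.node 65 [⟨162,(Int.negSucc 0),1⟩] (.node 23 [⟨110,(Int.negSucc 0),1⟩] (.node 8 [⟨57,(Int.ofNat 1),1⟩] (.node 4 [⟨225,(Int.ofNat 1),1⟩] (.node 2 [⟨225,(Int.ofNat 1),1⟩] (.node 1 [⟨225,(Int.ofNat 0),1⟩] (.node 0 [⟨225,(Int.ofNat 0),1⟩] .nil .nil) .nil) (.node 3 [⟨225,(Int.negSucc 0),1⟩] .nil .nil)) (.node 6 [⟨225,(Int.ofNat 0),1⟩] (.node 5 [⟨225,(Int.negSucc 0),1⟩] .nil .nil) (.node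 7 [⟨225,(Int.ofNat 0),1⟩] .nil .nil))) (.node 14 [⟨77,(Int.ofNat 1),1⟩] (.node 10 [⟨59,(Int.ofNat 1),1⟩] (.node 9 [⟨58,(Int.ofNat 1),1⟩] .nil .nil) (.node 12 [⟨63,(Int.negSucc 0),1⟩] .nil .nil)) (.node 18 [⟨84,(Int.negSucc 0),1⟩] (.node 16 [⟨82,(Int.ofNat 1),1⟩] .nil .nil) (.node 22 [⟨99,(Int.negSucc 0),1⟩] .nil .nil)))) (.node 38 [⟨140,(Int.negSucc 0),1⟩] (.node 31 [⟨131,(Int.ofNat 1),1⟩] (.node 29 [⟨121,(Int.ofNat 1),1⟩] (.node 25 [⟨112,(Int.ofNat 1),1⟩] .nil .nil) (.node 30 [⟨0,(Int.ofNat 1),1⟩, ⟨1,(Int.ofNat 2),1⟩, ⟨2,(Int.ofNat 2),1⟩, ⟨3,(Int.ofNat 4),1⟩, ⟨4,(Int.ofNat 3),1⟩, ⟨5,(Int.ofNat 3),1⟩, ⟨6,(Int.ofNat 2),1⟩, ⟨7,(Int.ofNat 1),1⟩, ⟨225,(Int.negSucc 0),2⟩] .nil .nil)) (.node 33 [⟨133,(Int.ofNat 1),1⟩] (.node 32 [⟨132,(Int.negSucc 0),1⟩] .nil .nil) (.node 34 [⟨138,(Int.ofNat 1),1⟩] .nil .nil))) (.node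 48 [⟨152,(Int.negSucc 0),1⟩] (.node 40 [⟨142,(Int.negSucc 0),1⟩] (.node 39 [⟨141,(Int.ofNat 1),1⟩] .nil .nil) (.node 44 [⟨150,(Int.ofNat 1),1⟩] .nil .nil)) (.node 50 [⟨154,(Int.negSucc 0),1⟩] (.node 49 [⟨153,(Int.ofNat 1),1⟩] .nil .nil) (.node 64 [⟨161,(Int.ofNat 1),1⟩] .nil .nil))))) (.node 115 [⟨217,(Int.ofNat 1),1⟩] (.node 93 [⟨190,(Int.ofNat 1),1⟩] (.node 86 [⟨183,(Int.negSucc 0),1⟩] (.node 71 [⟨168,(Int.negSucc 0),1⟩] (.node 70 [⟨167,(Int.ofNat 1),1⟩] (.node 66 [⟨163,(Int.ofNat 1),1⟩] .nil .nil) .nil) (.node 72 [⟨169,(Int.ofNat 1),1⟩] .nil .nil)) (.node 88 [⟨185,(Int.negSucc 0),1⟩] (.node 87 [⟨184,(Int.ofNat 1),1⟩] .nil .nil) (.node 92 [⟨189,(Int.negSucc 0),1⟩] .nil .nil))) (.node 103 [⟨207,(Int.ofNat 1),1⟩] (.node 101 [⟨205,(Int.ofNat 1),1⟩] (.node 94 [⟨191,(Int.negSucc 0),1⟩] .nil .nil) (.node 102 [⟨206,(Int.negSucc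 0),1⟩] .nil .nil)) (.node 113 [⟨215,(Int.ofNat 1),1⟩] (.node 105 [⟨211,(Int.negSucc 0),1⟩] .nil .nil) (.node 114 [⟨216,(Int.negSucc 0),1⟩] .nil .nil)))) (.node 156 [⟨233,(Int.ofNat 1),1⟩] (.node 124 [⟨224,(Int.negSucc 0),1⟩] (.node 122 [⟨222,(Int.negSucc 0),1⟩] (.node 117 [⟨221,(Int.negSucc 0),1⟩] .nil .nil) (.node 123 [⟨223,(Int.ofNat 1),1⟩] .nil .nil)) (.node 143 [⟨230,(Int.negSucc 0),1⟩] (.node 134 [⟨226,(Int.negSucc 0),1⟩] .nil .nil) (.node 145 [⟨232,(Int.ofNat 1),1⟩] .nil .nil))) (.node 192 [⟨243,(Int.ofNat 1),1⟩] (.node 173 [⟨239,(Int.negSucc 0),1⟩] (.node 171 [⟨237,(Int.ofNat 1),1⟩] .nil .nil) (.node 178 [⟨241,(Int.negSucc 0),1⟩] .nil .nil)) (.node 197 [⟨246,(Int.negSucc 0),1⟩] (.node 196 [⟨245,(Int.negSucc 0),1⟩] .nil .nil) (.node 198 [⟨247,(Int.negSucc 0),1⟩] .nil .nil))))))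
noncomputable def col218 : Tr Cl := (.node 65 [⟨165,(Int.negSucc 0),1⟩] (.node 23 [⟨111,(Int.ofNat 1),1⟩] (.node 8 [⟨60,(Int.negSucc 0),1⟩] (.node 4 [⟨226,(Int.negSucc 0),1⟩] (.node 2 [⟨226,(Int.ofNat 1),1⟩] (.node 1 [⟨226,(Int.ofNat 0),1⟩] (.node 0 [⟨226,(Int.ofNat 0),1⟩] .nil .nil) .nil) (.node 3 [⟨226,(Int.ofNat 0),1⟩] .nil .nil)) (.node 6 [⟨226,(Int.ofNat 0),1⟩] (.node 5 [⟨226,(Int.ofNat 0),1⟩] .nil .nil) (.node 7 [⟨226,(Int.ofNat 0),1⟩] .nil .nil))) (.node 14 [⟨78,(Int.negSucc 0),1⟩] (.node 10 [⟨62,(Int.negSucc 0),1⟩] (.node 9 [⟨61,(Int.negSucc 0),1⟩] .nil .nil) (.node 11 [⟨63,(Int.negSucc 0),1⟩] .nil .nil)) (.node 17 [⟨84,(Int.negSucc 0),1⟩] (.node 16 [⟨83,(Int.negSucc 0),1⟩] .nil .nil) (.node 22 [⟨100,(Int.ofNat 1),1⟩] .nil .nil)))) (.node 35 [⟨140,(Int.negSucc 0),1⟩] (.node 31 [⟨135,(Int.negSucc 0),1⟩]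 (.node 29 [⟨0,(Int.ofNat 1),1⟩, ⟨1,(Int.ofNat 2),1⟩, ⟨2,(Int.ofNat 2),1⟩, ⟨3,(Int.ofNat 4),1⟩, ⟨4,(Int.ofNat 4),1⟩, ⟨5,(Int.ofNat 3),1⟩, ⟨6,(Int.ofNat 2),1⟩, ⟨7,(Int.ofNat 1),1⟩, ⟨226,(Int.negSucc 0),2⟩] (.node 24 [⟨112,(Int.ofNat 1),1⟩] .nil .nil) (.node 30 [⟨134,(Int.ofNat 1),1⟩] .nil .nil)) (.node 33 [⟨137,(Int.negSucc 0),1⟩] (.node 32 [⟨136,(Int.ofNat 1),1⟩] .nil .nil) (.node 34 [⟨139,(Int.ofNat 1),1⟩] .nil .nil))) (.node 45 [⟨152,(Int.negSucc 0),1⟩] (.node 37 [⟨142,(Int.negSucc 0),1⟩] (.node 36 [⟨141,(Int.ofNat 1),1⟩] .nil .nil) (.node 44 [⟨151,(Int.ofNat 1),1⟩] .nil .nil)) (.node 47 [⟨154,(Int.negSucc 0),1⟩] (.node 46 [⟨153,(Int.ofNat 1),1⟩] .nil .nil) (.node 64 [⟨164,(Int.ofNat 1),1⟩] .nil .nil))))) (.node 115 [⟨220,(Int.ofNat 1),1⟩] (.node 90 [⟨190,(Int.ofNat 1),1⟩] (.node 86 [⟨186,(Int.negSucc 0),1⟩]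 (.node 68 [⟨168,(Int.negSucc 0),1⟩] (.node 67 [⟨167,(Int.ofNat 1),1⟩] (.node 66 [⟨166,(Int.ofNat 1),1⟩] .nil .nil) .nil) (.node 69 [⟨169,(Int.ofNat 1),1⟩] .nil .nil)) (.node 88 [⟨188,(Int.negSucc 0),1⟩] (.node 87 [⟨187,(Int.ofNat 1),1⟩] .nil .nil) (.node 89 [⟨189,(Int.negSucc 0),1⟩] .nil .nil))) (.node 103 [⟨210,(Int.ofNat 1),1⟩] (.node 101 [⟨208,(Int.ofNat 1),1⟩] (.node 91 [⟨191,(Int.negSucc 0),1⟩] .nil .nil) (.node 102 [⟨209,(Int.negSucc 0),1⟩] .nil .nil)) (.node 113 [⟨218,(Int.ofNat 1),1⟩] (.node 104 [⟨211,(Int.negSucc 0),1⟩] .nil .nil) (.node 114 [⟨219,(Int.negSucc 0),1⟩] .nil .nil)))) (.node 155 [⟨233,(Int.negSucc 0),1⟩] (.node 120 [⟨224,(Int.ofNat 1),1⟩] (.node 118 [⟨222,(Int.ofNat 1),1⟩] (.node 116 [⟨221,(Int.negSucc 0),1⟩] .nil .nil) (.node 119 [⟨223,(Int.negSucc 0),1⟩] .nil .nil)) (.node 143 [⟨231,(Int.negSucc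 0),1⟩] (.node 121 [⟨225,(Int.negSucc 0),1⟩] .nil .nil) (.node 144 [⟨232,(Int.negSucc 0),1⟩] .nil .nil))) (.node 192 [⟨244,(Int.ofNat 1),1⟩] (.node 172 [⟨239,(Int.ofNat 1),1⟩] (.node 171 [⟨238,(Int.ofNat 1),1⟩] .nil .nil) (.node 177 [⟨241,(Int.ofNat 1),1⟩] .nil .nil)) (.node 194 [⟨246,(Int.ofNat 1),1⟩] (.node 193 [⟨245,(Int.ofNat 1),1⟩] .nil .nil) (.node 195 [⟨247,(Int.ofNat 1),1⟩] .nil .nil))))))
noncomputable def col219 : Tr Cl := (.node 58 [⟨161,(Int.negSucc 0),1⟩] (.node 23 [⟨113,(Int.ofNat 1),1⟩] (.node 9 [⟨64,(Int.negSucc 0),1⟩] (.node 4 [⟨227,(Int.ofNat 0),1⟩] (.node 2 [⟨227,(Int.negSucc 0),1⟩] (.node 1 [⟨227,(Int.ofNat 0),1⟩] (.node 0 [⟨227,(Int.ofNat 1),1⟩] .nil .nil) .nil) (.node 3 [⟨227,(Int.ofNat 0),1⟩] .nil .nil)) (.node 6 [⟨227,(Int.ofNat 0),1⟩] (.node 5 [⟨227,(Int.ofNat 0),1⟩] .nil .nil) (.node 7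 [⟨227,(Int.ofNat 1),1⟩] .nil .nil))) (.node 13 [⟨74,(Int.negSucc 0),1⟩] (.node 11 [⟨67,(Int.negSucc 0),1⟩] (.node 10 [⟨65,(Int.negSucc 0),1⟩] .nil .nil) (.node 12 [⟨70,(Int.negSucc 0),1⟩] .nil .nil)) (.node 21 [⟨85,(Int.ofNat 1),1⟩] (.node 15 [⟨79,(Int.negSucc 0),1⟩] .nil .nil) (.node 22 [⟨101,(Int.negSucc 0),1⟩] .nil .nil)))) (.node 40 [⟨145,(Int.ofNat 1),1⟩] (.node 27 [⟨127,(Int.ofNat 1),1⟩] (.node 25 [⟨122,(Int.ofNat 1),1⟩] (.node 24 [⟨118,(Int.negSucc 0),1⟩] .nil .nil) (.node 26 [⟨125,(Int.negSucc 0),1⟩] .nil .nil)) (.node 33 [⟨143,(Int.ofNat 1),1⟩] (.node 28 [⟨0,(Int.ofNat 1),1⟩, ⟨1,(Int.ofNat 2),1⟩, ⟨2,(Int.ofNat 3),1⟩, ⟨3,(Int.ofNat 4),1⟩, ⟨4,(Int.ofNat 3),1⟩, ⟨5,(Int.ofNat 2),1⟩, ⟨6,(Int.ofNat 1),1⟩, ⟨7,(Int.ofNat 0),1⟩, ⟨227,(Int.negSucc 0),2⟩] .nil .nil) (.node 37 [⟨144,(Int.negSucc 0),1⟩] .nil .nil)))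 (.node 50 [⟨156,(Int.negSucc 0),1⟩] (.node 43 [⟨147,(Int.ofNat 1),1⟩] (.node 42 [⟨146,(Int.negSucc 0),1⟩] .nil .nil) (.node 47 [⟨155,(Int.ofNat 1),1⟩] .nil .nil)) (.node 53 [⟨158,(Int.negSucc 0),1⟩] (.node 52 [⟨157,(Int.ofNat 1),1⟩] .nil .nil) (.node 56 [⟨160,(Int.ofNat 1),1⟩] .nil .nil))))) (.node 110 [⟨215,(Int.negSucc 0),1⟩] (.node 94 [⟨197,(Int.ofNat 1),1⟩] (.node 88 [⟨192,(Int.negSucc 0),1⟩] (.node 62 [⟨165,(Int.negSucc 0),1⟩] (.node 61 [⟨164,(Int.ofNat 1),1⟩] (.node 59 [⟨162,(Int.ofNat 1),1⟩] .nil .nil) .nil) (.node 63 [⟨167,(Int.ofNat 1),1⟩] .nil .nil)) (.node 91 [⟨194,(Int.negSucc 0),1⟩] (.node 90 [⟨193,(Int.ofNat 1),1⟩] .nil .nil) (.node 93 [⟨196,(Int.negSucc 0),1⟩] .nil .nil))) (.node 99 [⟨205,(Int.ofNat 1),1⟩] (.node 97 [⟨202,(Int.ofNat 1),1⟩] (.node 95 [⟨199,(Int.negSucc 0),1⟩] .nil .nil) (.node 98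 [⟨203,(Int.negSucc 0),1⟩] .nil .nil)) (.node 108 [⟨212,(Int.negSucc 0),1⟩] (.node 100 [⟨208,(Int.negSucc 0),1⟩] .nil .nil) (.node 109 [⟨213,(Int.ofNat 1),1⟩] .nil .nil)))) (.node 154 [⟨233,(Int.ofNat 1),1⟩] (.node 130 [⟨229,(Int.ofNat 1),1⟩] (.node 112 [⟨222,(Int.negSucc 0),1⟩] (.node 111 [⟨218,(Int.ofNat 1),1⟩] .nil .nil) (.node 128 [⟨228,(Int.negSucc 0),1⟩] .nil .nil)) (.node 137 [⟨231,(Int.ofNat 1),1⟩] (.node 133 [⟨230,(Int.negSucc 0),1⟩] .nil .nil) (.node 142 [⟨232,(Int.negSucc 0),1⟩] .nil .nil))) (.node 185 [⟨243,(Int.ofNat 1),1⟩] (.node 176 [⟨240,(Int.ofNat 1),1⟩] (.node 170 [⟨234,(Int.negSucc 0),1⟩] .nil .nil) (.node 181 [⟨242,(Int.ofNat 1),1⟩] .nil .nil)) (.node 190 [⟨245,(Int.ofNat 1),1⟩] (.node 188 [⟨244,(Int.ofNat 1),1⟩] .nil .nil) (.node 191 [⟨246,(Int.ofNat 1),1⟩] .nil .nil))))))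
noncomputable def col220 : Tr Cl := (.node 57 [⟨161,(Int.negSucc 0),1⟩] (.node 23 [⟨114,(Int.negSucc 0),1⟩] (.node 8 [⟨64,(Int.negSucc 0),1⟩] (.node 4 [⟨228,(Int.ofNat 0),1⟩] (.node 2 [⟨228,(Int.negSucc 0),1⟩] (.node 1 [⟨228,(Int.ofNat 0),1⟩] (.node 0 [⟨228,(Int.ofNat 1),1⟩] .nil .nil) .nil) (.node 3 [⟨228,(Int.ofNat 0),1⟩] .nil .nil)) (.node 6 [⟨228,(Int.ofNat 1),1⟩] (.node 5 [⟨228,(Int.ofNat 0),1⟩] .nil .nil) (.node 7 [⟨228,(Int.negSucc 0),1⟩] .nil .nil))) (.node 13 [⟨75,(Int.ofNat 1),1⟩] (.node 11 [⟨68,(Int.ofNat 1),1⟩] (.node 10 [⟨66,(Int.ofNat 1),1⟩] .nil .nil) (.node 12 [⟨71,(Int.ofNat 1),1⟩] .nil .nil)) (.node 20 [⟨85,(Int.ofNat 1),1⟩] (.node 15 [⟨80,(Int.ofNat 1),1⟩] .nil .nil) (.node 22 [⟨102,(Int.ofNat 1),1⟩] .nil .nil)))) (.node 39 [⟨145,(Int.ofNat 1),1⟩] (.node 27 [⟨0,(Int.ofNat 1),1⟩, ⟨1,(Int.ofNat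 2),1⟩, ⟨2,(Int.ofNat 3),1⟩, ⟨3,(Int.ofNat 4),1⟩, ⟨4,(Int.ofNat 3),1⟩, ⟨5,(Int.ofNat 2),1⟩, ⟨6,(Int.ofNat 1),1⟩, ⟨7,(Int.ofNat 1),1⟩, ⟨228,(Int.negSucc 0),2⟩] (.node 25 [⟨123,(Int.negSucc 0),1⟩] (.node 24 [⟨119,(Int.ofNat 1),1⟩] .nil .nil) (.node 26 [⟨126,(Int.ofNat 1),1⟩] .nil .nil)) (.node 32 [⟨143,(Int.ofNat 1),1⟩] (.node 28 [⟨128,(Int.ofNat 1),1⟩] .nil .nil) (.node 36 [⟨144,(Int.negSucc 0),1⟩] .nil .nil))) (.node 49 [⟨156,(Int.negSucc 0),1⟩] (.node 43 [⟨148,(Int.ofNat 1),1⟩] (.node 41 [⟨146,(Int.negSucc 0),1⟩] .nil .nil) (.node 46 [⟨155,(Int.ofNat 1),1⟩] .nil .nil)) (.node 53 [⟨159,(Int.negSucc 0),1⟩] (.node 51 [⟨157,(Int.ofNat 1),1⟩] .nil .nil) (.node 55 [⟨160,(Int.ofNat 1),1⟩] .nil .nil))))) (.node 110 [⟨216,(Int.negSucc 0),1⟩] (.node 94 [⟨198,(Int.ofNat 1),1⟩] (.node 87 [⟨192,(Int.negSucc 0),1⟩] (.node 62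 [⟨166,(Int.negSucc 0),1⟩] (.node 60 [⟨164,(Int.ofNat 1),1⟩] (.node 59 [⟨163,(Int.ofNat 1),1⟩] .nil .nil) .nil) (.node 63 [⟨168,(Int.ofNat 1),1⟩] .nil .nil)) (.node 91 [⟨195,(Int.negSucc 0),1⟩] (.node 89 [⟨193,(Int.ofNat 1),1⟩] .nil .nil) (.node 92 [⟨196,(Int.negSucc 0),1⟩] .nil .nil))) (.node 99 [⟨206,(Int.ofNat 1),1⟩] (.node 96 [⟨202,(Int.ofNat 1),1⟩] (.node 95 [⟨200,(Int.negSucc 0),1⟩] .nil .nil) (.node 98 [⟨204,(Int.negSucc 0),1⟩] .nil .nil)) (.node 107 [⟨212,(Int.negSucc 0),1⟩] (.node 100 [⟨209,(Int.negSucc 0),1⟩] .nil .nil) (.node 109 [⟨214,(Int.ofNat 1),1⟩] .nil .nil)))) (.node 153 [⟨233,(Int.negSucc 0),1⟩] (.node 129 [⟨229,(Int.negSucc 0),1⟩] (.node 112 [⟨223,(Int.negSucc 0),1⟩] (.node 111 [⟨219,(Int.ofNat 1),1⟩] .nil .nil) (.node 127 [⟨227,(Int.negSucc 0),1⟩] .nil .nil)) (.node 136 [⟨231,(Int.negSucc 0),1⟩]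 (.node 132 [⟨230,(Int.ofNat 1),1⟩] .nil .nil) (.node 141 [⟨232,(Int.ofNat 1),1⟩] .nil .nil))) (.node 184 [⟨243,(Int.negSucc 0),1⟩] (.node 175 [⟨240,(Int.negSucc 0),1⟩] (.node 170 [⟨235,(Int.negSucc 0),1⟩] .nil .nil) (.node 180 [⟨242,(Int.negSucc 0),1⟩] .nil .nil)) (.node 189 [⟨245,(Int.negSucc 0),1⟩] (.node 187 [⟨244,(Int.negSucc 0),1⟩] .nil .nil) (.node 191 [⟨247,(Int.ofNat 1),1⟩] .nil .nil))))))
noncomputable def col221 : Tr Cl := (.node 57 [⟨162,(Int.negSucc 0),1⟩] (.node 23 [⟨115,(Int.ofNat 1),1⟩] (.node 8 [⟨65,(Int.ofNat 1),1⟩] (.node 4 [⟨229,(Int.ofNat 0),1⟩] (.node 2 [⟨229,(Int.negSucc 0),1⟩] (.node 1 [⟨229,(Int.ofNat 0),1⟩] (.node 0 [⟨229,(Int.ofNat 1),1⟩] .nil .nil) .nil) (.node 3 [⟨229,(Int.ofNat 0),1⟩] .nil .nil)) (.node 6 [⟨229,(Int.negSucc 0),1⟩] (.node 5 [⟨229,(Int.ofNat 1),1⟩] .nil .nil) (.node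 7 [⟨229,(Int.ofNat 0),1⟩] .nil .nil))) (.node 13 [⟨76,(Int.negSucc 0),1⟩] (.node 11 [⟨69,(Int.negSucc 0),1⟩] (.node 9 [⟨66,(Int.ofNat 1),1⟩] .nil .nil) (.node 12 [⟨72,(Int.negSucc 0),1⟩] .nil .nil)) (.node 19 [⟨85,(Int.ofNat 1),1⟩] (.node 15 [⟨81,(Int.negSucc 0),1⟩] .nil .nil) (.node 22 [⟨103,(Int.negSucc 0),1⟩] .nil .nil)))) (.node 38 [⟨145,(Int.ofNat 1),1⟩] (.node 27 [⟨129,(Int.ofNat 1),1⟩] (.node 25 [⟨124,(Int.ofNat 1),1⟩] (.node 24 [⟨120,(Int.negSucc 0),1⟩] .nil .nil) (.node 26 [⟨0,(Int.ofNat 1),1⟩, ⟨1,(Int.ofNat 2),1⟩, ⟨2,(Int.ofNat 3),1⟩, ⟨3,(Int.ofNat 4),1⟩, ⟨4,(Int.ofNat 3),1⟩, ⟨5,(Int.ofNat 2),1⟩, ⟨6,(Int.ofNat 2),1⟩, ⟨7,(Int.ofNat 1),1⟩, ⟨229,(Int.negSucc 0),2⟩] .nil .nil)) (.node 31 [⟨143,(Int.ofNat 1),1⟩] (.node 28 [⟨130,(Int.negSucc 0),1⟩] .nil .nil) (.node 35 [⟨144,(Int.negSucc 0),1⟩] .nil .nil)))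 (.node 48 [⟨156,(Int.negSucc 0),1⟩] (.node 42 [⟨148,(Int.ofNat 1),1⟩] (.node 41 [⟨147,(Int.negSucc 0),1⟩] .nil .nil) (.node 45 [⟨155,(Int.ofNat 1),1⟩] .nil .nil)) (.node 52 [⟨159,(Int.negSucc 0),1⟩] (.node 51 [⟨158,(Int.ofNat 1),1⟩] .nil .nil) (.node 54 [⟨160,(Int.ofNat 1),1⟩] .nil .nil))))) (.node 110 [⟨217,(Int.negSucc 0),1⟩] (.node 93 [⟨198,(Int.ofNat 1),1⟩] (.node 86 [⟨192,(Int.negSucc 0),1⟩] (.node 61 [⟨166,(Int.negSucc 0),1⟩] (.node 60 [⟨165,(Int.ofNat 1),1⟩] (.node 58 [⟨163,(Int.ofNat 1),1⟩] .nil .nil) .nil) (.node 63 [⟨169,(Int.ofNat 1),1⟩] .nil .nil)) (.node 90 [⟨195,(Int.negSucc 0),1⟩] (.node 89 [⟨194,(Int.ofNat 1),1⟩] .nil .nil) (.node 92 [⟨197,(Int.negSucc 0),1⟩] .nil .nil))) (.node 99 [⟨207,(Int.ofNat 1),1⟩] (.node 96 [⟨203,(Int.ofNat 1),1⟩] (.node 95 [⟨201,(Int.negSucc 0),1⟩] .nil .nil) (.node 97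 [⟨204,(Int.negSucc 0),1⟩] .nil .nil)) (.node 107 [⟨213,(Int.negSucc 0),1⟩] (.node 100 [⟨210,(Int.negSucc 0),1⟩] .nil .nil) (.node 108 [⟨214,(Int.ofNat 1),1⟩] .nil .nil)))) (.node 152 [⟨233,(Int.ofNat 1),1⟩] (.node 126 [⟨228,(Int.negSucc 0),1⟩] (.node 112 [⟨224,(Int.negSucc 0),1⟩] (.node 111 [⟨220,(Int.ofNat 1),1⟩] .nil .nil) (.node 125 [⟨227,(Int.ofNat 1),1⟩] .nil .nil)) (.node 135 [⟨231,(Int.ofNat 1),1⟩] (.node 131 [⟨230,(Int.negSucc 0),1⟩] .nil .nil) (.node 140 [⟨232,(Int.negSucc 0),1⟩] .nil .nil))) (.node 183 [⟨243,(Int.ofNat 1),1⟩] (.node 174 [⟨240,(Int.ofNat 1),1⟩] (.node 170 [⟨236,(Int.negSucc 0),1⟩] .nil .nil) (.node 179 [⟨242,(Int.ofNat 1),1⟩] .nil .nil)) (.node 189 [⟨246,(Int.negSucc 0),1⟩] (.node 186 [⟨244,(Int.ofNat 1),1⟩] .nil .nil) (.node 190 [⟨247,(Int.negSucc 0),1⟩] .nil .nil))))))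
noncomputable def col222 : Tr Cl := (.node 55 [⟨162,(Int.negSucc 0),1⟩] (.node 23 [⟨116,(Int.negSucc 0),1⟩] (.node 8 [⟨67,(Int.negSucc 0),1⟩] (.node 4 [⟨230,(Int.ofNat 1),1⟩] (.node 2 [⟨230,(Int.negSucc 0),1⟩] (.node 1 [⟨230,(Int.ofNat 0),1⟩] (.node 0 [⟨230,(Int.ofNat 1),1⟩] .nil .nil) .nil) (.node 3 [⟨230,(Int.ofNat 0),1⟩] .nil .nil)) (.node 6 [⟨230,(Int.ofNat 0),1⟩] (.node 5 [⟨230,(Int.negSucc 0),1⟩] .nil .nil) (.node 7 [⟨230,(Int.ofNat 0),1⟩] .nil .nil))) (.node 13 [⟨77,(Int.ofNat 1),1⟩] (.node 10 [⟨69,(Int.negSucc 0),1⟩] (.node 9 [⟨68,(Int.negSucc 0),1⟩] .nil .nil) (.node 12 [⟨73,(Int.ofNat 1),1⟩] .nil .nil)) (.node 18 [⟨85,(Int.ofNat 1),1⟩] (.node 15 [⟨82,(Int.ofNat 1),1⟩] .nil .nil) (.node 22 [⟨104,(Int.ofNat 1),1⟩] .nil .nil)))) (.node 38 [⟨146,(Int.ofNat 1),1⟩] (.node 27 [⟨132,(Int.negSucc 0),1⟩] (.node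 25 [⟨0,(Int.ofNat 1),1⟩, ⟨1,(Int.ofNat 2),1⟩, ⟨2,(Int.ofNat 3),1⟩, ⟨3,(Int.ofNat 4),1⟩, ⟨4,(Int.ofNat 3),1⟩, ⟨5,(Int.ofNat 3),1⟩, ⟨6,(Int.ofNat 2),1⟩, ⟨7,(Int.ofNat 1),1⟩, ⟨230,(Int.negSucc 0),2⟩] (.node 24 [⟨121,(Int.ofNat 1),1⟩] .nil .nil) (.node 26 [⟨131,(Int.ofNat 1),1⟩] .nil .nil)) (.node 30 [⟨143,(Int.ofNat 1),1⟩] (.node 28 [⟨133,(Int.ofNat 1),1⟩] .nil .nil) (.node 34 [⟨144,(Int.negSucc 0),1⟩] .nil .nil))) (.node 48 [⟨157,(Int.negSucc 0),1⟩] (.node 40 [⟨148,(Int.ofNat 1),1⟩] (.node 39 [⟨147,(Int.negSucc 0),1⟩] .nil .nil) (.node 44 [⟨155,(Int.ofNat 1),1⟩] .nil .nil)) (.node 50 [⟨159,(Int.negSucc 0),1⟩] (.node 49 [⟨158,(Int.ofNat 1),1⟩] .nil .nil) (.node 54 [⟨161,(Int.ofNat 1),1⟩] .nil .nil))))) (.node 109 [⟨217,(Int.negSucc 0),1⟩] (.node 93 [⟨200,(Int.ofNat 1),1⟩] (.node 86 [⟨193,(Int.negSucc 0),1⟩] (.node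 61 [⟨168,(Int.negSucc 0),1⟩] (.node 60 [⟨167,(Int.ofNat 1),1⟩] (.node 56 [⟨163,(Int.ofNat 1),1⟩] .nil .nil) .nil) (.node 62 [⟨169,(Int.ofNat 1),1⟩] .nil .nil)) (.node 88 [⟨195,(Int.negSucc 0),1⟩] (.node 87 [⟨194,(Int.ofNat 1),1⟩] .nil .nil) (.node 92 [⟨199,(Int.negSucc 0),1⟩] .nil .nil))) (.node 98 [⟨207,(Int.ofNat 1),1⟩] (.node 96 [⟨205,(Int.ofNat 1),1⟩] (.node 94 [⟨201,(Int.negSucc 0),1⟩] .nil .nil) (.node 97 [⟨206,(Int.negSucc 0),1⟩] .nil .nil)) (.node 107 [⟨215,(Int.negSucc 0),1⟩] (.node 100 [⟨211,(Int.negSucc 0),1⟩] .nil .nil) (.node 108 [⟨216,(Int.ofNat 1),1⟩] .nil .nil)))) (.node 151 [⟨233,(Int.negSucc 0),1⟩] (.node 123 [⟨228,(Int.ofNat 1),1⟩] (.node 112 [⟨225,(Int.negSucc 0),1⟩] (.node 111 [⟨221,(Int.ofNat 1),1⟩] .nil .nil) (.node 122 [⟨227,(Int.negSucc 0),1⟩] .nil .nil)) (.node 134 [⟨231,(Int.negSucc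 0),1⟩] (.node 124 [⟨229,(Int.negSucc 0),1⟩] .nil .nil) (.node 139 [⟨232,(Int.ofNat 1),1⟩] .nil .nil))) (.node 182 [⟨243,(Int.negSucc 0),1⟩] (.node 173 [⟨240,(Int.negSucc 0),1⟩] (.node 170 [⟨237,(Int.negSucc 0),1⟩] .nil .nil) (.node 178 [⟨242,(Int.negSucc 0),1⟩] .nil .nil)) (.node 187 [⟨246,(Int.ofNat 1),1⟩] (.node 186 [⟨245,(Int.ofNat 1),1⟩] .nil .nil) (.node 188 [⟨247,(Int.ofNat 1),1⟩] .nil .nil))))))
noncomputable def col223 : Tr Cl := (.node 55 [⟨165,(Int.negSucc 0),1⟩] (.node 23 [⟨117,(Int.ofNat 1),1⟩] (.node 8 [⟨70,(Int.ofNat 1),1⟩] (.node 4 [⟨231,(Int.negSucc 0),1⟩] (.node 2 [⟨231,(Int.negSucc 0),1⟩] (.node 1 [⟨231,(Int.ofNat 0),1⟩] (.node 0 [⟨231,(Int.ofNat 1),1⟩] .nil .nil) .nil) (.node 3 [⟨231,(Int.ofNat 1),1⟩] .nil .nil)) (.node 6 [⟨231,(Int.ofNat 0),1⟩] (.node 5 [⟨231,(Int.ofNat 0),1⟩] .nil .nil) (.node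 7 [⟨231,(Int.ofNat 0),1⟩] .nil .nil))) (.node 13 [⟨78,(Int.negSucc 0),1⟩] (.node 10 [⟨72,(Int.ofNat 1),1⟩] (.node 9 [⟨71,(Int.ofNat 1),1⟩] .nil .nil) (.node 11 [⟨73,(Int.ofNat 1),1⟩] .nil .nil)) (.node 17 [⟨85,(Int.ofNat 1),1⟩] (.node 15 [⟨83,(Int.negSucc 0),1⟩] .nil .nil) (.node 22 [⟨105,(Int.negSucc 0),1⟩] .nil .nil)))) (.node 35 [⟨146,(Int.ofNat 1),1⟩] (.node 27 [⟨136,(Int.ofNat 1),1⟩] (.node 25 [⟨134,(Int.ofNat 1),1⟩] (.node 24 [⟨0,(Int.ofNat 1),1⟩, ⟨1,(Int.ofNat 2),1⟩, ⟨2,(Int.ofNat 3),1⟩, ⟨3,(Int.ofNat 4),1⟩, ⟨4,(Int.ofNat 4),1⟩, ⟨5,(Int.ofNat 3),1⟩, ⟨6,(Int.ofNat 2),1⟩, ⟨7,(Int.ofNat 1),1⟩, ⟨231,(Int.negSucc 0),2⟩] .nil .nil) (.node 26 [⟨135,(Int.negSucc 0),1⟩] .nil .nil)) (.node 29 [⟨143,(Int.ofNat 1),1⟩] (.node 28 [⟨137,(Int.negSucc 0),1⟩] .nil .nil) (.node 34 [⟨145,(Int.negSucc 0),1⟩] .nil .nil))) (.node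 45 [⟨157,(Int.negSucc 0),1⟩] (.node 37 [⟨148,(Int.ofNat 1),1⟩] (.node 36 [⟨147,(Int.negSucc 0),1⟩] .nil .nil) (.node 44 [⟨156,(Int.ofNat 1),1⟩] .nil .nil)) (.node 47 [⟨159,(Int.negSucc 0),1⟩] (.node 46 [⟨158,(Int.ofNat 1),1⟩] .nil .nil) (.node 54 [⟨164,(Int.ofNat 1),1⟩] .nil .nil))))) (.node 109 [⟨220,(Int.negSucc 0),1⟩] (.node 90 [⟨200,(Int.ofNat 1),1⟩] (.node 86 [⟨196,(Int.negSucc 0),1⟩] (.node 58 [⟨168,(Int.negSucc 0),1⟩] (.node 57 [⟨167,(Int.ofNat 1),1⟩] (.node 56 [⟨166,(Int.ofNat 1),1⟩] .nil .nil) .nil) (.node 59 [⟨169,(Int.ofNat 1),1⟩] .nil .nil)) (.node 88 [⟨198,(Int.negSucc 0),1⟩] (.node 87 [⟨197,(Int.ofNat 1),1⟩] .nil .nil) (.node 89 [⟨199,(Int.negSucc 0),1⟩] .nil .nil))) (.node 98 [⟨210,(Int.ofNat 1),1⟩] (.node 96 [⟨208,(Int.ofNat 1),1⟩] (.node 91 [⟨201,(Int.negSucc 0),1⟩] .nil .nil) (.node 97 [⟨209,(Int.negSucc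 0),1⟩] .nil .nil)) (.node 107 [⟨218,(Int.negSucc 0),1⟩] (.node 99 [⟨211,(Int.negSucc 0),1⟩] .nil .nil) (.node 108 [⟨219,(Int.ofNat 1),1⟩] .nil .nil)))) (.node 150 [⟨233,(Int.ofNat 1),1⟩] (.node 119 [⟨228,(Int.negSucc 0),1⟩] (.node 112 [⟨226,(Int.negSucc 0),1⟩] (.node 110 [⟨221,(Int.ofNat 1),1⟩] .nil .nil) (.node 118 [⟨227,(Int.ofNat 1),1⟩] .nil .nil)) (.node 121 [⟨230,(Int.negSucc 0),1⟩] (.node 120 [⟨229,(Int.ofNat 1),1⟩] .nil .nil) (.node 138 [⟨232,(Int.negSucc 0),1⟩] .nil .nil))) (.node 182 [⟨244,(Int.negSucc 0),1⟩] (.node 172 [⟨240,(Int.ofNat 1),1⟩] (.node 170 [⟨238,(Int.negSucc 0),1⟩] .nil .nil) (.node 177 [⟨242,(Int.ofNat 1),1⟩] .nil .nil)) (.node 184 [⟨246,(Int.negSucc 0),1⟩] (.node 183 [⟨245,(Int.negSucc 0),1⟩] .nil .nil) (.node 185 [⟨247,(Int.negSucc 0),1⟩] .nil .nil))))))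
noncomputable def col224 : Tr Cl := (.node 49 [⟨165,(Int.negSucc 0),1⟩] (.node 23 [⟨0,(Int.ofNat 1),1⟩, ⟨1,(Int.ofNat 2),1⟩, ⟨2,(Int.ofNat 3),1⟩, ⟨3,(Int.ofNat 5),1⟩, ⟨4,(Int.ofNat 4),1⟩, ⟨5,(Int.ofNat 3),1⟩, ⟨6,(Int.ofNat 2),1⟩, ⟨7,(Int.ofNat 1),1⟩, ⟨232,(Int.negSucc 0),2⟩] (.node 8 [⟨74,(Int.negSucc 0),1⟩] (.node 4 [⟨232,(Int.ofNat 0),1⟩] (.node 2 [⟨232,(Int.ofNat 0),1⟩] (.node 1 [⟨232,(Int.ofNat 1),1⟩] (.node 0 [⟨232,(Int.ofNat 1),1⟩] .nil .nil) .nil) (.node 3 [⟨232,(Int.negSucc 0),1⟩] .nil .nil)) (.node 6 [⟨232,(Int.ofNat 0),1⟩] (.node 5 [⟨232,(Int.ofNat 0),1⟩] .nil .nil) (.node 7 [⟨232,(Int.ofNat 0),1⟩] .nil .nil))) (.node 12 [⟨78,(Int.negSucc 0),1⟩] (.node 10 [⟨76,(Int.negSucc 0),1⟩] (.node 9 [⟨75,(Int.negSucc 0),1⟩] .nil .nil) (.node 11 [⟨77,(Int.negSucc 0),1⟩] .nil .nil)) (.node 16 [⟨85,(Int.ofNat 1),1⟩]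 (.node 15 [⟨84,(Int.ofNat 1),1⟩] .nil .nil) (.node 22 [⟨106,(Int.ofNat 1),1⟩] .nil .nil)))) (.node 31 [⟨146,(Int.ofNat 1),1⟩] (.node 27 [⟨141,(Int.negSucc 0),1⟩] (.node 25 [⟨139,(Int.negSucc 0),1⟩] (.node 24 [⟨138,(Int.ofNat 1),1⟩] .nil .nil) (.node 26 [⟨140,(Int.ofNat 1),1⟩] .nil .nil)) (.node 29 [⟨144,(Int.ofNat 1),1⟩] (.node 28 [⟨142,(Int.ofNat 1),1⟩] .nil .nil) (.node 30 [⟨145,(Int.negSucc 0),1⟩] .nil .nil))) (.node 45 [⟨161,(Int.negSucc 0),1⟩] (.node 33 [⟨148,(Int.ofNat 1),1⟩] (.node 32 [⟨147,(Int.negSucc 0),1⟩] .nil .nil) (.node 44 [⟨160,(Int.ofNat 1),1⟩] .nil .nil)) (.node 47 [⟨163,(Int.negSucc 0),1⟩] (.node 46 [⟨162,(Int.ofNat 1),1⟩] .nil .nil) (.node 48 [⟨164,(Int.ofNat 1),1⟩] .nil .nil))))) (.node 109 [⟨224,(Int.negSucc 0),1⟩] (.node 90 [⟨206,(Int.ofNat 1),1⟩] (.node 86 [⟨202,(Int.negSucc 0),1⟩] (.node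 52 [⟨168,(Int.negSucc 0),1⟩] (.node 51 [⟨167,(Int.ofNat 1),1⟩] (.node 50 [⟨166,(Int.ofNat 1),1⟩] .nil .nil) .nil) (.node 53 [⟨169,(Int.ofNat 1),1⟩] .nil .nil)) (.node 88 [⟨204,(Int.negSucc 0),1⟩] (.node 87 [⟨203,(Int.ofNat 1),1⟩] .nil .nil) (.node 89 [⟨205,(Int.negSucc 0),1⟩] .nil .nil))) (.node 94 [⟨210,(Int.ofNat 1),1⟩] (.node 92 [⟨208,(Int.ofNat 1),1⟩] (.node 91 [⟨207,(Int.negSucc 0),1⟩] .nil .nil) (.node 93 [⟨209,(Int.negSucc 0),1⟩] .nil .nil)) (.node 107 [⟨222,(Int.negSucc 0),1⟩] (.node 95 [⟨211,(Int.negSucc 0),1⟩] .nil .nil) (.node 108 [⟨223,(Int.ofNat 1),1⟩] .nil .nil)))) (.node 149 [⟨233,(Int.negSucc 0),1⟩] (.node 114 [⟨228,(Int.ofNat 1),1⟩] (.node 111 [⟨226,(Int.negSucc 0),1⟩] (.node 110 [⟨225,(Int.ofNat 1),1⟩] .nil .nil) (.node 113 [⟨227,(Int.negSucc 0),1⟩] .nil .nil)) (.node 116 [⟨230,(Int.ofNat 1),1⟩]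 (.node 115 [⟨229,(Int.negSucc 0),1⟩] .nil .nil) (.node 117 [⟨231,(Int.negSucc 0),1⟩] .nil .nil))) (.node 178 [⟨244,(Int.ofNat 1),1⟩] (.node 171 [⟨240,(Int.negSucc 0),1⟩] (.node 170 [⟨239,(Int.negSucc 0),1⟩] .nil .nil) (.node 177 [⟨243,(Int.ofNat 1),1⟩] .nil .nil)) (.node 180 [⟨246,(Int.ofNat 1),1⟩] (.node 179 [⟨245,(Int.ofNat 1),1⟩] .nil .nil) (.node 181 [⟨247,(Int.ofNat 1),1⟩] .nil .nil))))))
noncomputable def col225 : Tr Cl := (.node 39 [⟨165,(Int.negSucc 0),1⟩] (.node 23 [⟨149,(Int.ofNat 1),1⟩] (.node 8 [⟨79,(Int.ofNat 1),1⟩] (.node 4 [⟨233,(Int.ofNat 0),1⟩] (.node 2 [⟨233,(Int.ofNat 0),1⟩] (.node 1 [⟨233,(Int.negSucc 0),1⟩] (.node 0 [⟨233,(Int.ofNat 1),1⟩] .nil .nil) .nil) (.node 3 [⟨233,(Int.ofNat 0),1⟩] .nil .nil)) (.node 6 [⟨233,(Int.ofNat 0),1⟩] (.node 5 [⟨233,(Int.ofNat 0),1⟩] .nil .nil) (.node 7 [⟨233,(Int.ofNat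 0),1⟩] .nil .nil))) (.node 12 [⟨83,(Int.ofNat 1),1⟩] (.node 10 [⟨81,(Int.ofNat 1),1⟩] (.node 9 [⟨80,(Int.ofNat 1),1⟩] .nil .nil) (.node 11 [⟨82,(Int.ofNat 1),1⟩] .nil .nil)) (.node 14 [⟨85,(Int.ofNat 1),1⟩] (.node 13 [⟨84,(Int.ofNat 1),1⟩] .nil .nil) (.node 22 [⟨0,(Int.ofNat 1),1⟩, ⟨1,(Int.ofNat 3),1⟩, ⟨2,(Int.ofNat 3),1⟩, ⟨3,(Int.ofNat 5),1⟩, ⟨4,(Int.ofNat 4),1⟩, ⟨5,(Int.ofNat 3),1⟩, ⟨6,(Int.ofNat 2),1⟩, ⟨7,(Int.ofNat 1),1⟩, ⟨233,(Int.negSucc 0),2⟩] .nil .nil)))) (.node 31 [⟨157,(Int.ofNat 1),1⟩] (.node 27 [⟨153,(Int.ofNat 1),1⟩] (.node 25 [⟨151,(Int.ofNat 1),1⟩] (.node 24 [⟨150,(Int.negSucc 0),1⟩] .nil .nil) (.node 26 [⟨152,(Int.negSucc 0),1⟩] .nil .nil)) (.node 29 [⟨155,(Int.ofNat 1),1⟩] (.node 28 [⟨154,(Int.negSucc 0),1⟩] .nil .nil) (.node 30 [⟨156,(Int.negSucc 0),1⟩] .nil .nil))) (.node 35 [⟨161,(Int.negSucc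 0),1⟩] (.node 33 [⟨159,(Int.ofNat 1),1⟩] (.node 32 [⟨158,(Int.negSucc 0),1⟩] .nil .nil) (.node 34 [⟨160,(Int.ofNat 1),1⟩] .nil .nil)) (.node 37 [⟨163,(Int.negSucc 0),1⟩] (.node 36 [⟨162,(Int.ofNat 1),1⟩] .nil .nil) (.node 38 [⟨164,(Int.ofNat 1),1⟩] .nil .nil))))) (.node 98 [⟨224,(Int.negSucc 0),1⟩] (.node 90 [⟨216,(Int.ofNat 1),1⟩] (.node 86 [⟨212,(Int.negSucc 0),1⟩] (.node 42 [⟨168,(Int.negSucc 0),1⟩] (.node 41 [⟨167,(Int.ofNat 1),1⟩] (.node 40 [⟨166,(Int.ofNat 1),1⟩] .nil .nil) .nil) (.node 43 [⟨169,(Int.ofNat 1),1⟩] .nil .nil)) (.node 88 [⟨214,(Int.negSucc 0),1⟩] (.node 87 [⟨213,(Int.ofNat 1),1⟩] .nil .nil) (.node 89 [⟨215,(Int.negSucc 0),1⟩] .nil .nil))) (.node 94 [⟨220,(Int.ofNat 1),1⟩] (.node 92 [⟨218,(Int.ofNat 1),1⟩] (.node 91 [⟨217,(Int.negSucc 0),1⟩] .nil .nil) (.node 93 [⟨219,(Int.negSucc 0),1⟩] .nil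 .nil)) (.node 96 [⟨222,(Int.negSucc 0),1⟩] (.node 95 [⟨221,(Int.negSucc 0),1⟩] .nil .nil) (.node 97 [⟨223,(Int.ofNat 1),1⟩] .nil .nil)))) (.node 106 [⟨232,(Int.negSucc 0),1⟩] (.node 102 [⟨228,(Int.negSucc 0),1⟩] (.node 100 [⟨226,(Int.negSucc 0),1⟩] (.node 99 [⟨225,(Int.ofNat 1),1⟩] .nil .nil) (.node 101 [⟨227,(Int.ofNat 1),1⟩] .nil .nil)) (.node 104 [⟨230,(Int.negSucc 0),1⟩] (.node 103 [⟨229,(Int.ofNat 1),1⟩] .nil .nil) (.node 105 [⟨231,(Int.ofNat 1),1⟩] .nil .nil))) (.node 173 [⟨244,(Int.negSucc 0),1⟩] (.node 171 [⟨242,(Int.negSucc 0),1⟩] (.node 170 [⟨241,(Int.negSucc 0),1⟩] .nil .nil) (.node 172 [⟨243,(Int.negSucc 0),1⟩] .nil .nil)) (.node 175 [⟨246,(Int.negSucc 0),1⟩] (.node 174 [⟨245,(Int.negSucc 0),1⟩] .nil .nil) (.node 176 [⟨247,(Int.negSucc 0),1⟩] .nil .nil))))))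
noncomputable def col226 : Tr Cl := (.node 58 [⟨183,(Int.ofNat 1),1⟩] (.node 17 [⟨118,(Int.negSucc 0),1⟩] (.node 9 [⟨86,(Int.negSucc 0),1⟩] (.node 4 [⟨234,(Int.ofNat 0),1⟩] (.node 2 [⟨234,(Int.ofNat 0),1⟩] (.node 1 [⟨234,(Int.ofNat 0),1⟩] (.node 0 [⟨234,(Int.negSucc 0),1⟩] .nil .nil) .nil) (.node 3 [⟨234,(Int.ofNat 0),1⟩] .nil .nil)) (.node 6 [⟨234,(Int.ofNat 0),1⟩] (.node 5 [⟨234,(Int.ofNat 0),1⟩] .nil .nil) (.node 7 [⟨234,(Int.ofNat 1),1⟩] .nil .nil))) (.node 13 [⟨96,(Int.negSucc 0),1⟩] (.node 11 [⟨89,(Int.negSucc 0),1⟩] (.node 10 [⟨87,(Int.negSucc 0),1⟩] .nil .nil) (.node 12 [⟨92,(Int.negSucc 0),1⟩] .nil .nil)) (.node 15 [⟨107,(Int.negSucc 0),1⟩] (.node 14 [⟨101,(Int.negSucc 0),1⟩] .nil .nil) (.node 16 [⟨113,(Int.ofNat 1),1⟩] .nil .nil)))) (.node 40 [⟨173,(Int.negSucc 0),1⟩] (.node 21 [⟨0,(Int.ofNat 2),1⟩,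 ⟨1,(Int.ofNat 2),1⟩, ⟨2,(Int.ofNat 3),1⟩, ⟨3,(Int.ofNat 4),1⟩, ⟨4,(Int.ofNat 3),1⟩, ⟨5,(Int.ofNat 2),1⟩, ⟨6,(Int.ofNat 1),1⟩, ⟨7,(Int.ofNat 0),1⟩, ⟨234,(Int.negSucc 0),2⟩] (.node 19 [⟨125,(Int.negSucc 0),1⟩] (.node 18 [⟨122,(Int.ofNat 1),1⟩] .nil .nil) (.node 20 [⟨127,(Int.ofNat 1),1⟩] .nil .nil)) (.node 33 [⟨171,(Int.negSucc 0),1⟩] (.node 28 [⟨170,(Int.ofNat 1),1⟩] .nil .nil) (.node 37 [⟨172,(Int.ofNat 1),1⟩] .nil .nil))) (.node 50 [⟨178,(Int.ofNat 1),1⟩] (.node 43 [⟨175,(Int.negSucc 0),1⟩] (.node 42 [⟨174,(Int.ofNat 1),1⟩] .nil .nil) (.node 47 [⟨177,(Int.negSucc 0),1⟩] .nil .nil)) (.node 53 [⟨180,(Int.ofNat 1),1⟩] (.node 52 [⟨179,(Int.negSucc 0),1⟩] .nil .nil) (.node 56 [⟨182,(Int.negSucc 0),1⟩] .nil .nil))))) (.node 82 [⟨215,(Int.ofNat 1),1⟩] (.node 72 [⟨197,(Int.negSucc 0),1⟩] (.node 66 [⟨192,(Int.ofNat 1),1⟩]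 (.node 62 [⟨187,(Int.ofNat 1),1⟩] (.node 61 [⟨186,(Int.negSucc 0),1⟩] (.node 59 [⟨184,(Int.negSucc 0),1⟩] .nil .nil) .nil) (.node 63 [⟨189,(Int.negSucc 0),1⟩] .nil .nil)) (.node 69 [⟨194,(Int.ofNat 1),1⟩] (.node 68 [⟨193,(Int.negSucc 0),1⟩] .nil .nil) (.node 71 [⟨196,(Int.ofNat 1),1⟩] .nil .nil))) (.node 77 [⟨205,(Int.negSucc 0),1⟩] (.node 75 [⟨202,(Int.negSucc 0),1⟩] (.node 73 [⟨199,(Int.ofNat 1),1⟩] .nil .nil) (.node 76 [⟨203,(Int.ofNat 1),1⟩] .nil .nil)) (.node 80 [⟨212,(Int.ofNat 1),1⟩] (.node 78 [⟨208,(Int.ofNat 1),1⟩] .nil .nil) (.node 81 [⟨213,(Int.negSucc 0),1⟩] .nil .nil)))) (.node 142 [⟨239,(Int.negSucc 0),1⟩] (.node 128 [⟨235,(Int.negSucc 0),1⟩] (.node 84 [⟨222,(Int.ofNat 1),1⟩] (.node 83 [⟨218,(Int.negSucc 0),1⟩] .nil .nil) (.node 85 [⟨227,(Int.negSucc 0),1⟩] .nil .nil)) (.node 133 [⟨237,(Int.negSucc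 0),1⟩] (.node 130 [⟨236,(Int.ofNat 1),1⟩] .nil .nil) (.node 137 [⟨238,(Int.ofNat 1),1⟩] .nil .nil))) (.node 163 [⟨243,(Int.ofNat 1),1⟩] (.node 154 [⟨241,(Int.ofNat 1),1⟩] (.node 148 [⟨240,(Int.ofNat 1),1⟩] .nil .nil) (.node 159 [⟨242,(Int.ofNat 1),1⟩] .nil .nil)) (.node 168 [⟨245,(Int.ofNat 1),1⟩] (.node 166 [⟨244,(Int.ofNat 1),1⟩] .nil .nil) (.node 169 [⟨246,(Int.ofNat 1),1⟩] .nil .nil))))))
noncomputable def col227 : Tr Cl := (.node 57 [⟨183,(Int.ofNat 1),1⟩] (.node 17 [⟨119,(Int.ofNat 1),1⟩] (.node 8 [⟨86,(Int.negSucc 0),1⟩] (.node 4 [⟨235,(Int.ofNat 0),1⟩] (.node 2 [⟨235,(Int.ofNat 0),1⟩] (.node 1 [⟨235,(Int.ofNat 0),1⟩] (.node 0 [⟨235,(Int.negSucc 0),1⟩] .nil .nil) .nil) (.node 3 [⟨235,(Int.ofNat 0),1⟩] .nil .nil)) (.node 6 [⟨235,(Int.ofNat 1),1⟩] (.node 5 [⟨235,(Int.ofNat 0),1⟩] .nil .nil) (.node 7 [⟨235,(Int.negSucc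 0),1⟩] .nil .nil))) (.node 13 [⟨97,(Int.ofNat 1),1⟩] (.node 11 [⟨90,(Int.ofNat 1),1⟩] (.node 10 [⟨88,(Int.ofNat 1),1⟩] .nil .nil) (.node 12 [⟨93,(Int.ofNat 1),1⟩] .nil .nil)) (.node 15 [⟨108,(Int.ofNat 1),1⟩] (.node 14 [⟨102,(Int.ofNat 1),1⟩] .nil .nil) (.node 16 [⟨114,(Int.negSucc 0),1⟩] .nil .nil)))) (.node 39 [⟨173,(Int.negSucc 0),1⟩] (.node 21 [⟨128,(Int.ofNat 1),1⟩] (.node 19 [⟨126,(Int.ofNat 1),1⟩] (.node 18 [⟨123,(Int.negSucc 0),1⟩] .nil .nil) (.node 20 [⟨0,(Int.ofNat 2),1⟩, ⟨1,(Int.ofNat 2),1⟩, ⟨2,(Int.ofNat 3),1⟩, ⟨3,(Int.ofNat 4),1⟩, ⟨4,(Int.ofNat 3),1⟩, ⟨5,(Int.ofNat 2),1⟩, ⟨6,(Int.ofNat 1),1⟩, ⟨7,(Int.ofNat 1),1⟩, ⟨235,(Int.negSucc 0),2⟩] .nil .nil)) (.node 32 [⟨171,(Int.negSucc 0),1⟩] (.node 27 [⟨170,(Int.ofNat 1),1⟩] .nil .nil) (.node 36 [⟨172,(Int.ofNat 1),1⟩] .nil .nil))) (.node 49 [⟨178,(Int.ofNat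 1),1⟩] (.node 43 [⟨176,(Int.negSucc 0),1⟩] (.node 41 [⟨174,(Int.ofNat 1),1⟩] .nil .nil) (.node 46 [⟨177,(Int.negSucc 0),1⟩] .nil .nil)) (.node 53 [⟨181,(Int.ofNat 1),1⟩] (.node 51 [⟨179,(Int.negSucc 0),1⟩] .nil .nil) (.node 55 [⟨182,(Int.negSucc 0),1⟩] .nil .nil))))) (.node 82 [⟨216,(Int.ofNat 1),1⟩] (.node 72 [⟨198,(Int.negSucc 0),1⟩] (.node 65 [⟨192,(Int.ofNat 1),1⟩] (.node 62 [⟨188,(Int.ofNat 1),1⟩] (.node 60 [⟨186,(Int.negSucc 0),1⟩] (.node 59 [⟨185,(Int.negSucc 0),1⟩] .nil .nil) .nil) (.node 63 [⟨190,(Int.negSucc 0),1⟩] .nil .nil)) (.node 69 [⟨195,(Int.ofNat 1),1⟩] (.node 67 [⟨193,(Int.negSucc 0),1⟩] .nil .nil) (.node 70 [⟨196,(Int.ofNat 1),1⟩] .nil .nil))) (.node 77 [⟨206,(Int.negSucc 0),1⟩] (.node 74 [⟨202,(Int.negSucc 0),1⟩] (.node 73 [⟨200,(Int.ofNat 1),1⟩] .nil .nil) (.node 76 [⟨204,(Int.ofNat 1),1⟩]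 .nil .nil)) (.node 79 [⟨212,(Int.ofNat 1),1⟩] (.node 78 [⟨209,(Int.ofNat 1),1⟩] .nil .nil) (.node 81 [⟨214,(Int.negSucc 0),1⟩] .nil .nil)))) (.node 141 [⟨239,(Int.ofNat 1),1⟩] (.node 127 [⟨234,(Int.negSucc 0),1⟩] (.node 84 [⟨223,(Int.ofNat 1),1⟩] (.node 83 [⟨219,(Int.negSucc 0),1⟩] .nil .nil) (.node 85 [⟨228,(Int.negSucc 0),1⟩] .nil .nil)) (.node 132 [⟨237,(Int.ofNat 1),1⟩] (.node 129 [⟨236,(Int.negSucc 0),1⟩] .nil .nil) (.node 136 [⟨238,(Int.negSucc 0),1⟩] .nil .nil))) (.node 162 [⟨243,(Int.negSucc 0),1⟩] (.node 153 [⟨241,(Int.negSucc 0),1⟩] (.node 147 [⟨240,(Int.negSucc 0),1⟩] .nil .nil) (.node 158 [⟨242,(Int.negSucc 0),1⟩] .nil .nil)) (.node 167 [⟨245,(Int.negSucc 0),1⟩] (.node 165 [⟨244,(Int.negSucc 0),1⟩] .nil .nil) (.node 169 [⟨247,(Int.ofNat 1),1⟩] .nil .nil))))))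
noncomputable def col228 : Tr Cl := (.node 57 [⟨184,(Int.ofNat 1),1⟩] (.node 17 [⟨120,(Int.negSucc 0),1⟩] (.node 8 [⟨87,(Int.ofNat 1),1⟩] (.node 4 [⟨236,(Int.ofNat 0),1⟩] (.node 2 [⟨236,(Int.ofNat 0),1⟩] (.node 1 [⟨236,(Int.ofNat 0),1⟩] (.node 0 [⟨236,(Int.negSucc 0),1⟩] .nil .nil) .nil) (.node 3 [⟨236,(Int.ofNat 0),1⟩] .nil .nil)) (.node 6 [⟨236,(Int.negSucc 0),1⟩] (.node 5 [⟨236,(Int.ofNat 1),1⟩] .nil .nil) (.node 7 [⟨236,(Int.ofNat 0),1⟩] .nil .nil))) (.node 13 [⟨98,(Int.negSucc 0),1⟩] (.node 11 [⟨91,(Int.negSucc 0),1⟩] (.node 9 [⟨88,(Int.ofNat 1),1⟩] .nil .nil) (.node 12 [⟨94,(Int.negSucc 0),1⟩] .nil .nil)) (.node 15 [⟨109,(Int.negSucc 0),1⟩] (.node 14 [⟨103,(Int.negSucc 0),1⟩] .nil .nil) (.node 16 [⟨115,(Int.ofNat 1),1⟩] .nil .nil)))) (.node 38 [⟨173,(Int.negSucc 0),1⟩] (.node 21 [⟨130,(Int.negSucc 0),1⟩]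 (.node 19 [⟨0,(Int.ofNat 2),1⟩, ⟨1,(Int.ofNat 2),1⟩, ⟨2,(Int.ofNat 3),1⟩, ⟨3,(Int.ofNat 4),1⟩, ⟨4,(Int.ofNat 3),1⟩, ⟨5,(Int.ofNat 2),1⟩, ⟨6,(Int.ofNat 2),1⟩, ⟨7,(Int.ofNat 1),1⟩, ⟨236,(Int.negSucc 0),2⟩] (.node 18 [⟨124,(Int.ofNat 1),1⟩] .nil .nil) (.node 20 [⟨129,(Int.ofNat 1),1⟩] .nil .nil)) (.node 31 [⟨171,(Int.negSucc 0),1⟩] (.node 26 [⟨170,(Int.ofNat 1),1⟩] .nil .nil) (.node 35 [⟨172,(Int.ofNat 1),1⟩] .nil .nil))) (.node 48 [⟨178,(Int.ofNat 1),1⟩] (.node 42 [⟨176,(Int.negSucc 0),1⟩] (.node 41 [⟨175,(Int.ofNat 1),1⟩] .nil .nil) (.node 45 [⟨177,(Int.negSucc 0),1⟩] .nil .nil)) (.node 52 [⟨181,(Int.ofNat 1),1⟩] (.node 51 [⟨180,(Int.negSucc 0),1⟩] .nil .nil) (.node 54 [⟨182,(Int.negSucc 0),1⟩] .nil .nil))))) (.node 82 [⟨217,(Int.ofNat 1),1⟩] (.node 71 [⟨198,(Int.negSucc 0),1⟩] (.node 64 [⟨192,(Int.ofNat 1),1⟩]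 (.node 61 [⟨188,(Int.ofNat 1),1⟩] (.node 60 [⟨187,(Int.negSucc 0),1⟩] (.node 58 [⟨185,(Int.negSucc 0),1⟩] .nil .nil) .nil) (.node 63 [⟨191,(Int.negSucc 0),1⟩] .nil .nil)) (.node 68 [⟨195,(Int.ofNat 1),1⟩] (.node 67 [⟨194,(Int.negSucc 0),1⟩] .nil .nil) (.node 70 [⟨197,(Int.ofNat 1),1⟩] .nil .nil))) (.node 77 [⟨207,(Int.negSucc 0),1⟩] (.node 74 [⟨203,(Int.negSucc 0),1⟩] (.node 73 [⟨201,(Int.ofNat 1),1⟩] .nil .nil) (.node 75 [⟨204,(Int.ofNat 1),1⟩] .nil .nil)) (.node 79 [⟨213,(Int.ofNat 1),1⟩] (.node 78 [⟨210,(Int.ofNat 1),1⟩] .nil .nil) (.node 80 [⟨214,(Int.negSucc 0),1⟩] .nil .nil)))) (.node 140 [⟨239,(Int.negSucc 0),1⟩] (.node 125 [⟨234,(Int.ofNat 1),1⟩] (.node 84 [⟨224,(Int.ofNat 1),1⟩] (.node 83 [⟨220,(Int.negSucc 0),1⟩] .nil .nil) (.node 85 [⟨229,(Int.negSucc 0),1⟩] .nil .nil)) (.node 131 [⟨237,(Int.negSucc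 0),1⟩] (.node 126 [⟨235,(Int.negSucc 0),1⟩] .nil .nil) (.node 135 [⟨238,(Int.ofNat 1),1⟩] .nil .nil))) (.node 161 [⟨243,(Int.ofNat 1),1⟩] (.node 152 [⟨241,(Int.ofNat 1),1⟩] (.node 146 [⟨240,(Int.ofNat 1),1⟩] .nil .nil) (.node 157 [⟨242,(Int.ofNat 1),1⟩] .nil .nil)) (.node 167 [⟨246,(Int.negSucc 0),1⟩] (.node 164 [⟨244,(Int.ofNat 1),1⟩] .nil .nil) (.node 168 [⟨247,(Int.negSucc 0),1⟩] .nil .nil))))))
noncomputable def col229 : Tr Cl := (.node 55 [⟨184,(Int.ofNat 1),1⟩] (.node 17 [⟨121,(Int.ofNat 1),1⟩] (.node 8 [⟨89,(Int.negSucc 0),1⟩] (.node 4 [⟨237,(Int.ofNat 1),1⟩] (.node 2 [⟨237,(Int.ofNat 0),1⟩] (.node 1 [⟨237,(Int.ofNat 0),1⟩] (.node 0 [⟨237,(Int.negSucc 0),1⟩] .nil .nil) .nil) (.node 3 [⟨237,(Int.ofNat 0),1⟩] .nil .nil)) (.node 6 [⟨237,(Int.ofNat 0),1⟩] (.node 5 [⟨237,(Int.negSucc 0),1⟩] .nil .nil) (.node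 7 [⟨237,(Int.ofNat 0),1⟩] .nil .nil))) (.node 13 [⟨99,(Int.ofNat 1),1⟩] (.node 10 [⟨91,(Int.negSucc 0),1⟩] (.node 9 [⟨90,(Int.negSucc 0),1⟩] .nil .nil) (.node 12 [⟨95,(Int.ofNat 1),1⟩] .nil .nil)) (.node 15 [⟨110,(Int.ofNat 1),1⟩] (.node 14 [⟨104,(Int.ofNat 1),1⟩] .nil .nil) (.node 16 [⟨116,(Int.negSucc 0),1⟩] .nil .nil)))) (.node 38 [⟨174,(Int.negSucc 0),1⟩] (.node 21 [⟨133,(Int.ofNat 1),1⟩] (.node 19 [⟨131,(Int.ofNat 1),1⟩] (.node 18 [⟨0,(Int.ofNat 2),1⟩, ⟨1,(Int.ofNat 2),1⟩, ⟨2,(Int.ofNat 3),1⟩, ⟨3,(Int.ofNat 4),1⟩, ⟨4,(Int.ofNat 3),1⟩, ⟨5,(Int.ofNat 3),1⟩, ⟨6,(Int.ofNat 2),1⟩, ⟨7,(Int.ofNat 1),1⟩, ⟨237,(Int.negSucc 0),2⟩] .nil .nil) (.node 20 [⟨132,(Int.negSucc 0),1⟩] .nil .nil)) (.node 30 [⟨171,(Int.negSucc 0),1⟩] (.node 25 [⟨170,(Int.ofNat 1),1⟩] .nil .nil) (.node 34 [⟨172,(Int.ofNat 1),1⟩] .nil .nil)))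 (.node 48 [⟨179,(Int.ofNat 1),1⟩] (.node 40 [⟨176,(Int.negSucc 0),1⟩] (.node 39 [⟨175,(Int.ofNat 1),1⟩] .nil .nil) (.node 44 [⟨177,(Int.negSucc 0),1⟩] .nil .nil)) (.node 50 [⟨181,(Int.ofNat 1),1⟩] (.node 49 [⟨180,(Int.negSucc 0),1⟩] .nil .nil) (.node 54 [⟨183,(Int.negSucc 0),1⟩] .nil .nil))))) (.node 81 [⟨217,(Int.ofNat 1),1⟩] (.node 71 [⟨200,(Int.negSucc 0),1⟩] (.node 64 [⟨193,(Int.ofNat 1),1⟩] (.node 61 [⟨190,(Int.ofNat 1),1⟩] (.node 60 [⟨189,(Int.negSucc 0),1⟩] (.node 56 [⟨185,(Int.negSucc 0),1⟩] .nil .nil) .nil) (.node 62 [⟨191,(Int.negSucc 0),1⟩] .nil .nil)) (.node 66 [⟨195,(Int.ofNat 1),1⟩] (.node 65 [⟨194,(Int.negSucc 0),1⟩] .nil .nil) (.node 70 [⟨199,(Int.ofNat 1),1⟩] .nil .nil))) (.node 76 [⟨207,(Int.negSucc 0),1⟩] (.node 74 [⟨205,(Int.negSucc 0),1⟩] (.node 72 [⟨201,(Int.ofNat 1),1⟩] .nil .nil) (.node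 75 [⟨206,(Int.ofNat 1),1⟩] .nil .nil)) (.node 79 [⟨215,(Int.ofNat 1),1⟩] (.node 78 [⟨211,(Int.ofNat 1),1⟩] .nil .nil) (.node 80 [⟨216,(Int.negSucc 0),1⟩] .nil .nil)))) (.node 139 [⟨239,(Int.ofNat 1),1⟩] (.node 122 [⟨234,(Int.negSucc 0),1⟩] (.node 84 [⟨225,(Int.ofNat 1),1⟩] (.node 83 [⟨221,(Int.negSucc 0),1⟩] .nil .nil) (.node 85 [⟨230,(Int.negSucc 0),1⟩] .nil .nil)) (.node 124 [⟨236,(Int.negSucc 0),1⟩] (.node 123 [⟨235,(Int.ofNat 1),1⟩] .nil .nil) (.node 134 [⟨238,(Int.negSucc 0),1⟩] .nil .nil))) (.node 160 [⟨243,(Int.negSucc 0),1⟩] (.node 151 [⟨241,(Int.negSucc 0),1⟩] (.node 145 [⟨240,(Int.negSucc 0),1⟩] .nil .nil) (.node 156 [⟨242,(Int.negSucc 0),1⟩] .nil .nil)) (.node 165 [⟨246,(Int.ofNat 1),1⟩] (.node 164 [⟨245,(Int.ofNat 1),1⟩] .nil .nil) (.node 166 [⟨247,(Int.ofNat 1),1⟩] .nil .nil))))))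
noncomputable def col230 : Tr Cl := (.node 55 [⟨187,(Int.ofNat 1),1⟩] (.node 17 [⟨0,(Int.ofNat 2),1⟩, ⟨1,(Int.ofNat 2),1⟩, ⟨2,(Int.ofNat 3),1⟩, ⟨3,(Int.ofNat 4),1⟩, ⟨4,(Int.ofNat 4),1⟩, ⟨5,(Int.ofNat 3),1⟩, ⟨6,(Int.ofNat 2),1⟩, ⟨7,(Int.ofNat 1),1⟩, ⟨238,(Int.negSucc 0),2⟩] (.node 8 [⟨92,(Int.ofNat 1),1⟩] (.node 4 [⟨238,(Int.negSucc 0),1⟩] (.node 2 [⟨238,(Int.ofNat 0),1⟩] (.node 1 [⟨238,(Int.ofNat 0),1⟩] (.node 0 [⟨238,(Int.negSucc 0),1⟩] .nil .nil) .nil) (.node 3 [⟨238,(Int.ofNat 1),1⟩] .nil .nil)) (.node 6 [⟨238,(Int.ofNat 0),1⟩] (.node 5 [⟨238,(Int.ofNat 0),1⟩] .nil .nil) (.node 7 [⟨238,(Int.ofNat 0),1⟩] .nil .nil))) (.node 13 [⟨100,(Int.negSucc 0),1⟩] (.node 10 [⟨94,(Int.ofNat 1),1⟩] (.node 9 [⟨93,(Int.ofNat 1),1⟩] .nil .nil) (.node 11 [⟨95,(Int.ofNat 1),1⟩] .nil .nil)) (.node 15 [⟨111,(Int.negSucc 0),1⟩] (.node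 14 [⟨105,(Int.negSucc 0),1⟩] .nil .nil) (.node 16 [⟨117,(Int.ofNat 1),1⟩] .nil .nil)))) (.node 35 [⟨174,(Int.negSucc 0),1⟩] (.node 21 [⟨137,(Int.negSucc 0),1⟩] (.node 19 [⟨135,(Int.negSucc 0),1⟩] (.node 18 [⟨134,(Int.ofNat 1),1⟩] .nil .nil) (.node 20 [⟨136,(Int.ofNat 1),1⟩] .nil .nil)) (.node 29 [⟨171,(Int.negSucc 0),1⟩] (.node 24 [⟨170,(Int.ofNat 1),1⟩] .nil .nil) (.node 34 [⟨173,(Int.ofNat 1),1⟩] .nil .nil))) (.node 45 [⟨179,(Int.ofNat 1),1⟩] (.node 37 [⟨176,(Int.negSucc 0),1⟩] (.node 36 [⟨175,(Int.ofNat 1),1⟩] .nil .nil) (.node 44 [⟨178,(Int.negSucc 0),1⟩] .nil .nil)) (.node 47 [⟨181,(Int.ofNat 1),1⟩] (.node 46 [⟨180,(Int.negSucc 0),1⟩] .nil .nil) (.node 54 [⟨186,(Int.negSucc 0),1⟩] .nil .nil))))) (.node 81 [⟨220,(Int.ofNat 1),1⟩] (.node 68 [⟨200,(Int.negSucc 0),1⟩] (.node 64 [⟨196,(Int.ofNat 1),1⟩] (.node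 58 [⟨190,(Int.ofNat 1),1⟩] (.node 57 [⟨189,(Int.negSucc 0),1⟩] (.node 56 [⟨188,(Int.negSucc 0),1⟩] .nil .nil) .nil) (.node 59 [⟨191,(Int.negSucc 0),1⟩] .nil .nil)) (.node 66 [⟨198,(Int.ofNat 1),1⟩] (.node 65 [⟨197,(Int.negSucc 0),1⟩] .nil .nil) (.node 67 [⟨199,(Int.ofNat 1),1⟩] .nil .nil))) (.node 76 [⟨210,(Int.negSucc 0),1⟩] (.node 74 [⟨208,(Int.negSucc 0),1⟩] (.node 69 [⟨201,(Int.ofNat 1),1⟩] .nil .nil) (.node 75 [⟨209,(Int.ofNat 1),1⟩] .nil .nil)) (.node 79 [⟨218,(Int.ofNat 1),1⟩] (.node 77 [⟨211,(Int.ofNat 1),1⟩] .nil .nil) (.node 80 [⟨219,(Int.negSucc 0),1⟩] .nil .nil)))) (.node 138 [⟨239,(Int.negSucc 0),1⟩] (.node 118 [⟨234,(Int.ofNat 1),1⟩] (.node 84 [⟨226,(Int.ofNat 1),1⟩] (.node 82 [⟨221,(Int.negSucc 0),1⟩] .nil .nil) (.node 85 [⟨231,(Int.negSucc 0),1⟩] .nil .nil)) (.node 120 [⟨236,(Int.ofNat 1),1⟩] (.node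 119 [⟨235,(Int.negSucc 0),1⟩] .nil .nil) (.node 121 [⟨237,(Int.negSucc 0),1⟩] .nil .nil))) (.node 160 [⟨244,(Int.negSucc 0),1⟩] (.node 150 [⟨241,(Int.ofNat 1),1⟩] (.node 144 [⟨240,(Int.ofNat 1),1⟩] .nil .nil) (.node 155 [⟨242,(Int.ofNat 1),1⟩] .nil .nil)) (.node 162 [⟨246,(Int.negSucc 0),1⟩] (.node 161 [⟨245,(Int.negSucc 0),1⟩] .nil .nil) (.node 163 [⟨247,(Int.negSucc 0),1⟩] .nil .nil))))))
noncomputable def col231 : Tr Cl := (.node 49 [⟨187,(Int.ofNat 1),1⟩] (.node 17 [⟨138,(Int.ofNat 1),1⟩] (.node 8 [⟨96,(Int.negSucc 0),1⟩] (.node 4 [⟨239,(Int.ofNat 0),1⟩] (.node 2 [⟨239,(Int.ofNat 1),1⟩] (.node 1 [⟨239,(Int.ofNat 1),1⟩] (.node 0 [⟨239,(Int.negSucc 0),1⟩] .nil .nil) .nil) (.node 3 [⟨239,(Int.negSucc 0),1⟩] .nil .nil)) (.node 6 [⟨239,(Int.ofNat 0),1⟩] (.node 5 [⟨239,(Int.ofNat 0),1⟩] .nil .nil) (.node 7 [⟨239,(Int.ofNat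 0),1⟩] .nil .nil))) (.node 12 [⟨100,(Int.negSucc 0),1⟩] (.node 10 [⟨98,(Int.negSucc 0),1⟩] (.node 9 [⟨97,(Int.negSucc 0),1⟩] .nil .nil) (.node 11 [⟨99,(Int.negSucc 0),1⟩] .nil .nil)) (.node 15 [⟨112,(Int.ofNat 1),1⟩] (.node 14 [⟨106,(Int.ofNat 1),1⟩] .nil .nil) (.node 16 [⟨0,(Int.ofNat 2),1⟩, ⟨1,(Int.ofNat 2),1⟩, ⟨2,(Int.ofNat 3),1⟩, ⟨3,(Int.ofNat 5),1⟩, ⟨4,(Int.ofNat 4),1⟩, ⟨5,(Int.ofNat 3),1⟩, ⟨6,(Int.ofNat 2),1⟩, ⟨7,(Int.ofNat 1),1⟩, ⟨239,(Int.negSucc 0),2⟩] .nil .nil)))) (.node 31 [⟨174,(Int.negSucc 0),1⟩] (.node 21 [⟨142,(Int.ofNat 1),1⟩] (.node 19 [⟨140,(Int.ofNat 1),1⟩] (.node 18 [⟨139,(Int.negSucc 0),1⟩] .nil .nil) (.node 20 [⟨141,(Int.negSucc 0),1⟩] .nil .nil)) (.node 29 [⟨172,(Int.negSucc 0),1⟩] (.node 23 [⟨170,(Int.ofNat 1),1⟩] .nil .nil) (.node 30 [⟨173,(Int.ofNat 1),1⟩] .nil .nil))) (.node 45 [⟨183,(Int.ofNat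 1),1⟩] (.node 33 [⟨176,(Int.negSucc 0),1⟩] (.node 32 [⟨175,(Int.ofNat 1),1⟩] .nil .nil) (.node 44 [⟨182,(Int.negSucc 0),1⟩] .nil .nil)) (.node 47 [⟨185,(Int.ofNat 1),1⟩] (.node 46 [⟨184,(Int.negSucc 0),1⟩] .nil .nil) (.node 48 [⟨186,(Int.negSucc 0),1⟩] .nil .nil))))) (.node 81 [⟨224,(Int.ofNat 1),1⟩] (.node 68 [⟨206,(Int.negSucc 0),1⟩] (.node 64 [⟨202,(Int.ofNat 1),1⟩] (.node 52 [⟨190,(Int.ofNat 1),1⟩] (.node 51 [⟨189,(Int.negSucc 0),1⟩] (.node 50 [⟨188,(Int.negSucc 0),1⟩] .nil .nil) .nil) (.node 53 [⟨191,(Int.negSucc 0),1⟩] .nil .nil)) (.node 66 [⟨204,(Int.ofNat 1),1⟩] (.node 65 [⟨203,(Int.negSucc 0),1⟩] .nil .nil) (.node 67 [⟨205,(Int.ofNat 1),1⟩] .nil .nil))) (.node 72 [⟨210,(Int.negSucc 0),1⟩] (.node 70 [⟨208,(Int.negSucc 0),1⟩] (.node 69 [⟨207,(Int.ofNat 1),1⟩] .nil .nil) (.node 71 [⟨209,(Int.ofNat 1),1⟩]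 .nil .nil)) (.node 79 [⟨222,(Int.ofNat 1),1⟩] (.node 73 [⟨211,(Int.ofNat 1),1⟩] .nil .nil) (.node 80 [⟨223,(Int.negSucc 0),1⟩] .nil .nil)))) (.node 117 [⟨238,(Int.negSucc 0),1⟩] (.node 113 [⟨234,(Int.negSucc 0),1⟩] (.node 83 [⟨226,(Int.ofNat 1),1⟩] (.node 82 [⟨225,(Int.negSucc 0),1⟩] .nil .nil) (.node 85 [⟨232,(Int.negSucc 0),1⟩] .nil .nil)) (.node 115 [⟨236,(Int.negSucc 0),1⟩] (.node 114 [⟨235,(Int.ofNat 1),1⟩] .nil .nil) (.node 116 [⟨237,(Int.ofNat 1),1⟩] .nil .nil))) (.node 156 [⟨244,(Int.ofNat 1),1⟩] (.node 149 [⟨241,(Int.negSucc 0),1⟩] (.node 143 [⟨240,(Int.negSucc 0),1⟩] .nil .nil) (.node 155 [⟨243,(Int.ofNat 1),1⟩] .nil .nil)) (.node 158 [⟨246,(Int.ofNat 1),1⟩] (.node 157 [⟨245,(Int.ofNat 1),1⟩] .nil .nil) (.node 159 [⟨247,(Int.ofNat 1),1⟩] .nil .nil))))))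
noncomputable def col232 : Tr Cl := (.node 49 [⟨197,(Int.ofNat 1),1⟩] (.node 17 [⟨144,(Int.negSucc 0),1⟩] (.node 8 [⟨101,(Int.ofNat 1),1⟩] (.node 4 [⟨240,(Int.ofNat 0),1⟩] (.node 2 [⟨240,(Int.negSucc 0),1⟩] (.node 1 [⟨240,(Int.ofNat 1),1⟩] (.node 0 [⟨240,(Int.ofNat 0),1⟩] .nil .nil) .nil) (.node 3 [⟨240,(Int.ofNat 0),1⟩] .nil .nil)) (.node 6 [⟨240,(Int.ofNat 0),1⟩] (.node 5 [⟨240,(Int.ofNat 0),1⟩] .nil .nil) (.node 7 [⟨240,(Int.ofNat 0),1⟩] .nil .nil))) (.node 12 [⟨105,(Int.ofNat 1),1⟩] (.node 10 [⟨103,(Int.ofNat 1),1⟩] (.node 9 [⟨102,(Int.ofNat 1),1⟩] .nil .nil) (.node 11 [⟨104,(Int.ofNat 1),1⟩] .nil .nil)) (.node 15 [⟨0,(Int.ofNat 2),1⟩, ⟨1,(Int.ofNat 2),1⟩, ⟨2,(Int.ofNat 4),1⟩, ⟨3,(Int.ofNat 5),1⟩, ⟨4,(Int.ofNat 4),1⟩, ⟨5,(Int.ofNat 3),1⟩, ⟨6,(Int.ofNat 2),1⟩, ⟨7,(Int.ofNat 1),1⟩, ⟨240,(Int.negSucc 0),2⟩] (.node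 13 [⟨106,(Int.ofNat 1),1⟩] .nil .nil) (.node 16 [⟨143,(Int.ofNat 1),1⟩] .nil .nil)))) (.node 26 [⟨174,(Int.negSucc 0),1⟩] (.node 21 [⟨148,(Int.negSucc 0),1⟩] (.node 19 [⟨146,(Int.negSucc 0),1⟩] (.node 18 [⟨145,(Int.ofNat 1),1⟩] .nil .nil) (.node 20 [⟨147,(Int.ofNat 1),1⟩] .nil .nil)) (.node 24 [⟨172,(Int.negSucc 0),1⟩] (.node 23 [⟨171,(Int.ofNat 1),1⟩] .nil .nil) (.node 25 [⟨173,(Int.ofNat 1),1⟩] .nil .nil))) (.node 45 [⟨193,(Int.ofNat 1),1⟩] (.node 28 [⟨176,(Int.negSucc 0),1⟩] (.node 27 [⟨175,(Int.ofNat 1),1⟩] .nil .nil) (.node 44 [⟨192,(Int.negSucc 0),1⟩] .nil .nil)) (.node 47 [⟨195,(Int.ofNat 1),1⟩] (.node 46 [⟨194,(Int.negSucc 0),1⟩] .nil .nil) (.node 48 [⟨196,(Int.negSucc 0),1⟩] .nil .nil))))) (.node 81 [⟨229,(Int.ofNat 1),1⟩] (.node 58 [⟨206,(Int.negSucc 0),1⟩] (.node 54 [⟨202,(Int.ofNat 1),1⟩] (.node 52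 [⟨200,(Int.ofNat 1),1⟩] (.node 51 [⟨199,(Int.negSucc 0),1⟩] (.node 50 [⟨198,(Int.negSucc 0),1⟩] .nil .nil) .nil) (.node 53 [⟨201,(Int.negSucc 0),1⟩] .nil .nil)) (.node 56 [⟨204,(Int.ofNat 1),1⟩] (.node 55 [⟨203,(Int.negSucc 0),1⟩] .nil .nil) (.node 57 [⟨205,(Int.ofNat 1),1⟩] .nil .nil))) (.node 62 [⟨210,(Int.negSucc 0),1⟩] (.node 60 [⟨208,(Int.negSucc 0),1⟩] (.node 59 [⟨207,(Int.ofNat 1),1⟩] .nil .nil) (.node 61 [⟨209,(Int.ofNat 1),1⟩] .nil .nil)) (.node 79 [⟨227,(Int.ofNat 1),1⟩] (.node 63 [⟨211,(Int.ofNat 1),1⟩] .nil .nil) (.node 80 [⟨228,(Int.negSucc 0),1⟩] .nil .nil)))) (.node 111 [⟨238,(Int.ofNat 1),1⟩] (.node 107 [⟨234,(Int.ofNat 1),1⟩] (.node 83 [⟨231,(Int.ofNat 1),1⟩] (.node 82 [⟨230,(Int.negSucc 0),1⟩] .nil .nil) (.node 84 [⟨232,(Int.negSucc 0),1⟩] .nil .nil)) (.node 109 [⟨236,(Int.ofNat 1),1⟩] (.node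 108 [⟨235,(Int.negSucc 0),1⟩] .nil .nil) (.node 110 [⟨237,(Int.negSucc 0),1⟩] .nil .nil))) (.node 151 [⟨244,(Int.negSucc 0),1⟩] (.node 149 [⟨242,(Int.negSucc 0),1⟩] (.node 112 [⟨239,(Int.negSucc 0),1⟩] .nil .nil) (.node 150 [⟨243,(Int.negSucc 0),1⟩] .nil .nil)) (.node 153 [⟨246,(Int.negSucc 0),1⟩] (.node 152 [⟨245,(Int.negSucc 0),1⟩] .nil .nil) (.node 154 [⟨247,(Int.negSucc 0),1⟩] .nil .nil))))))
noncomputable def col233 : Tr Cl := (.node 39 [⟨187,(Int.ofNat 1),1⟩] (.node 17 [⟨150,(Int.negSucc 0),1⟩] (.node 8 [⟨107,(Int.ofNat 1),1⟩] (.node 4 [⟨241,(Int.ofNat 0),1⟩] (.node 2 [⟨241,(Int.ofNat 1),1⟩] (.node 1 [⟨241,(Int.negSucc 0),1⟩] (.node 0 [⟨241,(Int.negSucc 0),1⟩] .nil .nil) .nil) (.node 3 [⟨241,(Int.ofNat 0),1⟩] .nil .nil)) (.node 6 [⟨241,(Int.ofNat 0),1⟩] (.node 5 [⟨241,(Int.ofNat 0),1⟩] .nil .nil) (.node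 7 [⟨241,(Int.ofNat 0),1⟩] .nil .nil))) (.node 12 [⟨111,(Int.ofNat 1),1⟩] (.node 10 [⟨109,(Int.ofNat 1),1⟩] (.node 9 [⟨108,(Int.ofNat 1),1⟩] .nil .nil) (.node 11 [⟨110,(Int.ofNat 1),1⟩] .nil .nil)) (.node 14 [⟨0,(Int.ofNat 2),1⟩, ⟨1,(Int.ofNat 3),1⟩, ⟨2,(Int.ofNat 3),1⟩, ⟨3,(Int.ofNat 5),1⟩, ⟨4,(Int.ofNat 4),1⟩, ⟨5,(Int.ofNat 3),1⟩, ⟨6,(Int.ofNat 2),1⟩, ⟨7,(Int.ofNat 1),1⟩, ⟨241,(Int.negSucc 0),2⟩] (.node 13 [⟨112,(Int.ofNat 1),1⟩] .nil .nil) (.node 16 [⟨149,(Int.ofNat 1),1⟩] .nil .nil)))) (.node 31 [⟨179,(Int.negSucc 0),1⟩] (.node 21 [⟨154,(Int.negSucc 0),1⟩] (.node 19 [⟨152,(Int.negSucc 0),1⟩] (.node 18 [⟨151,(Int.ofNat 1),1⟩] .nil .nil) (.node 20 [⟨153,(Int.ofNat 1),1⟩] .nil .nil)) (.node 29 [⟨177,(Int.negSucc 0),1⟩] (.node 22 [⟨170,(Int.ofNat 1),1⟩] .nil .nil) (.node 30 [⟨178,(Int.ofNat 1),1⟩] .nil .nil)))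 (.node 35 [⟨183,(Int.ofNat 1),1⟩] (.node 33 [⟨181,(Int.negSucc 0),1⟩] (.node 32 [⟨180,(Int.ofNat 1),1⟩] .nil .nil) (.node 34 [⟨182,(Int.negSucc 0),1⟩] .nil .nil)) (.node 37 [⟨185,(Int.ofNat 1),1⟩] (.node 36 [⟨184,(Int.negSucc 0),1⟩] .nil .nil) (.node 38 [⟨186,(Int.negSucc 0),1⟩] .nil .nil))))) (.node 76 [⟨224,(Int.ofNat 1),1⟩] (.node 68 [⟨216,(Int.negSucc 0),1⟩] (.node 64 [⟨212,(Int.ofNat 1),1⟩] (.node 42 [⟨190,(Int.ofNat 1),1⟩] (.node 41 [⟨189,(Int.negSucc 0),1⟩] (.node 40 [⟨188,(Int.negSucc 0),1⟩] .nil .nil) .nil) (.node 43 [⟨191,(Int.negSucc 0),1⟩] .nil .nil)) (.node 66 [⟨214,(Int.ofNat 1),1⟩] (.node 65 [⟨213,(Int.negSucc 0),1⟩] .nil .nil) (.node 67 [⟨215,(Int.ofNat 1),1⟩] .nil .nil))) (.node 72 [⟨220,(Int.negSucc 0),1⟩] (.node 70 [⟨218,(Int.negSucc 0),1⟩] (.node 69 [⟨217,(Int.ofNat 1),1⟩] .nil .nil) (.node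 71 [⟨219,(Int.ofNat 1),1⟩] .nil .nil)) (.node 74 [⟨222,(Int.ofNat 1),1⟩] (.node 73 [⟨221,(Int.ofNat 1),1⟩] .nil .nil) (.node 75 [⟨223,(Int.negSucc 0),1⟩] .nil .nil)))) (.node 105 [⟨238,(Int.ofNat 1),1⟩] (.node 101 [⟨234,(Int.ofNat 1),1⟩] (.node 78 [⟨226,(Int.ofNat 1),1⟩] (.node 77 [⟨225,(Int.negSucc 0),1⟩] .nil .nil) (.node 85 [⟨233,(Int.negSucc 0),1⟩] .nil .nil)) (.node 103 [⟨236,(Int.ofNat 1),1⟩] (.node 102 [⟨235,(Int.negSucc 0),1⟩] .nil .nil) (.node 104 [⟨237,(Int.negSucc 0),1⟩] .nil .nil))) (.node 145 [⟨244,(Int.negSucc 0),1⟩] (.node 143 [⟨242,(Int.negSucc 0),1⟩] (.node 106 [⟨239,(Int.negSucc 0),1⟩] .nil .nil) (.node 144 [⟨243,(Int.negSucc 0),1⟩] .nil .nil)) (.node 147 [⟨246,(Int.negSucc 0),1⟩] (.node 146 [⟨245,(Int.negSucc 0),1⟩] .nil .nil) (.node 148 [⟨247,(Int.negSucc 0),1⟩] .nil .nil))))))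
noncomputable def col234 : Tr Cl := (.node 39 [⟨197,(Int.ofNat 1),1⟩] (.node 17 [⟨155,(Int.negSucc 0),1⟩] (.node 8 [⟨113,(Int.ofNat 1),1⟩] (.node 4 [⟨242,(Int.ofNat 0),1⟩] (.node 2 [⟨242,(Int.negSucc 0),1⟩] (.node 1 [⟨242,(Int.negSucc 0),1⟩] (.node 0 [⟨242,(Int.ofNat 0),1⟩] .nil .nil) .nil) (.node 3 [⟨242,(Int.ofNat 1),1⟩] .nil .nil)) (.node 6 [⟨242,(Int.ofNat 0),1⟩] (.node 5 [⟨242,(Int.ofNat 0),1⟩] .nil .nil) (.node 7 [⟨242,(Int.ofNat 0),1⟩] .nil .nil))) (.node 12 [⟨117,(Int.ofNat 1),1⟩] (.node 10 [⟨115,(Int.ofNat 1),1⟩] (.node 9 [⟨114,(Int.ofNat 1),1⟩] .nil .nil) (.node 11 [⟨116,(Int.ofNat 1),1⟩] .nil .nil)) (.node 14 [⟨143,(Int.ofNat 1),1⟩] (.node 13 [⟨0,(Int.ofNat 2),1⟩, ⟨1,(Int.ofNat 3),1⟩, ⟨2,(Int.ofNat 4),1⟩, ⟨3,(Int.ofNat 5),1⟩, ⟨4,(Int.ofNat 4),1⟩, ⟨5,(Int.ofNat 3),1⟩, ⟨6,(Int.ofNat 2),1⟩, ⟨7,(Int.ofNat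 1),1⟩, ⟨242,(Int.negSucc 0),2⟩] .nil .nil) (.node 15 [⟨149,(Int.ofNat 1),1⟩] .nil .nil)))) (.node 26 [⟨179,(Int.negSucc 0),1⟩] (.node 21 [⟨159,(Int.negSucc 0),1⟩] (.node 19 [⟨157,(Int.negSucc 0),1⟩] (.node 18 [⟨156,(Int.ofNat 1),1⟩] .nil .nil) (.node 20 [⟨158,(Int.ofNat 1),1⟩] .nil .nil)) (.node 24 [⟨177,(Int.negSucc 0),1⟩] (.node 22 [⟨171,(Int.ofNat 1),1⟩] .nil .nil) (.node 25 [⟨178,(Int.ofNat 1),1⟩] .nil .nil))) (.node 35 [⟨193,(Int.ofNat 1),1⟩] (.node 28 [⟨181,(Int.negSucc 0),1⟩] (.node 27 [⟨180,(Int.ofNat 1),1⟩] .nil .nil) (.node 34 [⟨192,(Int.negSucc 0),1⟩] .nil .nil)) (.node 37 [⟨195,(Int.ofNat 1),1⟩] (.node 36 [⟨194,(Int.negSucc 0),1⟩] .nil .nil) (.node 38 [⟨196,(Int.negSucc 0),1⟩] .nil .nil))))) (.node 76 [⟨229,(Int.ofNat 1),1⟩] (.node 58 [⟨216,(Int.negSucc 0),1⟩] (.node 54 [⟨212,(Int.ofNat 1),1⟩] (.node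 42 [⟨200,(Int.ofNat 1),1⟩] (.node 41 [⟨199,(Int.negSucc 0),1⟩] (.node 40 [⟨198,(Int.negSucc 0),1⟩] .nil .nil) .nil) (.node 43 [⟨201,(Int.negSucc 0),1⟩] .nil .nil)) (.node 56 [⟨214,(Int.ofNat 1),1⟩] (.node 55 [⟨213,(Int.negSucc 0),1⟩] .nil .nil) (.node 57 [⟨215,(Int.ofNat 1),1⟩] .nil .nil))) (.node 62 [⟨220,(Int.negSucc 0),1⟩] (.node 60 [⟨218,(Int.negSucc 0),1⟩] (.node 59 [⟨217,(Int.ofNat 1),1⟩] .nil .nil) (.node 61 [⟨219,(Int.ofNat 1),1⟩] .nil .nil)) (.node 74 [⟨227,(Int.ofNat 1),1⟩] (.node 63 [⟨221,(Int.ofNat 1),1⟩] .nil .nil) (.node 75 [⟨228,(Int.negSucc 0),1⟩] .nil .nil)))) (.node 100 [⟨238,(Int.ofNat 1),1⟩] (.node 96 [⟨234,(Int.ofNat 1),1⟩] (.node 78 [⟨231,(Int.ofNat 1),1⟩] (.node 77 [⟨230,(Int.negSucc 0),1⟩] .nil .nil) (.node 84 [⟨233,(Int.negSucc 0),1⟩] .nil .nil)) (.node 98 [⟨236,(Int.ofNat 1),1⟩] (.node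 97 [⟨235,(Int.negSucc 0),1⟩] .nil .nil) (.node 99 [⟨237,(Int.negSucc 0),1⟩] .nil .nil))) (.node 139 [⟨244,(Int.negSucc 0),1⟩] (.node 112 [⟨241,(Int.negSucc 0),1⟩] (.node 106 [⟨240,(Int.negSucc 0),1⟩] .nil .nil) (.node 138 [⟨243,(Int.negSucc 0),1⟩] .nil .nil)) (.node 141 [⟨246,(Int.negSucc 0),1⟩] (.node 140 [⟨245,(Int.negSucc 0),1⟩] .nil .nil) (.node 142 [⟨247,(Int.negSucc 0),1⟩] .nil .nil))))))
noncomputable def col235 : Tr Cl := (.node 39 [⟨203,(Int.ofNat 1),1⟩] (.node 16 [⟨155,(Int.negSucc 0),1⟩] (.node 8 [⟨118,(Int.ofNat 1),1⟩] (.node 4 [⟨243,(Int.ofNat 1),1⟩] (.node 2 [⟨243,(Int.ofNat 0),1⟩] (.node 1 [⟨243,(Int.ofNat 0),1⟩] (.node 0 [⟨243,(Int.ofNat 0),1⟩] .nil .nil) .nil) (.node 3 [⟨243,(Int.negSucc 0),1⟩] .nil .nil)) (.node 6 [⟨243,(Int.ofNat 0),1⟩] (.node 5 [⟨243,(Int.ofNat 0),1⟩] .nil .nil) (.node 7 [⟨243,(Int.ofNat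 0),1⟩] .nil .nil))) (.node 12 [⟨0,(Int.ofNat 2),1⟩, ⟨1,(Int.ofNat 3),1⟩, ⟨2,(Int.ofNat 4),1⟩, ⟨3,(Int.ofNat 6),1⟩, ⟨4,(Int.ofNat 4),1⟩, ⟨5,(Int.ofNat 3),1⟩, ⟨6,(Int.ofNat 2),1⟩, ⟨7,(Int.ofNat 1),1⟩, ⟨243,(Int.negSucc 0),2⟩] (.node 10 [⟨120,(Int.ofNat 1),1⟩] (.node 9 [⟨119,(Int.ofNat 1),1⟩] .nil .nil) (.node 11 [⟨121,(Int.ofNat 1),1⟩] .nil .nil)) (.node 14 [⟨144,(Int.ofNat 1),1⟩] (.node 13 [⟨138,(Int.ofNat 1),1⟩] .nil .nil) (.node 15 [⟨150,(Int.ofNat 1),1⟩] .nil .nil)))) (.node 26 [⟨183,(Int.negSucc 0),1⟩] (.node 21 [⟨163,(Int.negSucc 0),1⟩] (.node 19 [⟨161,(Int.negSucc 0),1⟩] (.node 18 [⟨160,(Int.ofNat 1),1⟩] .nil .nil) (.node 20 [⟨162,(Int.ofNat 1),1⟩] .nil .nil)) (.node 23 [⟨177,(Int.negSucc 0),1⟩] (.node 22 [⟨172,(Int.ofNat 1),1⟩] .nil .nil) (.node 25 [⟨182,(Int.ofNat 1),1⟩] .nil .nil))) (.node 31 [⟨193,(Int.ofNat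 1),1⟩] (.node 28 [⟨185,(Int.negSucc 0),1⟩] (.node 27 [⟨184,(Int.ofNat 1),1⟩] .nil .nil) (.node 30 [⟨192,(Int.negSucc 0),1⟩] .nil .nil)) (.node 33 [⟨195,(Int.ofNat 1),1⟩] (.node 32 [⟨194,(Int.negSucc 0),1⟩] .nil .nil) (.node 38 [⟨202,(Int.negSucc 0),1⟩] .nil .nil))))) (.node 72 [⟨229,(Int.ofNat 1),1⟩] (.node 52 [⟨216,(Int.negSucc 0),1⟩] (.node 48 [⟨212,(Int.ofNat 1),1⟩] (.node 42 [⟨206,(Int.ofNat 1),1⟩] (.node 41 [⟨205,(Int.negSucc 0),1⟩] (.node 40 [⟨204,(Int.negSucc 0),1⟩] .nil .nil) .nil) (.node 43 [⟨207,(Int.negSucc 0),1⟩] .nil .nil)) (.node 50 [⟨214,(Int.ofNat 1),1⟩] (.node 49 [⟨213,(Int.negSucc 0),1⟩] .nil .nil) (.node 51 [⟨215,(Int.ofNat 1),1⟩] .nil .nil))) (.node 62 [⟨224,(Int.negSucc 0),1⟩] (.node 60 [⟨222,(Int.negSucc 0),1⟩] (.node 53 [⟨217,(Int.ofNat 1),1⟩] .nil .nil) (.node 61 [⟨223,(Int.ofNat 1),1⟩]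 .nil .nil)) (.node 70 [⟨227,(Int.ofNat 1),1⟩] (.node 63 [⟨225,(Int.ofNat 1),1⟩] .nil .nil) (.node 71 [⟨228,(Int.negSucc 0),1⟩] .nil .nil)))) (.node 100 [⟨239,(Int.ofNat 1),1⟩] (.node 92 [⟨234,(Int.ofNat 1),1⟩] (.node 78 [⟨232,(Int.ofNat 1),1⟩] (.node 73 [⟨230,(Int.negSucc 0),1⟩] .nil .nil) (.node 83 [⟨233,(Int.negSucc 0),1⟩] .nil .nil)) (.node 94 [⟨236,(Int.ofNat 1),1⟩] (.node 93 [⟨235,(Int.negSucc 0),1⟩] .nil .nil) (.node 95 [⟨237,(Int.negSucc 0),1⟩] .nil .nil))) (.node 134 [⟨244,(Int.negSucc 0),1⟩] (.node 111 [⟨241,(Int.negSucc 0),1⟩] (.node 105 [⟨240,(Int.negSucc 0),1⟩] .nil .nil) (.node 117 [⟨242,(Int.negSucc 0),1⟩] .nil .nil)) (.node 136 [⟨246,(Int.negSucc 0),1⟩] (.node 135 [⟨245,(Int.negSucc 0),1⟩] .nil .nil) (.node 137 [⟨247,(Int.negSucc 0),1⟩] .nil .nil))))))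
noncomputable def col236 : Tr Cl := (.node 36 [⟨203,(Int.ofNat 1),1⟩] (.node 16 [⟨156,(Int.negSucc 0),1⟩] (.node 8 [⟨122,(Int.ofNat 1),1⟩] (.node 4 [⟨244,(Int.negSucc 0),1⟩] (.node 2 [⟨244,(Int.ofNat 0),1⟩] (.node 1 [⟨244,(Int.ofNat 0),1⟩] (.node 0 [⟨244,(Int.ofNat 0),1⟩] .nil .nil) .nil) (.node 3 [⟨244,(Int.ofNat 0),1⟩] .nil .nil)) (.node 6 [⟨244,(Int.ofNat 0),1⟩] (.node 5 [⟨244,(Int.ofNat 1),1⟩] .nil .nil) (.node 7 [⟨244,(Int.ofNat 0),1⟩] .nil .nil))) (.node 12 [⟨134,(Int.ofNat 1),1⟩] (.node 10 [⟨124,(Int.ofNat 1),1⟩] (.node 9 [⟨123,(Int.ofNat 1),1⟩] .nil .nil) (.node 11 [⟨0,(Int.ofNat 2),1⟩, ⟨1,(Int.ofNat 3),1⟩, ⟨2,(Int.ofNat 4),1⟩, ⟨3,(Int.ofNat 6),1⟩, ⟨4,(Int.ofNat 5),1⟩, ⟨5,(Int.ofNat 3),1⟩, ⟨6,(Int.ofNat 2),1⟩, ⟨7,(Int.ofNat 1),1⟩, ⟨244,(Int.negSucc 0),2⟩] .nil .nil)) (.node 14 [⟨145,(Int.ofNat 1),1⟩] (.node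 13 [⟨139,(Int.ofNat 1),1⟩] .nil .nil) (.node 15 [⟨151,(Int.ofNat 1),1⟩] .nil .nil)))) (.node 26 [⟨186,(Int.negSucc 0),1⟩] (.node 21 [⟨166,(Int.negSucc 0),1⟩] (.node 19 [⟨164,(Int.negSucc 0),1⟩] (.node 17 [⟨160,(Int.ofNat 1),1⟩] .nil .nil) (.node 20 [⟨165,(Int.ofNat 1),1⟩] .nil .nil)) (.node 23 [⟨178,(Int.negSucc 0),1⟩] (.node 22 [⟨173,(Int.ofNat 1),1⟩] .nil .nil) (.node 24 [⟨182,(Int.ofNat 1),1⟩] .nil .nil))) (.node 31 [⟨196,(Int.ofNat 1),1⟩] (.node 28 [⟨188,(Int.negSucc 0),1⟩] (.node 27 [⟨187,(Int.ofNat 1),1⟩] .nil .nil) (.node 29 [⟨192,(Int.negSucc 0),1⟩] .nil .nil)) (.node 33 [⟨198,(Int.ofNat 1),1⟩] (.node 32 [⟨197,(Int.negSucc 0),1⟩] .nil .nil) (.node 35 [⟨202,(Int.negSucc 0),1⟩] .nil .nil))))) (.node 69 [⟨229,(Int.ofNat 1),1⟩] (.node 52 [⟨219,(Int.negSucc 0),1⟩] (.node 45 [⟨212,(Int.ofNat 1),1⟩] (.node 42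 [⟨209,(Int.ofNat 1),1⟩] (.node 41 [⟨208,(Int.negSucc 0),1⟩] (.node 37 [⟨204,(Int.negSucc 0),1⟩] .nil .nil) .nil) (.node 43 [⟨210,(Int.negSucc 0),1⟩] .nil .nil)) (.node 47 [⟨214,(Int.ofNat 1),1⟩] (.node 46 [⟨213,(Int.negSucc 0),1⟩] .nil .nil) (.node 51 [⟨218,(Int.ofNat 1),1⟩] .nil .nil))) (.node 59 [⟨224,(Int.negSucc 0),1⟩] (.node 57 [⟨222,(Int.negSucc 0),1⟩] (.node 53 [⟨220,(Int.ofNat 1),1⟩] .nil .nil) (.node 58 [⟨223,(Int.ofNat 1),1⟩] .nil .nil)) (.node 67 [⟨227,(Int.ofNat 1),1⟩] (.node 63 [⟨226,(Int.ofNat 1),1⟩] .nil .nil) (.node 68 [⟨228,(Int.negSucc 0),1⟩] .nil .nil)))) (.node 99 [⟨239,(Int.ofNat 1),1⟩] (.node 89 [⟨234,(Int.ofNat 1),1⟩] (.node 77 [⟨232,(Int.ofNat 1),1⟩] (.node 73 [⟨231,(Int.negSucc 0),1⟩] .nil .nil) (.node 82 [⟨233,(Int.negSucc 0),1⟩] .nil .nil)) (.node 91 [⟨236,(Int.ofNat 1),1⟩] (.node 90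 [⟨235,(Int.negSucc 0),1⟩] .nil .nil) (.node 95 [⟨238,(Int.negSucc 0),1⟩] .nil .nil))) (.node 121 [⟨243,(Int.negSucc 0),1⟩] (.node 110 [⟨241,(Int.negSucc 0),1⟩] (.node 104 [⟨240,(Int.negSucc 0),1⟩] .nil .nil) (.node 116 [⟨242,(Int.negSucc 0),1⟩] .nil .nil)) (.node 132 [⟨246,(Int.negSucc 0),1⟩] (.node 131 [⟨245,(Int.negSucc 0),1⟩] .nil .nil) (.node 133 [⟨247,(Int.negSucc 0),1⟩] .nil .nil))))))
noncomputable def col237 : Tr Cl := (.node 36 [⟨205,(Int.ofNat 1),1⟩] (.node 16 [⟨157,(Int.negSucc 0),1⟩] (.node 8 [⟨125,(Int.ofNat 1),1⟩] (.node 4 [⟨245,(Int.ofNat 0),1⟩] (.node 2 [⟨245,(Int.ofNat 0),1⟩] (.node 1 [⟨245,(Int.ofNat 0),1⟩] (.node 0 [⟨245,(Int.ofNat 0),1⟩] .nil .nil) .nil) (.node 3 [⟨245,(Int.ofNat 0),1⟩] .nil .nil)) (.node 6 [⟨245,(Int.ofNat 1),1⟩] (.node 5 [⟨245,(Int.negSucc 0),1⟩] .nil .nil) (.node 7 [⟨245,(Int.ofNat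 0),1⟩] .nil .nil))) (.node 12 [⟨135,(Int.ofNat 1),1⟩] (.node 10 [⟨0,(Int.ofNat 2),1⟩, ⟨1,(Int.ofNat 3),1⟩, ⟨2,(Int.ofNat 4),1⟩, ⟨3,(Int.ofNat 6),1⟩, ⟨4,(Int.ofNat 5),1⟩, ⟨5,(Int.ofNat 4),1⟩, ⟨6,(Int.ofNat 2),1⟩, ⟨7,(Int.ofNat 1),1⟩, ⟨245,(Int.negSucc 0),2⟩] (.node 9 [⟨126,(Int.ofNat 1),1⟩] .nil .nil) (.node 11 [⟨131,(Int.ofNat 1),1⟩] .nil .nil)) (.node 14 [⟨146,(Int.ofNat 1),1⟩] (.node 13 [⟨140,(Int.ofNat 1),1⟩] .nil .nil) (.node 15 [⟨152,(Int.ofNat 1),1⟩] .nil .nil)))) (.node 25 [⟨186,(Int.negSucc 0),1⟩] (.node 21 [⟨168,(Int.negSucc 0),1⟩] (.node 18 [⟨164,(Int.negSucc 0),1⟩] (.node 17 [⟨161,(Int.ofNat 1),1⟩] .nil .nil) (.node 20 [⟨167,(Int.ofNat 1),1⟩] .nil .nil)) (.node 23 [⟨179,(Int.negSucc 0),1⟩] (.node 22 [⟨174,(Int.ofNat 1),1⟩] .nil .nil) (.node 24 [⟨183,(Int.ofNat 1),1⟩] .nil .nil))) (.node 30 [⟨196,(Int.ofNat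 1),1⟩] (.node 28 [⟨190,(Int.negSucc 0),1⟩] (.node 27 [⟨189,(Int.ofNat 1),1⟩] .nil .nil) (.node 29 [⟨193,(Int.negSucc 0),1⟩] .nil .nil)) (.node 33 [⟨200,(Int.ofNat 1),1⟩] (.node 32 [⟨199,(Int.negSucc 0),1⟩] .nil .nil) (.node 34 [⟨202,(Int.negSucc 0),1⟩] .nil .nil))))) (.node 69 [⟨230,(Int.ofNat 1),1⟩] (.node 50 [⟨219,(Int.negSucc 0),1⟩] (.node 44 [⟨212,(Int.ofNat 1),1⟩] (.node 40 [⟨209,(Int.ofNat 1),1⟩] (.node 39 [⟨208,(Int.negSucc 0),1⟩] (.node 37 [⟨206,(Int.negSucc 0),1⟩] .nil .nil) .nil) (.node 43 [⟨211,(Int.negSucc 0),1⟩] .nil .nil)) (.node 47 [⟨216,(Int.ofNat 1),1⟩] (.node 46 [⟨215,(Int.negSucc 0),1⟩] .nil .nil) (.node 49 [⟨218,(Int.ofNat 1),1⟩] .nil .nil))) (.node 59 [⟨225,(Int.negSucc 0),1⟩] (.node 55 [⟨222,(Int.negSucc 0),1⟩] (.node 53 [⟨221,(Int.ofNat 1),1⟩] .nil .nil) (.node 56 [⟨223,(Int.ofNat 1),1⟩]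 .nil .nil)) (.node 65 [⟨227,(Int.ofNat 1),1⟩] (.node 62 [⟨226,(Int.ofNat 1),1⟩] .nil .nil) (.node 66 [⟨228,(Int.negSucc 0),1⟩] .nil .nil)))) (.node 98 [⟨239,(Int.ofNat 1),1⟩] (.node 87 [⟨234,(Int.ofNat 1),1⟩] (.node 76 [⟨232,(Int.ofNat 1),1⟩] (.node 72 [⟨231,(Int.negSucc 0),1⟩] .nil .nil) (.node 81 [⟨233,(Int.negSucc 0),1⟩] .nil .nil)) (.node 91 [⟨237,(Int.ofNat 1),1⟩] (.node 88 [⟨235,(Int.negSucc 0),1⟩] .nil .nil) (.node 94 [⟨238,(Int.negSucc 0),1⟩] .nil .nil))) (.node 120 [⟨243,(Int.negSucc 0),1⟩] (.node 109 [⟨241,(Int.negSucc 0),1⟩] (.node 103 [⟨240,(Int.negSucc 0),1⟩] .nil .nil) (.node 115 [⟨242,(Int.negSucc 0),1⟩] .nil .nil)) (.node 129 [⟨246,(Int.negSucc 0),1⟩] (.node 124 [⟨244,(Int.negSucc 0),1⟩] .nil .nil) (.node 130 [⟨247,(Int.negSucc 0),1⟩] .nil .nil))))))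
noncomputable def col238 : Tr Cl := (.node 35 [⟨205,(Int.ofNat 1),1⟩] (.node 16 [⟨158,(Int.negSucc 0),1⟩] (.node 8 [⟨127,(Int.ofNat 1),1⟩] (.node 4 [⟨246,(Int.ofNat 0),1⟩] (.node 2 [⟨246,(Int.ofNat 0),1⟩] (.node 1 [⟨246,(Int.ofNat 0),1⟩] (.node 0 [⟨246,(Int.ofNat 0),1⟩] .nil .nil) .nil) (.node 3 [⟨246,(Int.ofNat 0),1⟩] .nil .nil)) (.node 6 [⟨246,(Int.negSucc 0),1⟩] (.node 5 [⟨246,(Int.ofNat 0),1⟩] .nil .nil) (.node 7 [⟨246,(Int.ofNat 1),1⟩] .nil .nil))) (.node 12 [⟨136,(Int.ofNat 1),1⟩] (.node 10 [⟨129,(Int.ofNat 1),1⟩] (.node 9 [⟨0,(Int.ofNat 2),1⟩, ⟨1,(Int.ofNat 3),1⟩, ⟨2,(Int.ofNat 4),1⟩, ⟨3,(Int.ofNat 6),1⟩, ⟨4,(Int.ofNat 5),1⟩, ⟨5,(Int.ofNat 4),1⟩, ⟨6,(Int.ofNat 3),1⟩, ⟨7,(Int.ofNat 1),1⟩, ⟨246,(Int.negSucc 0),2⟩] .nil .nil) (.node 11 [⟨132,(Int.ofNat 1),1⟩] .nil .nil)) (.node 14 [⟨147,(Int.ofNat 1),1⟩] (.node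 13 [⟨141,(Int.ofNat 1),1⟩] .nil .nil) (.node 15 [⟨153,(Int.ofNat 1),1⟩] .nil .nil)))) (.node 25 [⟨187,(Int.negSucc 0),1⟩] (.node 21 [⟨169,(Int.negSucc 0),1⟩] (.node 18 [⟨165,(Int.negSucc 0),1⟩] (.node 17 [⟨162,(Int.ofNat 1),1⟩] .nil .nil) (.node 19 [⟨167,(Int.ofNat 1),1⟩] .nil .nil)) (.node 23 [⟨180,(Int.negSucc 0),1⟩] (.node 22 [⟨175,(Int.ofNat 1),1⟩] .nil .nil) (.node 24 [⟨184,(Int.ofNat 1),1⟩] .nil .nil))) (.node 30 [⟨197,(Int.ofNat 1),1⟩] (.node 28 [⟨191,(Int.negSucc 0),1⟩] (.node 26 [⟨189,(Int.ofNat 1),1⟩] .nil .nil) (.node 29 [⟨194,(Int.negSucc 0),1⟩] .nil .nil)) (.node 33 [⟨201,(Int.ofNat 1),1⟩] (.node 31 [⟨199,(Int.negSucc 0),1⟩] .nil .nil) (.node 34 [⟨203,(Int.negSucc 0),1⟩] .nil .nil))))) (.node 68 [⟨230,(Int.ofNat 1),1⟩] (.node 50 [⟨220,(Int.negSucc 0),1⟩] (.node 44 [⟨213,(Int.ofNat 1),1⟩] (.node 40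 [⟨210,(Int.ofNat 1),1⟩] (.node 38 [⟨208,(Int.negSucc 0),1⟩] (.node 37 [⟨207,(Int.negSucc 0),1⟩] .nil .nil) .nil) (.node 42 [⟨211,(Int.negSucc 0),1⟩] .nil .nil)) (.node 47 [⟨217,(Int.ofNat 1),1⟩] (.node 45 [⟨215,(Int.negSucc 0),1⟩] .nil .nil) (.node 48 [⟨218,(Int.ofNat 1),1⟩] .nil .nil))) (.node 58 [⟨225,(Int.negSucc 0),1⟩] (.node 54 [⟨222,(Int.negSucc 0),1⟩] (.node 52 [⟨221,(Int.ofNat 1),1⟩] .nil .nil) (.node 56 [⟨224,(Int.ofNat 1),1⟩] .nil .nil)) (.node 64 [⟨227,(Int.ofNat 1),1⟩] (.node 61 [⟨226,(Int.ofNat 1),1⟩] .nil .nil) (.node 66 [⟨229,(Int.negSucc 0),1⟩] .nil .nil)))) (.node 97 [⟨239,(Int.ofNat 1),1⟩] (.node 86 [⟨234,(Int.ofNat 1),1⟩] (.node 75 [⟨232,(Int.ofNat 1),1⟩] (.node 71 [⟨231,(Int.negSucc 0),1⟩] .nil .nil) (.node 80 [⟨233,(Int.negSucc 0),1⟩] .nil .nil)) (.node 90 [⟨237,(Int.ofNat 1),1⟩] (.node 88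 [⟨236,(Int.negSucc 0),1⟩] .nil .nil) (.node 93 [⟨238,(Int.negSucc 0),1⟩] .nil .nil))) (.node 119 [⟨243,(Int.negSucc 0),1⟩] (.node 108 [⟨241,(Int.negSucc 0),1⟩] (.node 102 [⟨240,(Int.negSucc 0),1⟩] .nil .nil) (.node 114 [⟨242,(Int.negSucc 0),1⟩] .nil .nil)) (.node 126 [⟨245,(Int.negSucc 0),1⟩] (.node 123 [⟨244,(Int.negSucc 0),1⟩] .nil .nil) (.node 128 [⟨247,(Int.negSucc 0),1⟩] .nil .nil))))))
noncomputable def col239 : Tr Cl := (.node 35 [⟨206,(Int.ofNat 1),1⟩] (.node 16 [⟨159,(Int.negSucc 0),1⟩] (.node 8 [⟨0,(Int.ofNat 2),1⟩, ⟨1,(Int.ofNat 3),1⟩, ⟨2,(Int.ofNat 4),1⟩, ⟨3,(Int.ofNat 6),1⟩, ⟨4,(Int.ofNat 5),1⟩, ⟨5,(Int.ofNat 4),1⟩, ⟨6,(Int.ofNat 3),1⟩, ⟨7,(Int.ofNat 2),1⟩, ⟨247,(Int.negSucc 0),2⟩] (.node 4 [⟨247,(Int.ofNat 0),1⟩] (.node 2 [⟨247,(Int.ofNat 0),1⟩] (.node 1 [⟨247,(Int.ofNat 0),1⟩] (.node 0 [⟨247,(Int.ofNat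 0),1⟩] .nil .nil) .nil) (.node 3 [⟨247,(Int.ofNat 0),1⟩] .nil .nil)) (.node 6 [⟨247,(Int.ofNat 0),1⟩] (.node 5 [⟨247,(Int.ofNat 0),1⟩] .nil .nil) (.node 7 [⟨247,(Int.negSucc 0),1⟩] .nil .nil))) (.node 12 [⟨137,(Int.ofNat 1),1⟩] (.node 10 [⟨130,(Int.ofNat 1),1⟩] (.node 9 [⟨128,(Int.ofNat 1),1⟩] .nil .nil) (.node 11 [⟨133,(Int.ofNat 1),1⟩] .nil .nil)) (.node 14 [⟨148,(Int.ofNat 1),1⟩] (.node 13 [⟨142,(Int.ofNat 1),1⟩] .nil .nil) (.node 15 [⟨154,(Int.ofNat 1),1⟩] .nil .nil)))) (.node 25 [⟨188,(Int.negSucc 0),1⟩] (.node 20 [⟨169,(Int.negSucc 0),1⟩] (.node 18 [⟨166,(Int.negSucc 0),1⟩] (.node 17 [⟨163,(Int.ofNat 1),1⟩] .nil .nil) (.node 19 [⟨168,(Int.ofNat 1),1⟩] .nil .nil)) (.node 23 [⟨181,(Int.negSucc 0),1⟩] (.node 22 [⟨176,(Int.ofNat 1),1⟩] .nil .nil) (.node 24 [⟨185,(Int.ofNat 1),1⟩] .nil .nil))) (.node 30 [⟨198,(Int.ofNat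 1),1⟩] (.node 27 [⟨191,(Int.negSucc 0),1⟩] (.node 26 [⟨190,(Int.ofNat 1),1⟩] .nil .nil) (.node 29 [⟨195,(Int.negSucc 0),1⟩] .nil .nil)) (.node 32 [⟨201,(Int.ofNat 1),1⟩] (.node 31 [⟨200,(Int.negSucc 0),1⟩] .nil .nil) (.node 34 [⟨204,(Int.negSucc 0),1⟩] .nil .nil))))) (.node 67 [⟨230,(Int.ofNat 1),1⟩] (.node 49 [⟨220,(Int.negSucc 0),1⟩] (.node 44 [⟨214,(Int.ofNat 1),1⟩] (.node 39 [⟨210,(Int.ofNat 1),1⟩] (.node 38 [⟨209,(Int.negSucc 0),1⟩] (.node 36 [⟨207,(Int.negSucc 0),1⟩] .nil .nil) .nil) (.node 41 [⟨211,(Int.negSucc 0),1⟩] .nil .nil)) (.node 46 [⟨217,(Int.ofNat 1),1⟩] (.node 45 [⟨216,(Int.negSucc 0),1⟩] .nil .nil) (.node 48 [⟨219,(Int.ofNat 1),1⟩] .nil .nil))) (.node 57 [⟨225,(Int.negSucc 0),1⟩] (.node 54 [⟨223,(Int.negSucc 0),1⟩] (.node 51 [⟨221,(Int.ofNat 1),1⟩] .nil .nil) (.node 55 [⟨224,(Int.ofNat 1),1⟩]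 .nil .nil)) (.node 64 [⟨228,(Int.ofNat 1),1⟩] (.node 60 [⟨226,(Int.ofNat 1),1⟩] .nil .nil) (.node 65 [⟨229,(Int.negSucc 0),1⟩] .nil .nil)))) (.node 96 [⟨239,(Int.ofNat 1),1⟩] (.node 86 [⟨235,(Int.ofNat 1),1⟩] (.node 74 [⟨232,(Int.ofNat 1),1⟩] (.node 70 [⟨231,(Int.negSucc 0),1⟩] .nil .nil) (.node 79 [⟨233,(Int.negSucc 0),1⟩] .nil .nil)) (.node 89 [⟨237,(Int.ofNat 1),1⟩] (.node 87 [⟨236,(Int.negSucc 0),1⟩] .nil .nil) (.node 92 [⟨238,(Int.negSucc 0),1⟩] .nil .nil))) (.node 118 [⟨243,(Int.negSucc 0),1⟩] (.node 107 [⟨241,(Int.negSucc 0),1⟩] (.node 101 [⟨240,(Int.negSucc 0),1⟩] .nil .nil) (.node 113 [⟨242,(Int.negSucc 0),1⟩] .nil .nil)) (.node 125 [⟨245,(Int.negSucc 0),1⟩] (.node 122 [⟨244,(Int.negSucc 0),1⟩] .nil .nil) (.node 127 [⟨246,(Int.negSucc 0),1⟩] .nil .nil))))))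
noncomputable def cols : Tr (Tr Cl) := (.node 120 col120 (.node 60 col60 (.node 30 col30 (.node 15 col15 (.node 7 col7 (.node 3 col3 (.node 1 col1 (.node 0 col0 .nil .nil) (.node 2 col2 .nil .nil)) (.node 5 col5 (.node 4 col4 .nil .nil) (.node 6 col6 .nil .nil))) (.node 11 col11 (.node 9 col9 (.node 8 col8 .nil .nil) (.node 10 col10 .nil .nil)) (.node 13 col13 (.node 12 col12 .nil .nil) (.node 14 col14 .nil .nil)))) (.node 23 col23 (.node 19 col19 (.node 17 col17 (.node 16 col16 .nil .nil) (.node 18 col18 .nil .nil)) (.node 21 col21 (.node 20 col20 .nil .nil) (.node 22 col22 .nil .nil))) (.node 27 col27 (.node 25 col25 (.node 24 col24 .nil .nil) (.node 26 col26 .nil .nil)) (.node 29 col29 (.node 28 col28 .nil .nil) .nil)))) (.node 45 col45 (.node 38 col38 (.node 34 col34 (.node 32 col32 (.node 31 col31 .nil .nil)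 (.node 33 col33 .nil .nil)) (.node 36 col36 (.node 35 col35 .nil .nil) (.node 37 col37 .nil .nil))) (.node 42 col42 (.node 40 col40 (.node 39 col39 .nil .nil) (.node 41 col41 .nil .nil)) (.node 44 col44 (.node 43 col43 .nil .nil) .nil))) (.node 53 col53 (.node 49 col49 (.node 47 col47 (.node 46 col46 .nil .nil) (.node 48 col48 .nil .nil)) (.node 51 col51 (.node 50 col50 .nil .nil) (.node 52 col52 .nil .nil))) (.node 57 col57 (.node 55 col55 (.node 54 col54 .nil .nil) (.node 56 col56 .nil .nil)) (.node 59 col59 (.node 58 col58 .nil .nil) .nil))))) (.node 90 col90 (.node 75 col75 (.node 68 col68 (.node 64 col64 (.node 62 col62 (.node 61 col61 .nil .nil) (.node 63 col63 .nil .nil)) (.node 66 col66 (.node 65 col65 .nil .nil) (.node 67 col67 .nil .nil))) (.node 72 col72 (.node 70 col70 (.node 69 col69 .nil .nil) (.node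 71 col71 .nil .nil)) (.node 74 col74 (.node 73 col73 .nil .nil) .nil))) (.node 83 col83 (.node 79 col79 (.node 77 col77 (.node 76 col76 .nil .nil) (.node 78 col78 .nil .nil)) (.node 81 col81 (.node 80 col80 .nil .nil) (.node 82 col82 .nil .nil))) (.node 87 col87 (.node 85 col85 (.node 84 col84 .nil .nil) (.node 86 col86 .nil .nil)) (.node 89 col89 (.node 88 col88 .nil .nil) .nil)))) (.node 105 col105 (.node 98 col98 (.node 94 col94 (.node 92 col92 (.node 91 col91 .nil .nil) (.node 93 col93 .nil .nil)) (.node 96 col96 (.node 95 col95 .nil .nil) (.node 97 col97 .nil .nil))) (.node 102 col102 (.node 100 col100 (.node 99 col99 .nil .nil) (.node 101 col101 .nil .nil)) (.node 104 col104 (.node 103 col103 .nil .nil) .nil))) (.node 113 col113 (.node 109 col109 (.node 107 col107 (.node 106 col106 .nil .nil) (.node 108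 col108 .nil .nil)) (.node 111 col111 (.node 110 col110 .nil .nil) (.node 112 col112 .nil .nil))) (.node 117 col117 (.node 115 col115 (.node 114 col114 .nil .nil) (.node 116 col116 .nil .nil)) (.node 119 col119 (.node 118 col118 .nil .nil) .nil)))))) (.node 180 col180 (.node 150 col150 (.node 135 col135 (.node 128 col128 (.node 124 col124 (.node 122 col122 (.node 121 col121 .nil .nil) (.node 123 col123 .nil .nil)) (.node 126 col126 (.node 125 col125 .nil .nil) (.node 127 col127 .nil .nil))) (.node 132 col132 (.node 130 col130 (.node 129 col129 .nil .nil) (.node 131 col131 .nil .nil)) (.node 134 col134 (.node 133 col133 .nil .nil) .nil))) (.node 143 col143 (.node 139 col139 (.node 137 col137 (.node 136 col136 .nil .nil) (.node 138 col138 .nil .nil)) (.node 141 col141 (.node 140 col140 .nil .nil) (.node 142 col142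 .nil .nil))) (.node 147 col147 (.node 145 col145 (.node 144 col144 .nil .nil) (.node 146 col146 .nil .nil)) (.node 149 col149 (.node 148 col148 .nil .nil) .nil)))) (.node 165 col165 (.node 158 col158 (.node 154 col154 (.node 152 col152 (.node 151 col151 .nil .nil) (.node 153 col153 .nil .nil)) (.node 156 col156 (.node 155 col155 .nil .nil) (.node 157 col157 .nil .nil))) (.node 162 col162 (.node 160 col160 (.node 159 col159 .nil .nil) (.node 161 col161 .nil .nil)) (.node 164 col164 (.node 163 col163 .nil .nil) .nil))) (.node 173 col173 (.node 169 col169 (.node 167 col167 (.node 166 col166 .nil .nil) (.node 168 col168 .nil .nil)) (.node 171 col171 (.node 170 col170 .nil .nil) (.node 172 col172 .nil .nil))) (.node 177 col177 (.node 175 col175 (.node 174 col174 .nil .nil) (.node 176 col176 .nil .nil)) (.node 179 col179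 (.node 178 col178 .nil .nil) .nil))))) (.node 210 col210 (.node 195 col195 (.node 188 col188 (.node 184 col184 (.node 182 col182 (.node 181 col181 .nil .nil) (.node 183 col183 .nil .nil)) (.node 186 col186 (.node 185 col185 .nil .nil) (.node 187 col187 .nil .nil))) (.node 192 col192 (.node 190 col190 (.node 189 col189 .nil .nil) (.node 191 col191 .nil .nil)) (.node 194 col194 (.node 193 col193 .nil .nil) .nil))) (.node 203 col203 (.node 199 col199 (.node 197 col197 (.node 196 col196 .nil .nil) (.node 198 col198 .nil .nil)) (.node 201 col201 (.node 200 col200 .nil .nil) (.node 202 col202 .nil .nil))) (.node 207 col207 (.node 205 col205 (.node 204 col204 .nil .nil) (.node 206 col206 .nil .nil)) (.node 209 col209 (.node 208 col208 .nil .nil) .nil)))) (.node 225 col225 (.node 218 col218 (.node 214 col214 (.node 212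 col212 (.node 211 col211 .nil .nil) (.node 213 col213 .nil .nil)) (.node 216 col216 (.node 215 col215 .nil .nil) (.node 217 col217 .nil .nil))) (.node 222 col222 (.node 220 col220 (.node 219 col219 .nil .nil) (.node 221 col221 .nil .nil)) (.node 224 col224 (.node 223 col223 .nil .nil) .nil))) (.node 233 col233 (.node 229 col229 (.node 227 col227 (.node 226 col226 .nil .nil) (.node 228 col228 .nil .nil)) (.node 231 col231 (.node 230 col230 .nil .nil) (.node 232 col232 .nil .nil))) (.node 237 col237 (.node 235 col235 (.node 234 col234 .nil .nil) (.node 236 col236 .nil .nil)) (.node 239 col239 (.node 238 col238 .nil .nil) .nil)))))))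
noncomputable def ch0 : Tr (List (ℕ × ℤ)) := (.node 206 [(36,(Int.ofNat 1))] (.node 177 [(16,(Int.ofNat 1))] (.node 151 [(8,(Int.negSucc 0))] (.node 129 [(4,(Int.ofNat 1))] (.node 122 [(2,(Int.ofNat 1))] (.node 120 [(1,(Int.ofNat 1))] .nil .nil) (.node 125 [(3,(Int.ofNat 1))] .nil .nil)) (.node 140 [(6,(Int.ofNat 1))] (.node 134 [(5,(Int.ofNat 1))] .nil .nil) (.node 146 [(7,(Int.ofNat 1))] .nil .nil))) (.node 161 [(12,(Int.negSucc 0))] (.node 158 [(10,(Int.negSucc 0))] (.node 155 [(9,(Int.ofNat 1))] .nil .nil) (.node 160 [(11,(Int.ofNat 1))] .nil .nil)) (.node 173 [(15,(Int.negSucc 0))] (.node 168 [(14,(Int.ofNat 1))] .nil .nil) .nil))) (.node 193 [(24,(Int.ofNat 1))] (.node 187 [(21,(Int.negSucc 0))] (.node 182 [(18,(Int.ofNat 1))] (.node 180 [(17,(Int.negSucc 0))] .nil .nil) (.node 183 [(19,(Int.negSucc 0))]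 .nil .nil)) (.node 192 [(23,(Int.negSucc 0))] (.node 190 [(22,(Int.ofNat 1))] .nil .nil) .nil)) (.node 201 [(30,(Int.negSucc 0))] (.node 198 [(27,(Int.ofNat 1))] (.node 196 [(26,(Int.negSucc 0))] .nil .nil) (.node 199 [(28,(Int.negSucc 0))] .nil .nil)) (.node 203 [(33,(Int.negSucc 0))] (.node 202 [(31,(Int.ofNat 1))] .nil .nil) .nil)))) (.node 224 [(66,(Int.ofNat 1))] (.node 216 [(47,(Int.ofNat 1))] (.node 212 [(41,(Int.negSucc 0))] (.node 209 [(38,(Int.ofNat 1))] (.node 208 [(37,(Int.negSucc 0))] .nil .nil) (.node 211 [(40,(Int.ofNat 1))] .nil .nil)) (.node 215 [(46,(Int.negSucc 0))] (.node 213 [(43,(Int.ofNat 1))] .nil .nil) .nil)) (.node 221 [(57,(Int.negSucc 0))] (.node 218 [(52,(Int.ofNat 1))] (.node 217 [(49,(Int.negSucc 0))] .nil .nil) (.node 220 [(56,(Int.ofNat 1))] .nil .nil)) (.node 223 [(62,(Int.negSucc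 0))] (.node 222 [(59,(Int.ofNat 1))] .nil .nil) .nil))) (.node 232 [(93,(Int.negSucc 0))] (.node 229 [(81,(Int.ofNat 1))] (.node 227 [(78,(Int.ofNat 1))] (.node 225 [(71,(Int.negSucc 0))] .nil .nil) (.node 228 [(79,(Int.negSucc 0))] .nil .nil)) (.node 231 [(88,(Int.ofNat 1))] (.node 230 [(84,(Int.negSucc 0))] .nil .nil) .nil)) (.node 236 [(114,(Int.negSucc 0))] (.node 234 [(105,(Int.negSucc 0))] (.node 233 [(99,(Int.negSucc 0))] .nil .nil) (.node 235 [(110,(Int.negSucc 0))] .nil .nil)) (.node 238 [(119,(Int.negSucc 0))] (.node 237 [(117,(Int.negSucc 0))] .nil .nil) .nil)))))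
noncomputable def ch1 : Tr (List (ℕ × ℤ)) := (.node 205 [(36,(Int.ofNat 1))] (.node 176 [(16,(Int.ofNat 1))] (.node 150 [(8,(Int.negSucc 0))] (.node 128 [(4,(Int.ofNat 1))] (.node 121 [(2,(Int.ofNat 1))] (.node 119 [(0,(Int.ofNat 1))] .nil .nil) (.node 124 [(3,(Int.ofNat 1))] .nil .nil)) (.node 139 [(6,(Int.ofNat 1))] (.node 133 [(5,(Int.ofNat 1))] .nil .nil) (.node 145 [(7,(Int.ofNat 1))] .nil .nil))) (.node 161 [(13,(Int.negSucc 0))] (.node 157 [(10,(Int.negSucc 0))] (.node 154 [(9,(Int.ofNat 1))] .nil .nil) (.node 159 [(11,(Int.ofNat 1))] .nil .nil)) (.node 172 [(15,(Int.negSucc 0))] (.node 167 [(14,(Int.ofNat 1))] .nil .nil) .nil))) (.node 193 [(25,(Int.ofNat 1))] (.node 186 [(21,(Int.negSucc 0))] (.node 181 [(18,(Int.ofNat 1))] (.node 179 [(17,(Int.negSucc 0))] .nil .nil) (.node 183 [(20,(Int.negSucc 0))]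 .nil .nil)) (.node 191 [(23,(Int.negSucc 0))] (.node 189 [(22,(Int.ofNat 1))] .nil .nil) .nil)) (.node 200 [(30,(Int.negSucc 0))] (.node 197 [(27,(Int.ofNat 1))] (.node 195 [(26,(Int.negSucc 0))] .nil .nil) (.node 199 [(29,(Int.negSucc 0))] .nil .nil)) (.node 203 [(34,(Int.negSucc 0))] (.node 202 [(32,(Int.ofNat 1))] .nil .nil) .nil)))) (.node 224 [(67,(Int.ofNat 1))] (.node 216 [(48,(Int.ofNat 1))] (.node 212 [(42,(Int.negSucc 0))] (.node 209 [(39,(Int.ofNat 1))] (.node 207 [(37,(Int.negSucc 0))] .nil .nil) (.node 210 [(40,(Int.ofNat 1))] .nil .nil)) (.node 214 [(46,(Int.negSucc 0))] (.node 213 [(44,(Int.ofNat 1))] .nil .nil) .nil)) (.node 221 [(58,(Int.negSucc 0))] (.node 218 [(53,(Int.ofNat 1))] (.node 217 [(50,(Int.negSucc 0))] .nil .nil) (.node 219 [(56,(Int.ofNat 1))] .nil .nil)) (.node 223 [(63,(Int.negSucc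 0))] (.node 222 [(60,(Int.ofNat 1))] .nil .nil) .nil))) (.node 232 [(94,(Int.negSucc 0))] (.node 229 [(82,(Int.ofNat 1))] (.node 226 [(78,(Int.ofNat 1))] (.node 225 [(72,(Int.negSucc 0))] .nil .nil) (.node 228 [(80,(Int.negSucc 0))] .nil .nil)) (.node 231 [(89,(Int.ofNat 1))] (.node 230 [(85,(Int.negSucc 0))] .nil .nil) .nil)) (.node 236 [(115,(Int.negSucc 0))] (.node 234 [(106,(Int.negSucc 0))] (.node 233 [(100,(Int.negSucc 0))] .nil .nil) (.node 235 [(111,(Int.negSucc 0))] .nil .nil)) (.node 239 [(120,(Int.negSucc 0))] (.node 237 [(118,(Int.negSucc 0))] .nil .nil) .nil)))))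
noncomputable def ch2 : Tr (List (ℕ × ℤ)) := (.node 204 [(36,(Int.ofNat 1))] (.node 175 [(16,(Int.ofNat 1))] (.node 149 [(8,(Int.negSucc 0))] (.node 127 [(4,(Int.ofNat 1))] (.node 118 [(1,(Int.ofNat 1))] (.node 117 [(0,(Int.ofNat 1))] .nil .nil) (.node 123 [(3,(Int.ofNat 1))] .nil .nil)) (.node 138 [(6,(Int.ofNat 1))] (.node 132 [(5,(Int.ofNat 1))] .nil .nil) (.node 144 [(7,(Int.ofNat 1))] .nil .nil))) (.node 160 [(13,(Int.negSucc 0))] (.node 156 [(10,(Int.negSucc 0))] (.node 153 [(9,(Int.ofNat 1))] .nil .nil) (.node 159 [(12,(Int.ofNat 1))] .nil .nil)) (.node 171 [(15,(Int.negSucc 0))] (.node 166 [(14,(Int.ofNat 1))] .nil .nil) .nil))) (.node 192 [(25,(Int.ofNat 1))] (.node 185 [(21,(Int.negSucc 0))] (.node 181 [(19,(Int.ofNat 1))] (.node 178 [(17,(Int.negSucc 0))] .nil .nil) (.node 182 [(20,(Int.negSucc 0))]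 .nil .nil)) (.node 191 [(24,(Int.negSucc 0))] (.node 188 [(22,(Int.ofNat 1))] .nil .nil) .nil)) (.node 200 [(31,(Int.negSucc 0))] (.node 197 [(28,(Int.ofNat 1))] (.node 194 [(26,(Int.negSucc 0))] .nil .nil) (.node 198 [(29,(Int.negSucc 0))] .nil .nil)) (.node 203 [(35,(Int.negSucc 0))] (.node 201 [(32,(Int.ofNat 1))] .nil .nil) .nil)))) (.node 224 [(68,(Int.ofNat 1))] (.node 215 [(48,(Int.ofNat 1))] (.node 211 [(42,(Int.negSucc 0))] (.node 208 [(39,(Int.ofNat 1))] (.node 207 [(38,(Int.negSucc 0))] .nil .nil) (.node 210 [(41,(Int.ofNat 1))] .nil .nil)) (.node 214 [(47,(Int.negSucc 0))] (.node 213 [(45,(Int.ofNat 1))] .nil .nil) .nil)) (.node 220 [(58,(Int.negSucc 0))] (.node 218 [(54,(Int.ofNat 1))] (.node 217 [(51,(Int.negSucc 0))] .nil .nil) (.node 219 [(57,(Int.ofNat 1))] .nil .nil)) (.node 223 [(64,(Int.negSucc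 0))] (.node 222 [(61,(Int.ofNat 1))] .nil .nil) .nil))) (.node 232 [(95,(Int.negSucc 0))] (.node 229 [(83,(Int.ofNat 1))] (.node 226 [(79,(Int.ofNat 1))] (.node 225 [(73,(Int.negSucc 0))] .nil .nil) (.node 227 [(80,(Int.negSucc 0))] .nil .nil)) (.node 231 [(90,(Int.ofNat 1))] (.node 230 [(86,(Int.negSucc 0))] .nil .nil) .nil)) (.node 236 [(116,(Int.negSucc 0))] (.node 234 [(107,(Int.negSucc 0))] (.node 233 [(101,(Int.negSucc 0))] .nil .nil) (.node 235 [(112,(Int.negSucc 0))] .nil .nil)) (.node 239 [(122,(Int.negSucc 0))] (.node 238 [(121,(Int.negSucc 0))] .nil .nil) .nil)))))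
noncomputable def ch3 : Tr (List (ℕ × ℤ)) := (.node 204 [(37,(Int.ofNat 1))] (.node 174 [(16,(Int.ofNat 1))] (.node 148 [(8,(Int.negSucc 0))] (.node 126 [(4,(Int.ofNat 1))] (.node 115 [(1,(Int.ofNat 1))] (.node 114 [(0,(Int.ofNat 1))] .nil .nil) (.node 116 [(2,(Int.ofNat 1))] .nil .nil)) (.node 137 [(6,(Int.ofNat 1))] (.node 131 [(5,(Int.ofNat 1))] .nil .nil) (.node 143 [(7,(Int.ofNat 1))] .nil .nil))) (.node 158 [(13,(Int.negSucc 0))] (.node 156 [(11,(Int.negSucc 0))] (.node 152 [(9,(Int.ofNat 1))] .nil .nil) (.node 157 [(12,(Int.ofNat 1))] .nil .nil)) (.node 170 [(15,(Int.negSucc 0))] (.node 165 [(14,(Int.ofNat 1))] .nil .nil) .nil))) (.node 190 [(25,(Int.ofNat 1))] (.node 184 [(21,(Int.negSucc 0))] (.node 179 [(19,(Int.ofNat 1))] (.node 178 [(18,(Int.negSucc 0))] .nil .nil) (.node 180 [(20,(Int.negSucc 0))]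 .nil .nil)) (.node 189 [(24,(Int.negSucc 0))] (.node 188 [(23,(Int.ofNat 1))] .nil .nil) .nil)) (.node 200 [(33,(Int.negSucc 0))] (.node 195 [(28,(Int.ofNat 1))] (.node 194 [(27,(Int.negSucc 0))] .nil .nil) (.node 196 [(29,(Int.negSucc 0))] .nil .nil)) (.node 202 [(35,(Int.negSucc 0))] (.node 201 [(34,(Int.ofNat 1))] .nil .nil) .nil)))) (.node 224 [(69,(Int.ofNat 1))] (.node 215 [(50,(Int.ofNat 1))] (.node 211 [(44,(Int.negSucc 0))] (.node 206 [(39,(Int.ofNat 1))] (.node 205 [(38,(Int.negSucc 0))] .nil .nil) (.node 210 [(43,(Int.ofNat 1))] .nil .nil)) (.node 214 [(49,(Int.negSucc 0))] (.node 212 [(45,(Int.ofNat 1))] .nil .nil) .nil)) (.node 220 [(60,(Int.negSucc 0))] (.node 218 [(55,(Int.ofNat 1))] (.node 216 [(51,(Int.negSucc 0))] .nil .nil) (.node 219 [(59,(Int.ofNat 1))] .nil .nil)) (.node 223 [(65,(Int.negSucc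 0))] (.node 221 [(61,(Int.ofNat 1))] .nil .nil) .nil))) (.node 232 [(96,(Int.negSucc 0))] (.node 228 [(83,(Int.ofNat 1))] (.node 226 [(81,(Int.ofNat 1))] (.node 225 [(74,(Int.negSucc 0))] .nil .nil) (.node 227 [(82,(Int.negSucc 0))] .nil .nil)) (.node 231 [(91,(Int.ofNat 1))] (.node 230 [(87,(Int.negSucc 0))] .nil .nil) .nil)) (.node 237 [(123,(Int.negSucc 0))] (.node 234 [(108,(Int.negSucc 0))] (.node 233 [(102,(Int.negSucc 0))] .nil .nil) (.node 235 [(113,(Int.negSucc 0))] .nil .nil)) (.node 239 [(125,(Int.negSucc 0))] (.node 238 [(124,(Int.negSucc 0))] .nil .nil) .nil)))))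
noncomputable def ch4 : Tr (List (ℕ × ℤ)) := (.node 204 [(40,(Int.ofNat 1))] (.node 174 [(17,(Int.ofNat 1))] (.node 147 [(8,(Int.negSucc 0))] (.node 113 [(3,(Int.ofNat 1))] (.node 111 [(1,(Int.ofNat 1))] (.node 110 [(0,(Int.ofNat 1))] .nil .nil) (.node 112 [(2,(Int.ofNat 1))] .nil .nil)) (.node 136 [(6,(Int.ofNat 1))] (.node 130 [(5,(Int.ofNat 1))] .nil .nil) (.node 142 [(7,(Int.ofNat 1))] .nil .nil))) (.node 155 [(13,(Int.negSucc 0))] (.node 153 [(11,(Int.negSucc 0))] (.node 152 [(10,(Int.ofNat 1))] .nil .nil) (.node 154 [(12,(Int.ofNat 1))] .nil .nil)) (.node 169 [(15,(Int.negSucc 0))] (.node 164 [(14,(Int.ofNat 1))] .nil .nil) .nil))) (.node 187 [(25,(Int.ofNat 1))] (.node 184 [(22,(Int.negSucc 0))] (.node 176 [(19,(Int.ofNat 1))] (.node 175 [(18,(Int.negSucc 0))] .nil .nil) (.node 177 [(20,(Int.negSucc 0))]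 .nil .nil)) (.node 186 [(24,(Int.negSucc 0))] (.node 185 [(23,(Int.ofNat 1))] .nil .nil) .nil)) (.node 197 [(33,(Int.negSucc 0))] (.node 195 [(31,(Int.ofNat 1))] (.node 194 [(30,(Int.negSucc 0))] .nil .nil) (.node 196 [(32,(Int.negSucc 0))] .nil .nil)) (.node 199 [(35,(Int.negSucc 0))] (.node 198 [(34,(Int.ofNat 1))] .nil .nil) .nil)))) (.node 224 [(70,(Int.ofNat 1))] (.node 215 [(53,(Int.ofNat 1))] (.node 208 [(44,(Int.negSucc 0))] (.node 206 [(42,(Int.ofNat 1))] (.node 205 [(41,(Int.negSucc 0))] .nil .nil) (.node 207 [(43,(Int.ofNat 1))] .nil .nil)) (.node 214 [(52,(Int.negSucc 0))] (.node 209 [(45,(Int.ofNat 1))] .nil .nil) .nil)) (.node 220 [(63,(Int.negSucc 0))] (.node 217 [(55,(Int.ofNat 1))] (.node 216 [(54,(Int.negSucc 0))] .nil .nil) (.node 219 [(62,(Int.ofNat 1))] .nil .nil)) (.node 222 [(65,(Int.negSucc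 0))] (.node 221 [(64,(Int.ofNat 1))] .nil .nil) .nil))) (.node 232 [(97,(Int.negSucc 0))] (.node 228 [(86,(Int.ofNat 1))] (.node 226 [(84,(Int.ofNat 1))] (.node 225 [(75,(Int.negSucc 0))] .nil .nil) (.node 227 [(85,(Int.negSucc 0))] .nil .nil)) (.node 231 [(92,(Int.ofNat 1))] (.node 229 [(87,(Int.negSucc 0))] .nil .nil) .nil)) (.node 237 [(127,(Int.negSucc 0))] (.node 234 [(109,(Int.negSucc 0))] (.node 233 [(103,(Int.negSucc 0))] .nil .nil) (.node 236 [(126,(Int.negSucc 0))] .nil .nil)) (.node 239 [(129,(Int.negSucc 0))] (.node 238 [(128,(Int.negSucc 0))] .nil .nil) .nil)))))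
noncomputable def ch5 : Tr (List (ℕ × ℤ)) := (.node 204 [(46,(Int.ofNat 1))] (.node 170 [(17,(Int.ofNat 1))] (.node 147 [(9,(Int.negSucc 0))] (.node 108 [(3,(Int.ofNat 1))] (.node 106 [(1,(Int.ofNat 1))] (.node 105 [(0,(Int.ofNat 1))] .nil .nil) (.node 107 [(2,(Int.ofNat 1))] .nil .nil)) (.node 135 [(6,(Int.ofNat 1))] (.node 109 [(4,(Int.ofNat 1))] .nil .nil) (.node 141 [(7,(Int.ofNat 1))] .nil .nil))) (.node 151 [(13,(Int.negSucc 0))] (.node 149 [(11,(Int.negSucc 0))] (.node 148 [(10,(Int.ofNat 1))] .nil .nil) (.node 150 [(12,(Int.ofNat 1))] .nil .nil)) (.node 169 [(16,(Int.negSucc 0))] (.node 163 [(14,(Int.ofNat 1))] .nil .nil) .nil))) (.node 187 [(29,(Int.ofNat 1))] (.node 184 [(26,(Int.negSucc 0))] (.node 172 [(19,(Int.ofNat 1))] (.node 171 [(18,(Int.negSucc 0))] .nil .nil) (.node 173 [(20,(Int.negSucc 0))]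 .nil .nil)) (.node 186 [(28,(Int.negSucc 0))] (.node 185 [(27,(Int.ofNat 1))] .nil .nil) .nil)) (.node 191 [(33,(Int.negSucc 0))] (.node 189 [(31,(Int.ofNat 1))] (.node 188 [(30,(Int.negSucc 0))] .nil .nil) (.node 190 [(32,(Int.negSucc 0))] .nil .nil)) (.node 193 [(35,(Int.negSucc 0))] (.node 192 [(34,(Int.ofNat 1))] .nil .nil) .nil)))) (.node 223 [(70,(Int.ofNat 1))] (.node 211 [(53,(Int.ofNat 1))] (.node 208 [(50,(Int.negSucc 0))] (.node 206 [(48,(Int.ofNat 1))] (.node 205 [(47,(Int.negSucc 0))] .nil .nil) (.node 207 [(49,(Int.ofNat 1))] .nil .nil)) (.node 210 [(52,(Int.negSucc 0))] (.node 209 [(51,(Int.ofNat 1))] .nil .nil) .nil)) (.node 220 [(67,(Int.negSucc 0))] (.node 213 [(55,(Int.ofNat 1))] (.node 212 [(54,(Int.negSucc 0))] .nil .nil) (.node 219 [(66,(Int.ofNat 1))] .nil .nil)) (.node 222 [(69,(Int.negSucc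 0))] (.node 221 [(68,(Int.ofNat 1))] .nil .nil) .nil))) (.node 232 [(98,(Int.negSucc 0))] (.node 228 [(90,(Int.ofNat 1))] (.node 226 [(88,(Int.ofNat 1))] (.node 225 [(76,(Int.negSucc 0))] .nil .nil) (.node 227 [(89,(Int.negSucc 0))] .nil .nil)) (.node 230 [(92,(Int.ofNat 1))] (.node 229 [(91,(Int.negSucc 0))] .nil .nil) .nil)) (.node 237 [(132,(Int.negSucc 0))] (.node 235 [(130,(Int.negSucc 0))] (.node 233 [(104,(Int.negSucc 0))] .nil .nil) (.node 236 [(131,(Int.negSucc 0))] .nil .nil)) (.node 239 [(134,(Int.negSucc 0))] (.node 238 [(133,(Int.negSucc 0))] .nil .nil) .nil)))))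
noncomputable def ch6 : Tr (List (ℕ × ℤ)) := (.node 204 [(56,(Int.ofNat 1))] (.node 170 [(22,(Int.ofNat 1))] (.node 142 [(9,(Int.negSucc 0))] (.node 102 [(3,(Int.ofNat 1))] (.node 100 [(1,(Int.ofNat 1))] (.node 99 [(0,(Int.ofNat 1))] .nil .nil) (.node 101 [(2,(Int.ofNat 1))] .nil .nil)) (.node 104 [(5,(Int.ofNat 1))] (.node 103 [(4,(Int.ofNat 1))] .nil .nil) (.node 141 [(8,(Int.ofNat 1))] .nil .nil))) (.node 146 [(13,(Int.negSucc 0))] (.node 144 [(11,(Int.negSucc 0))] (.node 143 [(10,(Int.ofNat 1))] .nil .nil) (.node 145 [(12,(Int.ofNat 1))] .nil .nil)) (.node 169 [(21,(Int.negSucc 0))] (.node 162 [(14,(Int.ofNat 1))] .nil .nil) .nil))) (.node 177 [(29,(Int.ofNat 1))] (.node 174 [(26,(Int.negSucc 0))] (.node 172 [(24,(Int.ofNat 1))] (.node 171 [(23,(Int.negSucc 0))] .nil .nil) (.node 173 [(25,(Int.negSucc 0))]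 .nil .nil)) (.node 176 [(28,(Int.negSucc 0))] (.node 175 [(27,(Int.ofNat 1))] .nil .nil) .nil)) (.node 181 [(33,(Int.negSucc 0))] (.node 179 [(31,(Int.ofNat 1))] (.node 178 [(30,(Int.negSucc 0))] .nil .nil) (.node 180 [(32,(Int.negSucc 0))] .nil .nil)) (.node 183 [(35,(Int.negSucc 0))] (.node 182 [(34,(Int.ofNat 1))] .nil .nil) .nil)))) (.node 218 [(70,(Int.ofNat 1))] (.node 211 [(63,(Int.ofNat 1))] (.node 208 [(60,(Int.negSucc 0))] (.node 206 [(58,(Int.ofNat 1))] (.node 205 [(57,(Int.negSucc 0))] .nil .nil) (.node 207 [(59,(Int.ofNat 1))] .nil .nil)) (.node 210 [(62,(Int.negSucc 0))] (.node 209 [(61,(Int.ofNat 1))] .nil .nil) .nil)) (.node 215 [(67,(Int.negSucc 0))] (.node 213 [(65,(Int.ofNat 1))] (.node 212 [(64,(Int.negSucc 0))] .nil .nil) (.node 214 [(66,(Int.ofNat 1))] .nil .nil)) (.node 217 [(69,(Int.negSucc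 0))] (.node 216 [(68,(Int.ofNat 1))] .nil .nil) .nil))) (.node 231 [(98,(Int.negSucc 0))] (.node 228 [(95,(Int.ofNat 1))] (.node 226 [(93,(Int.ofNat 1))] (.node 225 [(77,(Int.negSucc 0))] .nil .nil) (.node 227 [(94,(Int.negSucc 0))] .nil .nil)) (.node 230 [(97,(Int.ofNat 1))] (.node 229 [(96,(Int.negSucc 0))] .nil .nil) .nil)) (.node 237 [(138,(Int.negSucc 0))] (.node 235 [(136,(Int.negSucc 0))] (.node 234 [(135,(Int.negSucc 0))] .nil .nil) (.node 236 [(137,(Int.negSucc 0))] .nil .nil)) (.node 239 [(140,(Int.negSucc 0))] (.node 238 [(139,(Int.negSucc 0))] .nil .nil) .nil)))))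
noncomputable def ch7 : Tr (List (ℕ × ℤ)) := (.node 194 [(46,(Int.ofNat 1))] (.node 165 [(17,(Int.ofNat 1))] (.node 136 [(9,(Int.negSucc 0))] (.node 96 [(3,(Int.ofNat 1))] (.node 94 [(1,(Int.ofNat 1))] (.node 93 [(0,(Int.ofNat 1))] .nil .nil) (.node 95 [(2,(Int.ofNat 1))] .nil .nil)) (.node 98 [(5,(Int.ofNat 1))] (.node 97 [(4,(Int.ofNat 1))] .nil .nil) (.node 135 [(8,(Int.ofNat 1))] .nil .nil))) (.node 140 [(13,(Int.negSucc 0))] (.node 138 [(11,(Int.negSucc 0))] (.node 137 [(10,(Int.ofNat 1))] .nil .nil) (.node 139 [(12,(Int.ofNat 1))] .nil .nil)) (.node 164 [(16,(Int.negSucc 0))] (.node 163 [(15,(Int.ofNat 1))] .nil .nil) .nil))) (.node 187 [(39,(Int.ofNat 1))] (.node 184 [(36,(Int.negSucc 0))] (.node 167 [(19,(Int.ofNat 1))] (.node 166 [(18,(Int.negSucc 0))] .nil .nil) (.node 168 [(20,(Int.negSucc 0))] .nil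 .nil)) (.node 186 [(38,(Int.negSucc 0))] (.node 185 [(37,(Int.ofNat 1))] .nil .nil) .nil)) (.node 191 [(43,(Int.negSucc 0))] (.node 189 [(41,(Int.ofNat 1))] (.node 188 [(40,(Int.negSucc 0))] .nil .nil) (.node 190 [(42,(Int.negSucc 0))] .nil .nil)) (.node 193 [(45,(Int.negSucc 0))] (.node 192 [(44,(Int.ofNat 1))] .nil .nil) .nil)))) (.node 223 [(75,(Int.ofNat 1))] (.node 201 [(53,(Int.ofNat 1))] (.node 198 [(50,(Int.negSucc 0))] (.node 196 [(48,(Int.ofNat 1))] (.node 195 [(47,(Int.negSucc 0))] .nil .nil) (.node 197 [(49,(Int.ofNat 1))] .nil .nil)) (.node 200 [(52,(Int.negSucc 0))] (.node 199 [(51,(Int.ofNat 1))] .nil .nil) .nil)) (.node 220 [(72,(Int.negSucc 0))] (.node 203 [(55,(Int.ofNat 1))] (.node 202 [(54,(Int.negSucc 0))] .nil .nil) (.node 219 [(71,(Int.ofNat 1))] .nil .nil)) (.node 222 [(74,(Int.negSucc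 0))] (.node 221 [(73,(Int.ofNat 1))] .nil .nil) .nil))) (.node 231 [(104,(Int.negSucc 0))] (.node 228 [(101,(Int.ofNat 1))] (.node 226 [(99,(Int.ofNat 1))] (.node 224 [(76,(Int.negSucc 0))] .nil .nil) (.node 227 [(100,(Int.negSucc 0))] .nil .nil)) (.node 230 [(103,(Int.ofNat 1))] (.node 229 [(102,(Int.negSucc 0))] .nil .nil) .nil)) (.node 237 [(144,(Int.negSucc 0))] (.node 235 [(142,(Int.negSucc 0))] (.node 234 [(141,(Int.negSucc 0))] .nil .nil) (.node 236 [(143,(Int.negSucc 0))] .nil .nil)) (.node 239 [(146,(Int.negSucc 0))] (.node 238 [(145,(Int.negSucc 0))] .nil .nil) .nil)))))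
noncomputable def ch8 : Tr (List (ℕ × ℤ)) := (.node 194 [(56,(Int.ofNat 1))] (.node 165 [(22,(Int.ofNat 1))] (.node 130 [(9,(Int.ofNat 1))] (.node 91 [(3,(Int.negSucc 0))] (.node 89 [(1,(Int.negSucc 0))] (.node 88 [(0,(Int.negSucc 0))] .nil .nil) (.node 90 [(2,(Int.negSucc 0))] .nil .nil)) (.node 98 [(6,(Int.ofNat 1))] (.node 92 [(4,(Int.negSucc 0))] .nil .nil) (.node 104 [(7,(Int.ofNat 1))] .nil .nil))) (.node 134 [(13,(Int.ofNat 1))] (.node 132 [(11,(Int.ofNat 1))] (.node 131 [(10,(Int.negSucc 0))] .nil .nil) (.node 133 [(12,(Int.negSucc 0))] .nil .nil)) (.node 164 [(21,(Int.negSucc 0))] (.node 162 [(15,(Int.ofNat 1))] .nil .nil) .nil))) (.node 177 [(39,(Int.ofNat 1))] (.node 174 [(36,(Int.negSucc 0))] (.node 167 [(24,(Int.ofNat 1))] (.node 166 [(23,(Int.negSucc 0))] .nil .nil) (.node 168 [(25,(Int.negSucc 0))]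 .nil .nil)) (.node 176 [(38,(Int.negSucc 0))] (.node 175 [(37,(Int.ofNat 1))] .nil .nil) .nil)) (.node 181 [(43,(Int.negSucc 0))] (.node 179 [(41,(Int.ofNat 1))] (.node 178 [(40,(Int.negSucc 0))] .nil .nil) (.node 180 [(42,(Int.negSucc 0))] .nil .nil)) (.node 183 [(45,(Int.negSucc 0))] (.node 182 [(44,(Int.ofNat 1))] .nil .nil) .nil)))) (.node 218 [(75,(Int.ofNat 1))] (.node 201 [(63,(Int.ofNat 1))] (.node 198 [(60,(Int.negSucc 0))] (.node 196 [(58,(Int.ofNat 1))] (.node 195 [(57,(Int.negSucc 0))] .nil .nil) (.node 197 [(59,(Int.ofNat 1))] .nil .nil)) (.node 200 [(62,(Int.negSucc 0))] (.node 199 [(61,(Int.ofNat 1))] .nil .nil) .nil)) (.node 215 [(72,(Int.negSucc 0))] (.node 203 [(65,(Int.ofNat 1))] (.node 202 [(64,(Int.negSucc 0))] .nil .nil) (.node 214 [(71,(Int.ofNat 1))] .nil .nil)) (.node 217 [(74,(Int.negSucc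 0))] (.node 216 [(73,(Int.ofNat 1))] .nil .nil) .nil))) (.node 232 [(135,(Int.negSucc 0))] (.node 228 [(107,(Int.negSucc 0))] (.node 226 [(105,(Int.negSucc 0))] (.node 224 [(77,(Int.negSucc 0))] .nil .nil) (.node 227 [(106,(Int.ofNat 1))] .nil .nil)) (.node 230 [(109,(Int.negSucc 0))] (.node 229 [(108,(Int.ofNat 1))] .nil .nil) .nil)) (.node 237 [(149,(Int.ofNat 1))] (.node 235 [(147,(Int.ofNat 1))] (.node 233 [(141,(Int.negSucc 0))] .nil .nil) (.node 236 [(148,(Int.ofNat 1))] .nil .nil)) (.node 239 [(151,(Int.ofNat 1))] (.node 238 [(150,(Int.ofNat 1))] .nil .nil) .nil)))))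
noncomputable def ch9 : Tr (List (ℕ × ℤ)) := (.node 188 [(56,(Int.ofNat 1))] (.node 165 [(26,(Int.ofNat 1))] (.node 109 [(8,(Int.ofNat 1))] (.node 87 [(3,(Int.ofNat 1))] (.node 85 [(1,(Int.ofNat 1))] (.node 84 [(0,(Int.ofNat 1))] .nil .nil) (.node 86 [(2,(Int.ofNat 1))] .nil .nil)) (.node 97 [(6,(Int.negSucc 0))] (.node 92 [(5,(Int.negSucc 0))] .nil .nil) (.node 103 [(7,(Int.negSucc 0))] .nil .nil))) (.node 129 [(13,(Int.negSucc 0))] (.node 127 [(11,(Int.negSucc 0))] (.node 126 [(10,(Int.ofNat 1))] .nil .nil) (.node 128 [(12,(Int.ofNat 1))] .nil .nil)) (.node 163 [(21,(Int.negSucc 0))] (.node 162 [(16,(Int.ofNat 1))] .nil .nil) .nil))) (.node 173 [(39,(Int.ofNat 1))] (.node 170 [(36,(Int.negSucc 0))] (.node 167 [(28,(Int.ofNat 1))] (.node 166 [(27,(Int.negSucc 0))] .nil .nil) (.node 168 [(29,(Int.negSucc 0))]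 .nil .nil)) (.node 172 [(38,(Int.negSucc 0))] (.node 171 [(37,(Int.ofNat 1))] .nil .nil) .nil)) (.node 181 [(49,(Int.negSucc 0))] (.node 179 [(47,(Int.ofNat 1))] (.node 178 [(46,(Int.negSucc 0))] .nil .nil) (.node 180 [(48,(Int.negSucc 0))] .nil .nil)) (.node 183 [(51,(Int.negSucc 0))] (.node 182 [(50,(Int.ofNat 1))] .nil .nil) .nil)))) (.node 218 [(76,(Int.ofNat 1))] (.node 201 [(67,(Int.ofNat 1))] (.node 192 [(60,(Int.negSucc 0))] (.node 190 [(58,(Int.ofNat 1))] (.node 189 [(57,(Int.negSucc 0))] .nil .nil) (.node 191 [(59,(Int.ofNat 1))] .nil .nil)) (.node 200 [(66,(Int.negSucc 0))] (.node 193 [(61,(Int.ofNat 1))] .nil .nil) .nil)) (.node 211 [(72,(Int.negSucc 0))] (.node 203 [(69,(Int.ofNat 1))] (.node 202 [(68,(Int.negSucc 0))] .nil .nil) (.node 210 [(71,(Int.ofNat 1))] .nil .nil)) (.node 213 [(74,(Int.negSucc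 0))] (.node 212 [(73,(Int.ofNat 1))] .nil .nil) .nil))) (.node 232 [(136,(Int.ofNat 1))] (.node 228 [(112,(Int.ofNat 1))] (.node 226 [(110,(Int.ofNat 1))] (.node 223 [(77,(Int.negSucc 0))] .nil .nil) (.node 227 [(111,(Int.negSucc 0))] .nil .nil)) (.node 231 [(130,(Int.negSucc 0))] (.node 229 [(113,(Int.negSucc 0))] .nil .nil) .nil)) (.node 237 [(153,(Int.negSucc 0))] (.node 234 [(147,(Int.ofNat 1))] (.node 233 [(142,(Int.ofNat 1))] .nil .nil) (.node 236 [(152,(Int.negSucc 0))] .nil .nil)) (.node 239 [(155,(Int.negSucc 0))] (.node 238 [(154,(Int.negSucc 0))] .nil .nil) .nil)))))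
noncomputable def ch10 : Tr (List (ℕ × ℤ)) := (.node 185 [(56,(Int.ofNat 1))] (.node 164 [(26,(Int.ofNat 1))] (.node 108 [(8,(Int.negSucc 0))] (.node 87 [(4,(Int.ofNat 1))] (.node 82 [(1,(Int.negSucc 0))] (.node 81 [(0,(Int.negSucc 0))] .nil .nil) (.node 83 [(2,(Int.negSucc 0))] .nil .nil)) (.node 96 [(6,(Int.ofNat 1))] (.node 91 [(5,(Int.ofNat 1))] .nil .nil) (.node 102 [(7,(Int.ofNat 1))] .nil .nil))) (.node 125 [(13,(Int.ofNat 1))] (.node 123 [(11,(Int.ofNat 1))] (.node 113 [(9,(Int.ofNat 1))] .nil .nil) (.node 124 [(12,(Int.negSucc 0))] .nil .nil)) (.node 163 [(22,(Int.negSucc 0))] (.node 162 [(17,(Int.ofNat 1))] .nil .nil) .nil))) (.node 173 [(42,(Int.ofNat 1))] (.node 169 [(36,(Int.negSucc 0))] (.node 167 [(31,(Int.ofNat 1))] (.node 166 [(30,(Int.negSucc 0))] .nil .nil) (.node 168 [(32,(Int.negSucc 0))]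 .nil .nil)) (.node 172 [(41,(Int.negSucc 0))] (.node 171 [(40,(Int.ofNat 1))] .nil .nil) .nil)) (.node 181 [(52,(Int.negSucc 0))] (.node 176 [(47,(Int.ofNat 1))] (.node 175 [(46,(Int.negSucc 0))] .nil .nil) (.node 177 [(48,(Int.negSucc 0))] .nil .nil)) (.node 183 [(54,(Int.negSucc 0))] (.node 182 [(53,(Int.ofNat 1))] .nil .nil) .nil)))) (.node 217 [(76,(Int.ofNat 1))] (.node 198 [(67,(Int.ofNat 1))] (.node 192 [(63,(Int.negSucc 0))] (.node 187 [(58,(Int.ofNat 1))] (.node 186 [(57,(Int.negSucc 0))] .nil .nil) (.node 191 [(62,(Int.ofNat 1))] .nil .nil)) (.node 197 [(66,(Int.negSucc 0))] (.node 193 [(64,(Int.ofNat 1))] .nil .nil) .nil)) (.node 208 [(72,(Int.negSucc 0))] (.node 203 [(70,(Int.ofNat 1))] (.node 199 [(68,(Int.negSucc 0))] .nil .nil) (.node 207 [(71,(Int.ofNat 1))] .nil .nil)) (.node 213 [(75,(Int.negSucc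 0))] (.node 209 [(73,(Int.ofNat 1))] .nil .nil) .nil))) (.node 232 [(137,(Int.negSucc 0))] (.node 228 [(116,(Int.negSucc 0))] (.node 226 [(114,(Int.negSucc 0))] (.node 222 [(77,(Int.negSucc 0))] .nil .nil) (.node 227 [(115,(Int.ofNat 1))] .nil .nil)) (.node 231 [(131,(Int.ofNat 1))] (.node 230 [(126,(Int.negSucc 0))] .nil .nil) .nil)) (.node 237 [(156,(Int.ofNat 1))] (.node 234 [(148,(Int.negSucc 0))] (.node 233 [(143,(Int.negSucc 0))] .nil .nil) (.node 235 [(152,(Int.negSucc 0))] .nil .nil)) (.node 239 [(158,(Int.ofNat 1))] (.node 238 [(157,(Int.ofNat 1))] .nil .nil) .nil)))))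
noncomputable def ch11 : Tr (List (ℕ × ℤ)) := (.node 184 [(56,(Int.ofNat 1))] (.node 164 [(27,(Int.ofNat 1))] (.node 107 [(8,(Int.ofNat 1))] (.node 86 [(4,(Int.negSucc 0))] (.node 80 [(1,(Int.ofNat 1))] (.node 79 [(0,(Int.ofNat 1))] .nil .nil) (.node 83 [(3,(Int.negSucc 0))] .nil .nil)) (.node 95 [(6,(Int.negSucc 0))] (.node 90 [(5,(Int.negSucc 0))] .nil .nil) (.node 101 [(7,(Int.negSucc 0))] .nil .nil))) (.node 122 [(13,(Int.negSucc 0))] (.node 116 [(10,(Int.ofNat 1))] (.node 112 [(9,(Int.negSucc 0))] .nil .nil) (.node 121 [(12,(Int.ofNat 1))] .nil .nil)) (.node 163 [(23,(Int.negSucc 0))] (.node 162 [(18,(Int.ofNat 1))] .nil .nil) .nil))) (.node 173 [(44,(Int.ofNat 1))] (.node 169 [(37,(Int.negSucc 0))] (.node 167 [(33,(Int.ofNat 1))] (.node 165 [(30,(Int.negSucc 0))] .nil .nil) (.node 168 [(34,(Int.negSucc 0))]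 .nil .nil)) (.node 172 [(43,(Int.negSucc 0))] (.node 170 [(40,(Int.ofNat 1))] .nil .nil) .nil)) (.node 179 [(52,(Int.negSucc 0))] (.node 176 [(49,(Int.ofNat 1))] (.node 174 [(46,(Int.negSucc 0))] .nil .nil) (.node 177 [(50,(Int.negSucc 0))] .nil .nil)) (.node 183 [(55,(Int.negSucc 0))] (.node 180 [(53,(Int.ofNat 1))] .nil .nil) .nil)))) (.node 216 [(76,(Int.ofNat 1))] (.node 196 [(67,(Int.ofNat 1))] (.node 190 [(63,(Int.negSucc 0))] (.node 187 [(60,(Int.ofNat 1))] (.node 186 [(59,(Int.negSucc 0))] .nil .nil) (.node 189 [(62,(Int.ofNat 1))] .nil .nil)) (.node 195 [(66,(Int.negSucc 0))] (.node 193 [(65,(Int.ofNat 1))] .nil .nil) .nil)) (.node 206 [(72,(Int.negSucc 0))] (.node 202 [(70,(Int.ofNat 1))] (.node 199 [(69,(Int.negSucc 0))] .nil .nil) (.node 205 [(71,(Int.ofNat 1))] .nil .nil)) (.node 212 [(75,(Int.negSucc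 0))] (.node 209 [(74,(Int.ofNat 1))] .nil .nil) .nil))) (.node 232 [(138,(Int.ofNat 1))] (.node 229 [(123,(Int.negSucc 0))] (.node 226 [(117,(Int.ofNat 1))] (.node 221 [(77,(Int.negSucc 0))] .nil .nil) (.node 227 [(118,(Int.negSucc 0))] .nil .nil)) (.node 231 [(132,(Int.negSucc 0))] (.node 230 [(127,(Int.ofNat 1))] .nil .nil) .nil)) (.node 236 [(156,(Int.ofNat 1))] (.node 234 [(149,(Int.ofNat 1))] (.node 233 [(144,(Int.ofNat 1))] .nil .nil) (.node 235 [(153,(Int.ofNat 1))] .nil .nil)) (.node 239 [(160,(Int.negSucc 0))] (.node 238 [(159,(Int.negSucc 0))] .nil .nil) .nil)))))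
noncomputable def ch12 : Tr (List (ℕ × ℤ)) := (.node 184 [(57,(Int.ofNat 1))] (.node 164 [(28,(Int.ofNat 1))] (.node 106 [(8,(Int.negSucc 0))] (.node 85 [(4,(Int.ofNat 1))] (.node 80 [(2,(Int.ofNat 1))] (.node 78 [(0,(Int.negSucc 0))] .nil .nil) (.node 82 [(3,(Int.ofNat 1))] .nil .nil)) (.node 94 [(6,(Int.ofNat 1))] (.node 89 [(5,(Int.ofNat 1))] .nil .nil) (.node 100 [(7,(Int.ofNat 1))] .nil .nil))) (.node 120 [(13,(Int.ofNat 1))] (.node 115 [(10,(Int.negSucc 0))] (.node 111 [(9,(Int.ofNat 1))] .nil .nil) (.node 118 [(11,(Int.ofNat 1))] .nil .nil)) (.node 163 [(24,(Int.negSucc 0))] (.node 162 [(19,(Int.ofNat 1))] .nil .nil) .nil))) (.node 173 [(45,(Int.ofNat 1))] (.node 169 [(38,(Int.negSucc 0))] (.node 166 [(33,(Int.ofNat 1))] (.node 165 [(31,(Int.negSucc 0))] .nil .nil) (.node 168 [(35,(Int.negSucc 0))] .nil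 .nil)) (.node 171 [(43,(Int.negSucc 0))] (.node 170 [(41,(Int.ofNat 1))] .nil .nil) .nil)) (.node 178 [(52,(Int.negSucc 0))] (.node 175 [(49,(Int.ofNat 1))] (.node 174 [(47,(Int.negSucc 0))] .nil .nil) (.node 177 [(51,(Int.negSucc 0))] .nil .nil)) (.node 182 [(55,(Int.negSucc 0))] (.node 180 [(54,(Int.ofNat 1))] .nil .nil) .nil)))) (.node 215 [(76,(Int.ofNat 1))] (.node 196 [(68,(Int.ofNat 1))] (.node 190 [(64,(Int.negSucc 0))] (.node 187 [(61,(Int.ofNat 1))] (.node 185 [(59,(Int.negSucc 0))] .nil .nil) (.node 188 [(62,(Int.ofNat 1))] .nil .nil)) (.node 194 [(66,(Int.negSucc 0))] (.node 192 [(65,(Int.ofNat 1))] .nil .nil) .nil)) (.node 206 [(73,(Int.negSucc 0))] (.node 201 [(70,(Int.ofNat 1))] (.node 198 [(69,(Int.negSucc 0))] .nil .nil) (.node 204 [(71,(Int.ofNat 1))] .nil .nil)) (.node 211 [(75,(Int.negSucc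 0))] (.node 208 [(74,(Int.ofNat 1))] .nil .nil) .nil))) (.node 232 [(139,(Int.negSucc 0))] (.node 229 [(124,(Int.ofNat 1))] (.node 226 [(119,(Int.negSucc 0))] (.node 220 [(77,(Int.negSucc 0))] .nil .nil) (.node 228 [(121,(Int.negSucc 0))] .nil .nil)) (.node 231 [(133,(Int.ofNat 1))] (.node 230 [(128,(Int.negSucc 0))] .nil .nil) .nil)) (.node 236 [(157,(Int.negSucc 0))] (.node 234 [(150,(Int.negSucc 0))] (.node 233 [(145,(Int.negSucc 0))] .nil .nil) (.node 235 [(154,(Int.negSucc 0))] .nil .nil)) (.node 239 [(161,(Int.ofNat 1))] (.node 237 [(159,(Int.negSucc 0))] .nil .nil) .nil)))))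
noncomputable def ch13 : Tr (List (ℕ × ℤ)) := (.node 184 [(58,(Int.ofNat 1))] (.node 164 [(29,(Int.ofNat 1))] (.node 105 [(8,(Int.ofNat 1))] (.node 84 [(4,(Int.negSucc 0))] (.node 79 [(2,(Int.negSucc 0))] (.node 78 [(1,(Int.negSucc 0))] .nil .nil) (.node 81 [(3,(Int.negSucc 0))] .nil .nil)) (.node 93 [(6,(Int.negSucc 0))] (.node 88 [(5,(Int.negSucc 0))] .nil .nil) (.node 99 [(7,(Int.negSucc 0))] .nil .nil))) (.node 119 [(12,(Int.ofNat 1))] (.node 114 [(10,(Int.ofNat 1))] (.node 110 [(9,(Int.negSucc 0))] .nil .nil) (.node 117 [(11,(Int.negSucc 0))] .nil .nil)) (.node 163 [(25,(Int.negSucc 0))] (.node 162 [(20,(Int.ofNat 1))] .nil .nil) .nil))) (.node 172 [(45,(Int.ofNat 1))] (.node 169 [(39,(Int.negSucc 0))] (.node 166 [(34,(Int.ofNat 1))] (.node 165 [(32,(Int.negSucc 0))] .nil .nil) (.node 167 [(35,(Int.negSucc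 0))] .nil .nil)) (.node 171 [(44,(Int.negSucc 0))] (.node 170 [(42,(Int.ofNat 1))] .nil .nil) .nil)) (.node 178 [(53,(Int.negSucc 0))] (.node 175 [(50,(Int.ofNat 1))] (.node 174 [(48,(Int.negSucc 0))] .nil .nil) (.node 176 [(51,(Int.negSucc 0))] .nil .nil)) (.node 181 [(55,(Int.negSucc 0))] (.node 179 [(54,(Int.ofNat 1))] .nil .nil) .nil)))) (.node 214 [(76,(Int.ofNat 1))] (.node 195 [(68,(Int.ofNat 1))] (.node 189 [(64,(Int.negSucc 0))] (.node 186 [(61,(Int.ofNat 1))] (.node 185 [(60,(Int.negSucc 0))] .nil .nil) (.node 188 [(63,(Int.ofNat 1))] .nil .nil)) (.node 194 [(67,(Int.negSucc 0))] (.node 191 [(65,(Int.ofNat 1))] .nil .nil) .nil)) (.node 205 [(73,(Int.negSucc 0))] (.node 200 [(70,(Int.ofNat 1))] (.node 197 [(69,(Int.negSucc 0))] .nil .nil) (.node 204 [(72,(Int.ofNat 1))] .nil .nil)) (.node 210 [(75,(Int.negSucc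 0))] (.node 207 [(74,(Int.ofNat 1))] .nil .nil) .nil))) (.node 232 [(140,(Int.ofNat 1))] (.node 229 [(125,(Int.negSucc 0))] (.node 227 [(120,(Int.negSucc 0))] (.node 219 [(77,(Int.negSucc 0))] .nil .nil) (.node 228 [(122,(Int.ofNat 1))] .nil .nil)) (.node 231 [(134,(Int.negSucc 0))] (.node 230 [(129,(Int.ofNat 1))] .nil .nil) .nil)) (.node 236 [(158,(Int.ofNat 1))] (.node 234 [(151,(Int.ofNat 1))] (.node 233 [(146,(Int.ofNat 1))] .nil .nil) (.node 235 [(155,(Int.ofNat 1))] .nil .nil)) (.node 238 [(161,(Int.ofNat 1))] (.node 237 [(160,(Int.ofNat 1))] .nil .nil) .nil)))))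
noncomputable def ch14 : Tr (List (ℕ × ℤ)) := (.node 204 [(78,(Int.negSucc 0))] (.node 148 [(22,(Int.negSucc 0))] (.node 141 [(15,(Int.ofNat 1))] (.node 74 [(3,(Int.ofNat 1))] (.node 72 [(1,(Int.ofNat 1))] (.node 71 [(0,(Int.ofNat 1))] .nil .nil) (.node 73 [(2,(Int.ofNat 1))] .nil .nil)) (.node 76 [(5,(Int.ofNat 1))] (.node 75 [(4,(Int.ofNat 1))] .nil .nil) (.node 77 [(6,(Int.ofNat 1))] .nil .nil))) (.node 145 [(19,(Int.ofNat 1))] (.node 143 [(17,(Int.ofNat 1))] (.node 142 [(16,(Int.negSucc 0))] .nil .nil) (.node 144 [(18,(Int.negSucc 0))] .nil .nil)) (.node 147 [(21,(Int.ofNat 1))] (.node 146 [(20,(Int.negSucc 0))] .nil .nil) .nil))) (.node 155 [(29,(Int.negSucc 0))] (.node 152 [(26,(Int.ofNat 1))] (.node 150 [(24,(Int.negSucc 0))] (.node 149 [(23,(Int.ofNat 1))] .nil .nil) (.node 151 [(25,(Int.ofNat 1))] .nil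 .nil)) (.node 154 [(28,(Int.ofNat 1))] (.node 153 [(27,(Int.negSucc 0))] .nil .nil) .nil)) (.node 159 [(33,(Int.ofNat 1))] (.node 157 [(31,(Int.negSucc 0))] (.node 156 [(30,(Int.ofNat 1))] .nil .nil) (.node 158 [(32,(Int.ofNat 1))] .nil .nil)) (.node 161 [(35,(Int.ofNat 1))] (.node 160 [(34,(Int.negSucc 0))] .nil .nil) .nil)))) (.node 218 [(92,(Int.negSucc 0))] (.node 211 [(85,(Int.negSucc 0))] (.node 208 [(82,(Int.ofNat 1))] (.node 206 [(80,(Int.negSucc 0))] (.node 205 [(79,(Int.ofNat 1))] .nil .nil) (.node 207 [(81,(Int.negSucc 0))] .nil .nil)) (.node 210 [(84,(Int.ofNat 1))] (.node 209 [(83,(Int.negSucc 0))] .nil .nil) .nil)) (.node 215 [(89,(Int.ofNat 1))] (.node 213 [(87,(Int.negSucc 0))] (.node 212 [(86,(Int.ofNat 1))] .nil .nil) (.node 214 [(88,(Int.negSucc 0))] .nil .nil)) (.node 217 [(91,(Int.ofNat 1))]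 (.node 216 [(90,(Int.negSucc 0))] .nil .nil) .nil))) (.node 233 [(162,(Int.negSucc 0))] (.node 222 [(96,(Int.negSucc 0))] (.node 220 [(94,(Int.negSucc 0))] (.node 219 [(93,(Int.ofNat 1))] .nil .nil) (.node 221 [(95,(Int.ofNat 1))] .nil .nil)) (.node 224 [(98,(Int.negSucc 0))] (.node 223 [(97,(Int.ofNat 1))] .nil .nil) .nil)) (.node 237 [(166,(Int.negSucc 0))] (.node 235 [(164,(Int.negSucc 0))] (.node 234 [(163,(Int.negSucc 0))] .nil .nil) (.node 236 [(165,(Int.negSucc 0))] .nil .nil)) (.node 239 [(168,(Int.negSucc 0))] (.node 238 [(167,(Int.negSucc 0))] .nil .nil) .nil)))))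
noncomputable def ch15 : Tr (List (ℕ × ℤ)) := (.node 194 [(78,(Int.negSucc 0))] (.node 137 [(22,(Int.negSucc 0))] (.node 98 [(14,(Int.ofNat 1))] (.node 69 [(3,(Int.negSucc 0))] (.node 67 [(1,(Int.negSucc 0))] (.node 66 [(0,(Int.negSucc 0))] .nil .nil) (.node 68 [(2,(Int.negSucc 0))] .nil .nil)) (.node 76 [(7,(Int.ofNat 1))] (.node 70 [(4,(Int.negSucc 0))] .nil .nil) (.node 77 [(8,(Int.ofNat 1))] .nil .nil))) (.node 133 [(19,(Int.negSucc 0))] (.node 131 [(17,(Int.negSucc 0))] (.node 130 [(16,(Int.ofNat 1))] .nil .nil) (.node 132 [(18,(Int.ofNat 1))] .nil .nil)) (.node 136 [(21,(Int.ofNat 1))] (.node 134 [(20,(Int.ofNat 1))] .nil .nil) .nil))) (.node 155 [(39,(Int.negSucc 0))] (.node 152 [(36,(Int.ofNat 1))] (.node 139 [(24,(Int.negSucc 0))] (.node 138 [(23,(Int.ofNat 1))] .nil .nil) (.node 140 [(25,(Int.ofNat 1))]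 .nil .nil)) (.node 154 [(38,(Int.ofNat 1))] (.node 153 [(37,(Int.negSucc 0))] .nil .nil) .nil)) (.node 159 [(43,(Int.ofNat 1))] (.node 157 [(41,(Int.negSucc 0))] (.node 156 [(40,(Int.ofNat 1))] .nil .nil) (.node 158 [(42,(Int.ofNat 1))] .nil .nil)) (.node 161 [(45,(Int.ofNat 1))] (.node 160 [(44,(Int.negSucc 0))] .nil .nil) .nil)))) (.node 218 [(103,(Int.negSucc 0))] (.node 201 [(85,(Int.negSucc 0))] (.node 198 [(82,(Int.ofNat 1))] (.node 196 [(80,(Int.negSucc 0))] (.node 195 [(79,(Int.ofNat 1))] .nil .nil) (.node 197 [(81,(Int.negSucc 0))] .nil .nil)) (.node 200 [(84,(Int.ofNat 1))] (.node 199 [(83,(Int.negSucc 0))] .nil .nil) .nil)) (.node 215 [(100,(Int.ofNat 1))] (.node 203 [(87,(Int.negSucc 0))] (.node 202 [(86,(Int.ofNat 1))] .nil .nil) (.node 214 [(99,(Int.negSucc 0))] .nil .nil)) (.node 217 [(102,(Int.ofNat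 1))] (.node 216 [(101,(Int.negSucc 0))] .nil .nil) .nil))) (.node 231 [(162,(Int.negSucc 0))] (.node 222 [(108,(Int.ofNat 1))] (.node 220 [(106,(Int.ofNat 1))] (.node 219 [(105,(Int.negSucc 0))] .nil .nil) (.node 221 [(107,(Int.negSucc 0))] .nil .nil)) (.node 225 [(141,(Int.negSucc 0))] (.node 223 [(109,(Int.negSucc 0))] .nil .nil) .nil)) (.node 237 [(171,(Int.ofNat 1))] (.node 235 [(169,(Int.ofNat 1))] (.node 232 [(163,(Int.negSucc 0))] .nil .nil) (.node 236 [(170,(Int.ofNat 1))] .nil .nil)) (.node 239 [(173,(Int.ofNat 1))] (.node 238 [(172,(Int.ofNat 1))] .nil .nil) .nil)))))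
noncomputable def ch16 : Tr (List (ℕ × ℤ)) := (.node 188 [(78,(Int.negSucc 0))] (.node 137 [(26,(Int.negSucc 0))] (.node 97 [(14,(Int.negSucc 0))] (.node 65 [(3,(Int.ofNat 1))] (.node 63 [(1,(Int.ofNat 1))] (.node 62 [(0,(Int.ofNat 1))] .nil .nil) (.node 64 [(2,(Int.ofNat 1))] .nil .nil)) (.node 75 [(7,(Int.negSucc 0))] (.node 70 [(5,(Int.negSucc 0))] .nil .nil) (.node 77 [(9,(Int.ofNat 1))] .nil .nil))) (.node 128 [(19,(Int.ofNat 1))] (.node 126 [(17,(Int.ofNat 1))] (.node 109 [(15,(Int.ofNat 1))] .nil .nil) (.node 127 [(18,(Int.negSucc 0))] .nil .nil)) (.node 135 [(21,(Int.ofNat 1))] (.node 129 [(20,(Int.negSucc 0))] .nil .nil) .nil))) (.node 151 [(39,(Int.negSucc 0))] (.node 148 [(36,(Int.ofNat 1))] (.node 139 [(28,(Int.negSucc 0))] (.node 138 [(27,(Int.ofNat 1))] .nil .nil) (.node 140 [(29,(Int.ofNat 1))]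 .nil .nil)) (.node 150 [(38,(Int.ofNat 1))] (.node 149 [(37,(Int.negSucc 0))] .nil .nil) .nil)) (.node 159 [(49,(Int.ofNat 1))] (.node 157 [(47,(Int.negSucc 0))] (.node 156 [(46,(Int.ofNat 1))] .nil .nil) (.node 158 [(48,(Int.ofNat 1))] .nil .nil)) (.node 161 [(51,(Int.ofNat 1))] (.node 160 [(50,(Int.negSucc 0))] .nil .nil) .nil)))) (.node 218 [(104,(Int.negSucc 0))] (.node 201 [(89,(Int.negSucc 0))] (.node 192 [(82,(Int.ofNat 1))] (.node 190 [(80,(Int.negSucc 0))] (.node 189 [(79,(Int.ofNat 1))] .nil .nil) (.node 191 [(81,(Int.negSucc 0))] .nil .nil)) (.node 200 [(88,(Int.ofNat 1))] (.node 193 [(83,(Int.negSucc 0))] .nil .nil) .nil)) (.node 211 [(100,(Int.ofNat 1))] (.node 203 [(91,(Int.negSucc 0))] (.node 202 [(90,(Int.ofNat 1))] .nil .nil) (.node 210 [(99,(Int.negSucc 0))] .nil .nil)) (.node 213 [(102,(Int.ofNat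 1))] (.node 212 [(101,(Int.negSucc 0))] .nil .nil) .nil))) (.node 230 [(162,(Int.negSucc 0))] (.node 222 [(113,(Int.negSucc 0))] (.node 220 [(111,(Int.negSucc 0))] (.node 219 [(110,(Int.ofNat 1))] .nil .nil) (.node 221 [(112,(Int.ofNat 1))] .nil .nil)) (.node 225 [(142,(Int.ofNat 1))] (.node 224 [(130,(Int.negSucc 0))] .nil .nil) .nil)) (.node 237 [(175,(Int.negSucc 0))] (.node 234 [(169,(Int.ofNat 1))] (.node 232 [(164,(Int.ofNat 1))] .nil .nil) (.node 236 [(174,(Int.negSucc 0))] .nil .nil)) (.node 239 [(177,(Int.negSucc 0))] (.node 238 [(176,(Int.negSucc 0))] .nil .nil) .nil)))))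
noncomputable def ch17 : Tr (List (ℕ × ℤ)) := (.node 185 [(78,(Int.negSucc 0))] (.node 136 [(26,(Int.negSucc 0))] (.node 96 [(14,(Int.ofNat 1))] (.node 65 [(4,(Int.ofNat 1))] (.node 60 [(1,(Int.negSucc 0))] (.node 59 [(0,(Int.negSucc 0))] .nil .nil) (.node 61 [(2,(Int.negSucc 0))] .nil .nil)) (.node 74 [(7,(Int.ofNat 1))] (.node 69 [(5,(Int.ofNat 1))] .nil .nil) (.node 77 [(10,(Int.ofNat 1))] .nil .nil))) (.node 124 [(19,(Int.negSucc 0))] (.node 113 [(16,(Int.ofNat 1))] (.node 108 [(15,(Int.negSucc 0))] .nil .nil) (.node 123 [(18,(Int.ofNat 1))] .nil .nil)) (.node 135 [(22,(Int.ofNat 1))] (.node 125 [(20,(Int.ofNat 1))] .nil .nil) .nil))) (.node 151 [(42,(Int.negSucc 0))] (.node 147 [(36,(Int.ofNat 1))] (.node 139 [(31,(Int.negSucc 0))] (.node 138 [(30,(Int.ofNat 1))] .nil .nil) (.node 140 [(32,(Int.ofNat 1))]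 .nil .nil)) (.node 150 [(41,(Int.ofNat 1))] (.node 149 [(40,(Int.negSucc 0))] .nil .nil) .nil)) (.node 159 [(52,(Int.ofNat 1))] (.node 154 [(47,(Int.negSucc 0))] (.node 153 [(46,(Int.ofNat 1))] .nil .nil) (.node 155 [(48,(Int.ofNat 1))] .nil .nil)) (.node 161 [(54,(Int.ofNat 1))] (.node 160 [(53,(Int.negSucc 0))] .nil .nil) .nil)))) (.node 217 [(104,(Int.negSucc 0))] (.node 198 [(89,(Int.negSucc 0))] (.node 192 [(85,(Int.ofNat 1))] (.node 187 [(80,(Int.negSucc 0))] (.node 186 [(79,(Int.ofNat 1))] .nil .nil) (.node 191 [(84,(Int.negSucc 0))] .nil .nil)) (.node 197 [(88,(Int.ofNat 1))] (.node 193 [(86,(Int.negSucc 0))] .nil .nil) .nil)) (.node 208 [(100,(Int.ofNat 1))] (.node 203 [(92,(Int.negSucc 0))] (.node 199 [(90,(Int.ofNat 1))] .nil .nil) (.node 207 [(99,(Int.negSucc 0))] .nil .nil)) (.node 213 [(103,(Int.ofNat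 1))] (.node 209 [(101,(Int.negSucc 0))] .nil .nil) .nil))) (.node 229 [(162,(Int.negSucc 0))] (.node 223 [(126,(Int.negSucc 0))] (.node 220 [(115,(Int.ofNat 1))] (.node 219 [(114,(Int.negSucc 0))] .nil .nil) (.node 221 [(116,(Int.negSucc 0))] .nil .nil)) (.node 225 [(143,(Int.negSucc 0))] (.node 224 [(131,(Int.ofNat 1))] .nil .nil) .nil)) (.node 237 [(178,(Int.ofNat 1))] (.node 234 [(170,(Int.negSucc 0))] (.node 232 [(165,(Int.negSucc 0))] .nil .nil) (.node 235 [(174,(Int.negSucc 0))] .nil .nil)) (.node 239 [(180,(Int.ofNat 1))] (.node 238 [(179,(Int.ofNat 1))] .nil .nil) .nil)))))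
noncomputable def ch18 : Tr (List (ℕ × ℤ)) := (.node 184 [(78,(Int.negSucc 0))] (.node 136 [(27,(Int.negSucc 0))] (.node 95 [(14,(Int.negSucc 0))] (.node 64 [(4,(Int.negSucc 0))] (.node 58 [(1,(Int.ofNat 1))] (.node 57 [(0,(Int.ofNat 1))] .nil .nil) (.node 61 [(3,(Int.negSucc 0))] .nil .nil)) (.node 73 [(7,(Int.negSucc 0))] (.node 68 [(5,(Int.negSucc 0))] .nil .nil) (.node 77 [(11,(Int.ofNat 1))] .nil .nil))) (.node 121 [(19,(Int.ofNat 1))] (.node 112 [(16,(Int.negSucc 0))] (.node 107 [(15,(Int.ofNat 1))] .nil .nil) (.node 116 [(17,(Int.ofNat 1))] .nil .nil)) (.node 135 [(23,(Int.ofNat 1))] (.node 122 [(20,(Int.negSucc 0))] .nil .nil) .nil))) (.node 151 [(44,(Int.negSucc 0))] (.node 147 [(37,(Int.ofNat 1))] (.node 139 [(33,(Int.negSucc 0))] (.node 137 [(30,(Int.ofNat 1))] .nil .nil) (.node 140 [(34,(Int.ofNat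 1))] .nil .nil)) (.node 150 [(43,(Int.ofNat 1))] (.node 148 [(40,(Int.negSucc 0))] .nil .nil) .nil)) (.node 157 [(52,(Int.ofNat 1))] (.node 154 [(49,(Int.negSucc 0))] (.node 152 [(46,(Int.ofNat 1))] .nil .nil) (.node 155 [(50,(Int.ofNat 1))] .nil .nil)) (.node 161 [(55,(Int.ofNat 1))] (.node 158 [(53,(Int.negSucc 0))] .nil .nil) .nil)))) (.node 216 [(104,(Int.negSucc 0))] (.node 196 [(89,(Int.negSucc 0))] (.node 190 [(85,(Int.ofNat 1))] (.node 187 [(82,(Int.negSucc 0))] (.node 186 [(81,(Int.ofNat 1))] .nil .nil) (.node 189 [(84,(Int.negSucc 0))] .nil .nil)) (.node 195 [(88,(Int.ofNat 1))] (.node 193 [(87,(Int.negSucc 0))] .nil .nil) .nil)) (.node 206 [(100,(Int.ofNat 1))] (.node 202 [(92,(Int.negSucc 0))] (.node 199 [(91,(Int.ofNat 1))] .nil .nil) (.node 205 [(99,(Int.negSucc 0))] .nil .nil)) (.node 212 [(103,(Int.ofNat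 1))] (.node 209 [(102,(Int.negSucc 0))] .nil .nil) .nil))) (.node 228 [(162,(Int.negSucc 0))] (.node 223 [(127,(Int.ofNat 1))] (.node 220 [(118,(Int.negSucc 0))] (.node 219 [(117,(Int.ofNat 1))] .nil .nil) (.node 222 [(123,(Int.negSucc 0))] .nil .nil)) (.node 225 [(144,(Int.ofNat 1))] (.node 224 [(132,(Int.negSucc 0))] .nil .nil) .nil)) (.node 236 [(178,(Int.ofNat 1))] (.node 234 [(171,(Int.ofNat 1))] (.node 232 [(166,(Int.ofNat 1))] .nil .nil) (.node 235 [(175,(Int.ofNat 1))] .nil .nil)) (.node 239 [(182,(Int.negSucc 0))] (.node 238 [(181,(Int.negSucc 0))] .nil .nil) .nil)))))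
noncomputable def ch19 : Tr (List (ℕ × ℤ)) := (.node 184 [(79,(Int.negSucc 0))] (.node 136 [(28,(Int.negSucc 0))] (.node 94 [(14,(Int.ofNat 1))] (.node 63 [(4,(Int.ofNat 1))] (.node 58 [(2,(Int.ofNat 1))] (.node 56 [(0,(Int.negSucc 0))] .nil .nil) (.node 60 [(3,(Int.ofNat 1))] .nil .nil)) (.node 72 [(7,(Int.ofNat 1))] (.node 67 [(5,(Int.ofNat 1))] .nil .nil) (.node 77 [(12,(Int.ofNat 1))] .nil .nil))) (.node 118 [(18,(Int.ofNat 1))] (.node 111 [(16,(Int.ofNat 1))] (.node 106 [(15,(Int.negSucc 0))] .nil .nil) (.node 115 [(17,(Int.negSucc 0))] .nil .nil)) (.node 135 [(24,(Int.ofNat 1))] (.node 120 [(20,(Int.ofNat 1))] .nil .nil) .nil))) (.node 151 [(45,(Int.negSucc 0))] (.node 147 [(38,(Int.ofNat 1))] (.node 138 [(33,(Int.negSucc 0))] (.node 137 [(31,(Int.ofNat 1))] .nil .nil) (.node 140 [(35,(Int.ofNat 1))] .nil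 .nil)) (.node 149 [(43,(Int.ofNat 1))] (.node 148 [(41,(Int.negSucc 0))] .nil .nil) .nil)) (.node 156 [(52,(Int.ofNat 1))] (.node 153 [(49,(Int.negSucc 0))] (.node 152 [(47,(Int.ofNat 1))] .nil .nil) (.node 155 [(51,(Int.ofNat 1))] .nil .nil)) (.node 160 [(55,(Int.ofNat 1))] (.node 158 [(54,(Int.negSucc 0))] .nil .nil) .nil)))) (.node 215 [(104,(Int.negSucc 0))] (.node 196 [(90,(Int.negSucc 0))] (.node 190 [(86,(Int.ofNat 1))] (.node 187 [(83,(Int.negSucc 0))] (.node 185 [(81,(Int.ofNat 1))] .nil .nil) (.node 188 [(84,(Int.negSucc 0))] .nil .nil)) (.node 194 [(88,(Int.ofNat 1))] (.node 192 [(87,(Int.negSucc 0))] .nil .nil) .nil)) (.node 206 [(101,(Int.ofNat 1))] (.node 201 [(92,(Int.negSucc 0))] (.node 198 [(91,(Int.ofNat 1))] .nil .nil) (.node 204 [(99,(Int.negSucc 0))] .nil .nil)) (.node 211 [(103,(Int.ofNat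 1))] (.node 208 [(102,(Int.negSucc 0))] .nil .nil) .nil))) (.node 227 [(162,(Int.negSucc 0))] (.node 223 [(128,(Int.negSucc 0))] (.node 221 [(121,(Int.negSucc 0))] (.node 219 [(119,(Int.negSucc 0))] .nil .nil) (.node 222 [(124,(Int.ofNat 1))] .nil .nil)) (.node 225 [(145,(Int.negSucc 0))] (.node 224 [(133,(Int.ofNat 1))] .nil .nil) .nil)) (.node 236 [(179,(Int.negSucc 0))] (.node 234 [(172,(Int.negSucc 0))] (.node 232 [(167,(Int.negSucc 0))] .nil .nil) (.node 235 [(176,(Int.negSucc 0))] .nil .nil)) (.node 239 [(183,(Int.ofNat 1))] (.node 237 [(181,(Int.negSucc 0))] .nil .nil) .nil)))))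
noncomputable def ch20 : Tr (List (ℕ × ℤ)) := (.node 184 [(80,(Int.negSucc 0))] (.node 136 [(29,(Int.negSucc 0))] (.node 93 [(14,(Int.negSucc 0))] (.node 62 [(4,(Int.negSucc 0))] (.node 57 [(2,(Int.negSucc 0))] (.node 56 [(1,(Int.negSucc 0))] .nil .nil) (.node 59 [(3,(Int.negSucc 0))] .nil .nil)) (.node 71 [(7,(Int.negSucc 0))] (.node 66 [(5,(Int.negSucc 0))] .nil .nil) (.node 77 [(13,(Int.ofNat 1))] .nil .nil))) (.node 117 [(18,(Int.negSucc 0))] (.node 110 [(16,(Int.negSucc 0))] (.node 105 [(15,(Int.ofNat 1))] .nil .nil) (.node 114 [(17,(Int.ofNat 1))] .nil .nil)) (.node 135 [(25,(Int.ofNat 1))] (.node 119 [(19,(Int.ofNat 1))] .nil .nil) .nil))) (.node 150 [(45,(Int.negSucc 0))] (.node 147 [(39,(Int.ofNat 1))] (.node 138 [(34,(Int.negSucc 0))] (.node 137 [(32,(Int.ofNat 1))] .nil .nil) (.node 139 [(35,(Int.ofNat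 1))] .nil .nil)) (.node 149 [(44,(Int.ofNat 1))] (.node 148 [(42,(Int.negSucc 0))] .nil .nil) .nil)) (.node 156 [(53,(Int.ofNat 1))] (.node 153 [(50,(Int.negSucc 0))] (.node 152 [(48,(Int.ofNat 1))] .nil .nil) (.node 154 [(51,(Int.ofNat 1))] .nil .nil)) (.node 159 [(55,(Int.ofNat 1))] (.node 157 [(54,(Int.negSucc 0))] .nil .nil) .nil)))) (.node 214 [(104,(Int.negSucc 0))] (.node 195 [(90,(Int.negSucc 0))] (.node 189 [(86,(Int.ofNat 1))] (.node 186 [(83,(Int.negSucc 0))] (.node 185 [(82,(Int.ofNat 1))] .nil .nil) (.node 188 [(85,(Int.negSucc 0))] .nil .nil)) (.node 194 [(89,(Int.ofNat 1))] (.node 191 [(87,(Int.negSucc 0))] .nil .nil) .nil)) (.node 205 [(101,(Int.ofNat 1))] (.node 200 [(92,(Int.negSucc 0))] (.node 197 [(91,(Int.ofNat 1))] .nil .nil) (.node 204 [(100,(Int.negSucc 0))] .nil .nil)) (.node 210 [(103,(Int.ofNat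 1))] (.node 207 [(102,(Int.negSucc 0))] .nil .nil) .nil))) (.node 226 [(162,(Int.negSucc 0))] (.node 223 [(129,(Int.ofNat 1))] (.node 221 [(122,(Int.ofNat 1))] (.node 220 [(120,(Int.negSucc 0))] .nil .nil) (.node 222 [(125,(Int.negSucc 0))] .nil .nil)) (.node 225 [(146,(Int.ofNat 1))] (.node 224 [(134,(Int.negSucc 0))] .nil .nil) .nil)) (.node 236 [(180,(Int.ofNat 1))] (.node 234 [(173,(Int.ofNat 1))] (.node 232 [(168,(Int.ofNat 1))] .nil .nil) (.node 235 [(177,(Int.ofNat 1))] .nil .nil)) (.node 238 [(183,(Int.ofNat 1))] (.node 237 [(182,(Int.ofNat 1))] .nil .nil) .nil)))))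
noncomputable def ch21 : Tr (List (ℕ × ℤ)) := (.node 178 [(78,(Int.negSucc 0))] (.node 131 [(26,(Int.ofNat 1))] (.node 92 [(14,(Int.ofNat 1))] (.node 55 [(3,(Int.negSucc 0))] (.node 53 [(1,(Int.negSucc 0))] (.node 52 [(0,(Int.negSucc 0))] .nil .nil) (.node 54 [(2,(Int.negSucc 0))] .nil .nil)) (.node 75 [(8,(Int.negSucc 0))] (.node 70 [(6,(Int.negSucc 0))] .nil .nil) (.node 76 [(9,(Int.negSucc 0))] .nil .nil))) (.node 127 [(23,(Int.negSucc 0))] (.node 104 [(16,(Int.ofNat 1))] (.node 103 [(15,(Int.ofNat 1))] .nil .nil) (.node 126 [(22,(Int.ofNat 1))] .nil .nil)) (.node 129 [(25,(Int.negSucc 0))] (.node 128 [(24,(Int.ofNat 1))] .nil .nil) .nil))) (.node 146 [(39,(Int.negSucc 0))] (.node 143 [(36,(Int.ofNat 1))] (.node 133 [(28,(Int.ofNat 1))] (.node 132 [(27,(Int.negSucc 0))] .nil .nil) (.node 134 [(29,(Int.negSucc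 0))] .nil .nil)) (.node 145 [(38,(Int.ofNat 1))] (.node 144 [(37,(Int.negSucc 0))] .nil .nil) .nil)) (.node 159 [(59,(Int.ofNat 1))] (.node 157 [(57,(Int.negSucc 0))] (.node 156 [(56,(Int.ofNat 1))] .nil .nil) (.node 158 [(58,(Int.ofNat 1))] .nil .nil)) (.node 161 [(61,(Int.ofNat 1))] (.node 160 [(60,(Int.negSucc 0))] .nil .nil) .nil)))) (.node 214 [(110,(Int.ofNat 1))] (.node 201 [(94,(Int.negSucc 0))] (.node 182 [(82,(Int.ofNat 1))] (.node 180 [(80,(Int.negSucc 0))] (.node 179 [(79,(Int.ofNat 1))] .nil .nil) (.node 181 [(81,(Int.negSucc 0))] .nil .nil)) (.node 200 [(93,(Int.ofNat 1))] (.node 183 [(83,(Int.negSucc 0))] .nil .nil) .nil)) (.node 211 [(106,(Int.negSucc 0))] (.node 203 [(96,(Int.negSucc 0))] (.node 202 [(95,(Int.ofNat 1))] .nil .nil) (.node 210 [(105,(Int.ofNat 1))] .nil .nil)) (.node 213 [(108,(Int.negSucc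 0))] (.node 212 [(107,(Int.ofNat 1))] .nil .nil) .nil))) (.node 230 [(163,(Int.ofNat 1))] (.node 223 [(135,(Int.negSucc 0))] (.node 216 [(112,(Int.ofNat 1))] (.node 215 [(111,(Int.negSucc 0))] .nil .nil) (.node 217 [(113,(Int.negSucc 0))] .nil .nil)) (.node 225 [(147,(Int.negSucc 0))] (.node 224 [(136,(Int.negSucc 0))] .nil .nil) .nil)) (.node 237 [(185,(Int.ofNat 1))] (.node 233 [(169,(Int.ofNat 1))] (.node 231 [(164,(Int.ofNat 1))] .nil .nil) (.node 236 [(184,(Int.ofNat 1))] .nil .nil)) (.node 239 [(187,(Int.ofNat 1))] (.node 238 [(186,(Int.ofNat 1))] .nil .nil) .nil)))))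
noncomputable def ch22 : Tr (List (ℕ × ℤ)) := (.node 175 [(78,(Int.negSucc 0))] (.node 130 [(26,(Int.ofNat 1))] (.node 91 [(14,(Int.negSucc 0))] (.node 55 [(4,(Int.negSucc 0))] (.node 50 [(1,(Int.ofNat 1))] (.node 49 [(0,(Int.ofNat 1))] .nil .nil) (.node 51 [(2,(Int.ofNat 1))] .nil .nil)) (.node 74 [(8,(Int.ofNat 1))] (.node 69 [(6,(Int.ofNat 1))] .nil .nil) (.node 76 [(10,(Int.negSucc 0))] .nil .nil))) (.node 123 [(23,(Int.ofNat 1))] (.node 104 [(17,(Int.ofNat 1))] (.node 102 [(15,(Int.negSucc 0))] .nil .nil) (.node 113 [(21,(Int.ofNat 1))] .nil .nil)) (.node 125 [(25,(Int.ofNat 1))] (.node 124 [(24,(Int.negSucc 0))] .nil .nil) .nil))) (.node 146 [(42,(Int.negSucc 0))] (.node 142 [(36,(Int.ofNat 1))] (.node 133 [(31,(Int.ofNat 1))] (.node 132 [(30,(Int.negSucc 0))] .nil .nil) (.node 134 [(32,(Int.negSucc 0))]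 .nil .nil)) (.node 145 [(41,(Int.ofNat 1))] (.node 144 [(40,(Int.negSucc 0))] .nil .nil) .nil)) (.node 159 [(62,(Int.ofNat 1))] (.node 154 [(57,(Int.negSucc 0))] (.node 153 [(56,(Int.ofNat 1))] .nil .nil) (.node 155 [(58,(Int.ofNat 1))] .nil .nil)) (.node 161 [(64,(Int.ofNat 1))] (.node 160 [(63,(Int.negSucc 0))] .nil .nil) .nil)))) (.node 214 [(114,(Int.negSucc 0))] (.node 198 [(94,(Int.negSucc 0))] (.node 182 [(85,(Int.ofNat 1))] (.node 177 [(80,(Int.negSucc 0))] (.node 176 [(79,(Int.ofNat 1))] .nil .nil) (.node 181 [(84,(Int.negSucc 0))] .nil .nil)) (.node 197 [(93,(Int.ofNat 1))] (.node 183 [(86,(Int.negSucc 0))] .nil .nil) .nil)) (.node 208 [(106,(Int.negSucc 0))] (.node 203 [(97,(Int.negSucc 0))] (.node 199 [(95,(Int.ofNat 1))] .nil .nil) (.node 207 [(105,(Int.ofNat 1))] .nil .nil)) (.node 213 [(109,(Int.negSucc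 0))] (.node 209 [(107,(Int.ofNat 1))] .nil .nil) .nil))) (.node 229 [(163,(Int.ofNat 1))] (.node 222 [(135,(Int.negSucc 0))] (.node 216 [(116,(Int.negSucc 0))] (.node 215 [(115,(Int.ofNat 1))] .nil .nil) (.node 218 [(126,(Int.negSucc 0))] .nil .nil)) (.node 225 [(148,(Int.ofNat 1))] (.node 224 [(137,(Int.ofNat 1))] .nil .nil) .nil)) (.node 237 [(188,(Int.negSucc 0))] (.node 233 [(170,(Int.negSucc 0))] (.node 231 [(165,(Int.negSucc 0))] .nil .nil) (.node 235 [(184,(Int.ofNat 1))] .nil .nil)) (.node 239 [(190,(Int.negSucc 0))] (.node 238 [(189,(Int.negSucc 0))] .nil .nil) .nil)))))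
noncomputable def ch23 : Tr (List (ℕ × ℤ)) := (.node 174 [(78,(Int.negSucc 0))] (.node 130 [(27,(Int.ofNat 1))] (.node 90 [(14,(Int.ofNat 1))] (.node 54 [(4,(Int.ofNat 1))] (.node 48 [(1,(Int.negSucc 0))] (.node 47 [(0,(Int.negSucc 0))] .nil .nil) (.node 51 [(3,(Int.ofNat 1))] .nil .nil)) (.node 73 [(8,(Int.negSucc 0))] (.node 68 [(6,(Int.negSucc 0))] .nil .nil) (.node 76 [(11,(Int.negSucc 0))] .nil .nil))) (.node 116 [(22,(Int.ofNat 1))] (.node 104 [(18,(Int.ofNat 1))] (.node 101 [(15,(Int.ofNat 1))] .nil .nil) (.node 112 [(21,(Int.negSucc 0))] .nil .nil)) (.node 122 [(25,(Int.negSucc 0))] (.node 121 [(24,(Int.ofNat 1))] .nil .nil) .nil))) (.node 146 [(44,(Int.negSucc 0))] (.node 142 [(37,(Int.ofNat 1))] (.node 133 [(33,(Int.ofNat 1))] (.node 131 [(30,(Int.negSucc 0))] .nil .nil) (.node 134 [(34,(Int.negSucc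 0))] .nil .nil)) (.node 145 [(43,(Int.ofNat 1))] (.node 143 [(40,(Int.negSucc 0))] .nil .nil) .nil)) (.node 157 [(62,(Int.ofNat 1))] (.node 154 [(59,(Int.negSucc 0))] (.node 152 [(56,(Int.ofNat 1))] .nil .nil) (.node 155 [(60,(Int.ofNat 1))] .nil .nil)) (.node 161 [(65,(Int.ofNat 1))] (.node 158 [(63,(Int.negSucc 0))] .nil .nil) .nil)))) (.node 214 [(117,(Int.ofNat 1))] (.node 196 [(94,(Int.negSucc 0))] (.node 180 [(85,(Int.ofNat 1))] (.node 177 [(82,(Int.negSucc 0))] (.node 176 [(81,(Int.ofNat 1))] .nil .nil) (.node 179 [(84,(Int.negSucc 0))] .nil .nil)) (.node 195 [(93,(Int.ofNat 1))] (.node 183 [(87,(Int.negSucc 0))] .nil .nil) .nil)) (.node 206 [(106,(Int.negSucc 0))] (.node 202 [(97,(Int.negSucc 0))] (.node 199 [(96,(Int.ofNat 1))] .nil .nil) (.node 205 [(105,(Int.ofNat 1))] .nil .nil)) (.node 212 [(109,(Int.negSucc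 0))] (.node 209 [(108,(Int.ofNat 1))] .nil .nil) .nil))) (.node 228 [(163,(Int.ofNat 1))] (.node 221 [(135,(Int.negSucc 0))] (.node 217 [(123,(Int.negSucc 0))] (.node 215 [(118,(Int.negSucc 0))] .nil .nil) (.node 218 [(127,(Int.ofNat 1))] .nil .nil)) (.node 225 [(149,(Int.negSucc 0))] (.node 224 [(138,(Int.negSucc 0))] .nil .nil) .nil)) (.node 236 [(188,(Int.negSucc 0))] (.node 233 [(171,(Int.ofNat 1))] (.node 231 [(166,(Int.ofNat 1))] .nil .nil) (.node 235 [(185,(Int.negSucc 0))] .nil .nil)) (.node 239 [(192,(Int.ofNat 1))] (.node 238 [(191,(Int.ofNat 1))] .nil .nil) .nil)))))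
noncomputable def ch24 : Tr (List (ℕ × ℤ)) := (.node 174 [(79,(Int.negSucc 0))] (.node 130 [(28,(Int.ofNat 1))] (.node 89 [(14,(Int.negSucc 0))] (.node 53 [(4,(Int.negSucc 0))] (.node 48 [(2,(Int.negSucc 0))] (.node 46 [(0,(Int.ofNat 1))] .nil .nil) (.node 50 [(3,(Int.negSucc 0))] .nil .nil)) (.node 72 [(8,(Int.ofNat 1))] (.node 67 [(6,(Int.ofNat 1))] .nil .nil) (.node 76 [(12,(Int.negSucc 0))] .nil .nil))) (.node 115 [(22,(Int.negSucc 0))] (.node 104 [(19,(Int.ofNat 1))] (.node 100 [(15,(Int.negSucc 0))] .nil .nil) (.node 111 [(21,(Int.ofNat 1))] .nil .nil)) (.node 120 [(25,(Int.ofNat 1))] (.node 118 [(23,(Int.ofNat 1))] .nil .nil) .nil))) (.node 146 [(45,(Int.negSucc 0))] (.node 142 [(38,(Int.ofNat 1))] (.node 132 [(33,(Int.ofNat 1))] (.node 131 [(31,(Int.negSucc 0))] .nil .nil) (.node 134 [(35,(Int.negSucc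 0))] .nil .nil)) (.node 144 [(43,(Int.ofNat 1))] (.node 143 [(41,(Int.negSucc 0))] .nil .nil) .nil)) (.node 156 [(62,(Int.ofNat 1))] (.node 153 [(59,(Int.negSucc 0))] (.node 152 [(57,(Int.ofNat 1))] .nil .nil) (.node 155 [(61,(Int.ofNat 1))] .nil .nil)) (.node 160 [(65,(Int.ofNat 1))] (.node 158 [(64,(Int.negSucc 0))] .nil .nil) .nil)))) (.node 214 [(119,(Int.negSucc 0))] (.node 196 [(95,(Int.negSucc 0))] (.node 180 [(86,(Int.ofNat 1))] (.node 177 [(83,(Int.negSucc 0))] (.node 175 [(81,(Int.ofNat 1))] .nil .nil) (.node 178 [(84,(Int.negSucc 0))] .nil .nil)) (.node 194 [(93,(Int.ofNat 1))] (.node 182 [(87,(Int.negSucc 0))] .nil .nil) .nil)) (.node 206 [(107,(Int.negSucc 0))] (.node 201 [(97,(Int.negSucc 0))] (.node 198 [(96,(Int.ofNat 1))] .nil .nil) (.node 204 [(105,(Int.ofNat 1))] .nil .nil)) (.node 211 [(109,(Int.negSucc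 0))] (.node 208 [(108,(Int.ofNat 1))] .nil .nil) .nil))) (.node 227 [(163,(Int.ofNat 1))] (.node 220 [(135,(Int.negSucc 0))] (.node 217 [(124,(Int.ofNat 1))] (.node 216 [(121,(Int.negSucc 0))] .nil .nil) (.node 218 [(128,(Int.negSucc 0))] .nil .nil)) (.node 225 [(150,(Int.ofNat 1))] (.node 224 [(139,(Int.ofNat 1))] .nil .nil) .nil)) (.node 236 [(189,(Int.ofNat 1))] (.node 233 [(172,(Int.negSucc 0))] (.node 231 [(167,(Int.negSucc 0))] .nil .nil) (.node 235 [(186,(Int.ofNat 1))] .nil .nil)) (.node 239 [(193,(Int.negSucc 0))] (.node 237 [(191,(Int.ofNat 1))] .nil .nil) .nil)))))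
noncomputable def ch25 : Tr (List (ℕ × ℤ)) := (.node 174 [(80,(Int.negSucc 0))] (.node 130 [(29,(Int.ofNat 1))] (.node 88 [(14,(Int.ofNat 1))] (.node 52 [(4,(Int.ofNat 1))] (.node 47 [(2,(Int.ofNat 1))] (.node 46 [(1,(Int.ofNat 1))] .nil .nil) (.node 49 [(3,(Int.ofNat 1))] .nil .nil)) (.node 71 [(8,(Int.negSucc 0))] (.node 66 [(6,(Int.negSucc 0))] .nil .nil) (.node 76 [(13,(Int.negSucc 0))] .nil .nil))) (.node 114 [(22,(Int.ofNat 1))] (.node 104 [(20,(Int.ofNat 1))] (.node 99 [(15,(Int.ofNat 1))] .nil .nil) (.node 110 [(21,(Int.negSucc 0))] .nil .nil)) (.node 119 [(24,(Int.ofNat 1))] (.node 117 [(23,(Int.negSucc 0))] .nil .nil) .nil))) (.node 145 [(45,(Int.negSucc 0))] (.node 142 [(39,(Int.ofNat 1))] (.node 132 [(34,(Int.ofNat 1))] (.node 131 [(32,(Int.negSucc 0))] .nil .nil) (.node 133 [(35,(Int.negSucc 0))]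 .nil .nil)) (.node 144 [(44,(Int.ofNat 1))] (.node 143 [(42,(Int.negSucc 0))] .nil .nil) .nil)) (.node 156 [(63,(Int.ofNat 1))] (.node 153 [(60,(Int.negSucc 0))] (.node 152 [(58,(Int.ofNat 1))] .nil .nil) (.node 154 [(61,(Int.ofNat 1))] .nil .nil)) (.node 159 [(65,(Int.ofNat 1))] (.node 157 [(64,(Int.negSucc 0))] .nil .nil) .nil)))) (.node 215 [(120,(Int.negSucc 0))] (.node 195 [(95,(Int.negSucc 0))] (.node 179 [(86,(Int.ofNat 1))] (.node 176 [(83,(Int.negSucc 0))] (.node 175 [(82,(Int.ofNat 1))] .nil .nil) (.node 178 [(85,(Int.negSucc 0))] .nil .nil)) (.node 194 [(94,(Int.ofNat 1))] (.node 181 [(87,(Int.negSucc 0))] .nil .nil) .nil)) (.node 205 [(107,(Int.negSucc 0))] (.node 200 [(97,(Int.negSucc 0))] (.node 197 [(96,(Int.ofNat 1))] .nil .nil) (.node 204 [(106,(Int.ofNat 1))] .nil .nil)) (.node 210 [(109,(Int.negSucc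 0))] (.node 207 [(108,(Int.ofNat 1))] .nil .nil) .nil))) (.node 226 [(163,(Int.ofNat 1))] (.node 219 [(135,(Int.negSucc 0))] (.node 217 [(125,(Int.negSucc 0))] (.node 216 [(122,(Int.ofNat 1))] .nil .nil) (.node 218 [(129,(Int.ofNat 1))] .nil .nil)) (.node 225 [(151,(Int.negSucc 0))] (.node 224 [(140,(Int.negSucc 0))] .nil .nil) .nil)) (.node 236 [(190,(Int.negSucc 0))] (.node 233 [(173,(Int.ofNat 1))] (.node 231 [(168,(Int.ofNat 1))] .nil .nil) (.node 235 [(187,(Int.negSucc 0))] .nil .nil)) (.node 238 [(193,(Int.negSucc 0))] (.node 237 [(192,(Int.negSucc 0))] .nil .nil) .nil)))))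
noncomputable def ch26 : Tr (List (ℕ × ℤ)) := (.node 171 [(78,(Int.negSucc 0))] (.node 125 [(29,(Int.ofNat 1))] (.node 87 [(14,(Int.ofNat 1))] (.node 55 [(5,(Int.negSucc 0))] (.node 44 [(1,(Int.negSucc 0))] (.node 43 [(0,(Int.negSucc 0))] .nil .nil) (.node 45 [(2,(Int.negSucc 0))] .nil .nil)) (.node 74 [(9,(Int.ofNat 1))] (.node 65 [(6,(Int.negSucc 0))] .nil .nil) (.node 75 [(10,(Int.ofNat 1))] .nil .nil))) (.node 109 [(22,(Int.ofNat 1))] (.node 103 [(17,(Int.negSucc 0))] (.node 102 [(16,(Int.negSucc 0))] .nil .nil) (.node 108 [(21,(Int.ofNat 1))] .nil .nil)) (.node 124 [(28,(Int.negSucc 0))] (.node 123 [(27,(Int.ofNat 1))] .nil .nil) .nil))) (.node 146 [(48,(Int.negSucc 0))] (.node 141 [(36,(Int.ofNat 1))] (.node 128 [(31,(Int.negSucc 0))] (.node 127 [(30,(Int.ofNat 1))] .nil .nil) (.node 129 [(32,(Int.ofNat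 1))] .nil .nil)) (.node 145 [(47,(Int.ofNat 1))] (.node 144 [(46,(Int.negSucc 0))] .nil .nil) .nil)) (.node 159 [(66,(Int.ofNat 1))] (.node 150 [(57,(Int.negSucc 0))] (.node 149 [(56,(Int.ofNat 1))] .nil .nil) (.node 151 [(58,(Int.ofNat 1))] .nil .nil)) (.node 161 [(68,(Int.ofNat 1))] (.node 160 [(67,(Int.negSucc 0))] .nil .nil) .nil)))) (.node 211 [(115,(Int.ofNat 1))] (.node 192 [(94,(Int.negSucc 0))] (.node 182 [(89,(Int.ofNat 1))] (.node 173 [(80,(Int.negSucc 0))] (.node 172 [(79,(Int.ofNat 1))] .nil .nil) (.node 181 [(88,(Int.negSucc 0))] .nil .nil)) (.node 191 [(93,(Int.ofNat 1))] (.node 183 [(90,(Int.negSucc 0))] .nil .nil) .nil)) (.node 208 [(111,(Int.ofNat 1))] (.node 203 [(98,(Int.negSucc 0))] (.node 193 [(95,(Int.ofNat 1))] .nil .nil) (.node 207 [(110,(Int.negSucc 0))] .nil .nil)) (.node 210 [(114,(Int.negSucc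 0))] (.node 209 [(112,(Int.negSucc 0))] .nil .nil) .nil))) (.node 229 [(164,(Int.negSucc 0))] (.node 222 [(136,(Int.ofNat 1))] (.node 217 [(130,(Int.negSucc 0))] (.node 212 [(116,(Int.negSucc 0))] .nil .nil) (.node 218 [(131,(Int.negSucc 0))] .nil .nil)) (.node 225 [(152,(Int.negSucc 0))] (.node 223 [(137,(Int.ofNat 1))] .nil .nil) .nil)) (.node 237 [(194,(Int.ofNat 1))] (.node 233 [(174,(Int.ofNat 1))] (.node 230 [(165,(Int.negSucc 0))] .nil .nil) (.node 234 [(184,(Int.ofNat 1))] .nil .nil)) (.node 239 [(196,(Int.ofNat 1))] (.node 238 [(195,(Int.ofNat 1))] .nil .nil) .nil)))))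
noncomputable def ch27 : Tr (List (ℕ × ℤ)) := (.node 170 [(78,(Int.negSucc 0))] (.node 122 [(29,(Int.negSucc 0))] (.node 86 [(14,(Int.negSucc 0))] (.node 54 [(5,(Int.ofNat 1))] (.node 42 [(1,(Int.ofNat 1))] (.node 41 [(0,(Int.ofNat 1))] .nil .nil) (.node 45 [(3,(Int.negSucc 0))] .nil .nil)) (.node 73 [(9,(Int.negSucc 0))] (.node 64 [(6,(Int.ofNat 1))] .nil .nil) (.node 75 [(11,(Int.ofNat 1))] .nil .nil))) (.node 109 [(23,(Int.ofNat 1))] (.node 103 [(18,(Int.negSucc 0))] (.node 101 [(16,(Int.ofNat 1))] .nil .nil) (.node 107 [(21,(Int.negSucc 0))] .nil .nil)) (.node 121 [(28,(Int.ofNat 1))] (.node 116 [(26,(Int.ofNat 1))] .nil .nil) .nil))) (.node 146 [(50,(Int.negSucc 0))] (.node 141 [(37,(Int.ofNat 1))] (.node 128 [(33,(Int.negSucc 0))] (.node 126 [(30,(Int.ofNat 1))] .nil .nil) (.node 129 [(34,(Int.ofNat 1))]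 .nil .nil)) (.node 145 [(49,(Int.ofNat 1))] (.node 143 [(46,(Int.negSucc 0))] .nil .nil) .nil)) (.node 157 [(66,(Int.ofNat 1))] (.node 150 [(59,(Int.negSucc 0))] (.node 148 [(56,(Int.ofNat 1))] .nil .nil) (.node 151 [(60,(Int.ofNat 1))] .nil .nil)) (.node 161 [(69,(Int.ofNat 1))] (.node 158 [(67,(Int.negSucc 0))] .nil .nil) .nil)))) (.node 211 [(118,(Int.negSucc 0))] (.node 190 [(94,(Int.negSucc 0))] (.node 180 [(89,(Int.ofNat 1))] (.node 173 [(82,(Int.negSucc 0))] (.node 172 [(81,(Int.ofNat 1))] .nil .nil) (.node 179 [(88,(Int.negSucc 0))] .nil .nil)) (.node 189 [(93,(Int.ofNat 1))] (.node 183 [(91,(Int.negSucc 0))] .nil .nil) .nil)) (.node 206 [(111,(Int.ofNat 1))] (.node 202 [(98,(Int.negSucc 0))] (.node 193 [(96,(Int.ofNat 1))] .nil .nil) (.node 205 [(110,(Int.negSucc 0))] .nil .nil)) (.node 210 [(117,(Int.ofNat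 1))] (.node 209 [(113,(Int.negSucc 0))] .nil .nil) .nil))) (.node 228 [(164,(Int.negSucc 0))] (.node 221 [(136,(Int.ofNat 1))] (.node 216 [(130,(Int.negSucc 0))] (.node 213 [(123,(Int.negSucc 0))] .nil .nil) (.node 218 [(132,(Int.ofNat 1))] .nil .nil)) (.node 225 [(153,(Int.ofNat 1))] (.node 223 [(138,(Int.negSucc 0))] .nil .nil) .nil)) (.node 236 [(194,(Int.ofNat 1))] (.node 233 [(175,(Int.negSucc 0))] (.node 230 [(166,(Int.ofNat 1))] .nil .nil) (.node 234 [(185,(Int.negSucc 0))] .nil .nil)) (.node 239 [(198,(Int.negSucc 0))] (.node 238 [(197,(Int.negSucc 0))] .nil .nil) .nil)))))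
noncomputable def ch28 : Tr (List (ℕ × ℤ)) := (.node 170 [(79,(Int.negSucc 0))] (.node 120 [(29,(Int.ofNat 1))] (.node 85 [(14,(Int.ofNat 1))] (.node 53 [(5,(Int.negSucc 0))] (.node 42 [(2,(Int.ofNat 1))] (.node 40 [(0,(Int.negSucc 0))] .nil .nil) (.node 44 [(3,(Int.ofNat 1))] .nil .nil)) (.node 72 [(9,(Int.ofNat 1))] (.node 63 [(6,(Int.negSucc 0))] .nil .nil) (.node 75 [(12,(Int.ofNat 1))] .nil .nil))) (.node 109 [(24,(Int.ofNat 1))] (.node 103 [(19,(Int.negSucc 0))] (.node 100 [(16,(Int.negSucc 0))] .nil .nil) (.node 106 [(21,(Int.ofNat 1))] .nil .nil)) (.node 118 [(27,(Int.ofNat 1))] (.node 115 [(26,(Int.negSucc 0))] .nil .nil) .nil))) (.node 146 [(51,(Int.negSucc 0))] (.node 141 [(38,(Int.ofNat 1))] (.node 127 [(33,(Int.negSucc 0))] (.node 126 [(31,(Int.ofNat 1))] .nil .nil) (.node 129 [(35,(Int.ofNat 1))]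 .nil .nil)) (.node 144 [(49,(Int.ofNat 1))] (.node 143 [(47,(Int.negSucc 0))] .nil .nil) .nil)) (.node 156 [(66,(Int.ofNat 1))] (.node 149 [(59,(Int.negSucc 0))] (.node 148 [(57,(Int.ofNat 1))] .nil .nil) (.node 151 [(61,(Int.ofNat 1))] .nil .nil)) (.node 160 [(69,(Int.ofNat 1))] (.node 158 [(68,(Int.negSucc 0))] .nil .nil) .nil)))) (.node 212 [(121,(Int.negSucc 0))] (.node 190 [(95,(Int.negSucc 0))] (.node 180 [(90,(Int.ofNat 1))] (.node 173 [(83,(Int.negSucc 0))] (.node 171 [(81,(Int.ofNat 1))] .nil .nil) (.node 178 [(88,(Int.negSucc 0))] .nil .nil)) (.node 188 [(93,(Int.ofNat 1))] (.node 182 [(91,(Int.negSucc 0))] .nil .nil) .nil)) (.node 206 [(112,(Int.ofNat 1))] (.node 201 [(98,(Int.negSucc 0))] (.node 192 [(96,(Int.ofNat 1))] .nil .nil) (.node 204 [(110,(Int.negSucc 0))] .nil .nil)) (.node 210 [(119,(Int.negSucc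 0))] (.node 208 [(113,(Int.negSucc 0))] .nil .nil) .nil))) (.node 227 [(164,(Int.negSucc 0))] (.node 220 [(136,(Int.ofNat 1))] (.node 215 [(130,(Int.negSucc 0))] (.node 213 [(124,(Int.ofNat 1))] .nil .nil) (.node 218 [(133,(Int.negSucc 0))] .nil .nil)) (.node 225 [(154,(Int.negSucc 0))] (.node 223 [(139,(Int.ofNat 1))] .nil .nil) .nil)) (.node 236 [(195,(Int.negSucc 0))] (.node 233 [(176,(Int.ofNat 1))] (.node 230 [(167,(Int.negSucc 0))] .nil .nil) (.node 234 [(186,(Int.ofNat 1))] .nil .nil)) (.node 239 [(199,(Int.ofNat 1))] (.node 237 [(197,(Int.negSucc 0))] .nil .nil) .nil)))))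
noncomputable def ch29 : Tr (List (ℕ × ℤ)) := (.node 170 [(80,(Int.negSucc 0))] (.node 119 [(28,(Int.ofNat 1))] (.node 84 [(14,(Int.negSucc 0))] (.node 52 [(5,(Int.ofNat 1))] (.node 41 [(2,(Int.negSucc 0))] (.node 40 [(1,(Int.negSucc 0))] .nil .nil) (.node 43 [(3,(Int.negSucc 0))] .nil .nil)) (.node 71 [(9,(Int.negSucc 0))] (.node 62 [(6,(Int.ofNat 1))] .nil .nil) (.node 75 [(13,(Int.ofNat 1))] .nil .nil))) (.node 109 [(25,(Int.ofNat 1))] (.node 103 [(20,(Int.negSucc 0))] (.node 99 [(16,(Int.ofNat 1))] .nil .nil) (.node 105 [(21,(Int.negSucc 0))] .nil .nil)) (.node 117 [(27,(Int.negSucc 0))] (.node 114 [(26,(Int.ofNat 1))] .nil .nil) .nil))) (.node 145 [(51,(Int.negSucc 0))] (.node 141 [(39,(Int.ofNat 1))] (.node 127 [(34,(Int.negSucc 0))] (.node 126 [(32,(Int.ofNat 1))] .nil .nil) (.node 128 [(35,(Int.ofNat 1))]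 .nil .nil)) (.node 144 [(50,(Int.ofNat 1))] (.node 143 [(48,(Int.negSucc 0))] .nil .nil) .nil)) (.node 156 [(67,(Int.ofNat 1))] (.node 149 [(60,(Int.negSucc 0))] (.node 148 [(58,(Int.ofNat 1))] .nil .nil) (.node 150 [(61,(Int.ofNat 1))] .nil .nil)) (.node 159 [(69,(Int.ofNat 1))] (.node 157 [(68,(Int.negSucc 0))] .nil .nil) .nil)))) (.node 212 [(122,(Int.ofNat 1))] (.node 189 [(95,(Int.negSucc 0))] (.node 179 [(90,(Int.ofNat 1))] (.node 172 [(83,(Int.negSucc 0))] (.node 171 [(82,(Int.ofNat 1))] .nil .nil) (.node 178 [(89,(Int.negSucc 0))] .nil .nil)) (.node 188 [(94,(Int.ofNat 1))] (.node 181 [(91,(Int.negSucc 0))] .nil .nil) .nil)) (.node 205 [(112,(Int.ofNat 1))] (.node 200 [(98,(Int.negSucc 0))] (.node 191 [(96,(Int.ofNat 1))] .nil .nil) (.node 204 [(111,(Int.negSucc 0))] .nil .nil)) (.node 211 [(120,(Int.negSucc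 0))] (.node 207 [(113,(Int.negSucc 0))] .nil .nil) .nil))) (.node 226 [(164,(Int.negSucc 0))] (.node 219 [(136,(Int.ofNat 1))] (.node 214 [(130,(Int.negSucc 0))] (.node 213 [(125,(Int.negSucc 0))] .nil .nil) (.node 218 [(134,(Int.ofNat 1))] .nil .nil)) (.node 225 [(155,(Int.ofNat 1))] (.node 223 [(140,(Int.negSucc 0))] .nil .nil) .nil)) (.node 236 [(196,(Int.ofNat 1))] (.node 233 [(177,(Int.negSucc 0))] (.node 230 [(168,(Int.ofNat 1))] .nil .nil) (.node 234 [(187,(Int.negSucc 0))] .nil .nil)) (.node 238 [(199,(Int.ofNat 1))] (.node 237 [(198,(Int.ofNat 1))] .nil .nil) .nil)))))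
noncomputable def ch30 : Tr (List (ℕ × ℤ)) := (.node 169 [(78,(Int.negSucc 0))] (.node 121 [(31,(Int.ofNat 1))] (.node 83 [(14,(Int.ofNat 1))] (.node 51 [(5,(Int.negSucc 0))] (.node 39 [(1,(Int.negSucc 0))] (.node 38 [(0,(Int.negSucc 0))] .nil .nil) (.node 45 [(4,(Int.negSucc 0))] .nil .nil)) (.node 73 [(10,(Int.negSucc 0))] (.node 61 [(6,(Int.negSucc 0))] .nil .nil) (.node 74 [(11,(Int.negSucc 0))] .nil .nil))) (.node 108 [(23,(Int.negSucc 0))] (.node 102 [(18,(Int.ofNat 1))] (.node 101 [(17,(Int.ofNat 1))] .nil .nil) (.node 107 [(22,(Int.negSucc 0))] .nil .nil)) (.node 113 [(27,(Int.ofNat 1))] (.node 112 [(26,(Int.ofNat 1))] .nil .nil) .nil))) (.node 146 [(53,(Int.negSucc 0))] (.node 141 [(40,(Int.ofNat 1))] (.node 124 [(33,(Int.ofNat 1))] (.node 122 [(32,(Int.negSucc 0))] .nil .nil) (.node 125 [(34,(Int.negSucc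 0))] .nil .nil)) (.node 145 [(52,(Int.ofNat 1))] (.node 142 [(46,(Int.negSucc 0))] .nil .nil) .nil)) (.node 154 [(66,(Int.ofNat 1))] (.node 150 [(62,(Int.negSucc 0))] (.node 147 [(56,(Int.ofNat 1))] .nil .nil) (.node 151 [(63,(Int.ofNat 1))] .nil .nil)) (.node 161 [(70,(Int.ofNat 1))] (.node 155 [(67,(Int.negSucc 0))] .nil .nil) .nil)))) (.node 212 [(126,(Int.negSucc 0))] (.node 187 [(94,(Int.negSucc 0))] (.node 177 [(89,(Int.ofNat 1))] (.node 173 [(85,(Int.negSucc 0))] (.node 172 [(84,(Int.ofNat 1))] .nil .nil) (.node 176 [(88,(Int.negSucc 0))] .nil .nil)) (.node 186 [(93,(Int.ofNat 1))] (.node 183 [(92,(Int.negSucc 0))] .nil .nil) .nil)) (.node 206 [(115,(Int.negSucc 0))] (.node 199 [(98,(Int.negSucc 0))] (.node 193 [(97,(Int.ofNat 1))] .nil .nil) (.node 205 [(114,(Int.ofNat 1))] .nil .nil)) (.node 208 [(118,(Int.negSucc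 0))] (.node 207 [(117,(Int.ofNat 1))] .nil .nil) .nil))) (.node 228 [(165,(Int.ofNat 1))] (.node 221 [(137,(Int.negSucc 0))] (.node 216 [(131,(Int.ofNat 1))] (.node 213 [(127,(Int.negSucc 0))] .nil .nil) (.node 217 [(132,(Int.ofNat 1))] .nil .nil)) (.node 225 [(156,(Int.negSucc 0))] (.node 222 [(138,(Int.negSucc 0))] .nil .nil) .nil)) (.node 235 [(194,(Int.ofNat 1))] (.node 233 [(178,(Int.ofNat 1))] (.node 229 [(166,(Int.ofNat 1))] .nil .nil) (.node 234 [(188,(Int.ofNat 1))] .nil .nil)) (.node 239 [(201,(Int.ofNat 1))] (.node 238 [(200,(Int.ofNat 1))] .nil .nil) .nil)))))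
noncomputable def ch31 : Tr (List (ℕ × ℤ)) := (.node 169 [(79,(Int.negSucc 0))] (.node 118 [(30,(Int.ofNat 1))] (.node 82 [(14,(Int.negSucc 0))] (.node 50 [(5,(Int.ofNat 1))] (.node 39 [(2,(Int.negSucc 0))] (.node 37 [(0,(Int.ofNat 1))] .nil .nil) (.node 44 [(4,(Int.ofNat 1))] .nil .nil)) (.node 72 [(10,(Int.ofNat 1))] (.node 60 [(6,(Int.ofNat 1))] .nil .nil) (.node 74 [(12,(Int.negSucc 0))] .nil .nil))) (.node 108 [(24,(Int.negSucc 0))] (.node 102 [(19,(Int.ofNat 1))] (.node 100 [(17,(Int.negSucc 0))] .nil .nil) (.node 106 [(22,(Int.ofNat 1))] .nil .nil)) (.node 113 [(28,(Int.ofNat 1))] (.node 111 [(26,(Int.negSucc 0))] .nil .nil) .nil))) (.node 146 [(54,(Int.negSucc 0))] (.node 141 [(41,(Int.ofNat 1))] (.node 123 [(33,(Int.ofNat 1))] (.node 120 [(32,(Int.ofNat 1))] .nil .nil) (.node 125 [(35,(Int.negSucc 0))]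 .nil .nil)) (.node 144 [(52,(Int.ofNat 1))] (.node 142 [(47,(Int.negSucc 0))] .nil .nil) .nil)) (.node 153 [(66,(Int.ofNat 1))] (.node 149 [(62,(Int.negSucc 0))] (.node 147 [(57,(Int.ofNat 1))] .nil .nil) (.node 151 [(64,(Int.ofNat 1))] .nil .nil)) (.node 160 [(70,(Int.ofNat 1))] (.node 155 [(68,(Int.negSucc 0))] .nil .nil) .nil)))) (.node 211 [(126,(Int.negSucc 0))] (.node 187 [(95,(Int.negSucc 0))] (.node 177 [(90,(Int.ofNat 1))] (.node 173 [(86,(Int.negSucc 0))] (.node 171 [(84,(Int.ofNat 1))] .nil .nil) (.node 175 [(88,(Int.negSucc 0))] .nil .nil)) (.node 185 [(93,(Int.ofNat 1))] (.node 182 [(92,(Int.negSucc 0))] .nil .nil) .nil)) (.node 206 [(116,(Int.negSucc 0))] (.node 198 [(98,(Int.negSucc 0))] (.node 192 [(97,(Int.ofNat 1))] .nil .nil) (.node 204 [(114,(Int.ofNat 1))] .nil .nil)) (.node 209 [(121,(Int.negSucc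 0))] (.node 207 [(119,(Int.negSucc 0))] .nil .nil) .nil))) (.node 227 [(165,(Int.ofNat 1))] (.node 220 [(137,(Int.negSucc 0))] (.node 215 [(131,(Int.ofNat 1))] (.node 213 [(128,(Int.ofNat 1))] .nil .nil) (.node 217 [(133,(Int.negSucc 0))] .nil .nil)) (.node 225 [(157,(Int.ofNat 1))] (.node 222 [(139,(Int.ofNat 1))] .nil .nil) .nil)) (.node 235 [(195,(Int.negSucc 0))] (.node 233 [(179,(Int.negSucc 0))] (.node 229 [(167,(Int.negSucc 0))] .nil .nil) (.node 234 [(189,(Int.negSucc 0))] .nil .nil)) (.node 239 [(202,(Int.negSucc 0))] (.node 237 [(200,(Int.ofNat 1))] .nil .nil) .nil)))))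
noncomputable def ch32 : Tr (List (ℕ × ℤ)) := (.node 169 [(80,(Int.negSucc 0))] (.node 117 [(30,(Int.negSucc 0))] (.node 81 [(14,(Int.ofNat 1))] (.node 49 [(5,(Int.negSucc 0))] (.node 38 [(2,(Int.ofNat 1))] (.node 37 [(1,(Int.ofNat 1))] .nil .nil) (.node 43 [(4,(Int.negSucc 0))] .nil .nil)) (.node 71 [(10,(Int.negSucc 0))] (.node 59 [(6,(Int.negSucc 0))] .nil .nil) (.node 74 [(13,(Int.negSucc 0))] .nil .nil))) (.node 108 [(25,(Int.negSucc 0))] (.node 102 [(20,(Int.ofNat 1))] (.node 99 [(17,(Int.ofNat 1))] .nil .nil) (.node 105 [(22,(Int.negSucc 0))] .nil .nil)) (.node 113 [(29,(Int.ofNat 1))] (.node 110 [(26,(Int.ofNat 1))] .nil .nil) .nil))) (.node 145 [(54,(Int.negSucc 0))] (.node 141 [(42,(Int.ofNat 1))] (.node 123 [(34,(Int.ofNat 1))] (.node 119 [(31,(Int.ofNat 1))] .nil .nil) (.node 124 [(35,(Int.negSucc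 0))] .nil .nil)) (.node 144 [(53,(Int.ofNat 1))] (.node 142 [(48,(Int.negSucc 0))] .nil .nil) .nil)) (.node 153 [(67,(Int.ofNat 1))] (.node 149 [(63,(Int.negSucc 0))] (.node 147 [(58,(Int.ofNat 1))] .nil .nil) (.node 150 [(64,(Int.ofNat 1))] .nil .nil)) (.node 159 [(70,(Int.ofNat 1))] (.node 154 [(68,(Int.negSucc 0))] .nil .nil) .nil)))) (.node 210 [(126,(Int.negSucc 0))] (.node 186 [(95,(Int.negSucc 0))] (.node 176 [(90,(Int.ofNat 1))] (.node 172 [(86,(Int.negSucc 0))] (.node 171 [(85,(Int.ofNat 1))] .nil .nil) (.node 175 [(89,(Int.negSucc 0))] .nil .nil)) (.node 185 [(94,(Int.ofNat 1))] (.node 181 [(92,(Int.negSucc 0))] .nil .nil) .nil)) (.node 205 [(116,(Int.negSucc 0))] (.node 197 [(98,(Int.negSucc 0))] (.node 191 [(97,(Int.ofNat 1))] .nil .nil) (.node 204 [(115,(Int.ofNat 1))] .nil .nil)) (.node 209 [(122,(Int.ofNat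 1))] (.node 208 [(120,(Int.negSucc 0))] .nil .nil) .nil))) (.node 226 [(165,(Int.ofNat 1))] (.node 219 [(137,(Int.negSucc 0))] (.node 214 [(131,(Int.ofNat 1))] (.node 213 [(129,(Int.negSucc 0))] .nil .nil) (.node 217 [(134,(Int.ofNat 1))] .nil .nil)) (.node 225 [(158,(Int.negSucc 0))] (.node 222 [(140,(Int.negSucc 0))] .nil .nil) .nil)) (.node 235 [(196,(Int.ofNat 1))] (.node 233 [(180,(Int.ofNat 1))] (.node 229 [(168,(Int.ofNat 1))] .nil .nil) (.node 234 [(190,(Int.ofNat 1))] .nil .nil)) (.node 238 [(202,(Int.negSucc 0))] (.node 237 [(201,(Int.negSucc 0))] .nil .nil) .nil)))))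
noncomputable def ch33 : Tr (List (ℕ × ℤ)) := (.node 169 [(81,(Int.negSucc 0))] (.node 115 [(30,(Int.ofNat 1))] (.node 80 [(14,(Int.ofNat 1))] (.node 48 [(5,(Int.negSucc 0))] (.node 39 [(3,(Int.negSucc 0))] (.node 36 [(0,(Int.negSucc 0))] .nil .nil) (.node 42 [(4,(Int.negSucc 0))] .nil .nil)) (.node 72 [(11,(Int.ofNat 1))] (.node 58 [(6,(Int.negSucc 0))] .nil .nil) (.node 73 [(12,(Int.ofNat 1))] .nil .nil))) (.node 107 [(24,(Int.ofNat 1))] (.node 101 [(19,(Int.negSucc 0))] (.node 100 [(18,(Int.negSucc 0))] .nil .nil) (.node 106 [(23,(Int.ofNat 1))] .nil .nil)) (.node 112 [(28,(Int.negSucc 0))] (.node 111 [(27,(Int.negSucc 0))] .nil .nil) .nil))) (.node 146 [(55,(Int.negSucc 0))] (.node 141 [(43,(Int.ofNat 1))] (.node 120 [(34,(Int.ofNat 1))] (.node 116 [(31,(Int.ofNat 1))] .nil .nil) (.node 122 [(35,(Int.ofNat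 1))] .nil .nil)) (.node 143 [(52,(Int.ofNat 1))] (.node 142 [(49,(Int.negSucc 0))] .nil .nil) .nil)) (.node 152 [(66,(Int.ofNat 1))] (.node 148 [(62,(Int.negSucc 0))] (.node 147 [(59,(Int.ofNat 1))] .nil .nil) (.node 151 [(65,(Int.ofNat 1))] .nil .nil)) (.node 158 [(70,(Int.ofNat 1))] (.node 155 [(69,(Int.negSucc 0))] .nil .nil) .nil)))) (.node 211 [(127,(Int.ofNat 1))] (.node 187 [(96,(Int.negSucc 0))] (.node 177 [(91,(Int.ofNat 1))] (.node 173 [(87,(Int.negSucc 0))] (.node 170 [(84,(Int.ofNat 1))] .nil .nil) (.node 174 [(88,(Int.negSucc 0))] .nil .nil)) (.node 184 [(93,(Int.ofNat 1))] (.node 180 [(92,(Int.negSucc 0))] .nil .nil) .nil)) (.node 205 [(119,(Int.negSucc 0))] (.node 196 [(98,(Int.negSucc 0))] (.node 190 [(97,(Int.ofNat 1))] .nil .nil) (.node 204 [(117,(Int.negSucc 0))] .nil .nil)) (.node 209 [(124,(Int.negSucc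 0))] (.node 208 [(123,(Int.negSucc 0))] .nil .nil) .nil))) (.node 227 [(166,(Int.negSucc 0))] (.node 220 [(138,(Int.ofNat 1))] (.node 215 [(132,(Int.negSucc 0))] (.node 212 [(128,(Int.ofNat 1))] .nil .nil) (.node 216 [(133,(Int.negSucc 0))] .nil .nil)) (.node 225 [(159,(Int.negSucc 0))] (.node 221 [(139,(Int.ofNat 1))] .nil .nil) .nil)) (.node 235 [(197,(Int.ofNat 1))] (.node 233 [(181,(Int.ofNat 1))] (.node 228 [(167,(Int.negSucc 0))] .nil .nil) (.node 234 [(191,(Int.ofNat 1))] .nil .nil)) (.node 239 [(203,(Int.ofNat 1))] (.node 236 [(200,(Int.ofNat 1))] .nil .nil) .nil)))))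
noncomputable def ch34 : Tr (List (ℕ × ℤ)) := (.node 169 [(82,(Int.negSucc 0))] (.node 114 [(30,(Int.negSucc 0))] (.node 79 [(14,(Int.negSucc 0))] (.node 47 [(5,(Int.ofNat 1))] (.node 38 [(3,(Int.ofNat 1))] (.node 36 [(1,(Int.negSucc 0))] .nil .nil) (.node 41 [(4,(Int.ofNat 1))] .nil .nil)) (.node 71 [(11,(Int.negSucc 0))] (.node 57 [(6,(Int.ofNat 1))] .nil .nil) (.node 73 [(13,(Int.ofNat 1))] .nil .nil))) (.node 107 [(25,(Int.ofNat 1))] (.node 101 [(20,(Int.negSucc 0))] (.node 99 [(18,(Int.ofNat 1))] .nil .nil) (.node 105 [(23,(Int.negSucc 0))] .nil .nil)) (.node 112 [(29,(Int.negSucc 0))] (.node 110 [(27,(Int.ofNat 1))] .nil .nil) .nil))) (.node 145 [(55,(Int.negSucc 0))] (.node 141 [(44,(Int.ofNat 1))] (.node 119 [(33,(Int.ofNat 1))] (.node 116 [(32,(Int.ofNat 1))] .nil .nil) (.node 121 [(35,(Int.ofNat 1))]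 .nil .nil)) (.node 143 [(53,(Int.ofNat 1))] (.node 142 [(50,(Int.negSucc 0))] .nil .nil) .nil)) (.node 152 [(67,(Int.ofNat 1))] (.node 148 [(63,(Int.negSucc 0))] (.node 147 [(60,(Int.ofNat 1))] .nil .nil) (.node 150 [(65,(Int.ofNat 1))] .nil .nil)) (.node 157 [(70,(Int.ofNat 1))] (.node 154 [(69,(Int.negSucc 0))] .nil .nil) .nil)))) (.node 210 [(127,(Int.ofNat 1))] (.node 186 [(96,(Int.negSucc 0))] (.node 176 [(91,(Int.ofNat 1))] (.node 172 [(87,(Int.negSucc 0))] (.node 170 [(85,(Int.ofNat 1))] .nil .nil) (.node 174 [(89,(Int.negSucc 0))] .nil .nil)) (.node 184 [(94,(Int.ofNat 1))] (.node 179 [(92,(Int.negSucc 0))] .nil .nil) .nil)) (.node 206 [(120,(Int.negSucc 0))] (.node 195 [(98,(Int.negSucc 0))] (.node 189 [(97,(Int.ofNat 1))] .nil .nil) (.node 204 [(118,(Int.negSucc 0))] .nil .nil)) (.node 209 [(125,(Int.ofNat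 1))] (.node 207 [(123,(Int.negSucc 0))] .nil .nil) .nil))) (.node 226 [(166,(Int.negSucc 0))] (.node 219 [(138,(Int.ofNat 1))] (.node 214 [(132,(Int.negSucc 0))] (.node 212 [(129,(Int.negSucc 0))] .nil .nil) (.node 216 [(134,(Int.ofNat 1))] .nil .nil)) (.node 225 [(160,(Int.ofNat 1))] (.node 221 [(140,(Int.negSucc 0))] .nil .nil) .nil)) (.node 235 [(198,(Int.negSucc 0))] (.node 233 [(182,(Int.negSucc 0))] (.node 228 [(168,(Int.ofNat 1))] .nil .nil) (.node 234 [(192,(Int.negSucc 0))] .nil .nil)) (.node 238 [(203,(Int.ofNat 1))] (.node 236 [(201,(Int.negSucc 0))] .nil .nil) .nil)))))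
noncomputable def ch35 : Tr (List (ℕ × ℤ)) := (.node 169 [(83,(Int.negSucc 0))] (.node 114 [(31,(Int.negSucc 0))] (.node 78 [(14,(Int.ofNat 1))] (.node 46 [(5,(Int.negSucc 0))] (.node 37 [(3,(Int.negSucc 0))] (.node 36 [(2,(Int.negSucc 0))] .nil .nil) (.node 40 [(4,(Int.negSucc 0))] .nil .nil)) (.node 71 [(12,(Int.negSucc 0))] (.node 56 [(6,(Int.negSucc 0))] .nil .nil) (.node 72 [(13,(Int.negSucc 0))] .nil .nil))) (.node 106 [(25,(Int.negSucc 0))] (.node 100 [(20,(Int.ofNat 1))] (.node 99 [(19,(Int.ofNat 1))] .nil .nil) (.node 105 [(24,(Int.negSucc 0))] .nil .nil)) (.node 111 [(29,(Int.ofNat 1))] (.node 110 [(28,(Int.ofNat 1))] .nil .nil) .nil))) (.node 144 [(55,(Int.negSucc 0))] (.node 141 [(45,(Int.ofNat 1))] (.node 117 [(33,(Int.ofNat 1))] (.node 115 [(32,(Int.negSucc 0))] .nil .nil) (.node 118 [(34,(Int.ofNat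 1))] .nil .nil)) (.node 143 [(54,(Int.ofNat 1))] (.node 142 [(51,(Int.negSucc 0))] .nil .nil) .nil)) (.node 152 [(68,(Int.ofNat 1))] (.node 148 [(64,(Int.negSucc 0))] (.node 147 [(61,(Int.ofNat 1))] .nil .nil) (.node 149 [(65,(Int.ofNat 1))] .nil .nil)) (.node 156 [(70,(Int.ofNat 1))] (.node 153 [(69,(Int.negSucc 0))] .nil .nil) .nil)))) (.node 210 [(128,(Int.negSucc 0))] (.node 185 [(96,(Int.negSucc 0))] (.node 175 [(91,(Int.ofNat 1))] (.node 171 [(87,(Int.negSucc 0))] (.node 170 [(86,(Int.ofNat 1))] .nil .nil) (.node 174 [(90,(Int.negSucc 0))] .nil .nil)) (.node 184 [(95,(Int.ofNat 1))] (.node 178 [(92,(Int.negSucc 0))] .nil .nil) .nil)) (.node 206 [(122,(Int.negSucc 0))] (.node 194 [(98,(Int.negSucc 0))] (.node 188 [(97,(Int.ofNat 1))] .nil .nil) (.node 205 [(121,(Int.negSucc 0))] .nil .nil)) (.node 208 [(125,(Int.ofNat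 1))] (.node 207 [(124,(Int.ofNat 1))] .nil .nil) .nil))) (.node 226 [(167,(Int.ofNat 1))] (.node 219 [(139,(Int.negSucc 0))] (.node 214 [(133,(Int.ofNat 1))] (.node 211 [(129,(Int.negSucc 0))] .nil .nil) (.node 215 [(134,(Int.ofNat 1))] .nil .nil)) (.node 225 [(161,(Int.negSucc 0))] (.node 220 [(140,(Int.negSucc 0))] .nil .nil) .nil)) (.node 235 [(199,(Int.ofNat 1))] (.node 233 [(183,(Int.ofNat 1))] (.node 227 [(168,(Int.ofNat 1))] .nil .nil) (.node 234 [(193,(Int.ofNat 1))] .nil .nil)) (.node 237 [(203,(Int.ofNat 1))] (.node 236 [(202,(Int.ofNat 1))] .nil .nil) .nil)))))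
noncomputable def ch36 : Tr (List (ℕ × ℤ)) := (.node 166 [(78,(Int.negSucc 0))] (.node 124 [(38,(Int.negSucc 0))] (.node 87 [(15,(Int.ofNat 1))] (.node 55 [(7,(Int.negSucc 0))] (.node 34 [(1,(Int.ofNat 1))] (.node 33 [(0,(Int.ofNat 1))] .nil .nil) (.node 35 [(2,(Int.ofNat 1))] .nil .nil)) (.node 69 [(9,(Int.negSucc 0))] (.node 65 [(8,(Int.negSucc 0))] .nil .nil) (.node 70 [(10,(Int.negSucc 0))] .nil .nil))) (.node 97 [(22,(Int.ofNat 1))] (.node 92 [(17,(Int.ofNat 1))] (.node 91 [(16,(Int.ofNat 1))] .nil .nil) (.node 96 [(21,(Int.ofNat 1))] .nil .nil)) (.node 123 [(37,(Int.ofNat 1))] (.node 98 [(26,(Int.ofNat 1))] .nil .nil) .nil))) (.node 134 [(48,(Int.ofNat 1))] (.node 129 [(42,(Int.ofNat 1))] (.node 127 [(40,(Int.ofNat 1))] (.node 125 [(39,(Int.ofNat 1))] .nil .nil) (.node 128 [(41,(Int.negSucc 0))] .nil .nil))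 (.node 133 [(47,(Int.negSucc 0))] (.node 132 [(46,(Int.ofNat 1))] .nil .nil) .nil)) (.node 159 [(71,(Int.ofNat 1))] (.node 139 [(57,(Int.negSucc 0))] (.node 138 [(56,(Int.ofNat 1))] .nil .nil) (.node 140 [(58,(Int.ofNat 1))] .nil .nil)) (.node 161 [(73,(Int.ofNat 1))] (.node 160 [(72,(Int.negSucc 0))] .nil .nil) .nil)))) (.node 202 [(116,(Int.negSucc 0))] (.node 192 [(106,(Int.ofNat 1))] (.node 182 [(100,(Int.ofNat 1))] (.node 168 [(80,(Int.negSucc 0))] (.node 167 [(79,(Int.ofNat 1))] .nil .nil) (.node 181 [(99,(Int.negSucc 0))] .nil .nil)) (.node 191 [(105,(Int.negSucc 0))] (.node 183 [(101,(Int.negSucc 0))] .nil .nil) .nil)) (.node 199 [(112,(Int.negSucc 0))] (.node 197 [(110,(Int.negSucc 0))] (.node 193 [(107,(Int.negSucc 0))] .nil .nil) (.node 198 [(111,(Int.ofNat 1))] .nil .nil)) (.node 201 [(115,(Int.ofNat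 1))] (.node 200 [(114,(Int.negSucc 0))] .nil .nil) .nil))) (.node 229 [(169,(Int.ofNat 1))] (.node 222 [(147,(Int.negSucc 0))] (.node 217 [(142,(Int.negSucc 0))] (.node 213 [(141,(Int.negSucc 0))] .nil .nil) (.node 218 [(143,(Int.negSucc 0))] .nil .nil)) (.node 224 [(152,(Int.negSucc 0))] (.node 223 [(148,(Int.negSucc 0))] .nil .nil) .nil)) (.node 237 [(204,(Int.negSucc 0))] (.node 231 [(174,(Int.ofNat 1))] (.node 230 [(170,(Int.ofNat 1))] .nil .nil) (.node 232 [(184,(Int.ofNat 1))] .nil .nil)) (.node 239 [(206,(Int.negSucc 0))] (.node 238 [(205,(Int.negSucc 0))] .nil .nil) .nil)))))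
noncomputable def ch37 : Tr (List (ℕ × ℤ)) := (.node 165 [(78,(Int.negSucc 0))] (.node 121 [(38,(Int.ofNat 1))] (.node 86 [(15,(Int.negSucc 0))] (.node 54 [(7,(Int.ofNat 1))] (.node 32 [(1,(Int.negSucc 0))] (.node 31 [(0,(Int.negSucc 0))] .nil .nil) (.node 35 [(3,(Int.ofNat 1))] .nil .nil)) (.node 68 [(9,(Int.ofNat 1))] (.node 64 [(8,(Int.ofNat 1))] .nil .nil) (.node 70 [(11,(Int.negSucc 0))] .nil .nil))) (.node 97 [(23,(Int.ofNat 1))] (.node 92 [(18,(Int.ofNat 1))] (.node 90 [(16,(Int.negSucc 0))] .nil .nil) (.node 95 [(21,(Int.negSucc 0))] .nil .nil)) (.node 116 [(36,(Int.ofNat 1))] (.node 98 [(27,(Int.ofNat 1))] .nil .nil) .nil))) (.node 134 [(50,(Int.ofNat 1))] (.node 129 [(44,(Int.ofNat 1))] (.node 126 [(40,(Int.ofNat 1))] (.node 122 [(39,(Int.negSucc 0))] .nil .nil) (.node 128 [(43,(Int.negSucc 0))] .nil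 .nil)) (.node 133 [(49,(Int.negSucc 0))] (.node 131 [(46,(Int.ofNat 1))] .nil .nil) .nil)) (.node 157 [(71,(Int.ofNat 1))] (.node 139 [(59,(Int.negSucc 0))] (.node 137 [(56,(Int.ofNat 1))] .nil .nil) (.node 140 [(60,(Int.ofNat 1))] .nil .nil)) (.node 161 [(74,(Int.ofNat 1))] (.node 158 [(72,(Int.negSucc 0))] .nil .nil) .nil)))) (.node 203 [(123,(Int.negSucc 0))] (.node 190 [(106,(Int.ofNat 1))] (.node 180 [(100,(Int.ofNat 1))] (.node 168 [(82,(Int.negSucc 0))] (.node 167 [(81,(Int.ofNat 1))] .nil .nil) (.node 179 [(99,(Int.negSucc 0))] .nil .nil)) (.node 189 [(105,(Int.negSucc 0))] (.node 183 [(102,(Int.negSucc 0))] .nil .nil) .nil)) (.node 199 [(113,(Int.negSucc 0))] (.node 195 [(110,(Int.negSucc 0))] (.node 193 [(108,(Int.negSucc 0))] .nil .nil) (.node 196 [(111,(Int.ofNat 1))] .nil .nil)) (.node 201 [(118,(Int.negSucc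 0))] (.node 200 [(117,(Int.ofNat 1))] .nil .nil) .nil))) (.node 228 [(169,(Int.ofNat 1))] (.node 221 [(147,(Int.negSucc 0))] (.node 216 [(142,(Int.negSucc 0))] (.node 212 [(141,(Int.negSucc 0))] .nil .nil) (.node 218 [(144,(Int.ofNat 1))] .nil .nil)) (.node 224 [(153,(Int.ofNat 1))] (.node 223 [(149,(Int.ofNat 1))] .nil .nil) .nil)) (.node 236 [(204,(Int.negSucc 0))] (.node 231 [(175,(Int.negSucc 0))] (.node 230 [(171,(Int.negSucc 0))] .nil .nil) (.node 232 [(185,(Int.negSucc 0))] .nil .nil)) (.node 239 [(208,(Int.ofNat 1))] (.node 238 [(207,(Int.ofNat 1))] .nil .nil) .nil)))))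
noncomputable def ch38 : Tr (List (ℕ × ℤ)) := (.node 165 [(79,(Int.negSucc 0))] (.node 118 [(37,(Int.ofNat 1))] (.node 85 [(15,(Int.ofNat 1))] (.node 53 [(7,(Int.negSucc 0))] (.node 32 [(2,(Int.negSucc 0))] (.node 30 [(0,(Int.ofNat 1))] .nil .nil) (.node 34 [(3,(Int.negSucc 0))] .nil .nil)) (.node 67 [(9,(Int.negSucc 0))] (.node 63 [(8,(Int.negSucc 0))] .nil .nil) (.node 70 [(12,(Int.negSucc 0))] .nil .nil))) (.node 97 [(24,(Int.ofNat 1))] (.node 92 [(19,(Int.ofNat 1))] (.node 89 [(16,(Int.ofNat 1))] .nil .nil) (.node 94 [(21,(Int.ofNat 1))] .nil .nil)) (.node 115 [(36,(Int.negSucc 0))] (.node 98 [(28,(Int.ofNat 1))] .nil .nil) .nil))) (.node 134 [(51,(Int.ofNat 1))] (.node 129 [(45,(Int.ofNat 1))] (.node 126 [(41,(Int.ofNat 1))] (.node 120 [(39,(Int.ofNat 1))] .nil .nil) (.node 127 [(43,(Int.negSucc 0))] .nil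 .nil)) (.node 132 [(49,(Int.negSucc 0))] (.node 131 [(47,(Int.ofNat 1))] .nil .nil) .nil)) (.node 156 [(71,(Int.ofNat 1))] (.node 138 [(59,(Int.negSucc 0))] (.node 137 [(57,(Int.ofNat 1))] .nil .nil) (.node 140 [(61,(Int.ofNat 1))] .nil .nil)) (.node 160 [(74,(Int.ofNat 1))] (.node 158 [(73,(Int.negSucc 0))] .nil .nil) .nil)))) (.node 203 [(124,(Int.ofNat 1))] (.node 190 [(107,(Int.ofNat 1))] (.node 180 [(101,(Int.ofNat 1))] (.node 168 [(83,(Int.negSucc 0))] (.node 166 [(81,(Int.ofNat 1))] .nil .nil) (.node 178 [(99,(Int.negSucc 0))] .nil .nil)) (.node 188 [(105,(Int.negSucc 0))] (.node 182 [(102,(Int.negSucc 0))] .nil .nil) .nil)) (.node 198 [(113,(Int.negSucc 0))] (.node 194 [(110,(Int.negSucc 0))] (.node 192 [(108,(Int.negSucc 0))] .nil .nil) (.node 196 [(112,(Int.ofNat 1))] .nil .nil)) (.node 202 [(121,(Int.negSucc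 0))] (.node 200 [(119,(Int.negSucc 0))] .nil .nil) .nil))) (.node 227 [(169,(Int.ofNat 1))] (.node 220 [(147,(Int.negSucc 0))] (.node 215 [(142,(Int.negSucc 0))] (.node 211 [(141,(Int.negSucc 0))] .nil .nil) (.node 218 [(145,(Int.negSucc 0))] .nil .nil)) (.node 224 [(154,(Int.negSucc 0))] (.node 223 [(150,(Int.negSucc 0))] .nil .nil) .nil)) (.node 236 [(205,(Int.ofNat 1))] (.node 231 [(176,(Int.ofNat 1))] (.node 230 [(172,(Int.ofNat 1))] .nil .nil) (.node 232 [(186,(Int.ofNat 1))] .nil .nil)) (.node 239 [(209,(Int.negSucc 0))] (.node 237 [(207,(Int.ofNat 1))] .nil .nil) .nil)))))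
noncomputable def ch39 : Tr (List (ℕ × ℤ)) := (.node 165 [(80,(Int.negSucc 0))] (.node 117 [(37,(Int.negSucc 0))] (.node 84 [(15,(Int.negSucc 0))] (.node 52 [(7,(Int.ofNat 1))] (.node 31 [(2,(Int.ofNat 1))] (.node 30 [(1,(Int.ofNat 1))] .nil .nil) (.node 33 [(3,(Int.ofNat 1))] .nil .nil)) (.node 66 [(9,(Int.ofNat 1))] (.node 62 [(8,(Int.ofNat 1))] .nil .nil) (.node 70 [(13,(Int.negSucc 0))] .nil .nil))) (.node 97 [(25,(Int.ofNat 1))] (.node 92 [(20,(Int.ofNat 1))] (.node 88 [(16,(Int.negSucc 0))] .nil .nil) (.node 93 [(21,(Int.negSucc 0))] .nil .nil)) (.node 114 [(36,(Int.ofNat 1))] (.node 98 [(29,(Int.ofNat 1))] .nil .nil) .nil))) (.node 133 [(51,(Int.ofNat 1))] (.node 128 [(45,(Int.ofNat 1))] (.node 126 [(42,(Int.ofNat 1))] (.node 119 [(38,(Int.ofNat 1))] .nil .nil) (.node 127 [(44,(Int.negSucc 0))] .nil .nil))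 (.node 132 [(50,(Int.negSucc 0))] (.node 131 [(48,(Int.ofNat 1))] .nil .nil) .nil)) (.node 156 [(72,(Int.ofNat 1))] (.node 138 [(60,(Int.negSucc 0))] (.node 137 [(58,(Int.ofNat 1))] .nil .nil) (.node 139 [(61,(Int.ofNat 1))] .nil .nil)) (.node 159 [(74,(Int.ofNat 1))] (.node 157 [(73,(Int.negSucc 0))] .nil .nil) .nil)))) (.node 203 [(125,(Int.negSucc 0))] (.node 189 [(107,(Int.ofNat 1))] (.node 179 [(101,(Int.ofNat 1))] (.node 167 [(83,(Int.negSucc 0))] (.node 166 [(82,(Int.ofNat 1))] .nil .nil) (.node 178 [(100,(Int.negSucc 0))] .nil .nil)) (.node 188 [(106,(Int.negSucc 0))] (.node 181 [(102,(Int.negSucc 0))] .nil .nil) .nil)) (.node 197 [(113,(Int.negSucc 0))] (.node 194 [(111,(Int.negSucc 0))] (.node 191 [(108,(Int.negSucc 0))] .nil .nil) (.node 195 [(112,(Int.ofNat 1))] .nil .nil)) (.node 202 [(122,(Int.ofNat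 1))] (.node 201 [(120,(Int.negSucc 0))] .nil .nil) .nil))) (.node 226 [(169,(Int.ofNat 1))] (.node 219 [(147,(Int.negSucc 0))] (.node 214 [(142,(Int.negSucc 0))] (.node 210 [(141,(Int.negSucc 0))] .nil .nil) (.node 218 [(146,(Int.ofNat 1))] .nil .nil)) (.node 224 [(155,(Int.ofNat 1))] (.node 223 [(151,(Int.ofNat 1))] .nil .nil) .nil)) (.node 236 [(206,(Int.negSucc 0))] (.node 231 [(177,(Int.negSucc 0))] (.node 230 [(173,(Int.negSucc 0))] .nil .nil) (.node 232 [(187,(Int.negSucc 0))] .nil .nil)) (.node 238 [(209,(Int.negSucc 0))] (.node 237 [(208,(Int.negSucc 0))] .nil .nil) .nil)))))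
noncomputable def ch40 : Tr (List (ℕ × ℤ)) := (.node 164 [(78,(Int.negSucc 0))] (.node 113 [(37,(Int.ofNat 1))] (.node 83 [(15,(Int.ofNat 1))] (.node 51 [(7,(Int.negSucc 0))] (.node 29 [(1,(Int.ofNat 1))] (.node 28 [(0,(Int.ofNat 1))] .nil .nil) (.node 35 [(4,(Int.ofNat 1))] .nil .nil)) (.node 68 [(10,(Int.ofNat 1))] (.node 61 [(8,(Int.negSucc 0))] .nil .nil) (.node 69 [(11,(Int.ofNat 1))] .nil .nil))) (.node 96 [(23,(Int.negSucc 0))] (.node 91 [(18,(Int.negSucc 0))] (.node 90 [(17,(Int.negSucc 0))] .nil .nil) (.node 95 [(22,(Int.negSucc 0))] .nil .nil)) (.node 112 [(36,(Int.ofNat 1))] (.node 98 [(30,(Int.ofNat 1))] .nil .nil) .nil))) (.node 134 [(53,(Int.ofNat 1))] (.node 125 [(44,(Int.negSucc 0))] (.node 122 [(42,(Int.negSucc 0))] (.node 121 [(41,(Int.ofNat 1))] .nil .nil) (.node 124 [(43,(Int.ofNat 1))] .nil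 .nil)) (.node 133 [(52,(Int.negSucc 0))] (.node 130 [(46,(Int.ofNat 1))] .nil .nil) .nil)) (.node 154 [(71,(Int.ofNat 1))] (.node 139 [(62,(Int.negSucc 0))] (.node 136 [(56,(Int.ofNat 1))] .nil .nil) (.node 140 [(63,(Int.ofNat 1))] .nil .nil)) (.node 161 [(75,(Int.ofNat 1))] (.node 155 [(72,(Int.negSucc 0))] .nil .nil) .nil)))) (.node 203 [(127,(Int.negSucc 0))] (.node 187 [(106,(Int.ofNat 1))] (.node 177 [(100,(Int.ofNat 1))] (.node 168 [(85,(Int.negSucc 0))] (.node 167 [(84,(Int.ofNat 1))] .nil .nil) (.node 176 [(99,(Int.negSucc 0))] .nil .nil)) (.node 186 [(105,(Int.negSucc 0))] (.node 183 [(103,(Int.negSucc 0))] .nil .nil) .nil)) (.node 197 [(117,(Int.ofNat 1))] (.node 195 [(114,(Int.ofNat 1))] (.node 193 [(109,(Int.negSucc 0))] .nil .nil) (.node 196 [(115,(Int.negSucc 0))] .nil .nil)) (.node 202 [(126,(Int.negSucc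 0))] (.node 198 [(118,(Int.negSucc 0))] .nil .nil) .nil))) (.node 228 [(170,(Int.negSucc 0))] (.node 221 [(148,(Int.ofNat 1))] (.node 216 [(143,(Int.ofNat 1))] (.node 209 [(141,(Int.negSucc 0))] .nil .nil) (.node 217 [(144,(Int.ofNat 1))] .nil .nil)) (.node 224 [(156,(Int.negSucc 0))] (.node 222 [(149,(Int.ofNat 1))] .nil .nil) .nil)) (.node 235 [(204,(Int.negSucc 0))] (.node 231 [(178,(Int.ofNat 1))] (.node 229 [(171,(Int.negSucc 0))] .nil .nil) (.node 232 [(188,(Int.ofNat 1))] .nil .nil)) (.node 239 [(211,(Int.negSucc 0))] (.node 238 [(210,(Int.negSucc 0))] .nil .nil) .nil)))))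
noncomputable def ch41 : Tr (List (ℕ × ℤ)) := (.node 164 [(79,(Int.negSucc 0))] (.node 113 [(38,(Int.ofNat 1))] (.node 82 [(15,(Int.negSucc 0))] (.node 50 [(7,(Int.ofNat 1))] (.node 29 [(2,(Int.ofNat 1))] (.node 27 [(0,(Int.negSucc 0))] .nil .nil) (.node 34 [(4,(Int.negSucc 0))] .nil .nil)) (.node 67 [(10,(Int.negSucc 0))] (.node 60 [(8,(Int.ofNat 1))] .nil .nil) (.node 69 [(12,(Int.ofNat 1))] .nil .nil))) (.node 96 [(24,(Int.negSucc 0))] (.node 91 [(19,(Int.negSucc 0))] (.node 89 [(17,(Int.ofNat 1))] .nil .nil) (.node 94 [(22,(Int.ofNat 1))] .nil .nil)) (.node 111 [(36,(Int.negSucc 0))] (.node 98 [(31,(Int.ofNat 1))] .nil .nil) .nil))) (.node 134 [(54,(Int.ofNat 1))] (.node 125 [(45,(Int.negSucc 0))] (.node 120 [(42,(Int.ofNat 1))] (.node 118 [(40,(Int.ofNat 1))] .nil .nil) (.node 123 [(43,(Int.ofNat 1))] .nil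 .nil)) (.node 132 [(52,(Int.negSucc 0))] (.node 130 [(47,(Int.ofNat 1))] .nil .nil) .nil)) (.node 153 [(71,(Int.ofNat 1))] (.node 138 [(62,(Int.negSucc 0))] (.node 136 [(57,(Int.ofNat 1))] .nil .nil) (.node 140 [(64,(Int.ofNat 1))] .nil .nil)) (.node 160 [(75,(Int.ofNat 1))] (.node 155 [(73,(Int.negSucc 0))] .nil .nil) .nil)))) (.node 203 [(128,(Int.ofNat 1))] (.node 187 [(107,(Int.ofNat 1))] (.node 177 [(101,(Int.ofNat 1))] (.node 168 [(86,(Int.negSucc 0))] (.node 166 [(84,(Int.ofNat 1))] .nil .nil) (.node 175 [(99,(Int.negSucc 0))] .nil .nil)) (.node 185 [(105,(Int.negSucc 0))] (.node 182 [(103,(Int.negSucc 0))] .nil .nil) .nil)) (.node 197 [(119,(Int.negSucc 0))] (.node 194 [(114,(Int.ofNat 1))] (.node 192 [(109,(Int.negSucc 0))] .nil .nil) (.node 196 [(116,(Int.negSucc 0))] .nil .nil)) (.node 201 [(126,(Int.negSucc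 0))] (.node 199 [(121,(Int.negSucc 0))] .nil .nil) .nil))) (.node 227 [(170,(Int.negSucc 0))] (.node 220 [(148,(Int.ofNat 1))] (.node 215 [(143,(Int.ofNat 1))] (.node 208 [(141,(Int.negSucc 0))] .nil .nil) (.node 217 [(145,(Int.negSucc 0))] .nil .nil)) (.node 224 [(157,(Int.ofNat 1))] (.node 222 [(150,(Int.negSucc 0))] .nil .nil) .nil)) (.node 235 [(205,(Int.ofNat 1))] (.node 231 [(179,(Int.negSucc 0))] (.node 229 [(172,(Int.ofNat 1))] .nil .nil) (.node 232 [(189,(Int.negSucc 0))] .nil .nil)) (.node 239 [(212,(Int.ofNat 1))] (.node 237 [(210,(Int.negSucc 0))] .nil .nil) .nil)))))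
noncomputable def ch42 : Tr (List (ℕ × ℤ)) := (.node 164 [(80,(Int.negSucc 0))] (.node 113 [(39,(Int.ofNat 1))] (.node 81 [(15,(Int.ofNat 1))] (.node 49 [(7,(Int.negSucc 0))] (.node 28 [(2,(Int.negSucc 0))] (.node 27 [(1,(Int.negSucc 0))] .nil .nil) (.node 33 [(4,(Int.ofNat 1))] .nil .nil)) (.node 66 [(10,(Int.ofNat 1))] (.node 59 [(8,(Int.negSucc 0))] .nil .nil) (.node 69 [(13,(Int.ofNat 1))] .nil .nil))) (.node 96 [(25,(Int.negSucc 0))] (.node 91 [(20,(Int.negSucc 0))] (.node 88 [(17,(Int.negSucc 0))] .nil .nil) (.node 93 [(22,(Int.negSucc 0))] .nil .nil)) (.node 110 [(36,(Int.ofNat 1))] (.node 98 [(32,(Int.ofNat 1))] .nil .nil) .nil))) (.node 133 [(54,(Int.ofNat 1))] (.node 124 [(45,(Int.negSucc 0))] (.node 119 [(41,(Int.ofNat 1))] (.node 117 [(40,(Int.negSucc 0))] .nil .nil) (.node 123 [(44,(Int.ofNat 1))]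 .nil .nil)) (.node 132 [(53,(Int.negSucc 0))] (.node 130 [(48,(Int.ofNat 1))] .nil .nil) .nil)) (.node 153 [(72,(Int.ofNat 1))] (.node 138 [(63,(Int.negSucc 0))] (.node 136 [(58,(Int.ofNat 1))] .nil .nil) (.node 139 [(64,(Int.ofNat 1))] .nil .nil)) (.node 159 [(75,(Int.ofNat 1))] (.node 154 [(73,(Int.negSucc 0))] .nil .nil) .nil)))) (.node 203 [(129,(Int.negSucc 0))] (.node 186 [(107,(Int.ofNat 1))] (.node 176 [(101,(Int.ofNat 1))] (.node 167 [(86,(Int.negSucc 0))] (.node 166 [(85,(Int.ofNat 1))] .nil .nil) (.node 175 [(100,(Int.negSucc 0))] .nil .nil)) (.node 185 [(106,(Int.negSucc 0))] (.node 181 [(103,(Int.negSucc 0))] .nil .nil) .nil)) (.node 198 [(120,(Int.negSucc 0))] (.node 194 [(115,(Int.ofNat 1))] (.node 191 [(109,(Int.negSucc 0))] .nil .nil) (.node 195 [(116,(Int.negSucc 0))] .nil .nil)) (.node 200 [(126,(Int.negSucc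 0))] (.node 199 [(122,(Int.ofNat 1))] .nil .nil) .nil))) (.node 226 [(170,(Int.negSucc 0))] (.node 219 [(148,(Int.ofNat 1))] (.node 214 [(143,(Int.ofNat 1))] (.node 207 [(141,(Int.negSucc 0))] .nil .nil) (.node 217 [(146,(Int.ofNat 1))] .nil .nil)) (.node 224 [(158,(Int.negSucc 0))] (.node 222 [(151,(Int.ofNat 1))] .nil .nil) .nil)) (.node 235 [(206,(Int.negSucc 0))] (.node 231 [(180,(Int.ofNat 1))] (.node 229 [(173,(Int.negSucc 0))] .nil .nil) (.node 232 [(190,(Int.ofNat 1))] .nil .nil)) (.node 238 [(212,(Int.ofNat 1))] (.node 237 [(211,(Int.ofNat 1))] .nil .nil) .nil)))))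
noncomputable def ch43 : Tr (List (ℕ × ℤ)) := (.node 164 [(81,(Int.negSucc 0))] (.node 112 [(38,(Int.negSucc 0))] (.node 80 [(15,(Int.ofNat 1))] (.node 48 [(7,(Int.negSucc 0))] (.node 29 [(3,(Int.ofNat 1))] (.node 26 [(0,(Int.ofNat 1))] .nil .nil) (.node 32 [(4,(Int.ofNat 1))] .nil .nil)) (.node 67 [(11,(Int.negSucc 0))] (.node 58 [(8,(Int.negSucc 0))] .nil .nil) (.node 68 [(12,(Int.negSucc 0))] .nil .nil))) (.node 95 [(24,(Int.ofNat 1))] (.node 90 [(19,(Int.ofNat 1))] (.node 89 [(18,(Int.ofNat 1))] .nil .nil) (.node 94 [(23,(Int.ofNat 1))] .nil .nil)) (.node 111 [(37,(Int.negSucc 0))] (.node 98 [(33,(Int.ofNat 1))] .nil .nil) .nil))) (.node 134 [(55,(Int.ofNat 1))] (.node 122 [(45,(Int.ofNat 1))] (.node 116 [(41,(Int.ofNat 1))] (.node 115 [(40,(Int.ofNat 1))] .nil .nil) (.node 120 [(44,(Int.ofNat 1))] .nil .nil))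 (.node 131 [(52,(Int.negSucc 0))] (.node 130 [(49,(Int.ofNat 1))] .nil .nil) .nil)) (.node 152 [(71,(Int.ofNat 1))] (.node 137 [(62,(Int.negSucc 0))] (.node 136 [(59,(Int.ofNat 1))] .nil .nil) (.node 140 [(65,(Int.ofNat 1))] .nil .nil)) (.node 158 [(75,(Int.ofNat 1))] (.node 155 [(74,(Int.negSucc 0))] .nil .nil) .nil)))) (.node 202 [(128,(Int.ofNat 1))] (.node 187 [(108,(Int.ofNat 1))] (.node 177 [(102,(Int.ofNat 1))] (.node 168 [(87,(Int.negSucc 0))] (.node 165 [(84,(Int.ofNat 1))] .nil .nil) (.node 174 [(99,(Int.negSucc 0))] .nil .nil)) (.node 184 [(105,(Int.negSucc 0))] (.node 180 [(103,(Int.negSucc 0))] .nil .nil) .nil)) (.node 198 [(123,(Int.negSucc 0))] (.node 194 [(117,(Int.negSucc 0))] (.node 190 [(109,(Int.negSucc 0))] .nil .nil) (.node 195 [(119,(Int.negSucc 0))] .nil .nil)) (.node 201 [(127,(Int.ofNat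 1))] (.node 199 [(124,(Int.negSucc 0))] .nil .nil) .nil))) (.node 227 [(171,(Int.ofNat 1))] (.node 220 [(149,(Int.negSucc 0))] (.node 215 [(144,(Int.negSucc 0))] (.node 206 [(141,(Int.negSucc 0))] .nil .nil) (.node 216 [(145,(Int.negSucc 0))] .nil .nil)) (.node 224 [(159,(Int.negSucc 0))] (.node 221 [(150,(Int.negSucc 0))] .nil .nil) .nil)) (.node 235 [(207,(Int.negSucc 0))] (.node 231 [(181,(Int.ofNat 1))] (.node 228 [(172,(Int.ofNat 1))] .nil .nil) (.node 232 [(191,(Int.ofNat 1))] .nil .nil)) (.node 239 [(213,(Int.negSucc 0))] (.node 236 [(210,(Int.negSucc 0))] .nil .nil) .nil)))))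
noncomputable def ch44 : Tr (List (ℕ × ℤ)) := (.node 164 [(82,(Int.negSucc 0))] (.node 112 [(39,(Int.negSucc 0))] (.node 79 [(15,(Int.negSucc 0))] (.node 47 [(7,(Int.ofNat 1))] (.node 28 [(3,(Int.negSucc 0))] (.node 26 [(1,(Int.ofNat 1))] .nil .nil) (.node 31 [(4,(Int.negSucc 0))] .nil .nil)) (.node 66 [(11,(Int.ofNat 1))] (.node 57 [(8,(Int.ofNat 1))] .nil .nil) (.node 68 [(13,(Int.negSucc 0))] .nil .nil))) (.node 95 [(25,(Int.ofNat 1))] (.node 90 [(20,(Int.ofNat 1))] (.node 88 [(18,(Int.negSucc 0))] .nil .nil) (.node 93 [(23,(Int.negSucc 0))] .nil .nil)) (.node 110 [(37,(Int.ofNat 1))] (.node 98 [(34,(Int.ofNat 1))] .nil .nil) .nil))) (.node 133 [(55,(Int.ofNat 1))] (.node 121 [(45,(Int.ofNat 1))] (.node 116 [(42,(Int.ofNat 1))] (.node 114 [(40,(Int.negSucc 0))] .nil .nil) (.node 119 [(43,(Int.ofNat 1))] .nil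 .nil)) (.node 131 [(53,(Int.negSucc 0))] (.node 130 [(50,(Int.ofNat 1))] .nil .nil) .nil)) (.node 152 [(72,(Int.ofNat 1))] (.node 137 [(63,(Int.negSucc 0))] (.node 136 [(60,(Int.ofNat 1))] .nil .nil) (.node 139 [(65,(Int.ofNat 1))] .nil .nil)) (.node 157 [(75,(Int.ofNat 1))] (.node 154 [(74,(Int.negSucc 0))] .nil .nil) .nil)))) (.node 202 [(129,(Int.negSucc 0))] (.node 186 [(108,(Int.ofNat 1))] (.node 176 [(102,(Int.ofNat 1))] (.node 167 [(87,(Int.negSucc 0))] (.node 165 [(85,(Int.ofNat 1))] .nil .nil) (.node 174 [(100,(Int.negSucc 0))] .nil .nil)) (.node 184 [(106,(Int.negSucc 0))] (.node 179 [(103,(Int.negSucc 0))] .nil .nil) .nil)) (.node 197 [(123,(Int.negSucc 0))] (.node 194 [(118,(Int.negSucc 0))] (.node 189 [(109,(Int.negSucc 0))] .nil .nil) (.node 196 [(120,(Int.negSucc 0))] .nil .nil)) (.node 200 [(127,(Int.ofNat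 1))] (.node 199 [(125,(Int.ofNat 1))] .nil .nil) .nil))) (.node 226 [(171,(Int.ofNat 1))] (.node 219 [(149,(Int.negSucc 0))] (.node 214 [(144,(Int.negSucc 0))] (.node 205 [(141,(Int.negSucc 0))] .nil .nil) (.node 216 [(146,(Int.ofNat 1))] .nil .nil)) (.node 224 [(160,(Int.ofNat 1))] (.node 221 [(151,(Int.ofNat 1))] .nil .nil) .nil)) (.node 235 [(208,(Int.ofNat 1))] (.node 231 [(182,(Int.negSucc 0))] (.node 228 [(173,(Int.negSucc 0))] .nil .nil) (.node 232 [(192,(Int.negSucc 0))] .nil .nil)) (.node 238 [(213,(Int.negSucc 0))] (.node 236 [(211,(Int.ofNat 1))] .nil .nil) .nil)))))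
noncomputable def ch45 : Tr (List (ℕ × ℤ)) := (.node 164 [(83,(Int.negSucc 0))] (.node 111 [(39,(Int.ofNat 1))] (.node 78 [(15,(Int.ofNat 1))] (.node 46 [(7,(Int.negSucc 0))] (.node 27 [(3,(Int.ofNat 1))] (.node 26 [(2,(Int.ofNat 1))] .nil .nil) (.node 30 [(4,(Int.ofNat 1))] .nil .nil)) (.node 66 [(12,(Int.ofNat 1))] (.node 56 [(8,(Int.negSucc 0))] .nil .nil) (.node 67 [(13,(Int.ofNat 1))] .nil .nil))) (.node 94 [(25,(Int.negSucc 0))] (.node 89 [(20,(Int.negSucc 0))] (.node 88 [(19,(Int.negSucc 0))] .nil .nil) (.node 93 [(24,(Int.negSucc 0))] .nil .nil)) (.node 110 [(38,(Int.ofNat 1))] (.node 98 [(35,(Int.ofNat 1))] .nil .nil) .nil))) (.node 132 [(55,(Int.ofNat 1))] (.node 118 [(44,(Int.ofNat 1))] (.node 115 [(42,(Int.negSucc 0))] (.node 114 [(41,(Int.negSucc 0))] .nil .nil) (.node 117 [(43,(Int.ofNat 1))] .nil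 .nil)) (.node 131 [(54,(Int.negSucc 0))] (.node 130 [(51,(Int.ofNat 1))] .nil .nil) .nil)) (.node 152 [(73,(Int.ofNat 1))] (.node 137 [(64,(Int.negSucc 0))] (.node 136 [(61,(Int.ofNat 1))] .nil .nil) (.node 138 [(65,(Int.ofNat 1))] .nil .nil)) (.node 156 [(75,(Int.ofNat 1))] (.node 153 [(74,(Int.negSucc 0))] .nil .nil) .nil)))) (.node 201 [(129,(Int.negSucc 0))] (.node 185 [(108,(Int.ofNat 1))] (.node 175 [(102,(Int.ofNat 1))] (.node 166 [(87,(Int.negSucc 0))] (.node 165 [(86,(Int.ofNat 1))] .nil .nil) (.node 174 [(101,(Int.negSucc 0))] .nil .nil)) (.node 184 [(107,(Int.negSucc 0))] (.node 178 [(103,(Int.negSucc 0))] .nil .nil) .nil)) (.node 197 [(124,(Int.ofNat 1))] (.node 195 [(121,(Int.negSucc 0))] (.node 188 [(109,(Int.negSucc 0))] .nil .nil) (.node 196 [(122,(Int.negSucc 0))] .nil .nil)) (.node 200 [(128,(Int.negSucc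 0))] (.node 198 [(125,(Int.ofNat 1))] .nil .nil) .nil))) (.node 226 [(172,(Int.negSucc 0))] (.node 219 [(150,(Int.ofNat 1))] (.node 214 [(145,(Int.ofNat 1))] (.node 204 [(141,(Int.negSucc 0))] .nil .nil) (.node 215 [(146,(Int.ofNat 1))] .nil .nil)) (.node 224 [(161,(Int.negSucc 0))] (.node 220 [(151,(Int.ofNat 1))] .nil .nil) .nil)) (.node 235 [(209,(Int.negSucc 0))] (.node 231 [(183,(Int.ofNat 1))] (.node 227 [(173,(Int.negSucc 0))] .nil .nil) (.node 232 [(193,(Int.ofNat 1))] .nil .nil)) (.node 237 [(213,(Int.negSucc 0))] (.node 236 [(212,(Int.negSucc 0))] .nil .nil) .nil)))))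
noncomputable def ch46 : Tr (List (ℕ × ℤ)) := (.node 163 [(78,(Int.negSucc 0))] (.node 108 [(37,(Int.ofNat 1))] (.node 83 [(16,(Int.ofNat 1))] (.node 45 [(7,(Int.ofNat 1))] (.node 25 [(1,(Int.negSucc 0))] (.node 24 [(0,(Int.negSucc 0))] .nil .nil) (.node 35 [(5,(Int.ofNat 1))] .nil .nil)) (.node 64 [(10,(Int.negSucc 0))] (.node 61 [(9,(Int.negSucc 0))] .nil .nil) (.node 65 [(11,(Int.negSucc 0))] .nil .nil))) (.node 96 [(27,(Int.negSucc 0))] (.node 87 [(18,(Int.ofNat 1))] (.node 86 [(17,(Int.ofNat 1))] .nil .nil) (.node 95 [(26,(Int.negSucc 0))] .nil .nil)) (.node 107 [(36,(Int.ofNat 1))] (.node 97 [(30,(Int.negSucc 0))] .nil .nil) .nil))) (.node 129 [(53,(Int.negSucc 0))] (.node 124 [(49,(Int.ofNat 1))] (.node 121 [(47,(Int.ofNat 1))] (.node 109 [(40,(Int.ofNat 1))] .nil .nil) (.node 122 [(48,(Int.negSucc 0))]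 .nil .nil)) (.node 128 [(52,(Int.ofNat 1))] (.node 125 [(50,(Int.negSucc 0))] .nil .nil) .nil)) (.node 150 [(71,(Int.ofNat 1))] (.node 139 [(66,(Int.negSucc 0))] (.node 135 [(56,(Int.ofNat 1))] .nil .nil) (.node 140 [(67,(Int.ofNat 1))] .nil .nil)) (.node 161 [(76,(Int.ofNat 1))] (.node 151 [(72,(Int.negSucc 0))] .nil .nil) .nil)))) (.node 203 [(132,(Int.negSucc 0))] (.node 187 [(111,(Int.negSucc 0))] (.node 173 [(100,(Int.ofNat 1))] (.node 168 [(89,(Int.negSucc 0))] (.node 167 [(88,(Int.ofNat 1))] .nil .nil) (.node 172 [(99,(Int.negSucc 0))] .nil .nil)) (.node 186 [(110,(Int.ofNat 1))] (.node 183 [(104,(Int.negSucc 0))] .nil .nil) .nil)) (.node 192 [(118,(Int.negSucc 0))] (.node 190 [(115,(Int.negSucc 0))] (.node 189 [(114,(Int.ofNat 1))] .nil .nil) (.node 191 [(117,(Int.ofNat 1))] .nil .nil)) (.node 202 [(131,(Int.negSucc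 0))] (.node 199 [(130,(Int.negSucc 0))] .nil .nil) .nil))) (.node 228 [(174,(Int.ofNat 1))] (.node 221 [(152,(Int.negSucc 0))] (.node 212 [(143,(Int.ofNat 1))] (.node 209 [(142,(Int.ofNat 1))] .nil .nil) (.node 213 [(144,(Int.ofNat 1))] .nil .nil)) (.node 223 [(156,(Int.negSucc 0))] (.node 222 [(153,(Int.negSucc 0))] .nil .nil) .nil)) (.node 234 [(204,(Int.negSucc 0))] (.node 230 [(178,(Int.ofNat 1))] (.node 229 [(175,(Int.ofNat 1))] .nil .nil) (.node 232 [(194,(Int.negSucc 0))] .nil .nil)) (.node 239 [(215,(Int.ofNat 1))] (.node 238 [(214,(Int.ofNat 1))] .nil .nil) .nil)))))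
noncomputable def ch47 : Tr (List (ℕ × ℤ)) := (.node 163 [(79,(Int.negSucc 0))] (.node 108 [(38,(Int.ofNat 1))] (.node 82 [(16,(Int.negSucc 0))] (.node 44 [(7,(Int.negSucc 0))] (.node 25 [(2,(Int.negSucc 0))] (.node 23 [(0,(Int.ofNat 1))] .nil .nil) (.node 34 [(5,(Int.negSucc 0))] .nil .nil)) (.node 63 [(10,(Int.ofNat 1))] (.node 60 [(9,(Int.ofNat 1))] .nil .nil) (.node 65 [(12,(Int.negSucc 0))] .nil .nil))) (.node 96 [(28,(Int.negSucc 0))] (.node 87 [(19,(Int.ofNat 1))] (.node 85 [(17,(Int.negSucc 0))] .nil .nil) (.node 94 [(26,(Int.ofNat 1))] .nil .nil)) (.node 106 [(36,(Int.negSucc 0))] (.node 97 [(31,(Int.negSucc 0))] .nil .nil) .nil))) (.node 129 [(54,(Int.negSucc 0))] (.node 123 [(49,(Int.ofNat 1))] (.node 118 [(46,(Int.ofNat 1))] (.node 109 [(41,(Int.ofNat 1))] .nil .nil) (.node 120 [(48,(Int.ofNat 1))]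 .nil .nil)) (.node 127 [(52,(Int.ofNat 1))] (.node 125 [(51,(Int.negSucc 0))] .nil .nil) .nil)) (.node 149 [(71,(Int.ofNat 1))] (.node 138 [(66,(Int.negSucc 0))] (.node 135 [(57,(Int.ofNat 1))] .nil .nil) (.node 140 [(68,(Int.ofNat 1))] .nil .nil)) (.node 160 [(76,(Int.ofNat 1))] (.node 151 [(73,(Int.negSucc 0))] .nil .nil) .nil)))) (.node 203 [(133,(Int.ofNat 1))] (.node 187 [(112,(Int.negSucc 0))] (.node 173 [(101,(Int.ofNat 1))] (.node 168 [(90,(Int.negSucc 0))] (.node 166 [(88,(Int.ofNat 1))] .nil .nil) (.node 171 [(99,(Int.negSucc 0))] .nil .nil)) (.node 185 [(110,(Int.ofNat 1))] (.node 182 [(104,(Int.negSucc 0))] .nil .nil) .nil)) (.node 193 [(121,(Int.negSucc 0))] (.node 190 [(116,(Int.negSucc 0))] (.node 188 [(114,(Int.ofNat 1))] .nil .nil) (.node 191 [(119,(Int.negSucc 0))] .nil .nil)) (.node 201 [(131,(Int.negSucc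 0))] (.node 198 [(130,(Int.negSucc 0))] .nil .nil) .nil))) (.node 227 [(174,(Int.ofNat 1))] (.node 220 [(152,(Int.negSucc 0))] (.node 211 [(143,(Int.ofNat 1))] (.node 208 [(142,(Int.ofNat 1))] .nil .nil) (.node 213 [(145,(Int.negSucc 0))] .nil .nil)) (.node 223 [(157,(Int.ofNat 1))] (.node 222 [(154,(Int.ofNat 1))] .nil .nil) .nil)) (.node 234 [(205,(Int.ofNat 1))] (.node 230 [(179,(Int.negSucc 0))] (.node 229 [(176,(Int.negSucc 0))] .nil .nil) (.node 232 [(195,(Int.ofNat 1))] .nil .nil)) (.node 239 [(216,(Int.negSucc 0))] (.node 237 [(214,(Int.ofNat 1))] .nil .nil) .nil)))))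
noncomputable def ch48 : Tr (List (ℕ × ℤ)) := (.node 163 [(80,(Int.negSucc 0))] (.node 108 [(39,(Int.ofNat 1))] (.node 81 [(16,(Int.ofNat 1))] (.node 43 [(7,(Int.ofNat 1))] (.node 24 [(2,(Int.ofNat 1))] (.node 23 [(1,(Int.ofNat 1))] .nil .nil) (.node 33 [(5,(Int.ofNat 1))] .nil .nil)) (.node 62 [(10,(Int.negSucc 0))] (.node 59 [(9,(Int.negSucc 0))] .nil .nil) (.node 65 [(13,(Int.negSucc 0))] .nil .nil))) (.node 96 [(29,(Int.negSucc 0))] (.node 87 [(20,(Int.ofNat 1))] (.node 84 [(17,(Int.ofNat 1))] .nil .nil) (.node 93 [(26,(Int.negSucc 0))] .nil .nil)) (.node 105 [(36,(Int.ofNat 1))] (.node 97 [(32,(Int.negSucc 0))] .nil .nil) .nil))) (.node 128 [(54,(Int.negSucc 0))] (.node 123 [(50,(Int.ofNat 1))] (.node 117 [(46,(Int.negSucc 0))] (.node 109 [(42,(Int.ofNat 1))] .nil .nil) (.node 119 [(47,(Int.ofNat 1))] .nil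 .nil)) (.node 127 [(53,(Int.ofNat 1))] (.node 124 [(51,(Int.negSucc 0))] .nil .nil) .nil)) (.node 149 [(72,(Int.ofNat 1))] (.node 138 [(67,(Int.negSucc 0))] (.node 135 [(58,(Int.ofNat 1))] .nil .nil) (.node 139 [(68,(Int.ofNat 1))] .nil .nil)) (.node 159 [(76,(Int.ofNat 1))] (.node 150 [(73,(Int.negSucc 0))] .nil .nil) .nil)))) (.node 203 [(134,(Int.negSucc 0))] (.node 186 [(112,(Int.negSucc 0))] (.node 172 [(101,(Int.ofNat 1))] (.node 167 [(90,(Int.negSucc 0))] (.node 166 [(89,(Int.ofNat 1))] .nil .nil) (.node 171 [(100,(Int.negSucc 0))] .nil .nil)) (.node 185 [(111,(Int.ofNat 1))] (.node 181 [(104,(Int.negSucc 0))] .nil .nil) .nil)) (.node 193 [(122,(Int.ofNat 1))] (.node 189 [(116,(Int.negSucc 0))] (.node 188 [(115,(Int.ofNat 1))] .nil .nil) (.node 192 [(120,(Int.negSucc 0))] .nil .nil)) (.node 200 [(131,(Int.negSucc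 0))] (.node 197 [(130,(Int.negSucc 0))] .nil .nil) .nil))) (.node 226 [(174,(Int.ofNat 1))] (.node 219 [(152,(Int.negSucc 0))] (.node 210 [(143,(Int.ofNat 1))] (.node 207 [(142,(Int.ofNat 1))] .nil .nil) (.node 213 [(146,(Int.ofNat 1))] .nil .nil)) (.node 223 [(158,(Int.negSucc 0))] (.node 222 [(155,(Int.negSucc 0))] .nil .nil) .nil)) (.node 234 [(206,(Int.negSucc 0))] (.node 230 [(180,(Int.ofNat 1))] (.node 229 [(177,(Int.ofNat 1))] .nil .nil) (.node 232 [(196,(Int.negSucc 0))] .nil .nil)) (.node 238 [(216,(Int.negSucc 0))] (.node 237 [(215,(Int.negSucc 0))] .nil .nil) .nil)))))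
noncomputable def ch49 : Tr (List (ℕ × ℤ)) := (.node 163 [(81,(Int.negSucc 0))] (.node 107 [(38,(Int.negSucc 0))] (.node 80 [(16,(Int.ofNat 1))] (.node 42 [(7,(Int.ofNat 1))] (.node 25 [(3,(Int.negSucc 0))] (.node 22 [(0,(Int.negSucc 0))] .nil .nil) (.node 32 [(5,(Int.ofNat 1))] .nil .nil)) (.node 63 [(11,(Int.ofNat 1))] (.node 58 [(9,(Int.negSucc 0))] .nil .nil) (.node 64 [(12,(Int.ofNat 1))] .nil .nil))) (.node 95 [(28,(Int.ofNat 1))] (.node 86 [(19,(Int.negSucc 0))] (.node 85 [(18,(Int.negSucc 0))] .nil .nil) (.node 94 [(27,(Int.ofNat 1))] .nil .nil)) (.node 106 [(37,(Int.negSucc 0))] (.node 97 [(33,(Int.negSucc 0))] .nil .nil) .nil))) (.node 129 [(55,(Int.negSucc 0))] (.node 120 [(50,(Int.ofNat 1))] (.node 115 [(46,(Int.ofNat 1))] (.node 109 [(43,(Int.ofNat 1))] .nil .nil) (.node 116 [(47,(Int.ofNat 1))] .nil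 .nil)) (.node 126 [(52,(Int.ofNat 1))] (.node 122 [(51,(Int.ofNat 1))] .nil .nil) .nil)) (.node 148 [(71,(Int.ofNat 1))] (.node 137 [(66,(Int.negSucc 0))] (.node 135 [(59,(Int.ofNat 1))] .nil .nil) (.node 140 [(69,(Int.ofNat 1))] .nil .nil)) (.node 158 [(76,(Int.ofNat 1))] (.node 151 [(74,(Int.negSucc 0))] .nil .nil) .nil)))) (.node 202 [(133,(Int.ofNat 1))] (.node 187 [(113,(Int.negSucc 0))] (.node 173 [(102,(Int.ofNat 1))] (.node 168 [(91,(Int.negSucc 0))] (.node 165 [(88,(Int.ofNat 1))] .nil .nil) (.node 170 [(99,(Int.negSucc 0))] .nil .nil)) (.node 184 [(110,(Int.ofNat 1))] (.node 180 [(104,(Int.negSucc 0))] .nil .nil) .nil)) (.node 193 [(124,(Int.negSucc 0))] (.node 189 [(119,(Int.negSucc 0))] (.node 188 [(117,(Int.negSucc 0))] .nil .nil) (.node 192 [(123,(Int.negSucc 0))] .nil .nil)) (.node 201 [(132,(Int.ofNat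 1))] (.node 196 [(130,(Int.negSucc 0))] .nil .nil) .nil))) (.node 227 [(175,(Int.negSucc 0))] (.node 220 [(153,(Int.ofNat 1))] (.node 211 [(144,(Int.negSucc 0))] (.node 206 [(142,(Int.ofNat 1))] .nil .nil) (.node 212 [(145,(Int.negSucc 0))] .nil .nil)) (.node 223 [(159,(Int.negSucc 0))] (.node 221 [(154,(Int.ofNat 1))] .nil .nil) .nil)) (.node 234 [(207,(Int.negSucc 0))] (.node 230 [(181,(Int.ofNat 1))] (.node 228 [(176,(Int.negSucc 0))] .nil .nil) (.node 232 [(197,(Int.negSucc 0))] .nil .nil)) (.node 239 [(217,(Int.ofNat 1))] (.node 236 [(214,(Int.ofNat 1))] .nil .nil) .nil)))))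
noncomputable def ch50 : Tr (List (ℕ × ℤ)) := (.node 163 [(82,(Int.negSucc 0))] (.node 107 [(39,(Int.negSucc 0))] (.node 79 [(16,(Int.negSucc 0))] (.node 41 [(7,(Int.negSucc 0))] (.node 24 [(3,(Int.ofNat 1))] (.node 22 [(1,(Int.negSucc 0))] .nil .nil) (.node 31 [(5,(Int.negSucc 0))] .nil .nil)) (.node 62 [(11,(Int.negSucc 0))] (.node 57 [(9,(Int.ofNat 1))] .nil .nil) (.node 64 [(13,(Int.ofNat 1))] .nil .nil))) (.node 95 [(29,(Int.ofNat 1))] (.node 86 [(20,(Int.negSucc 0))] (.node 84 [(18,(Int.ofNat 1))] .nil .nil) (.node 93 [(27,(Int.negSucc 0))] .nil .nil)) (.node 105 [(37,(Int.ofNat 1))] (.node 97 [(34,(Int.negSucc 0))] .nil .nil) .nil))) (.node 128 [(55,(Int.negSucc 0))] (.node 119 [(49,(Int.ofNat 1))] (.node 114 [(46,(Int.negSucc 0))] (.node 109 [(44,(Int.ofNat 1))] .nil .nil) (.node 116 [(48,(Int.ofNat 1))]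 .nil .nil)) (.node 126 [(53,(Int.ofNat 1))] (.node 121 [(51,(Int.ofNat 1))] .nil .nil) .nil)) (.node 148 [(72,(Int.ofNat 1))] (.node 137 [(67,(Int.negSucc 0))] (.node 135 [(60,(Int.ofNat 1))] .nil .nil) (.node 139 [(69,(Int.ofNat 1))] .nil .nil)) (.node 157 [(76,(Int.ofNat 1))] (.node 150 [(74,(Int.negSucc 0))] .nil .nil) .nil)))) (.node 202 [(134,(Int.negSucc 0))] (.node 186 [(113,(Int.negSucc 0))] (.node 172 [(102,(Int.ofNat 1))] (.node 167 [(91,(Int.negSucc 0))] (.node 165 [(89,(Int.ofNat 1))] .nil .nil) (.node 170 [(100,(Int.negSucc 0))] .nil .nil)) (.node 184 [(111,(Int.ofNat 1))] (.node 179 [(104,(Int.negSucc 0))] .nil .nil) .nil)) (.node 193 [(125,(Int.ofNat 1))] (.node 190 [(120,(Int.negSucc 0))] (.node 188 [(118,(Int.negSucc 0))] .nil .nil) (.node 191 [(123,(Int.negSucc 0))] .nil .nil)) (.node 200 [(132,(Int.ofNat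 1))] (.node 195 [(130,(Int.negSucc 0))] .nil .nil) .nil))) (.node 226 [(175,(Int.negSucc 0))] (.node 219 [(153,(Int.ofNat 1))] (.node 210 [(144,(Int.negSucc 0))] (.node 205 [(142,(Int.ofNat 1))] .nil .nil) (.node 212 [(146,(Int.ofNat 1))] .nil .nil)) (.node 223 [(160,(Int.ofNat 1))] (.node 221 [(155,(Int.negSucc 0))] .nil .nil) .nil)) (.node 234 [(208,(Int.ofNat 1))] (.node 230 [(182,(Int.negSucc 0))] (.node 228 [(177,(Int.ofNat 1))] .nil .nil) (.node 232 [(198,(Int.ofNat 1))] .nil .nil)) (.node 238 [(217,(Int.ofNat 1))] (.node 236 [(215,(Int.negSucc 0))] .nil .nil) .nil)))))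
noncomputable def ch51 : Tr (List (ℕ × ℤ)) := (.node 163 [(83,(Int.negSucc 0))] (.node 106 [(39,(Int.ofNat 1))] (.node 78 [(16,(Int.ofNat 1))] (.node 40 [(7,(Int.ofNat 1))] (.node 23 [(3,(Int.negSucc 0))] (.node 22 [(2,(Int.negSucc 0))] .nil .nil) (.node 30 [(5,(Int.ofNat 1))] .nil .nil)) (.node 62 [(12,(Int.negSucc 0))] (.node 56 [(9,(Int.negSucc 0))] .nil .nil) (.node 63 [(13,(Int.negSucc 0))] .nil .nil))) (.node 94 [(29,(Int.negSucc 0))] (.node 85 [(20,(Int.ofNat 1))] (.node 84 [(19,(Int.ofNat 1))] .nil .nil) (.node 93 [(28,(Int.negSucc 0))] .nil .nil)) (.node 105 [(38,(Int.ofNat 1))] (.node 97 [(35,(Int.negSucc 0))] .nil .nil) .nil))) (.node 127 [(55,(Int.negSucc 0))] (.node 117 [(49,(Int.ofNat 1))] (.node 114 [(47,(Int.negSucc 0))] (.node 109 [(45,(Int.ofNat 1))] .nil .nil) (.node 115 [(48,(Int.negSucc 0))]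 .nil .nil)) (.node 126 [(54,(Int.ofNat 1))] (.node 118 [(50,(Int.ofNat 1))] .nil .nil) .nil)) (.node 148 [(73,(Int.ofNat 1))] (.node 137 [(68,(Int.negSucc 0))] (.node 135 [(61,(Int.ofNat 1))] .nil .nil) (.node 138 [(69,(Int.ofNat 1))] .nil .nil)) (.node 156 [(76,(Int.ofNat 1))] (.node 149 [(74,(Int.negSucc 0))] .nil .nil) .nil)))) (.node 201 [(134,(Int.negSucc 0))] (.node 185 [(113,(Int.negSucc 0))] (.node 171 [(102,(Int.ofNat 1))] (.node 166 [(91,(Int.negSucc 0))] (.node 165 [(90,(Int.ofNat 1))] .nil .nil) (.node 170 [(101,(Int.negSucc 0))] .nil .nil)) (.node 184 [(112,(Int.ofNat 1))] (.node 178 [(104,(Int.negSucc 0))] .nil .nil) .nil)) (.node 192 [(125,(Int.ofNat 1))] (.node 190 [(122,(Int.negSucc 0))] (.node 189 [(121,(Int.negSucc 0))] .nil .nil) (.node 191 [(124,(Int.ofNat 1))] .nil .nil)) (.node 200 [(133,(Int.negSucc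 0))] (.node 194 [(130,(Int.negSucc 0))] .nil .nil) .nil))) (.node 226 [(176,(Int.ofNat 1))] (.node 219 [(154,(Int.negSucc 0))] (.node 210 [(145,(Int.ofNat 1))] (.node 204 [(142,(Int.ofNat 1))] .nil .nil) (.node 211 [(146,(Int.ofNat 1))] .nil .nil)) (.node 223 [(161,(Int.negSucc 0))] (.node 220 [(155,(Int.negSucc 0))] .nil .nil) .nil)) (.node 234 [(209,(Int.negSucc 0))] (.node 230 [(183,(Int.ofNat 1))] (.node 227 [(177,(Int.ofNat 1))] .nil .nil) (.node 232 [(199,(Int.negSucc 0))] .nil .nil)) (.node 237 [(217,(Int.ofNat 1))] (.node 236 [(216,(Int.ofNat 1))] .nil .nil) .nil)))))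
noncomputable def ch52 : Tr (List (ℕ × ℤ)) := (.node 163 [(84,(Int.negSucc 0))] (.node 107 [(41,(Int.negSucc 0))] (.node 80 [(17,(Int.ofNat 1))] (.node 39 [(7,(Int.negSucc 0))] (.node 25 [(4,(Int.negSucc 0))] (.node 21 [(0,(Int.ofNat 1))] .nil .nil) (.node 29 [(5,(Int.negSucc 0))] .nil .nil)) (.node 60 [(11,(Int.negSucc 0))] (.node 58 [(10,(Int.negSucc 0))] .nil .nil) (.node 61 [(12,(Int.negSucc 0))] .nil .nil))) (.node 95 [(31,(Int.ofNat 1))] (.node 83 [(19,(Int.ofNat 1))] (.node 82 [(18,(Int.ofNat 1))] .nil .nil) (.node 94 [(30,(Int.ofNat 1))] .nil .nil)) (.node 106 [(40,(Int.negSucc 0))] (.node 96 [(33,(Int.ofNat 1))] .nil .nil) .nil))) (.node 125 [(55,(Int.ofNat 1))] (.node 113 [(49,(Int.ofNat 1))] (.node 111 [(46,(Int.ofNat 1))] (.node 108 [(43,(Int.negSucc 0))] .nil .nil) (.node 112 [(47,(Int.ofNat 1))]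 .nil .nil)) (.node 122 [(54,(Int.ofNat 1))] (.node 120 [(53,(Int.ofNat 1))] .nil .nil) .nil)) (.node 147 [(71,(Int.ofNat 1))] (.node 136 [(66,(Int.negSucc 0))] (.node 135 [(62,(Int.ofNat 1))] .nil .nil) (.node 140 [(70,(Int.ofNat 1))] .nil .nil)) (.node 155 [(76,(Int.ofNat 1))] (.node 151 [(75,(Int.negSucc 0))] .nil .nil) .nil)))) (.node 199 [(133,(Int.ofNat 1))] (.node 185 [(117,(Int.negSucc 0))] (.node 173 [(103,(Int.ofNat 1))] (.node 168 [(92,(Int.negSucc 0))] (.node 164 [(88,(Int.ofNat 1))] .nil .nil) (.node 169 [(99,(Int.negSucc 0))] .nil .nil)) (.node 184 [(114,(Int.negSucc 0))] (.node 177 [(104,(Int.negSucc 0))] .nil .nil) .nil)) (.node 193 [(128,(Int.negSucc 0))] (.node 190 [(126,(Int.negSucc 0))] (.node 186 [(119,(Int.negSucc 0))] .nil .nil) (.node 192 [(127,(Int.negSucc 0))] .nil .nil)) (.node 198 [(132,(Int.ofNat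 1))] (.node 196 [(131,(Int.ofNat 1))] .nil .nil) .nil))) (.node 227 [(178,(Int.ofNat 1))] (.node 220 [(156,(Int.negSucc 0))] (.node 208 [(144,(Int.negSucc 0))] (.node 206 [(143,(Int.negSucc 0))] .nil .nil) (.node 209 [(145,(Int.negSucc 0))] .nil .nil)) (.node 222 [(159,(Int.negSucc 0))] (.node 221 [(157,(Int.negSucc 0))] .nil .nil) .nil)) (.node 234 [(210,(Int.ofNat 1))] (.node 229 [(181,(Int.ofNat 1))] (.node 228 [(179,(Int.ofNat 1))] .nil .nil) (.node 232 [(200,(Int.ofNat 1))] .nil .nil)) (.node 239 [(218,(Int.negSucc 0))] (.node 235 [(214,(Int.ofNat 1))] .nil .nil) .nil)))))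
noncomputable def ch53 : Tr (List (ℕ × ℤ)) := (.node 163 [(85,(Int.negSucc 0))] (.node 107 [(42,(Int.negSucc 0))] (.node 79 [(17,(Int.negSucc 0))] (.node 38 [(7,(Int.ofNat 1))] (.node 24 [(4,(Int.ofNat 1))] (.node 21 [(1,(Int.ofNat 1))] .nil .nil) (.node 28 [(5,(Int.ofNat 1))] .nil .nil)) (.node 59 [(11,(Int.ofNat 1))] (.node 57 [(10,(Int.ofNat 1))] .nil .nil) (.node 61 [(13,(Int.negSucc 0))] .nil .nil))) (.node 95 [(32,(Int.ofNat 1))] (.node 83 [(20,(Int.ofNat 1))] (.node 81 [(18,(Int.negSucc 0))] .nil .nil) (.node 93 [(30,(Int.negSucc 0))] .nil .nil)) (.node 105 [(40,(Int.ofNat 1))] (.node 96 [(34,(Int.ofNat 1))] .nil .nil) .nil))) (.node 124 [(55,(Int.ofNat 1))] (.node 113 [(50,(Int.ofNat 1))] (.node 110 [(46,(Int.negSucc 0))] (.node 108 [(44,(Int.negSucc 0))] .nil .nil) (.node 112 [(48,(Int.ofNat 1))] .nil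 .nil)) (.node 121 [(54,(Int.ofNat 1))] (.node 119 [(52,(Int.ofNat 1))] .nil .nil) .nil)) (.node 147 [(72,(Int.ofNat 1))] (.node 136 [(67,(Int.negSucc 0))] (.node 135 [(63,(Int.ofNat 1))] .nil .nil) (.node 139 [(70,(Int.ofNat 1))] .nil .nil)) (.node 154 [(76,(Int.ofNat 1))] (.node 150 [(75,(Int.negSucc 0))] .nil .nil) .nil)))) (.node 199 [(134,(Int.negSucc 0))] (.node 185 [(118,(Int.negSucc 0))] (.node 172 [(103,(Int.ofNat 1))] (.node 167 [(92,(Int.negSucc 0))] (.node 164 [(89,(Int.ofNat 1))] .nil .nil) (.node 169 [(100,(Int.negSucc 0))] .nil .nil)) (.node 184 [(115,(Int.negSucc 0))] (.node 176 [(104,(Int.negSucc 0))] .nil .nil) .nil)) (.node 193 [(129,(Int.ofNat 1))] (.node 189 [(126,(Int.negSucc 0))] (.node 187 [(120,(Int.negSucc 0))] .nil .nil) (.node 191 [(127,(Int.negSucc 0))] .nil .nil)) (.node 197 [(132,(Int.ofNat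 1))] (.node 195 [(131,(Int.ofNat 1))] .nil .nil) .nil))) (.node 226 [(178,(Int.ofNat 1))] (.node 219 [(156,(Int.negSucc 0))] (.node 207 [(144,(Int.negSucc 0))] (.node 205 [(143,(Int.negSucc 0))] .nil .nil) (.node 209 [(146,(Int.ofNat 1))] .nil .nil)) (.node 222 [(160,(Int.ofNat 1))] (.node 221 [(158,(Int.ofNat 1))] .nil .nil) .nil)) (.node 234 [(211,(Int.negSucc 0))] (.node 229 [(182,(Int.negSucc 0))] (.node 228 [(180,(Int.negSucc 0))] .nil .nil) (.node 232 [(201,(Int.negSucc 0))] .nil .nil)) (.node 238 [(218,(Int.negSucc 0))] (.node 235 [(215,(Int.negSucc 0))] .nil .nil) .nil)))))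
noncomputable def ch54 : Tr (List (ℕ × ℤ)) := (.node 163 [(86,(Int.negSucc 0))] (.node 106 [(42,(Int.ofNat 1))] (.node 78 [(17,(Int.ofNat 1))] (.node 37 [(7,(Int.negSucc 0))] (.node 23 [(4,(Int.negSucc 0))] (.node 21 [(2,(Int.ofNat 1))] .nil .nil) (.node 27 [(5,(Int.negSucc 0))] .nil .nil)) (.node 59 [(12,(Int.ofNat 1))] (.node 56 [(10,(Int.negSucc 0))] .nil .nil) (.node 60 [(13,(Int.ofNat 1))] .nil .nil))) (.node 94 [(32,(Int.negSucc 0))] (.node 82 [(20,(Int.negSucc 0))] (.node 81 [(19,(Int.negSucc 0))] .nil .nil) (.node 93 [(31,(Int.negSucc 0))] .nil .nil)) (.node 105 [(41,(Int.ofNat 1))] (.node 96 [(35,(Int.ofNat 1))] .nil .nil) .nil))) (.node 123 [(55,(Int.ofNat 1))] (.node 113 [(51,(Int.ofNat 1))] (.node 110 [(47,(Int.negSucc 0))] (.node 108 [(45,(Int.negSucc 0))] .nil .nil) (.node 111 [(48,(Int.negSucc 0))]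 .nil .nil)) (.node 118 [(53,(Int.ofNat 1))] (.node 117 [(52,(Int.ofNat 1))] .nil .nil) .nil)) (.node 147 [(73,(Int.ofNat 1))] (.node 136 [(68,(Int.negSucc 0))] (.node 135 [(64,(Int.ofNat 1))] .nil .nil) (.node 138 [(70,(Int.ofNat 1))] .nil .nil)) (.node 153 [(76,(Int.ofNat 1))] (.node 149 [(75,(Int.negSucc 0))] .nil .nil) .nil)))) (.node 198 [(134,(Int.negSucc 0))] (.node 186 [(121,(Int.negSucc 0))] (.node 171 [(103,(Int.ofNat 1))] (.node 166 [(92,(Int.negSucc 0))] (.node 164 [(90,(Int.ofNat 1))] .nil .nil) (.node 169 [(101,(Int.negSucc 0))] .nil .nil)) (.node 184 [(116,(Int.negSucc 0))] (.node 175 [(104,(Int.negSucc 0))] .nil .nil) .nil)) (.node 192 [(129,(Int.ofNat 1))] (.node 188 [(126,(Int.negSucc 0))] (.node 187 [(122,(Int.negSucc 0))] .nil .nil) (.node 191 [(128,(Int.ofNat 1))] .nil .nil)) (.node 197 [(133,(Int.negSucc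 0))] (.node 194 [(131,(Int.ofNat 1))] .nil .nil) .nil))) (.node 226 [(179,(Int.negSucc 0))] (.node 219 [(157,(Int.ofNat 1))] (.node 207 [(145,(Int.ofNat 1))] (.node 204 [(143,(Int.negSucc 0))] .nil .nil) (.node 208 [(146,(Int.ofNat 1))] .nil .nil)) (.node 222 [(161,(Int.negSucc 0))] (.node 220 [(158,(Int.ofNat 1))] .nil .nil) .nil)) (.node 234 [(212,(Int.ofNat 1))] (.node 229 [(183,(Int.ofNat 1))] (.node 227 [(180,(Int.negSucc 0))] .nil .nil) (.node 232 [(202,(Int.ofNat 1))] .nil .nil)) (.node 237 [(218,(Int.negSucc 0))] (.node 235 [(216,(Int.ofNat 1))] .nil .nil) .nil)))))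
noncomputable def ch55 : Tr (List (ℕ × ℤ)) := (.node 163 [(87,(Int.negSucc 0))] (.node 106 [(44,(Int.ofNat 1))] (.node 78 [(18,(Int.ofNat 1))] (.node 36 [(7,(Int.ofNat 1))] (.node 22 [(4,(Int.ofNat 1))] (.node 21 [(3,(Int.ofNat 1))] .nil .nil) (.node 26 [(5,(Int.ofNat 1))] .nil .nil)) (.node 57 [(12,(Int.negSucc 0))] (.node 56 [(11,(Int.negSucc 0))] .nil .nil) (.node 58 [(13,(Int.negSucc 0))] .nil .nil))) (.node 94 [(34,(Int.negSucc 0))] (.node 80 [(20,(Int.ofNat 1))] (.node 79 [(19,(Int.ofNat 1))] .nil .nil) (.node 93 [(33,(Int.negSucc 0))] .nil .nil)) (.node 105 [(43,(Int.ofNat 1))] (.node 95 [(35,(Int.negSucc 0))] .nil .nil) .nil))) (.node 116 [(54,(Int.ofNat 1))] (.node 112 [(51,(Int.negSucc 0))] (.node 110 [(49,(Int.negSucc 0))] (.node 107 [(45,(Int.ofNat 1))] .nil .nil) (.node 111 [(50,(Int.negSucc 0))]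 .nil .nil)) (.node 115 [(53,(Int.ofNat 1))] (.node 114 [(52,(Int.ofNat 1))] .nil .nil) .nil)) (.node 147 [(74,(Int.ofNat 1))] (.node 136 [(69,(Int.negSucc 0))] (.node 135 [(65,(Int.ofNat 1))] .nil .nil) (.node 137 [(70,(Int.ofNat 1))] .nil .nil)) (.node 152 [(76,(Int.ofNat 1))] (.node 148 [(75,(Int.negSucc 0))] .nil .nil) .nil)))) (.node 196 [(134,(Int.negSucc 0))] (.node 186 [(124,(Int.negSucc 0))] (.node 170 [(103,(Int.ofNat 1))] (.node 165 [(92,(Int.negSucc 0))] (.node 164 [(91,(Int.ofNat 1))] .nil .nil) (.node 169 [(102,(Int.negSucc 0))] .nil .nil)) (.node 185 [(123,(Int.negSucc 0))] (.node 174 [(104,(Int.negSucc 0))] .nil .nil) .nil)) (.node 190 [(129,(Int.ofNat 1))] (.node 188 [(127,(Int.ofNat 1))] (.node 187 [(125,(Int.negSucc 0))] .nil .nil) (.node 189 [(128,(Int.ofNat 1))] .nil .nil)) (.node 195 [(133,(Int.negSucc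 0))] (.node 194 [(132,(Int.negSucc 0))] .nil .nil) .nil))) (.node 226 [(181,(Int.ofNat 1))] (.node 219 [(159,(Int.negSucc 0))] (.node 205 [(145,(Int.ofNat 1))] (.node 204 [(144,(Int.ofNat 1))] .nil .nil) (.node 206 [(146,(Int.ofNat 1))] .nil .nil)) (.node 221 [(161,(Int.negSucc 0))] (.node 220 [(160,(Int.negSucc 0))] .nil .nil) .nil)) (.node 234 [(213,(Int.negSucc 0))] (.node 228 [(183,(Int.ofNat 1))] (.node 227 [(182,(Int.ofNat 1))] .nil .nil) (.node 232 [(203,(Int.negSucc 0))] .nil .nil)) (.node 236 [(218,(Int.negSucc 0))] (.node 235 [(217,(Int.negSucc 0))] .nil .nil) .nil)))))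
noncomputable def ch56 : Tr (List (ℕ × ℤ)) := (.node 162 [(78,(Int.negSucc 0))] (.node 102 [(37,(Int.ofNat 1))] (.node 83 [(21,(Int.ofNat 1))] (.node 45 [(8,(Int.ofNat 1))] (.node 20 [(1,(Int.ofNat 1))] (.node 19 [(0,(Int.ofNat 1))] .nil .nil) (.node 35 [(6,(Int.ofNat 1))] .nil .nil)) (.node 54 [(10,(Int.ofNat 1))] (.node 51 [(9,(Int.ofNat 1))] .nil .nil) (.node 55 [(11,(Int.ofNat 1))] .nil .nil))) (.node 91 [(27,(Int.ofNat 1))] (.node 87 [(23,(Int.ofNat 1))] (.node 86 [(22,(Int.ofNat 1))] .nil .nil) (.node 90 [(26,(Int.ofNat 1))] .nil .nil)) (.node 101 [(36,(Int.ofNat 1))] (.node 92 [(30,(Int.ofNat 1))] .nil .nil) .nil))) (.node 128 [(62,(Int.ofNat 1))] (.node 122 [(58,(Int.negSucc 0))] (.node 104 [(46,(Int.ofNat 1))] (.node 103 [(40,(Int.ofNat 1))] .nil .nil) (.node 121 [(57,(Int.ofNat 1))] .nil .nil)) (.node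 125 [(60,(Int.negSucc 0))] (.node 124 [(59,(Int.ofNat 1))] .nil .nil) .nil)) (.node 145 [(71,(Int.ofNat 1))] (.node 133 [(66,(Int.ofNat 1))] (.node 129 [(63,(Int.negSucc 0))] .nil .nil) (.node 134 [(67,(Int.negSucc 0))] .nil .nil)) (.node 161 [(77,(Int.ofNat 1))] (.node 146 [(72,(Int.negSucc 0))] .nil .nil) .nil)))) (.node 203 [(138,(Int.negSucc 0))] (.node 179 [(114,(Int.ofNat 1))] (.node 173 [(106,(Int.negSucc 0))] (.node 168 [(94,(Int.negSucc 0))] (.node 167 [(93,(Int.ofNat 1))] .nil .nil) (.node 172 [(105,(Int.ofNat 1))] .nil .nil)) (.node 177 [(111,(Int.negSucc 0))] (.node 176 [(110,(Int.ofNat 1))] .nil .nil) .nil)) (.node 193 [(135,(Int.negSucc 0))] (.node 181 [(117,(Int.ofNat 1))] (.node 180 [(115,(Int.negSucc 0))] .nil .nil) (.node 182 [(118,(Int.negSucc 0))] .nil .nil)) (.node 202 [(137,(Int.negSucc 0))]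 (.node 199 [(136,(Int.negSucc 0))] .nil .nil) .nil))) (.node 228 [(184,(Int.negSucc 0))] (.node 216 [(152,(Int.negSucc 0))] (.node 212 [(148,(Int.negSucc 0))] (.node 209 [(147,(Int.negSucc 0))] .nil .nil) (.node 213 [(149,(Int.negSucc 0))] .nil .nil)) (.node 218 [(156,(Int.negSucc 0))] (.node 217 [(153,(Int.negSucc 0))] .nil .nil) .nil)) (.node 233 [(204,(Int.negSucc 0))] (.node 230 [(188,(Int.negSucc 0))] (.node 229 [(185,(Int.negSucc 0))] .nil .nil) (.node 231 [(194,(Int.negSucc 0))] .nil .nil)) (.node 239 [(220,(Int.negSucc 0))] (.node 238 [(219,(Int.negSucc 0))] .nil .nil) .nil)))))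
noncomputable def ch57 : Tr (List (ℕ × ℤ)) := (.node 162 [(79,(Int.negSucc 0))] (.node 102 [(38,(Int.ofNat 1))] (.node 82 [(21,(Int.negSucc 0))] (.node 44 [(8,(Int.negSucc 0))] (.node 20 [(2,(Int.ofNat 1))] (.node 18 [(0,(Int.negSucc 0))] .nil .nil) (.node 34 [(6,(Int.negSucc 0))] .nil .nil)) (.node 53 [(10,(Int.negSucc 0))] (.node 50 [(9,(Int.negSucc 0))] .nil .nil) (.node 55 [(12,(Int.ofNat 1))] .nil .nil))) (.node 91 [(28,(Int.ofNat 1))] (.node 87 [(24,(Int.ofNat 1))] (.node 85 [(22,(Int.negSucc 0))] .nil .nil) (.node 89 [(26,(Int.negSucc 0))] .nil .nil)) (.node 100 [(36,(Int.negSucc 0))] (.node 92 [(31,(Int.ofNat 1))] .nil .nil) .nil))) (.node 127 [(62,(Int.ofNat 1))] (.node 120 [(58,(Int.ofNat 1))] (.node 104 [(47,(Int.ofNat 1))] (.node 103 [(41,(Int.ofNat 1))] .nil .nil) (.node 118 [(56,(Int.ofNat 1))] .nil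 .nil)) (.node 125 [(61,(Int.negSucc 0))] (.node 123 [(59,(Int.ofNat 1))] .nil .nil) .nil)) (.node 144 [(71,(Int.ofNat 1))] (.node 132 [(66,(Int.ofNat 1))] (.node 129 [(64,(Int.negSucc 0))] .nil .nil) (.node 134 [(68,(Int.negSucc 0))] .nil .nil)) (.node 160 [(77,(Int.ofNat 1))] (.node 146 [(73,(Int.negSucc 0))] .nil .nil) .nil)))) (.node 203 [(139,(Int.ofNat 1))] (.node 178 [(114,(Int.ofNat 1))] (.node 173 [(107,(Int.negSucc 0))] (.node 168 [(95,(Int.negSucc 0))] (.node 166 [(93,(Int.ofNat 1))] .nil .nil) (.node 171 [(105,(Int.ofNat 1))] .nil .nil)) (.node 177 [(112,(Int.negSucc 0))] (.node 175 [(110,(Int.ofNat 1))] .nil .nil) .nil)) (.node 192 [(135,(Int.negSucc 0))] (.node 181 [(119,(Int.negSucc 0))] (.node 180 [(116,(Int.negSucc 0))] .nil .nil) (.node 183 [(121,(Int.negSucc 0))] .nil .nil)) (.node 201 [(137,(Int.negSucc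 0))] (.node 198 [(136,(Int.negSucc 0))] .nil .nil) .nil))) (.node 227 [(184,(Int.negSucc 0))] (.node 215 [(152,(Int.negSucc 0))] (.node 211 [(148,(Int.negSucc 0))] (.node 208 [(147,(Int.negSucc 0))] .nil .nil) (.node 213 [(150,(Int.ofNat 1))] .nil .nil)) (.node 218 [(157,(Int.ofNat 1))] (.node 217 [(154,(Int.ofNat 1))] .nil .nil) .nil)) (.node 233 [(205,(Int.ofNat 1))] (.node 230 [(189,(Int.ofNat 1))] (.node 229 [(186,(Int.ofNat 1))] .nil .nil) (.node 231 [(195,(Int.ofNat 1))] .nil .nil)) (.node 239 [(221,(Int.ofNat 1))] (.node 237 [(219,(Int.negSucc 0))] .nil .nil) .nil)))))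
noncomputable def ch58 : Tr (List (ℕ × ℤ)) := (.node 162 [(80,(Int.negSucc 0))] (.node 102 [(39,(Int.ofNat 1))] (.node 81 [(21,(Int.ofNat 1))] (.node 43 [(8,(Int.ofNat 1))] (.node 19 [(2,(Int.negSucc 0))] (.node 18 [(1,(Int.negSucc 0))] .nil .nil) (.node 33 [(6,(Int.ofNat 1))] .nil .nil)) (.node 52 [(10,(Int.ofNat 1))] (.node 49 [(9,(Int.ofNat 1))] .nil .nil) (.node 55 [(13,(Int.ofNat 1))] .nil .nil))) (.node 91 [(29,(Int.ofNat 1))] (.node 87 [(25,(Int.ofNat 1))] (.node 84 [(22,(Int.ofNat 1))] .nil .nil) (.node 88 [(26,(Int.ofNat 1))] .nil .nil)) (.node 99 [(36,(Int.ofNat 1))] (.node 92 [(32,(Int.ofNat 1))] .nil .nil) .nil))) (.node 127 [(63,(Int.ofNat 1))] (.node 119 [(57,(Int.ofNat 1))] (.node 104 [(48,(Int.ofNat 1))] (.node 103 [(42,(Int.ofNat 1))] .nil .nil) (.node 117 [(56,(Int.negSucc 0))] .nil .nil)) (.node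 124 [(61,(Int.negSucc 0))] (.node 123 [(60,(Int.ofNat 1))] .nil .nil) .nil)) (.node 144 [(72,(Int.ofNat 1))] (.node 132 [(67,(Int.ofNat 1))] (.node 128 [(64,(Int.negSucc 0))] .nil .nil) (.node 133 [(68,(Int.negSucc 0))] .nil .nil)) (.node 159 [(77,(Int.ofNat 1))] (.node 145 [(73,(Int.negSucc 0))] .nil .nil) .nil)))) (.node 203 [(140,(Int.negSucc 0))] (.node 178 [(115,(Int.ofNat 1))] (.node 172 [(107,(Int.negSucc 0))] (.node 167 [(95,(Int.negSucc 0))] (.node 166 [(94,(Int.ofNat 1))] .nil .nil) (.node 171 [(106,(Int.ofNat 1))] .nil .nil)) (.node 176 [(112,(Int.negSucc 0))] (.node 175 [(111,(Int.ofNat 1))] .nil .nil) .nil)) (.node 191 [(135,(Int.negSucc 0))] (.node 182 [(120,(Int.negSucc 0))] (.node 179 [(116,(Int.negSucc 0))] .nil .nil) (.node 183 [(122,(Int.ofNat 1))] .nil .nil)) (.node 200 [(137,(Int.negSucc 0))]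 (.node 197 [(136,(Int.negSucc 0))] .nil .nil) .nil))) (.node 226 [(184,(Int.negSucc 0))] (.node 214 [(152,(Int.negSucc 0))] (.node 210 [(148,(Int.negSucc 0))] (.node 207 [(147,(Int.negSucc 0))] .nil .nil) (.node 213 [(151,(Int.negSucc 0))] .nil .nil)) (.node 218 [(158,(Int.negSucc 0))] (.node 217 [(155,(Int.negSucc 0))] .nil .nil) .nil)) (.node 233 [(206,(Int.negSucc 0))] (.node 230 [(190,(Int.negSucc 0))] (.node 229 [(187,(Int.negSucc 0))] .nil .nil) (.node 231 [(196,(Int.negSucc 0))] .nil .nil)) (.node 238 [(221,(Int.ofNat 1))] (.node 237 [(220,(Int.ofNat 1))] .nil .nil) .nil)))))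
noncomputable def ch59 : Tr (List (ℕ × ℤ)) := (.node 162 [(81,(Int.negSucc 0))] (.node 101 [(38,(Int.negSucc 0))] (.node 80 [(21,(Int.ofNat 1))] (.node 42 [(8,(Int.ofNat 1))] (.node 20 [(3,(Int.ofNat 1))] (.node 17 [(0,(Int.ofNat 1))] .nil .nil) (.node 32 [(6,(Int.ofNat 1))] .nil .nil)) (.node 53 [(11,(Int.negSucc 0))] (.node 48 [(9,(Int.ofNat 1))] .nil .nil) (.node 54 [(12,(Int.negSucc 0))] .nil .nil))) (.node 90 [(28,(Int.negSucc 0))] (.node 86 [(24,(Int.negSucc 0))] (.node 85 [(23,(Int.negSucc 0))] .nil .nil) (.node 89 [(27,(Int.negSucc 0))] .nil .nil)) (.node 100 [(37,(Int.negSucc 0))] (.node 92 [(33,(Int.ofNat 1))] .nil .nil) .nil))) (.node 126 [(62,(Int.ofNat 1))] (.node 116 [(57,(Int.ofNat 1))] (.node 104 [(49,(Int.ofNat 1))] (.node 103 [(43,(Int.ofNat 1))] .nil .nil) (.node 115 [(56,(Int.ofNat 1))] .nil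 .nil)) (.node 122 [(61,(Int.ofNat 1))] (.node 120 [(60,(Int.ofNat 1))] .nil .nil) .nil)) (.node 143 [(71,(Int.ofNat 1))] (.node 131 [(66,(Int.ofNat 1))] (.node 129 [(65,(Int.negSucc 0))] .nil .nil) (.node 134 [(69,(Int.negSucc 0))] .nil .nil)) (.node 158 [(77,(Int.ofNat 1))] (.node 146 [(74,(Int.negSucc 0))] .nil .nil) .nil)))) (.node 202 [(139,(Int.ofNat 1))] (.node 178 [(117,(Int.negSucc 0))] (.node 173 [(108,(Int.negSucc 0))] (.node 168 [(96,(Int.negSucc 0))] (.node 165 [(93,(Int.ofNat 1))] .nil .nil) (.node 170 [(105,(Int.ofNat 1))] .nil .nil)) (.node 177 [(113,(Int.negSucc 0))] (.node 174 [(110,(Int.ofNat 1))] .nil .nil) .nil)) (.node 190 [(135,(Int.negSucc 0))] (.node 182 [(123,(Int.negSucc 0))] (.node 179 [(119,(Int.negSucc 0))] .nil .nil) (.node 183 [(124,(Int.negSucc 0))] .nil .nil)) (.node 201 [(138,(Int.ofNat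 1))] (.node 196 [(136,(Int.negSucc 0))] .nil .nil) .nil))) (.node 227 [(185,(Int.ofNat 1))] (.node 215 [(153,(Int.ofNat 1))] (.node 211 [(149,(Int.ofNat 1))] (.node 206 [(147,(Int.negSucc 0))] .nil .nil) (.node 212 [(150,(Int.ofNat 1))] .nil .nil)) (.node 218 [(159,(Int.negSucc 0))] (.node 216 [(154,(Int.ofNat 1))] .nil .nil) .nil)) (.node 233 [(207,(Int.negSucc 0))] (.node 230 [(191,(Int.negSucc 0))] (.node 228 [(186,(Int.ofNat 1))] .nil .nil) (.node 231 [(197,(Int.negSucc 0))] .nil .nil)) (.node 239 [(222,(Int.negSucc 0))] (.node 236 [(219,(Int.negSucc 0))] .nil .nil) .nil)))))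
noncomputable def ch60 : Tr (List (ℕ × ℤ)) := (.node 162 [(82,(Int.negSucc 0))] (.node 101 [(39,(Int.negSucc 0))] (.node 79 [(21,(Int.negSucc 0))] (.node 41 [(8,(Int.negSucc 0))] (.node 19 [(3,(Int.negSucc 0))] (.node 17 [(1,(Int.ofNat 1))] .nil .nil) (.node 31 [(6,(Int.negSucc 0))] .nil .nil)) (.node 52 [(11,(Int.ofNat 1))] (.node 47 [(9,(Int.negSucc 0))] .nil .nil) (.node 54 [(13,(Int.negSucc 0))] .nil .nil))) (.node 90 [(29,(Int.negSucc 0))] (.node 86 [(25,(Int.negSucc 0))] (.node 84 [(23,(Int.ofNat 1))] .nil .nil) (.node 88 [(27,(Int.ofNat 1))] .nil .nil)) (.node 99 [(37,(Int.ofNat 1))] (.node 92 [(34,(Int.ofNat 1))] .nil .nil) .nil))) (.node 126 [(63,(Int.ofNat 1))] (.node 116 [(58,(Int.ofNat 1))] (.node 104 [(50,(Int.ofNat 1))] (.node 103 [(44,(Int.ofNat 1))] .nil .nil) (.node 114 [(56,(Int.negSucc 0))]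 .nil .nil)) (.node 121 [(61,(Int.ofNat 1))] (.node 119 [(59,(Int.ofNat 1))] .nil .nil) .nil)) (.node 143 [(72,(Int.ofNat 1))] (.node 131 [(67,(Int.ofNat 1))] (.node 128 [(65,(Int.negSucc 0))] .nil .nil) (.node 133 [(69,(Int.negSucc 0))] .nil .nil)) (.node 157 [(77,(Int.ofNat 1))] (.node 145 [(74,(Int.negSucc 0))] .nil .nil) .nil)))) (.node 202 [(140,(Int.negSucc 0))] (.node 178 [(118,(Int.negSucc 0))] (.node 172 [(108,(Int.negSucc 0))] (.node 167 [(96,(Int.negSucc 0))] (.node 165 [(94,(Int.ofNat 1))] .nil .nil) (.node 170 [(106,(Int.ofNat 1))] .nil .nil)) (.node 176 [(113,(Int.negSucc 0))] (.node 174 [(111,(Int.ofNat 1))] .nil .nil) .nil)) (.node 189 [(135,(Int.negSucc 0))] (.node 181 [(123,(Int.negSucc 0))] (.node 180 [(120,(Int.negSucc 0))] .nil .nil) (.node 183 [(125,(Int.ofNat 1))] .nil .nil)) (.node 200 [(138,(Int.ofNat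 1))] (.node 195 [(136,(Int.negSucc 0))] .nil .nil) .nil))) (.node 226 [(185,(Int.ofNat 1))] (.node 214 [(153,(Int.ofNat 1))] (.node 210 [(149,(Int.ofNat 1))] (.node 205 [(147,(Int.negSucc 0))] .nil .nil) (.node 212 [(151,(Int.negSucc 0))] .nil .nil)) (.node 218 [(160,(Int.ofNat 1))] (.node 216 [(155,(Int.negSucc 0))] .nil .nil) .nil)) (.node 233 [(208,(Int.ofNat 1))] (.node 230 [(192,(Int.ofNat 1))] (.node 228 [(187,(Int.negSucc 0))] .nil .nil) (.node 231 [(198,(Int.ofNat 1))] .nil .nil)) (.node 238 [(222,(Int.negSucc 0))] (.node 236 [(220,(Int.ofNat 1))] .nil .nil) .nil)))))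
noncomputable def ch61 : Tr (List (ℕ × ℤ)) := (.node 162 [(83,(Int.negSucc 0))] (.node 100 [(39,(Int.ofNat 1))] (.node 78 [(21,(Int.ofNat 1))] (.node 40 [(8,(Int.ofNat 1))] (.node 18 [(3,(Int.ofNat 1))] (.node 17 [(2,(Int.ofNat 1))] .nil .nil) (.node 30 [(6,(Int.ofNat 1))] .nil .nil)) (.node 52 [(12,(Int.ofNat 1))] (.node 46 [(9,(Int.ofNat 1))] .nil .nil) (.node 53 [(13,(Int.ofNat 1))] .nil .nil))) (.node 89 [(29,(Int.ofNat 1))] (.node 85 [(25,(Int.ofNat 1))] (.node 84 [(24,(Int.ofNat 1))] .nil .nil) (.node 88 [(28,(Int.ofNat 1))] .nil .nil)) (.node 99 [(38,(Int.ofNat 1))] (.node 92 [(35,(Int.ofNat 1))] .nil .nil) .nil))) (.node 126 [(64,(Int.ofNat 1))] (.node 115 [(58,(Int.negSucc 0))] (.node 104 [(51,(Int.ofNat 1))] (.node 103 [(45,(Int.ofNat 1))] .nil .nil) (.node 114 [(57,(Int.negSucc 0))] .nil .nil)) (.node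 118 [(60,(Int.ofNat 1))] (.node 117 [(59,(Int.ofNat 1))] .nil .nil) .nil)) (.node 143 [(73,(Int.ofNat 1))] (.node 131 [(68,(Int.ofNat 1))] (.node 127 [(65,(Int.negSucc 0))] .nil .nil) (.node 132 [(69,(Int.negSucc 0))] .nil .nil)) (.node 156 [(77,(Int.ofNat 1))] (.node 144 [(74,(Int.negSucc 0))] .nil .nil) .nil)))) (.node 201 [(140,(Int.negSucc 0))] (.node 179 [(121,(Int.negSucc 0))] (.node 171 [(108,(Int.negSucc 0))] (.node 166 [(96,(Int.negSucc 0))] (.node 165 [(95,(Int.ofNat 1))] .nil .nil) (.node 170 [(107,(Int.ofNat 1))] .nil .nil)) (.node 175 [(113,(Int.negSucc 0))] (.node 174 [(112,(Int.ofNat 1))] .nil .nil) .nil)) (.node 188 [(135,(Int.negSucc 0))] (.node 181 [(124,(Int.ofNat 1))] (.node 180 [(122,(Int.negSucc 0))] .nil .nil) (.node 182 [(125,(Int.ofNat 1))] .nil .nil)) (.node 200 [(139,(Int.negSucc 0))]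 (.node 194 [(136,(Int.negSucc 0))] .nil .nil) .nil))) (.node 226 [(186,(Int.negSucc 0))] (.node 214 [(154,(Int.negSucc 0))] (.node 210 [(150,(Int.negSucc 0))] (.node 204 [(147,(Int.negSucc 0))] .nil .nil) (.node 211 [(151,(Int.negSucc 0))] .nil .nil)) (.node 218 [(161,(Int.negSucc 0))] (.node 215 [(155,(Int.negSucc 0))] .nil .nil) .nil)) (.node 233 [(209,(Int.negSucc 0))] (.node 230 [(193,(Int.negSucc 0))] (.node 227 [(187,(Int.negSucc 0))] .nil .nil) (.node 231 [(199,(Int.negSucc 0))] .nil .nil)) (.node 237 [(222,(Int.negSucc 0))] (.node 236 [(221,(Int.negSucc 0))] .nil .nil) .nil)))))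
noncomputable def ch62 : Tr (List (ℕ × ℤ)) := (.node 162 [(84,(Int.negSucc 0))] (.node 101 [(41,(Int.negSucc 0))] (.node 80 [(22,(Int.ofNat 1))] (.node 39 [(8,(Int.negSucc 0))] (.node 20 [(4,(Int.ofNat 1))] (.node 16 [(0,(Int.negSucc 0))] .nil .nil) (.node 29 [(6,(Int.negSucc 0))] .nil .nil)) (.node 50 [(11,(Int.ofNat 1))] (.node 48 [(10,(Int.ofNat 1))] .nil .nil) (.node 51 [(12,(Int.ofNat 1))] .nil .nil))) (.node 90 [(31,(Int.negSucc 0))] (.node 83 [(24,(Int.ofNat 1))] (.node 82 [(23,(Int.ofNat 1))] .nil .nil) (.node 89 [(30,(Int.negSucc 0))] .nil .nil)) (.node 100 [(40,(Int.negSucc 0))] (.node 91 [(33,(Int.negSucc 0))] .nil .nil) .nil))) (.node 122 [(64,(Int.ofNat 1))] (.node 112 [(57,(Int.ofNat 1))] (.node 104 [(52,(Int.ofNat 1))] (.node 102 [(43,(Int.negSucc 0))] .nil .nil) (.node 111 [(56,(Int.ofNat 1))]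 .nil .nil)) (.node 120 [(63,(Int.ofNat 1))] (.node 113 [(59,(Int.ofNat 1))] .nil .nil) .nil)) (.node 142 [(71,(Int.ofNat 1))] (.node 130 [(66,(Int.ofNat 1))] (.node 125 [(65,(Int.ofNat 1))] .nil .nil) (.node 134 [(70,(Int.negSucc 0))] .nil .nil)) (.node 155 [(77,(Int.ofNat 1))] (.node 146 [(75,(Int.negSucc 0))] .nil .nil) .nil)))) (.node 199 [(139,(Int.ofNat 1))] (.node 176 [(119,(Int.negSucc 0))] (.node 173 [(109,(Int.negSucc 0))] (.node 168 [(97,(Int.negSucc 0))] (.node 164 [(93,(Int.ofNat 1))] .nil .nil) (.node 169 [(105,(Int.ofNat 1))] .nil .nil)) (.node 175 [(117,(Int.negSucc 0))] (.node 174 [(114,(Int.negSucc 0))] .nil .nil) .nil)) (.node 187 [(135,(Int.negSucc 0))] (.node 182 [(127,(Int.negSucc 0))] (.node 180 [(126,(Int.negSucc 0))] .nil .nil) (.node 183 [(128,(Int.negSucc 0))] .nil .nil)) (.node 198 [(138,(Int.ofNat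 1))] (.node 196 [(137,(Int.ofNat 1))] .nil .nil) .nil))) (.node 227 [(188,(Int.negSucc 0))] (.node 215 [(156,(Int.negSucc 0))] (.node 208 [(149,(Int.ofNat 1))] (.node 206 [(148,(Int.ofNat 1))] .nil .nil) (.node 209 [(150,(Int.ofNat 1))] .nil .nil)) (.node 217 [(159,(Int.negSucc 0))] (.node 216 [(157,(Int.negSucc 0))] .nil .nil) .nil)) (.node 233 [(210,(Int.ofNat 1))] (.node 229 [(191,(Int.negSucc 0))] (.node 228 [(189,(Int.negSucc 0))] .nil .nil) (.node 231 [(200,(Int.ofNat 1))] .nil .nil)) (.node 239 [(223,(Int.ofNat 1))] (.node 235 [(219,(Int.negSucc 0))] .nil .nil) .nil)))))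
noncomputable def ch63 : Tr (List (ℕ × ℤ)) := (.node 162 [(85,(Int.negSucc 0))] (.node 101 [(42,(Int.negSucc 0))] (.node 79 [(22,(Int.negSucc 0))] (.node 38 [(8,(Int.ofNat 1))] (.node 19 [(4,(Int.negSucc 0))] (.node 16 [(1,(Int.negSucc 0))] .nil .nil) (.node 28 [(6,(Int.ofNat 1))] .nil .nil)) (.node 49 [(11,(Int.negSucc 0))] (.node 47 [(10,(Int.negSucc 0))] .nil .nil) (.node 51 [(13,(Int.ofNat 1))] .nil .nil))) (.node 90 [(32,(Int.negSucc 0))] (.node 83 [(25,(Int.ofNat 1))] (.node 81 [(23,(Int.negSucc 0))] .nil .nil) (.node 88 [(30,(Int.ofNat 1))] .nil .nil)) (.node 99 [(40,(Int.ofNat 1))] (.node 91 [(34,(Int.negSucc 0))] .nil .nil) .nil))) (.node 121 [(64,(Int.ofNat 1))] (.node 112 [(58,(Int.ofNat 1))] (.node 104 [(53,(Int.ofNat 1))] (.node 102 [(44,(Int.negSucc 0))] .nil .nil) (.node 110 [(56,(Int.negSucc 0))]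 .nil .nil)) (.node 119 [(62,(Int.ofNat 1))] (.node 113 [(60,(Int.ofNat 1))] .nil .nil) .nil)) (.node 142 [(72,(Int.ofNat 1))] (.node 130 [(67,(Int.ofNat 1))] (.node 124 [(65,(Int.ofNat 1))] .nil .nil) (.node 133 [(70,(Int.negSucc 0))] .nil .nil)) (.node 154 [(77,(Int.ofNat 1))] (.node 145 [(75,(Int.negSucc 0))] .nil .nil) .nil)))) (.node 199 [(140,(Int.negSucc 0))] (.node 177 [(120,(Int.negSucc 0))] (.node 172 [(109,(Int.negSucc 0))] (.node 167 [(97,(Int.negSucc 0))] (.node 164 [(94,(Int.ofNat 1))] .nil .nil) (.node 169 [(106,(Int.ofNat 1))] .nil .nil)) (.node 175 [(118,(Int.negSucc 0))] (.node 174 [(115,(Int.negSucc 0))] .nil .nil) .nil)) (.node 186 [(135,(Int.negSucc 0))] (.node 181 [(127,(Int.negSucc 0))] (.node 179 [(126,(Int.negSucc 0))] .nil .nil) (.node 183 [(129,(Int.ofNat 1))] .nil .nil)) (.node 197 [(138,(Int.ofNat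 1))] (.node 195 [(137,(Int.ofNat 1))] .nil .nil) .nil))) (.node 226 [(188,(Int.negSucc 0))] (.node 214 [(156,(Int.negSucc 0))] (.node 207 [(149,(Int.ofNat 1))] (.node 205 [(148,(Int.ofNat 1))] .nil .nil) (.node 209 [(151,(Int.negSucc 0))] .nil .nil)) (.node 217 [(160,(Int.ofNat 1))] (.node 216 [(158,(Int.ofNat 1))] .nil .nil) .nil)) (.node 233 [(211,(Int.negSucc 0))] (.node 229 [(192,(Int.ofNat 1))] (.node 228 [(190,(Int.ofNat 1))] .nil .nil) (.node 231 [(201,(Int.negSucc 0))] .nil .nil)) (.node 238 [(223,(Int.ofNat 1))] (.node 235 [(220,(Int.ofNat 1))] .nil .nil) .nil)))))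
noncomputable def ch64 : Tr (List (ℕ × ℤ)) := (.node 162 [(86,(Int.negSucc 0))] (.node 100 [(42,(Int.ofNat 1))] (.node 78 [(22,(Int.ofNat 1))] (.node 37 [(8,(Int.negSucc 0))] (.node 18 [(4,(Int.ofNat 1))] (.node 16 [(2,(Int.negSucc 0))] .nil .nil) (.node 27 [(6,(Int.negSucc 0))] .nil .nil)) (.node 49 [(12,(Int.negSucc 0))] (.node 46 [(10,(Int.ofNat 1))] .nil .nil) (.node 50 [(13,(Int.negSucc 0))] .nil .nil))) (.node 89 [(32,(Int.ofNat 1))] (.node 82 [(25,(Int.negSucc 0))] (.node 81 [(24,(Int.negSucc 0))] .nil .nil) (.node 88 [(31,(Int.ofNat 1))] .nil .nil)) (.node 99 [(41,(Int.ofNat 1))] (.node 91 [(35,(Int.negSucc 0))] .nil .nil) .nil))) (.node 118 [(63,(Int.ofNat 1))] (.node 111 [(58,(Int.negSucc 0))] (.node 104 [(54,(Int.ofNat 1))] (.node 102 [(45,(Int.negSucc 0))] .nil .nil) (.node 110 [(57,(Int.negSucc 0))]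 .nil .nil)) (.node 117 [(62,(Int.ofNat 1))] (.node 113 [(61,(Int.ofNat 1))] .nil .nil) .nil)) (.node 142 [(73,(Int.ofNat 1))] (.node 130 [(68,(Int.ofNat 1))] (.node 123 [(65,(Int.ofNat 1))] .nil .nil) (.node 132 [(70,(Int.negSucc 0))] .nil .nil)) (.node 153 [(77,(Int.ofNat 1))] (.node 144 [(75,(Int.negSucc 0))] .nil .nil) .nil)))) (.node 198 [(140,(Int.negSucc 0))] (.node 177 [(122,(Int.negSucc 0))] (.node 171 [(109,(Int.negSucc 0))] (.node 166 [(97,(Int.negSucc 0))] (.node 164 [(95,(Int.ofNat 1))] .nil .nil) (.node 169 [(107,(Int.ofNat 1))] .nil .nil)) (.node 176 [(121,(Int.negSucc 0))] (.node 174 [(116,(Int.negSucc 0))] .nil .nil) .nil)) (.node 185 [(135,(Int.negSucc 0))] (.node 181 [(128,(Int.ofNat 1))] (.node 178 [(126,(Int.negSucc 0))] .nil .nil) (.node 182 [(129,(Int.ofNat 1))] .nil .nil)) (.node 197 [(139,(Int.negSucc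 0))] (.node 194 [(137,(Int.ofNat 1))] .nil .nil) .nil))) (.node 226 [(189,(Int.ofNat 1))] (.node 214 [(157,(Int.ofNat 1))] (.node 207 [(150,(Int.negSucc 0))] (.node 204 [(148,(Int.ofNat 1))] .nil .nil) (.node 208 [(151,(Int.negSucc 0))] .nil .nil)) (.node 217 [(161,(Int.negSucc 0))] (.node 215 [(158,(Int.ofNat 1))] .nil .nil) .nil)) (.node 233 [(212,(Int.ofNat 1))] (.node 229 [(193,(Int.negSucc 0))] (.node 227 [(190,(Int.ofNat 1))] .nil .nil) (.node 231 [(202,(Int.ofNat 1))] .nil .nil)) (.node 237 [(223,(Int.ofNat 1))] (.node 235 [(221,(Int.negSucc 0))] .nil .nil) .nil)))))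
noncomputable def ch65 : Tr (List (ℕ × ℤ)) := (.node 162 [(87,(Int.negSucc 0))] (.node 100 [(44,(Int.ofNat 1))] (.node 78 [(23,(Int.ofNat 1))] (.node 36 [(8,(Int.ofNat 1))] (.node 17 [(4,(Int.negSucc 0))] (.node 16 [(3,(Int.negSucc 0))] .nil .nil) (.node 26 [(6,(Int.ofNat 1))] .nil .nil)) (.node 47 [(12,(Int.ofNat 1))] (.node 46 [(11,(Int.ofNat 1))] .nil .nil) (.node 48 [(13,(Int.ofNat 1))] .nil .nil))) (.node 89 [(34,(Int.ofNat 1))] (.node 80 [(25,(Int.ofNat 1))] (.node 79 [(24,(Int.ofNat 1))] .nil .nil) (.node 88 [(33,(Int.ofNat 1))] .nil .nil)) (.node 99 [(43,(Int.ofNat 1))] (.node 90 [(35,(Int.ofNat 1))] .nil .nil) .nil))) (.node 115 [(63,(Int.ofNat 1))] (.node 111 [(60,(Int.negSucc 0))] (.node 104 [(55,(Int.ofNat 1))] (.node 101 [(45,(Int.ofNat 1))] .nil .nil) (.node 110 [(59,(Int.negSucc 0))] .nil .nil))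 (.node 114 [(62,(Int.ofNat 1))] (.node 112 [(61,(Int.negSucc 0))] .nil .nil) .nil)) (.node 142 [(74,(Int.ofNat 1))] (.node 130 [(69,(Int.ofNat 1))] (.node 116 [(64,(Int.ofNat 1))] .nil .nil) (.node 131 [(70,(Int.negSucc 0))] .nil .nil)) (.node 152 [(77,(Int.ofNat 1))] (.node 143 [(75,(Int.negSucc 0))] .nil .nil) .nil)))) (.node 196 [(140,(Int.negSucc 0))] (.node 177 [(125,(Int.negSucc 0))] (.node 170 [(109,(Int.negSucc 0))] (.node 165 [(97,(Int.negSucc 0))] (.node 164 [(96,(Int.ofNat 1))] .nil .nil) (.node 169 [(108,(Int.ofNat 1))] .nil .nil)) (.node 176 [(124,(Int.negSucc 0))] (.node 175 [(123,(Int.negSucc 0))] .nil .nil) .nil)) (.node 184 [(135,(Int.negSucc 0))] (.node 179 [(128,(Int.ofNat 1))] (.node 178 [(127,(Int.ofNat 1))] .nil .nil) (.node 180 [(129,(Int.ofNat 1))] .nil .nil)) (.node 195 [(139,(Int.negSucc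 0))] (.node 194 [(138,(Int.negSucc 0))] .nil .nil) .nil))) (.node 226 [(191,(Int.negSucc 0))] (.node 214 [(159,(Int.negSucc 0))] (.node 205 [(150,(Int.negSucc 0))] (.node 204 [(149,(Int.negSucc 0))] .nil .nil) (.node 206 [(151,(Int.negSucc 0))] .nil .nil)) (.node 216 [(161,(Int.negSucc 0))] (.node 215 [(160,(Int.negSucc 0))] .nil .nil) .nil)) (.node 233 [(213,(Int.negSucc 0))] (.node 228 [(193,(Int.negSucc 0))] (.node 227 [(192,(Int.negSucc 0))] .nil .nil) (.node 231 [(203,(Int.negSucc 0))] .nil .nil)) (.node 236 [(223,(Int.ofNat 1))] (.node 235 [(222,(Int.ofNat 1))] .nil .nil) .nil)))))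
noncomputable def ch66 : Tr (List (ℕ × ℤ)) := (.node 162 [(88,(Int.negSucc 0))] (.node 101 [(47,(Int.negSucc 0))] (.node 80 [(26,(Int.ofNat 1))] (.node 39 [(9,(Int.negSucc 0))] (.node 20 [(5,(Int.ofNat 1))] (.node 15 [(0,(Int.ofNat 1))] .nil .nil) (.node 25 [(6,(Int.ofNat 1))] .nil .nil)) (.node 44 [(11,(Int.negSucc 0))] (.node 42 [(10,(Int.negSucc 0))] .nil .nil) (.node 45 [(12,(Int.negSucc 0))] .nil .nil))) (.node 86 [(31,(Int.ofNat 1))] (.node 83 [(28,(Int.ofNat 1))] (.node 82 [(27,(Int.ofNat 1))] .nil .nil) (.node 85 [(30,(Int.ofNat 1))] .nil .nil)) (.node 100 [(46,(Int.negSucc 0))] (.node 87 [(33,(Int.ofNat 1))] .nil .nil) .nil))) (.node 120 [(67,(Int.ofNat 1))] (.node 107 [(57,(Int.ofNat 1))] (.node 103 [(52,(Int.negSucc 0))] (.node 102 [(49,(Int.negSucc 0))] .nil .nil) (.node 106 [(56,(Int.ofNat 1))] .nil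 .nil)) (.node 109 [(62,(Int.ofNat 1))] (.node 108 [(59,(Int.ofNat 1))] .nil .nil) .nil)) (.node 141 [(71,(Int.ofNat 1))] (.node 125 [(69,(Int.ofNat 1))] (.node 122 [(68,(Int.ofNat 1))] .nil .nil) (.node 129 [(70,(Int.ofNat 1))] .nil .nil)) (.node 151 [(77,(Int.ofNat 1))] (.node 146 [(76,(Int.negSucc 0))] .nil .nil) .nil)))) (.node 193 [(139,(Int.ofNat 1))] (.node 177 [(130,(Int.negSucc 0))] (.node 170 [(114,(Int.negSucc 0))] (.node 168 [(98,(Int.negSucc 0))] (.node 163 [(93,(Int.ofNat 1))] .nil .nil) (.node 169 [(110,(Int.negSucc 0))] .nil .nil)) (.node 172 [(119,(Int.negSucc 0))] (.node 171 [(117,(Int.negSucc 0))] .nil .nil) .nil)) (.node 187 [(136,(Int.ofNat 1))] (.node 182 [(132,(Int.negSucc 0))] (.node 180 [(131,(Int.negSucc 0))] .nil .nil) (.node 183 [(133,(Int.negSucc 0))] .nil .nil)) (.node 192 [(138,(Int.ofNat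 1))] (.node 190 [(137,(Int.ofNat 1))] .nil .nil) .nil))) (.node 227 [(194,(Int.ofNat 1))] (.node 211 [(156,(Int.negSucc 0))] (.node 208 [(153,(Int.negSucc 0))] (.node 206 [(152,(Int.negSucc 0))] .nil .nil) (.node 209 [(154,(Int.negSucc 0))] .nil .nil)) (.node 213 [(159,(Int.negSucc 0))] (.node 212 [(157,(Int.negSucc 0))] .nil .nil) .nil)) (.node 233 [(214,(Int.negSucc 0))] (.node 229 [(197,(Int.ofNat 1))] (.node 228 [(195,(Int.ofNat 1))] .nil .nil) (.node 230 [(200,(Int.ofNat 1))] .nil .nil)) (.node 239 [(224,(Int.negSucc 0))] (.node 234 [(219,(Int.negSucc 0))] .nil .nil) .nil)))))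
noncomputable def ch67 : Tr (List (ℕ × ℤ)) := (.node 162 [(89,(Int.negSucc 0))] (.node 101 [(48,(Int.negSucc 0))] (.node 79 [(26,(Int.negSucc 0))] (.node 38 [(9,(Int.ofNat 1))] (.node 19 [(5,(Int.negSucc 0))] (.node 15 [(1,(Int.ofNat 1))] .nil .nil) (.node 24 [(6,(Int.negSucc 0))] .nil .nil)) (.node 43 [(11,(Int.ofNat 1))] (.node 41 [(10,(Int.ofNat 1))] .nil .nil) (.node 45 [(13,(Int.negSucc 0))] .nil .nil))) (.node 86 [(32,(Int.ofNat 1))] (.node 83 [(29,(Int.ofNat 1))] (.node 81 [(27,(Int.negSucc 0))] .nil .nil) (.node 84 [(30,(Int.negSucc 0))] .nil .nil)) (.node 99 [(46,(Int.ofNat 1))] (.node 87 [(34,(Int.ofNat 1))] .nil .nil) .nil))) (.node 119 [(66,(Int.ofNat 1))] (.node 107 [(58,(Int.ofNat 1))] (.node 103 [(53,(Int.negSucc 0))] (.node 102 [(50,(Int.negSucc 0))] .nil .nil) (.node 105 [(56,(Int.negSucc 0))]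 .nil .nil)) (.node 109 [(63,(Int.ofNat 1))] (.node 108 [(60,(Int.ofNat 1))] .nil .nil) .nil)) (.node 141 [(72,(Int.ofNat 1))] (.node 124 [(69,(Int.ofNat 1))] (.node 121 [(68,(Int.ofNat 1))] .nil .nil) (.node 128 [(70,(Int.ofNat 1))] .nil .nil)) (.node 150 [(77,(Int.ofNat 1))] (.node 145 [(76,(Int.negSucc 0))] .nil .nil) .nil)))) (.node 193 [(140,(Int.negSucc 0))] (.node 176 [(130,(Int.negSucc 0))] (.node 170 [(115,(Int.negSucc 0))] (.node 167 [(98,(Int.negSucc 0))] (.node 163 [(94,(Int.ofNat 1))] .nil .nil) (.node 169 [(111,(Int.negSucc 0))] .nil .nil)) (.node 173 [(120,(Int.negSucc 0))] (.node 171 [(118,(Int.negSucc 0))] .nil .nil) .nil)) (.node 186 [(136,(Int.ofNat 1))] (.node 181 [(132,(Int.negSucc 0))] (.node 179 [(131,(Int.negSucc 0))] .nil .nil) (.node 183 [(134,(Int.ofNat 1))] .nil .nil)) (.node 191 [(138,(Int.ofNat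 1))] (.node 189 [(137,(Int.ofNat 1))] .nil .nil) .nil))) (.node 226 [(194,(Int.ofNat 1))] (.node 210 [(156,(Int.negSucc 0))] (.node 207 [(153,(Int.negSucc 0))] (.node 205 [(152,(Int.negSucc 0))] .nil .nil) (.node 209 [(155,(Int.ofNat 1))] .nil .nil)) (.node 213 [(160,(Int.ofNat 1))] (.node 212 [(158,(Int.ofNat 1))] .nil .nil) .nil)) (.node 233 [(215,(Int.ofNat 1))] (.node 229 [(198,(Int.negSucc 0))] (.node 228 [(196,(Int.negSucc 0))] .nil .nil) (.node 230 [(201,(Int.negSucc 0))] .nil .nil)) (.node 238 [(224,(Int.negSucc 0))] (.node 234 [(220,(Int.ofNat 1))] .nil .nil) .nil)))))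
noncomputable def ch68 : Tr (List (ℕ × ℤ)) := (.node 162 [(90,(Int.negSucc 0))] (.node 100 [(48,(Int.ofNat 1))] (.node 78 [(26,(Int.ofNat 1))] (.node 37 [(9,(Int.negSucc 0))] (.node 18 [(5,(Int.ofNat 1))] (.node 15 [(2,(Int.ofNat 1))] .nil .nil) (.node 23 [(6,(Int.ofNat 1))] .nil .nil)) (.node 43 [(12,(Int.ofNat 1))] (.node 40 [(10,(Int.negSucc 0))] .nil .nil) (.node 44 [(13,(Int.ofNat 1))] .nil .nil))) (.node 85 [(32,(Int.negSucc 0))] (.node 82 [(29,(Int.negSucc 0))] (.node 81 [(28,(Int.negSucc 0))] .nil .nil) (.node 84 [(31,(Int.negSucc 0))] .nil .nil)) (.node 99 [(47,(Int.ofNat 1))] (.node 87 [(35,(Int.ofNat 1))] .nil .nil) .nil))) (.node 117 [(66,(Int.ofNat 1))] (.node 106 [(58,(Int.negSucc 0))] (.node 103 [(54,(Int.negSucc 0))] (.node 102 [(51,(Int.negSucc 0))] .nil .nil) (.node 105 [(57,(Int.negSucc 0))]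 .nil .nil)) (.node 109 [(64,(Int.ofNat 1))] (.node 108 [(61,(Int.ofNat 1))] .nil .nil) .nil)) (.node 141 [(73,(Int.ofNat 1))] (.node 123 [(69,(Int.ofNat 1))] (.node 118 [(67,(Int.ofNat 1))] .nil .nil) (.node 127 [(70,(Int.ofNat 1))] .nil .nil)) (.node 149 [(77,(Int.ofNat 1))] (.node 144 [(76,(Int.negSucc 0))] .nil .nil) .nil)))) (.node 192 [(140,(Int.negSucc 0))] (.node 175 [(130,(Int.negSucc 0))] (.node 170 [(116,(Int.negSucc 0))] (.node 166 [(98,(Int.negSucc 0))] (.node 163 [(95,(Int.ofNat 1))] .nil .nil) (.node 169 [(112,(Int.negSucc 0))] .nil .nil)) (.node 173 [(122,(Int.negSucc 0))] (.node 172 [(121,(Int.negSucc 0))] .nil .nil) .nil)) (.node 185 [(136,(Int.ofNat 1))] (.node 181 [(133,(Int.ofNat 1))] (.node 178 [(131,(Int.negSucc 0))] .nil .nil) (.node 182 [(134,(Int.ofNat 1))] .nil .nil)) (.node 191 [(139,(Int.negSucc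 0))] (.node 188 [(137,(Int.ofNat 1))] .nil .nil) .nil))) (.node 226 [(195,(Int.negSucc 0))] (.node 210 [(157,(Int.ofNat 1))] (.node 207 [(154,(Int.ofNat 1))] (.node 204 [(152,(Int.negSucc 0))] .nil .nil) (.node 208 [(155,(Int.ofNat 1))] .nil .nil)) (.node 213 [(161,(Int.negSucc 0))] (.node 211 [(158,(Int.ofNat 1))] .nil .nil) .nil)) (.node 233 [(216,(Int.negSucc 0))] (.node 229 [(199,(Int.ofNat 1))] (.node 227 [(196,(Int.negSucc 0))] .nil .nil) (.node 230 [(202,(Int.ofNat 1))] .nil .nil)) (.node 237 [(224,(Int.negSucc 0))] (.node 234 [(221,(Int.negSucc 0))] .nil .nil) .nil)))))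
noncomputable def ch69 : Tr (List (ℕ × ℤ)) := (.node 162 [(91,(Int.negSucc 0))] (.node 100 [(50,(Int.ofNat 1))] (.node 78 [(27,(Int.ofNat 1))] (.node 36 [(9,(Int.ofNat 1))] (.node 17 [(5,(Int.negSucc 0))] (.node 15 [(3,(Int.ofNat 1))] .nil .nil) (.node 22 [(6,(Int.negSucc 0))] .nil .nil)) (.node 41 [(12,(Int.negSucc 0))] (.node 40 [(11,(Int.negSucc 0))] .nil .nil) (.node 42 [(13,(Int.negSucc 0))] .nil .nil))) (.node 85 [(34,(Int.negSucc 0))] (.node 80 [(29,(Int.ofNat 1))] (.node 79 [(28,(Int.ofNat 1))] .nil .nil) (.node 84 [(33,(Int.negSucc 0))] .nil .nil)) (.node 99 [(49,(Int.ofNat 1))] (.node 86 [(35,(Int.negSucc 0))] .nil .nil) .nil))) (.node 114 [(66,(Int.ofNat 1))] (.node 106 [(60,(Int.negSucc 0))] (.node 103 [(55,(Int.negSucc 0))] (.node 101 [(51,(Int.ofNat 1))] .nil .nil) (.node 105 [(59,(Int.negSucc 0))]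 .nil .nil)) (.node 109 [(65,(Int.ofNat 1))] (.node 107 [(61,(Int.negSucc 0))] .nil .nil) .nil)) (.node 141 [(74,(Int.ofNat 1))] (.node 116 [(68,(Int.ofNat 1))] (.node 115 [(67,(Int.ofNat 1))] .nil .nil) (.node 126 [(70,(Int.ofNat 1))] .nil .nil)) (.node 148 [(77,(Int.ofNat 1))] (.node 143 [(76,(Int.negSucc 0))] .nil .nil) .nil)))) (.node 190 [(140,(Int.negSucc 0))] (.node 174 [(130,(Int.negSucc 0))] (.node 171 [(123,(Int.negSucc 0))] (.node 165 [(98,(Int.negSucc 0))] (.node 163 [(96,(Int.ofNat 1))] .nil .nil) (.node 169 [(113,(Int.negSucc 0))] .nil .nil)) (.node 173 [(125,(Int.negSucc 0))] (.node 172 [(124,(Int.negSucc 0))] .nil .nil) .nil)) (.node 184 [(136,(Int.ofNat 1))] (.node 179 [(133,(Int.ofNat 1))] (.node 178 [(132,(Int.ofNat 1))] .nil .nil) (.node 180 [(134,(Int.ofNat 1))] .nil .nil)) (.node 189 [(139,(Int.negSucc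 0))] (.node 188 [(138,(Int.negSucc 0))] .nil .nil) .nil))) (.node 226 [(197,(Int.ofNat 1))] (.node 210 [(159,(Int.negSucc 0))] (.node 205 [(154,(Int.ofNat 1))] (.node 204 [(153,(Int.ofNat 1))] .nil .nil) (.node 206 [(155,(Int.ofNat 1))] .nil .nil)) (.node 212 [(161,(Int.negSucc 0))] (.node 211 [(160,(Int.negSucc 0))] .nil .nil) .nil)) (.node 233 [(217,(Int.ofNat 1))] (.node 228 [(199,(Int.ofNat 1))] (.node 227 [(198,(Int.ofNat 1))] .nil .nil) (.node 230 [(203,(Int.negSucc 0))] .nil .nil)) (.node 236 [(224,(Int.negSucc 0))] (.node 234 [(222,(Int.ofNat 1))] .nil .nil) .nil)))))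
noncomputable def ch70 : Tr (List (ℕ × ℤ)) := (.node 162 [(92,(Int.negSucc 0))] (.node 100 [(53,(Int.ofNat 1))] (.node 78 [(30,(Int.ofNat 1))] (.node 36 [(10,(Int.ofNat 1))] (.node 16 [(5,(Int.ofNat 1))] (.node 15 [(4,(Int.ofNat 1))] .nil .nil) (.node 21 [(6,(Int.ofNat 1))] .nil .nil)) (.node 38 [(12,(Int.ofNat 1))] (.node 37 [(11,(Int.ofNat 1))] .nil .nil) (.node 39 [(13,(Int.ofNat 1))] .nil .nil))) (.node 82 [(34,(Int.ofNat 1))] (.node 80 [(32,(Int.ofNat 1))] (.node 79 [(31,(Int.ofNat 1))] .nil .nil) (.node 81 [(33,(Int.ofNat 1))] .nil .nil)) (.node 99 [(52,(Int.ofNat 1))] (.node 83 [(35,(Int.ofNat 1))] .nil .nil) .nil))) (.node 110 [(66,(Int.ofNat 1))] (.node 106 [(63,(Int.negSucc 0))] (.node 102 [(55,(Int.ofNat 1))] (.node 101 [(54,(Int.ofNat 1))] .nil .nil) (.node 105 [(62,(Int.negSucc 0))] .nil .nil)) (.node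 108 [(65,(Int.negSucc 0))] (.node 107 [(64,(Int.negSucc 0))] .nil .nil) .nil)) (.node 141 [(75,(Int.ofNat 1))] (.node 112 [(68,(Int.ofNat 1))] (.node 111 [(67,(Int.ofNat 1))] .nil .nil) (.node 113 [(69,(Int.ofNat 1))] .nil .nil)) (.node 147 [(77,(Int.ofNat 1))] (.node 142 [(76,(Int.negSucc 0))] .nil .nil) .nil)))) (.node 187 [(140,(Int.negSucc 0))] (.node 174 [(131,(Int.ofNat 1))] (.node 171 [(127,(Int.negSucc 0))] (.node 164 [(98,(Int.negSucc 0))] (.node 163 [(97,(Int.ofNat 1))] .nil .nil) (.node 170 [(126,(Int.negSucc 0))] .nil .nil)) (.node 173 [(129,(Int.negSucc 0))] (.node 172 [(128,(Int.negSucc 0))] .nil .nil) .nil)) (.node 184 [(137,(Int.negSucc 0))] (.node 176 [(133,(Int.ofNat 1))] (.node 175 [(132,(Int.ofNat 1))] .nil .nil) (.node 177 [(134,(Int.ofNat 1))] .nil .nil)) (.node 186 [(139,(Int.negSucc 0))]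 (.node 185 [(138,(Int.negSucc 0))] .nil .nil) .nil))) (.node 226 [(200,(Int.negSucc 0))] (.node 207 [(159,(Int.negSucc 0))] (.node 205 [(157,(Int.negSucc 0))] (.node 204 [(156,(Int.negSucc 0))] .nil .nil) (.node 206 [(158,(Int.negSucc 0))] .nil .nil)) (.node 209 [(161,(Int.negSucc 0))] (.node 208 [(160,(Int.negSucc 0))] .nil .nil) .nil)) (.node 233 [(218,(Int.negSucc 0))] (.node 228 [(202,(Int.negSucc 0))] (.node 227 [(201,(Int.negSucc 0))] .nil .nil) (.node 229 [(203,(Int.negSucc 0))] .nil .nil)) (.node 235 [(224,(Int.negSucc 0))] (.node 234 [(223,(Int.negSucc 0))] .nil .nil) .nil)))))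
noncomputable def ch71 : Tr (List (ℕ × ℤ)) := (.node 162 [(99,(Int.negSucc 0))] (.node 90 [(47,(Int.ofNat 1))] (.node 80 [(36,(Int.ofNat 1))] (.node 29 [(9,(Int.ofNat 1))] (.node 20 [(7,(Int.ofNat 1))] (.node 14 [(0,(Int.negSucc 0))] .nil .nil) (.node 25 [(8,(Int.ofNat 1))] .nil .nil)) (.node 34 [(11,(Int.ofNat 1))] (.node 32 [(10,(Int.ofNat 1))] .nil .nil) (.node 35 [(12,(Int.ofNat 1))] .nil .nil))) (.node 86 [(41,(Int.ofNat 1))] (.node 83 [(38,(Int.ofNat 1))] (.node 82 [(37,(Int.ofNat 1))] .nil .nil) (.node 85 [(40,(Int.ofNat 1))] .nil .nil)) (.node 89 [(46,(Int.ofNat 1))] (.node 87 [(43,(Int.ofNat 1))] .nil .nil) .nil))) (.node 98 [(66,(Int.ofNat 1))] (.node 95 [(57,(Int.ofNat 1))] (.node 92 [(52,(Int.ofNat 1))] (.node 91 [(49,(Int.ofNat 1))] .nil .nil) (.node 94 [(56,(Int.ofNat 1))] .nil .nil)) (.node 97 [(62,(Int.ofNat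 1))] (.node 96 [(59,(Int.ofNat 1))] .nil .nil) .nil)) (.node 129 [(75,(Int.ofNat 1))] (.node 122 [(73,(Int.ofNat 1))] (.node 120 [(72,(Int.ofNat 1))] .nil .nil) (.node 125 [(74,(Int.ofNat 1))] .nil .nil)) (.node 140 [(77,(Int.ofNat 1))] (.node 134 [(76,(Int.ofNat 1))] .nil .nil) .nil)))) (.node 193 [(150,(Int.negSucc 0))] (.node 177 [(142,(Int.negSucc 0))] (.node 166 [(117,(Int.negSucc 0))] (.node 164 [(110,(Int.negSucc 0))] (.node 163 [(105,(Int.negSucc 0))] .nil .nil) (.node 165 [(114,(Int.negSucc 0))] .nil .nil)) (.node 173 [(141,(Int.negSucc 0))] (.node 167 [(119,(Int.negSucc 0))] .nil .nil) .nil)) (.node 187 [(147,(Int.negSucc 0))] (.node 182 [(144,(Int.negSucc 0))] (.node 180 [(143,(Int.negSucc 0))] .nil .nil) (.node 183 [(145,(Int.negSucc 0))] .nil .nil)) (.node 192 [(149,(Int.negSucc 0))] (.node 190 [(148,(Int.negSucc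 0))] .nil .nil) .nil))) (.node 227 [(204,(Int.negSucc 0))] (.node 201 [(156,(Int.negSucc 0))] (.node 198 [(153,(Int.negSucc 0))] (.node 196 [(152,(Int.negSucc 0))] .nil .nil) (.node 199 [(154,(Int.negSucc 0))] .nil .nil)) (.node 203 [(159,(Int.negSucc 0))] (.node 202 [(157,(Int.negSucc 0))] .nil .nil) .nil)) (.node 231 [(214,(Int.negSucc 0))] (.node 229 [(207,(Int.negSucc 0))] (.node 228 [(205,(Int.negSucc 0))] .nil .nil) (.node 230 [(210,(Int.negSucc 0))] .nil .nil)) (.node 239 [(225,(Int.ofNat 1))] (.node 232 [(219,(Int.negSucc 0))] .nil .nil) .nil)))))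
noncomputable def ch72 : Tr (List (ℕ × ℤ)) := (.node 162 [(100,(Int.negSucc 0))] (.node 90 [(48,(Int.ofNat 1))] (.node 79 [(36,(Int.negSucc 0))] (.node 28 [(9,(Int.negSucc 0))] (.node 19 [(7,(Int.negSucc 0))] (.node 14 [(1,(Int.negSucc 0))] .nil .nil) (.node 24 [(8,(Int.negSucc 0))] .nil .nil)) (.node 33 [(11,(Int.negSucc 0))] (.node 31 [(10,(Int.negSucc 0))] .nil .nil) (.node 35 [(13,(Int.ofNat 1))] .nil .nil))) (.node 86 [(42,(Int.ofNat 1))] (.node 83 [(39,(Int.ofNat 1))] (.node 81 [(37,(Int.negSucc 0))] .nil .nil) (.node 84 [(40,(Int.negSucc 0))] .nil .nil)) (.node 88 [(46,(Int.negSucc 0))] (.node 87 [(44,(Int.ofNat 1))] .nil .nil) .nil))) (.node 98 [(67,(Int.ofNat 1))] (.node 95 [(58,(Int.ofNat 1))] (.node 92 [(53,(Int.ofNat 1))] (.node 91 [(50,(Int.ofNat 1))] .nil .nil) (.node 93 [(56,(Int.negSucc 0))] .nil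 .nil)) (.node 97 [(63,(Int.ofNat 1))] (.node 96 [(60,(Int.ofNat 1))] .nil .nil) .nil)) (.node 128 [(75,(Int.ofNat 1))] (.node 121 [(73,(Int.ofNat 1))] (.node 119 [(71,(Int.ofNat 1))] .nil .nil) (.node 124 [(74,(Int.ofNat 1))] .nil .nil)) (.node 139 [(77,(Int.ofNat 1))] (.node 133 [(76,(Int.ofNat 1))] .nil .nil) .nil)))) (.node 193 [(151,(Int.ofNat 1))] (.node 176 [(142,(Int.negSucc 0))] (.node 166 [(118,(Int.negSucc 0))] (.node 164 [(111,(Int.negSucc 0))] (.node 163 [(106,(Int.negSucc 0))] .nil .nil) (.node 165 [(115,(Int.negSucc 0))] .nil .nil)) (.node 172 [(141,(Int.negSucc 0))] (.node 168 [(120,(Int.negSucc 0))] .nil .nil) .nil)) (.node 186 [(147,(Int.negSucc 0))] (.node 181 [(144,(Int.negSucc 0))] (.node 179 [(143,(Int.negSucc 0))] .nil .nil) (.node 183 [(146,(Int.ofNat 1))] .nil .nil)) (.node 191 [(149,(Int.negSucc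 0))] (.node 189 [(148,(Int.negSucc 0))] .nil .nil) .nil))) (.node 226 [(204,(Int.negSucc 0))] (.node 200 [(156,(Int.negSucc 0))] (.node 197 [(153,(Int.negSucc 0))] (.node 195 [(152,(Int.negSucc 0))] .nil .nil) (.node 199 [(155,(Int.ofNat 1))] .nil .nil)) (.node 203 [(160,(Int.ofNat 1))] (.node 202 [(158,(Int.ofNat 1))] .nil .nil) .nil)) (.node 231 [(215,(Int.ofNat 1))] (.node 229 [(208,(Int.ofNat 1))] (.node 228 [(206,(Int.ofNat 1))] .nil .nil) (.node 230 [(211,(Int.ofNat 1))] .nil .nil)) (.node 238 [(225,(Int.ofNat 1))] (.node 232 [(220,(Int.ofNat 1))] .nil .nil) .nil)))))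
noncomputable def ch73 : Tr (List (ℕ × ℤ)) := (.node 162 [(101,(Int.negSucc 0))] (.node 89 [(48,(Int.negSucc 0))] (.node 78 [(36,(Int.ofNat 1))] (.node 27 [(9,(Int.ofNat 1))] (.node 18 [(7,(Int.ofNat 1))] (.node 14 [(2,(Int.negSucc 0))] .nil .nil) (.node 23 [(8,(Int.ofNat 1))] .nil .nil)) (.node 33 [(12,(Int.negSucc 0))] (.node 30 [(10,(Int.ofNat 1))] .nil .nil) (.node 34 [(13,(Int.negSucc 0))] .nil .nil))) (.node 85 [(42,(Int.negSucc 0))] (.node 82 [(39,(Int.negSucc 0))] (.node 81 [(38,(Int.negSucc 0))] .nil .nil) (.node 84 [(41,(Int.negSucc 0))] .nil .nil)) (.node 88 [(47,(Int.negSucc 0))] (.node 87 [(45,(Int.ofNat 1))] .nil .nil) .nil))) (.node 98 [(68,(Int.ofNat 1))] (.node 94 [(58,(Int.negSucc 0))] (.node 92 [(54,(Int.ofNat 1))] (.node 91 [(51,(Int.ofNat 1))] .nil .nil) (.node 93 [(57,(Int.negSucc 0))] .nil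 .nil)) (.node 97 [(64,(Int.ofNat 1))] (.node 96 [(61,(Int.ofNat 1))] .nil .nil) .nil)) (.node 127 [(75,(Int.ofNat 1))] (.node 118 [(72,(Int.ofNat 1))] (.node 117 [(71,(Int.ofNat 1))] .nil .nil) (.node 123 [(74,(Int.ofNat 1))] .nil .nil)) (.node 138 [(77,(Int.ofNat 1))] (.node 132 [(76,(Int.ofNat 1))] .nil .nil) .nil)))) (.node 192 [(151,(Int.ofNat 1))] (.node 175 [(142,(Int.negSucc 0))] (.node 167 [(121,(Int.negSucc 0))] (.node 164 [(112,(Int.negSucc 0))] (.node 163 [(107,(Int.negSucc 0))] .nil .nil) (.node 165 [(116,(Int.negSucc 0))] .nil .nil)) (.node 171 [(141,(Int.negSucc 0))] (.node 168 [(122,(Int.negSucc 0))] .nil .nil) .nil)) (.node 185 [(147,(Int.negSucc 0))] (.node 181 [(145,(Int.ofNat 1))] (.node 178 [(143,(Int.negSucc 0))] .nil .nil) (.node 182 [(146,(Int.ofNat 1))] .nil .nil)) (.node 191 [(150,(Int.ofNat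 1))] (.node 188 [(148,(Int.negSucc 0))] .nil .nil) .nil))) (.node 226 [(205,(Int.ofNat 1))] (.node 200 [(157,(Int.ofNat 1))] (.node 197 [(154,(Int.ofNat 1))] (.node 194 [(152,(Int.negSucc 0))] .nil .nil) (.node 198 [(155,(Int.ofNat 1))] .nil .nil)) (.node 203 [(161,(Int.negSucc 0))] (.node 201 [(158,(Int.ofNat 1))] .nil .nil) .nil)) (.node 231 [(216,(Int.negSucc 0))] (.node 229 [(209,(Int.negSucc 0))] (.node 227 [(206,(Int.ofNat 1))] .nil .nil) (.node 230 [(212,(Int.negSucc 0))] .nil .nil)) (.node 237 [(225,(Int.ofNat 1))] (.node 232 [(221,(Int.negSucc 0))] .nil .nil) .nil)))))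
noncomputable def ch74 : Tr (List (ℕ × ℤ)) := (.node 162 [(102,(Int.negSucc 0))] (.node 89 [(50,(Int.negSucc 0))] (.node 78 [(37,(Int.ofNat 1))] (.node 26 [(9,(Int.negSucc 0))] (.node 17 [(7,(Int.negSucc 0))] (.node 14 [(3,(Int.negSucc 0))] .nil .nil) (.node 22 [(8,(Int.negSucc 0))] .nil .nil)) (.node 31 [(12,(Int.ofNat 1))] (.node 30 [(11,(Int.ofNat 1))] .nil .nil) (.node 32 [(13,(Int.ofNat 1))] .nil .nil))) (.node 85 [(44,(Int.negSucc 0))] (.node 80 [(39,(Int.ofNat 1))] (.node 79 [(38,(Int.ofNat 1))] .nil .nil) (.node 84 [(43,(Int.negSucc 0))] .nil .nil)) (.node 88 [(49,(Int.negSucc 0))] (.node 86 [(45,(Int.negSucc 0))] .nil .nil) .nil))) (.node 98 [(69,(Int.ofNat 1))] (.node 94 [(60,(Int.negSucc 0))] (.node 92 [(55,(Int.ofNat 1))] (.node 90 [(51,(Int.negSucc 0))] .nil .nil) (.node 93 [(59,(Int.negSucc 0))]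 .nil .nil)) (.node 97 [(65,(Int.ofNat 1))] (.node 95 [(61,(Int.negSucc 0))] .nil .nil) .nil)) (.node 126 [(75,(Int.ofNat 1))] (.node 115 [(72,(Int.ofNat 1))] (.node 114 [(71,(Int.ofNat 1))] .nil .nil) (.node 116 [(73,(Int.ofNat 1))] .nil .nil)) (.node 137 [(77,(Int.ofNat 1))] (.node 131 [(76,(Int.ofNat 1))] .nil .nil) .nil)))) (.node 190 [(151,(Int.ofNat 1))] (.node 174 [(142,(Int.negSucc 0))] (.node 167 [(124,(Int.negSucc 0))] (.node 164 [(113,(Int.negSucc 0))] (.node 163 [(108,(Int.negSucc 0))] .nil .nil) (.node 166 [(123,(Int.negSucc 0))] .nil .nil)) (.node 170 [(141,(Int.negSucc 0))] (.node 168 [(125,(Int.negSucc 0))] .nil .nil) .nil)) (.node 184 [(147,(Int.negSucc 0))] (.node 179 [(145,(Int.ofNat 1))] (.node 178 [(144,(Int.ofNat 1))] .nil .nil) (.node 180 [(146,(Int.ofNat 1))] .nil .nil)) (.node 189 [(150,(Int.ofNat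 1))] (.node 188 [(149,(Int.ofNat 1))] .nil .nil) .nil))) (.node 226 [(207,(Int.negSucc 0))] (.node 200 [(159,(Int.negSucc 0))] (.node 195 [(154,(Int.ofNat 1))] (.node 194 [(153,(Int.ofNat 1))] .nil .nil) (.node 196 [(155,(Int.ofNat 1))] .nil .nil)) (.node 202 [(161,(Int.negSucc 0))] (.node 201 [(160,(Int.negSucc 0))] .nil .nil) .nil)) (.node 231 [(217,(Int.ofNat 1))] (.node 228 [(209,(Int.negSucc 0))] (.node 227 [(208,(Int.negSucc 0))] .nil .nil) (.node 230 [(213,(Int.ofNat 1))] .nil .nil)) (.node 236 [(225,(Int.ofNat 1))] (.node 232 [(222,(Int.ofNat 1))] .nil .nil) .nil)))))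
noncomputable def ch75 : Tr (List (ℕ × ℤ)) := (.node 162 [(103,(Int.negSucc 0))] (.node 89 [(53,(Int.negSucc 0))] (.node 78 [(40,(Int.ofNat 1))] (.node 26 [(10,(Int.negSucc 0))] (.node 16 [(7,(Int.ofNat 1))] (.node 14 [(4,(Int.negSucc 0))] .nil .nil) (.node 21 [(8,(Int.ofNat 1))] .nil .nil)) (.node 28 [(12,(Int.negSucc 0))] (.node 27 [(11,(Int.negSucc 0))] .nil .nil) (.node 29 [(13,(Int.negSucc 0))] .nil .nil))) (.node 82 [(44,(Int.ofNat 1))] (.node 80 [(42,(Int.ofNat 1))] (.node 79 [(41,(Int.ofNat 1))] .nil .nil) (.node 81 [(43,(Int.ofNat 1))] .nil .nil)) (.node 88 [(52,(Int.negSucc 0))] (.node 83 [(45,(Int.ofNat 1))] .nil .nil) .nil))) (.node 98 [(70,(Int.ofNat 1))] (.node 94 [(63,(Int.negSucc 0))] (.node 91 [(55,(Int.negSucc 0))] (.node 90 [(54,(Int.negSucc 0))] .nil .nil) (.node 93 [(62,(Int.negSucc 0))] .nil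 .nil)) (.node 96 [(65,(Int.negSucc 0))] (.node 95 [(64,(Int.negSucc 0))] .nil .nil) .nil)) (.node 113 [(74,(Int.ofNat 1))] (.node 111 [(72,(Int.ofNat 1))] (.node 110 [(71,(Int.ofNat 1))] .nil .nil) (.node 112 [(73,(Int.ofNat 1))] .nil .nil)) (.node 136 [(77,(Int.ofNat 1))] (.node 130 [(76,(Int.ofNat 1))] .nil .nil) .nil)))) (.node 187 [(151,(Int.ofNat 1))] (.node 174 [(143,(Int.ofNat 1))] (.node 167 [(128,(Int.negSucc 0))] (.node 165 [(126,(Int.negSucc 0))] (.node 163 [(109,(Int.negSucc 0))] .nil .nil) (.node 166 [(127,(Int.negSucc 0))] .nil .nil)) (.node 169 [(141,(Int.negSucc 0))] (.node 168 [(129,(Int.negSucc 0))] .nil .nil) .nil)) (.node 184 [(148,(Int.ofNat 1))] (.node 176 [(145,(Int.ofNat 1))] (.node 175 [(144,(Int.ofNat 1))] .nil .nil) (.node 177 [(146,(Int.ofNat 1))] .nil .nil)) (.node 186 [(150,(Int.ofNat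 1))] (.node 185 [(149,(Int.ofNat 1))] .nil .nil) .nil))) (.node 226 [(210,(Int.ofNat 1))] (.node 197 [(159,(Int.negSucc 0))] (.node 195 [(157,(Int.negSucc 0))] (.node 194 [(156,(Int.negSucc 0))] .nil .nil) (.node 196 [(158,(Int.negSucc 0))] .nil .nil)) (.node 199 [(161,(Int.negSucc 0))] (.node 198 [(160,(Int.negSucc 0))] .nil .nil) .nil)) (.node 231 [(218,(Int.negSucc 0))] (.node 228 [(212,(Int.ofNat 1))] (.node 227 [(211,(Int.ofNat 1))] .nil .nil) (.node 229 [(213,(Int.ofNat 1))] .nil .nil)) (.node 235 [(225,(Int.ofNat 1))] (.node 232 [(223,(Int.negSucc 0))] .nil .nil) .nil)))))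
noncomputable def ch76 : Tr (List (ℕ × ℤ)) := (.node 162 [(104,(Int.negSucc 0))] (.node 85 [(53,(Int.ofNat 1))] (.node 78 [(46,(Int.ofNat 1))] (.node 22 [(10,(Int.ofNat 1))] (.node 15 [(7,(Int.negSucc 0))] (.node 14 [(5,(Int.negSucc 0))] .nil .nil) (.node 21 [(9,(Int.ofNat 1))] .nil .nil)) (.node 24 [(12,(Int.ofNat 1))] (.node 23 [(11,(Int.ofNat 1))] .nil .nil) (.node 25 [(13,(Int.ofNat 1))] .nil .nil))) (.node 82 [(50,(Int.ofNat 1))] (.node 80 [(48,(Int.ofNat 1))] (.node 79 [(47,(Int.ofNat 1))] .nil .nil) (.node 81 [(49,(Int.ofNat 1))] .nil .nil)) (.node 84 [(52,(Int.ofNat 1))] (.node 83 [(51,(Int.ofNat 1))] .nil .nil) .nil))) (.node 97 [(70,(Int.negSucc 0))] (.node 94 [(67,(Int.negSucc 0))] (.node 87 [(55,(Int.ofNat 1))] (.node 86 [(54,(Int.ofNat 1))] .nil .nil) (.node 93 [(66,(Int.negSucc 0))] .nil .nil)) (.node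 96 [(69,(Int.negSucc 0))] (.node 95 [(68,(Int.negSucc 0))] .nil .nil) .nil)) (.node 108 [(74,(Int.ofNat 1))] (.node 106 [(72,(Int.ofNat 1))] (.node 105 [(71,(Int.ofNat 1))] .nil .nil) (.node 107 [(73,(Int.ofNat 1))] .nil .nil)) (.node 135 [(77,(Int.ofNat 1))] (.node 109 [(75,(Int.ofNat 1))] .nil .nil) .nil)))) (.node 187 [(155,(Int.negSucc 0))] (.node 170 [(143,(Int.ofNat 1))] (.node 167 [(133,(Int.negSucc 0))] (.node 165 [(131,(Int.negSucc 0))] (.node 164 [(130,(Int.negSucc 0))] .nil .nil) (.node 166 [(132,(Int.negSucc 0))] .nil .nil)) (.node 169 [(142,(Int.ofNat 1))] (.node 168 [(134,(Int.negSucc 0))] .nil .nil) .nil)) (.node 184 [(152,(Int.negSucc 0))] (.node 172 [(145,(Int.ofNat 1))] (.node 171 [(144,(Int.ofNat 1))] .nil .nil) (.node 173 [(146,(Int.ofNat 1))] .nil .nil)) (.node 186 [(154,(Int.negSucc 0))]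 (.node 185 [(153,(Int.negSucc 0))] .nil .nil) .nil))) (.node 226 [(214,(Int.negSucc 0))] (.node 191 [(159,(Int.negSucc 0))] (.node 189 [(157,(Int.negSucc 0))] (.node 188 [(156,(Int.negSucc 0))] .nil .nil) (.node 190 [(158,(Int.negSucc 0))] .nil .nil)) (.node 193 [(161,(Int.negSucc 0))] (.node 192 [(160,(Int.negSucc 0))] .nil .nil) .nil)) (.node 230 [(218,(Int.negSucc 0))] (.node 228 [(216,(Int.negSucc 0))] (.node 227 [(215,(Int.negSucc 0))] .nil .nil) (.node 229 [(217,(Int.negSucc 0))] .nil .nil)) (.node 234 [(225,(Int.ofNat 1))] (.node 232 [(224,(Int.ofNat 1))] .nil .nil) .nil)))))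
noncomputable def ch77 : Tr (List (ℕ × ℤ)) := (.node 163 [(135,(Int.negSucc 0))] (.node 85 [(63,(Int.ofNat 1))] (.node 78 [(56,(Int.ofNat 1))] (.node 17 [(10,(Int.negSucc 0))] (.node 15 [(8,(Int.negSucc 0))] (.node 14 [(6,(Int.negSucc 0))] .nil .nil) (.node 16 [(9,(Int.negSucc 0))] .nil .nil)) (.node 19 [(12,(Int.negSucc 0))] (.node 18 [(11,(Int.negSucc 0))] .nil .nil) (.node 20 [(13,(Int.negSucc 0))] .nil .nil))) (.node 82 [(60,(Int.ofNat 1))] (.node 80 [(58,(Int.ofNat 1))] (.node 79 [(57,(Int.ofNat 1))] .nil .nil) (.node 81 [(59,(Int.ofNat 1))] .nil .nil)) (.node 84 [(62,(Int.ofNat 1))] (.node 83 [(61,(Int.ofNat 1))] .nil .nil) .nil))) (.node 92 [(70,(Int.ofNat 1))] (.node 89 [(67,(Int.ofNat 1))] (.node 87 [(65,(Int.ofNat 1))] (.node 86 [(64,(Int.ofNat 1))] .nil .nil) (.node 88 [(66,(Int.ofNat 1))] .nil .nil))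 (.node 91 [(69,(Int.ofNat 1))] (.node 90 [(68,(Int.ofNat 1))] .nil .nil) .nil)) (.node 102 [(74,(Int.ofNat 1))] (.node 100 [(72,(Int.ofNat 1))] (.node 99 [(71,(Int.ofNat 1))] .nil .nil) (.node 101 [(73,(Int.ofNat 1))] .nil .nil)) (.node 104 [(76,(Int.ofNat 1))] (.node 103 [(75,(Int.ofNat 1))] .nil .nil) .nil)))) (.node 177 [(155,(Int.negSucc 0))] (.node 170 [(148,(Int.negSucc 0))] (.node 167 [(139,(Int.negSucc 0))] (.node 165 [(137,(Int.negSucc 0))] (.node 164 [(136,(Int.negSucc 0))] .nil .nil) (.node 166 [(138,(Int.negSucc 0))] .nil .nil)) (.node 169 [(147,(Int.negSucc 0))] (.node 168 [(140,(Int.negSucc 0))] .nil .nil) .nil)) (.node 174 [(152,(Int.negSucc 0))] (.node 172 [(150,(Int.negSucc 0))] (.node 171 [(149,(Int.negSucc 0))] .nil .nil) (.node 173 [(151,(Int.negSucc 0))] .nil .nil)) (.node 176 [(154,(Int.negSucc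 0))] (.node 175 [(153,(Int.negSucc 0))] .nil .nil) .nil))) (.node 226 [(219,(Int.ofNat 1))] (.node 181 [(159,(Int.negSucc 0))] (.node 179 [(157,(Int.negSucc 0))] (.node 178 [(156,(Int.negSucc 0))] .nil .nil) (.node 180 [(158,(Int.negSucc 0))] .nil .nil)) (.node 183 [(161,(Int.negSucc 0))] (.node 182 [(160,(Int.negSucc 0))] .nil .nil) .nil)) (.node 230 [(223,(Int.ofNat 1))] (.node 228 [(221,(Int.ofNat 1))] (.node 227 [(220,(Int.ofNat 1))] .nil .nil) (.node 229 [(222,(Int.ofNat 1))] .nil .nil)) (.node 233 [(225,(Int.ofNat 1))] (.node 231 [(224,(Int.ofNat 1))] .nil .nil) .nil)))))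
noncomputable def ch78 : Tr (List (ℕ × ℤ)) := (.node 145 [(99,(Int.ofNat 1))] (.node 74 [(37,(Int.negSucc 0))] (.node 61 [(21,(Int.negSucc 0))] (.node 45 [(15,(Int.negSucc 0))] (.node 13 [(1,(Int.ofNat 1))] (.node 12 [(0,(Int.ofNat 1))] .nil .nil) (.node 35 [(14,(Int.negSucc 0))] .nil .nil)) (.node 54 [(17,(Int.negSucc 0))] (.node 51 [(16,(Int.negSucc 0))] .nil .nil) (.node 55 [(18,(Int.negSucc 0))] .nil .nil))) (.node 69 [(27,(Int.negSucc 0))] (.node 65 [(23,(Int.negSucc 0))] (.node 64 [(22,(Int.negSucc 0))] .nil .nil) (.node 68 [(26,(Int.negSucc 0))] .nil .nil)) (.node 73 [(36,(Int.negSucc 0))] (.node 70 [(30,(Int.negSucc 0))] .nil .nil) .nil))) (.node 125 [(82,(Int.negSucc 0))] (.node 121 [(79,(Int.ofNat 1))] (.node 76 [(46,(Int.negSucc 0))] (.node 75 [(40,(Int.negSucc 0))] .nil .nil) (.node 77 [(56,(Int.negSucc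 0))] .nil .nil)) (.node 124 [(81,(Int.ofNat 1))] (.node 122 [(80,(Int.negSucc 0))] .nil .nil) .nil)) (.node 134 [(89,(Int.negSucc 0))] (.node 129 [(85,(Int.negSucc 0))] (.node 128 [(84,(Int.ofNat 1))] .nil .nil) (.node 133 [(88,(Int.ofNat 1))] .nil .nil)) (.node 140 [(94,(Int.negSucc 0))] (.node 139 [(93,(Int.ofNat 1))] .nil .nil) .nil)))) (.node 203 [(166,(Int.ofNat 1))] (.node 158 [(115,(Int.negSucc 0))] (.node 154 [(110,(Int.ofNat 1))] (.node 150 [(105,(Int.ofNat 1))] (.node 146 [(100,(Int.negSucc 0))] .nil .nil) (.node 151 [(106,(Int.negSucc 0))] .nil .nil)) (.node 157 [(114,(Int.ofNat 1))] (.node 155 [(111,(Int.negSucc 0))] .nil .nil) .nil)) (.node 193 [(163,(Int.ofNat 1))] (.node 160 [(118,(Int.negSucc 0))] (.node 159 [(117,(Int.ofNat 1))] .nil .nil) (.node 183 [(162,(Int.ofNat 1))] .nil .nil)) (.node 202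 [(165,(Int.ofNat 1))] (.node 199 [(164,(Int.ofNat 1))] .nil .nil) .nil))) (.node 221 [(184,(Int.ofNat 1))] (.node 216 [(174,(Int.ofNat 1))] (.node 212 [(170,(Int.ofNat 1))] (.node 209 [(169,(Int.ofNat 1))] .nil .nil) (.node 213 [(171,(Int.ofNat 1))] .nil .nil)) (.node 218 [(178,(Int.ofNat 1))] (.node 217 [(175,(Int.ofNat 1))] .nil .nil) .nil)) (.node 225 [(204,(Int.ofNat 1))] (.node 223 [(188,(Int.ofNat 1))] (.node 222 [(185,(Int.ofNat 1))] .nil .nil) (.node 224 [(194,(Int.ofNat 1))] .nil .nil)) (.node 239 [(227,(Int.negSucc 0))] (.node 238 [(226,(Int.negSucc 0))] .nil .nil) .nil)))))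
noncomputable def ch79 : Tr (List (ℕ × ℤ)) := (.node 144 [(99,(Int.ofNat 1))] (.node 74 [(38,(Int.negSucc 0))] (.node 60 [(21,(Int.ofNat 1))] (.node 44 [(15,(Int.ofNat 1))] (.node 13 [(2,(Int.ofNat 1))] (.node 11 [(0,(Int.negSucc 0))] .nil .nil) (.node 34 [(14,(Int.ofNat 1))] .nil .nil)) (.node 53 [(17,(Int.ofNat 1))] (.node 50 [(16,(Int.ofNat 1))] .nil .nil) (.node 55 [(19,(Int.negSucc 0))] .nil .nil))) (.node 69 [(28,(Int.negSucc 0))] (.node 65 [(24,(Int.negSucc 0))] (.node 63 [(22,(Int.ofNat 1))] .nil .nil) (.node 67 [(26,(Int.ofNat 1))] .nil .nil)) (.node 72 [(36,(Int.ofNat 1))] (.node 70 [(31,(Int.negSucc 0))] .nil .nil) .nil))) (.node 125 [(83,(Int.negSucc 0))] (.node 118 [(78,(Int.ofNat 1))] (.node 76 [(47,(Int.negSucc 0))] (.node 75 [(41,(Int.negSucc 0))] .nil .nil) (.node 77 [(57,(Int.negSucc 0))] .nil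 .nil)) (.node 123 [(81,(Int.ofNat 1))] (.node 120 [(80,(Int.ofNat 1))] .nil .nil) .nil)) (.node 134 [(90,(Int.negSucc 0))] (.node 129 [(86,(Int.negSucc 0))] (.node 127 [(84,(Int.ofNat 1))] .nil .nil) (.node 132 [(88,(Int.ofNat 1))] .nil .nil)) (.node 140 [(95,(Int.negSucc 0))] (.node 138 [(93,(Int.ofNat 1))] .nil .nil) .nil)))) (.node 203 [(167,(Int.negSucc 0))] (.node 158 [(116,(Int.negSucc 0))] (.node 153 [(110,(Int.ofNat 1))] (.node 149 [(105,(Int.ofNat 1))] (.node 146 [(101,(Int.negSucc 0))] .nil .nil) (.node 151 [(107,(Int.negSucc 0))] .nil .nil)) (.node 156 [(114,(Int.ofNat 1))] (.node 155 [(112,(Int.negSucc 0))] .nil .nil) .nil)) (.node 192 [(163,(Int.ofNat 1))] (.node 161 [(121,(Int.negSucc 0))] (.node 159 [(119,(Int.negSucc 0))] .nil .nil) (.node 182 [(162,(Int.ofNat 1))] .nil .nil)) (.node 201 [(165,(Int.ofNat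 1))] (.node 198 [(164,(Int.ofNat 1))] .nil .nil) .nil))) (.node 220 [(184,(Int.ofNat 1))] (.node 215 [(174,(Int.ofNat 1))] (.node 211 [(170,(Int.ofNat 1))] (.node 208 [(169,(Int.ofNat 1))] .nil .nil) (.node 213 [(172,(Int.negSucc 0))] .nil .nil)) (.node 218 [(179,(Int.negSucc 0))] (.node 217 [(176,(Int.negSucc 0))] .nil .nil) .nil)) (.node 225 [(205,(Int.negSucc 0))] (.node 223 [(189,(Int.negSucc 0))] (.node 222 [(186,(Int.negSucc 0))] .nil .nil) (.node 224 [(195,(Int.negSucc 0))] .nil .nil)) (.node 239 [(228,(Int.ofNat 1))] (.node 237 [(226,(Int.negSucc 0))] .nil .nil) .nil)))))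
noncomputable def ch80 : Tr (List (ℕ × ℤ)) := (.node 144 [(100,(Int.ofNat 1))] (.node 74 [(39,(Int.negSucc 0))] (.node 59 [(21,(Int.negSucc 0))] (.node 43 [(15,(Int.negSucc 0))] (.node 12 [(2,(Int.negSucc 0))] (.node 11 [(1,(Int.negSucc 0))] .nil .nil) (.node 33 [(14,(Int.negSucc 0))] .nil .nil)) (.node 52 [(17,(Int.negSucc 0))] (.node 49 [(16,(Int.negSucc 0))] .nil .nil) (.node 55 [(20,(Int.negSucc 0))] .nil .nil))) (.node 69 [(29,(Int.negSucc 0))] (.node 65 [(25,(Int.negSucc 0))] (.node 62 [(22,(Int.negSucc 0))] .nil .nil) (.node 66 [(26,(Int.negSucc 0))] .nil .nil)) (.node 71 [(36,(Int.negSucc 0))] (.node 70 [(32,(Int.negSucc 0))] .nil .nil) .nil))) (.node 124 [(83,(Int.negSucc 0))] (.node 117 [(78,(Int.negSucc 0))] (.node 76 [(48,(Int.negSucc 0))] (.node 75 [(42,(Int.negSucc 0))] .nil .nil) (.node 77 [(58,(Int.negSucc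 0))] .nil .nil)) (.node 123 [(82,(Int.ofNat 1))] (.node 119 [(79,(Int.ofNat 1))] .nil .nil) .nil)) (.node 133 [(90,(Int.negSucc 0))] (.node 128 [(86,(Int.negSucc 0))] (.node 127 [(85,(Int.ofNat 1))] .nil .nil) (.node 132 [(89,(Int.ofNat 1))] .nil .nil)) (.node 139 [(95,(Int.negSucc 0))] (.node 138 [(94,(Int.ofNat 1))] .nil .nil) .nil)))) (.node 203 [(168,(Int.ofNat 1))] (.node 157 [(116,(Int.negSucc 0))] (.node 153 [(111,(Int.ofNat 1))] (.node 149 [(106,(Int.ofNat 1))] (.node 145 [(101,(Int.negSucc 0))] .nil .nil) (.node 150 [(107,(Int.negSucc 0))] .nil .nil)) (.node 156 [(115,(Int.ofNat 1))] (.node 154 [(112,(Int.negSucc 0))] .nil .nil) .nil)) (.node 191 [(163,(Int.ofNat 1))] (.node 161 [(122,(Int.ofNat 1))] (.node 160 [(120,(Int.negSucc 0))] .nil .nil) (.node 181 [(162,(Int.ofNat 1))] .nil .nil)) (.node 200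 [(165,(Int.ofNat 1))] (.node 197 [(164,(Int.ofNat 1))] .nil .nil) .nil))) (.node 219 [(184,(Int.ofNat 1))] (.node 214 [(174,(Int.ofNat 1))] (.node 210 [(170,(Int.ofNat 1))] (.node 207 [(169,(Int.ofNat 1))] .nil .nil) (.node 213 [(173,(Int.ofNat 1))] .nil .nil)) (.node 218 [(180,(Int.ofNat 1))] (.node 217 [(177,(Int.ofNat 1))] .nil .nil) .nil)) (.node 225 [(206,(Int.ofNat 1))] (.node 223 [(190,(Int.ofNat 1))] (.node 222 [(187,(Int.ofNat 1))] .nil .nil) (.node 224 [(196,(Int.ofNat 1))] .nil .nil)) (.node 238 [(228,(Int.ofNat 1))] (.node 237 [(227,(Int.ofNat 1))] .nil .nil) .nil)))))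
noncomputable def ch81 : Tr (List (ℕ × ℤ)) := (.node 143 [(99,(Int.ofNat 1))] (.node 73 [(38,(Int.ofNat 1))] (.node 58 [(21,(Int.negSucc 0))] (.node 42 [(15,(Int.negSucc 0))] (.node 13 [(3,(Int.ofNat 1))] (.node 10 [(0,(Int.ofNat 1))] .nil .nil) (.node 32 [(14,(Int.negSucc 0))] .nil .nil)) (.node 53 [(18,(Int.ofNat 1))] (.node 48 [(16,(Int.negSucc 0))] .nil .nil) (.node 54 [(19,(Int.ofNat 1))] .nil .nil))) (.node 68 [(28,(Int.ofNat 1))] (.node 64 [(24,(Int.ofNat 1))] (.node 63 [(23,(Int.ofNat 1))] .nil .nil) (.node 67 [(27,(Int.ofNat 1))] .nil .nil)) (.node 72 [(37,(Int.ofNat 1))] (.node 70 [(33,(Int.negSucc 0))] .nil .nil) .nil))) (.node 122 [(83,(Int.ofNat 1))] (.node 115 [(78,(Int.ofNat 1))] (.node 76 [(49,(Int.negSucc 0))] (.node 75 [(43,(Int.negSucc 0))] .nil .nil) (.node 77 [(59,(Int.negSucc 0))] .nil .nil))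 (.node 120 [(82,(Int.ofNat 1))] (.node 116 [(79,(Int.ofNat 1))] .nil .nil) .nil)) (.node 134 [(91,(Int.negSucc 0))] (.node 129 [(87,(Int.negSucc 0))] (.node 126 [(84,(Int.ofNat 1))] .nil .nil) (.node 131 [(88,(Int.ofNat 1))] .nil .nil)) (.node 140 [(96,(Int.negSucc 0))] (.node 137 [(93,(Int.ofNat 1))] .nil .nil) .nil)))) (.node 202 [(167,(Int.negSucc 0))] (.node 157 [(119,(Int.negSucc 0))] (.node 152 [(110,(Int.ofNat 1))] (.node 148 [(105,(Int.ofNat 1))] (.node 146 [(102,(Int.negSucc 0))] .nil .nil) (.node 151 [(108,(Int.negSucc 0))] .nil .nil)) (.node 156 [(117,(Int.negSucc 0))] (.node 155 [(113,(Int.negSucc 0))] .nil .nil) .nil)) (.node 190 [(163,(Int.ofNat 1))] (.node 161 [(124,(Int.negSucc 0))] (.node 160 [(123,(Int.negSucc 0))] .nil .nil) (.node 180 [(162,(Int.ofNat 1))] .nil .nil)) (.node 201 [(166,(Int.negSucc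 0))] (.node 196 [(164,(Int.ofNat 1))] .nil .nil) .nil))) (.node 220 [(185,(Int.negSucc 0))] (.node 215 [(175,(Int.negSucc 0))] (.node 211 [(171,(Int.negSucc 0))] (.node 206 [(169,(Int.ofNat 1))] .nil .nil) (.node 212 [(172,(Int.negSucc 0))] .nil .nil)) (.node 218 [(181,(Int.ofNat 1))] (.node 216 [(176,(Int.negSucc 0))] .nil .nil) .nil)) (.node 225 [(207,(Int.ofNat 1))] (.node 223 [(191,(Int.ofNat 1))] (.node 221 [(186,(Int.negSucc 0))] .nil .nil) (.node 224 [(197,(Int.ofNat 1))] .nil .nil)) (.node 239 [(229,(Int.negSucc 0))] (.node 236 [(226,(Int.negSucc 0))] .nil .nil) .nil)))))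
noncomputable def ch82 : Tr (List (ℕ × ℤ)) := (.node 143 [(100,(Int.ofNat 1))] (.node 73 [(39,(Int.ofNat 1))] (.node 57 [(21,(Int.ofNat 1))] (.node 41 [(15,(Int.ofNat 1))] (.node 12 [(3,(Int.negSucc 0))] (.node 10 [(1,(Int.ofNat 1))] .nil .nil) (.node 31 [(14,(Int.ofNat 1))] .nil .nil)) (.node 52 [(18,(Int.negSucc 0))] (.node 47 [(16,(Int.ofNat 1))] .nil .nil) (.node 54 [(20,(Int.ofNat 1))] .nil .nil))) (.node 68 [(29,(Int.ofNat 1))] (.node 64 [(25,(Int.ofNat 1))] (.node 62 [(23,(Int.negSucc 0))] .nil .nil) (.node 66 [(27,(Int.negSucc 0))] .nil .nil)) (.node 71 [(37,(Int.negSucc 0))] (.node 70 [(34,(Int.negSucc 0))] .nil .nil) .nil))) (.node 121 [(83,(Int.ofNat 1))] (.node 114 [(78,(Int.negSucc 0))] (.node 76 [(50,(Int.negSucc 0))] (.node 75 [(44,(Int.negSucc 0))] .nil .nil) (.node 77 [(60,(Int.negSucc 0))] .nil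 .nil)) (.node 119 [(81,(Int.ofNat 1))] (.node 116 [(80,(Int.ofNat 1))] .nil .nil) .nil)) (.node 133 [(91,(Int.negSucc 0))] (.node 128 [(87,(Int.negSucc 0))] (.node 126 [(85,(Int.ofNat 1))] .nil .nil) (.node 131 [(89,(Int.ofNat 1))] .nil .nil)) (.node 139 [(96,(Int.negSucc 0))] (.node 137 [(94,(Int.ofNat 1))] .nil .nil) .nil)))) (.node 202 [(168,(Int.ofNat 1))] (.node 158 [(120,(Int.negSucc 0))] (.node 152 [(111,(Int.ofNat 1))] (.node 148 [(106,(Int.ofNat 1))] (.node 145 [(102,(Int.negSucc 0))] .nil .nil) (.node 150 [(108,(Int.negSucc 0))] .nil .nil)) (.node 156 [(118,(Int.negSucc 0))] (.node 154 [(113,(Int.negSucc 0))] .nil .nil) .nil)) (.node 189 [(163,(Int.ofNat 1))] (.node 161 [(125,(Int.ofNat 1))] (.node 159 [(123,(Int.negSucc 0))] .nil .nil) (.node 179 [(162,(Int.ofNat 1))] .nil .nil)) (.node 200 [(166,(Int.negSucc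 0))] (.node 195 [(164,(Int.ofNat 1))] .nil .nil) .nil))) (.node 219 [(185,(Int.negSucc 0))] (.node 214 [(175,(Int.negSucc 0))] (.node 210 [(171,(Int.negSucc 0))] (.node 205 [(169,(Int.ofNat 1))] .nil .nil) (.node 212 [(173,(Int.ofNat 1))] .nil .nil)) (.node 218 [(182,(Int.negSucc 0))] (.node 216 [(177,(Int.ofNat 1))] .nil .nil) .nil)) (.node 225 [(208,(Int.negSucc 0))] (.node 223 [(192,(Int.negSucc 0))] (.node 221 [(187,(Int.ofNat 1))] .nil .nil) (.node 224 [(198,(Int.negSucc 0))] .nil .nil)) (.node 238 [(229,(Int.negSucc 0))] (.node 236 [(227,(Int.ofNat 1))] .nil .nil) .nil)))))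
noncomputable def ch83 : Tr (List (ℕ × ℤ)) := (.node 143 [(101,(Int.ofNat 1))] (.node 72 [(39,(Int.negSucc 0))] (.node 56 [(21,(Int.negSucc 0))] (.node 40 [(15,(Int.negSucc 0))] (.node 11 [(3,(Int.ofNat 1))] (.node 10 [(2,(Int.ofNat 1))] .nil .nil) (.node 30 [(14,(Int.negSucc 0))] .nil .nil)) (.node 52 [(19,(Int.negSucc 0))] (.node 46 [(16,(Int.negSucc 0))] .nil .nil) (.node 53 [(20,(Int.negSucc 0))] .nil .nil))) (.node 67 [(29,(Int.negSucc 0))] (.node 63 [(25,(Int.negSucc 0))] (.node 62 [(24,(Int.negSucc 0))] .nil .nil) (.node 66 [(28,(Int.negSucc 0))] .nil .nil)) (.node 71 [(38,(Int.negSucc 0))] (.node 70 [(35,(Int.negSucc 0))] .nil .nil) .nil))) (.node 118 [(82,(Int.ofNat 1))] (.node 114 [(79,(Int.negSucc 0))] (.node 76 [(51,(Int.negSucc 0))] (.node 75 [(45,(Int.negSucc 0))] .nil .nil) (.node 77 [(61,(Int.negSucc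 0))] .nil .nil)) (.node 117 [(81,(Int.ofNat 1))] (.node 115 [(80,(Int.negSucc 0))] .nil .nil) .nil)) (.node 132 [(91,(Int.negSucc 0))] (.node 127 [(87,(Int.negSucc 0))] (.node 126 [(86,(Int.ofNat 1))] .nil .nil) (.node 131 [(90,(Int.ofNat 1))] .nil .nil)) (.node 138 [(96,(Int.negSucc 0))] (.node 137 [(95,(Int.ofNat 1))] .nil .nil) .nil)))) (.node 201 [(168,(Int.ofNat 1))] (.node 158 [(122,(Int.negSucc 0))] (.node 152 [(112,(Int.ofNat 1))] (.node 148 [(107,(Int.ofNat 1))] (.node 144 [(102,(Int.negSucc 0))] .nil .nil) (.node 149 [(108,(Int.negSucc 0))] .nil .nil)) (.node 157 [(121,(Int.negSucc 0))] (.node 153 [(113,(Int.negSucc 0))] .nil .nil) .nil)) (.node 188 [(163,(Int.ofNat 1))] (.node 160 [(125,(Int.ofNat 1))] (.node 159 [(124,(Int.ofNat 1))] .nil .nil) (.node 178 [(162,(Int.ofNat 1))] .nil .nil)) (.node 200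 [(167,(Int.ofNat 1))] (.node 194 [(164,(Int.ofNat 1))] .nil .nil) .nil))) (.node 219 [(186,(Int.ofNat 1))] (.node 214 [(176,(Int.ofNat 1))] (.node 210 [(172,(Int.ofNat 1))] (.node 204 [(169,(Int.ofNat 1))] .nil .nil) (.node 211 [(173,(Int.ofNat 1))] .nil .nil)) (.node 218 [(183,(Int.ofNat 1))] (.node 215 [(177,(Int.ofNat 1))] .nil .nil) .nil)) (.node 225 [(209,(Int.ofNat 1))] (.node 223 [(193,(Int.ofNat 1))] (.node 220 [(187,(Int.ofNat 1))] .nil .nil) (.node 224 [(199,(Int.ofNat 1))] .nil .nil)) (.node 237 [(229,(Int.negSucc 0))] (.node 236 [(228,(Int.negSucc 0))] .nil .nil) .nil)))))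
noncomputable def ch84 : Tr (List (ℕ × ℤ)) := (.node 142 [(99,(Int.ofNat 1))] (.node 73 [(41,(Int.ofNat 1))] (.node 58 [(22,(Int.negSucc 0))] (.node 39 [(15,(Int.ofNat 1))] (.node 13 [(4,(Int.ofNat 1))] (.node 9 [(0,(Int.negSucc 0))] .nil .nil) (.node 29 [(14,(Int.ofNat 1))] .nil .nil)) (.node 50 [(18,(Int.negSucc 0))] (.node 48 [(17,(Int.negSucc 0))] .nil .nil) (.node 51 [(19,(Int.negSucc 0))] .nil .nil))) (.node 68 [(31,(Int.ofNat 1))] (.node 61 [(24,(Int.negSucc 0))] (.node 60 [(23,(Int.negSucc 0))] .nil .nil) (.node 67 [(30,(Int.ofNat 1))] .nil .nil)) (.node 72 [(40,(Int.ofNat 1))] (.node 69 [(33,(Int.ofNat 1))] .nil .nil) .nil))) (.node 120 [(85,(Int.ofNat 1))] (.node 111 [(78,(Int.ofNat 1))] (.node 76 [(52,(Int.negSucc 0))] (.node 74 [(43,(Int.ofNat 1))] .nil .nil) (.node 77 [(62,(Int.negSucc 0))] .nil .nil))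 (.node 113 [(81,(Int.ofNat 1))] (.node 112 [(79,(Int.ofNat 1))] .nil .nil) .nil)) (.node 134 [(92,(Int.negSucc 0))] (.node 125 [(87,(Int.ofNat 1))] (.node 122 [(86,(Int.ofNat 1))] .nil .nil) (.node 130 [(88,(Int.ofNat 1))] .nil .nil)) (.node 140 [(97,(Int.negSucc 0))] (.node 136 [(93,(Int.ofNat 1))] .nil .nil) .nil)))) (.node 199 [(167,(Int.negSucc 0))] (.node 158 [(126,(Int.negSucc 0))] (.node 152 [(114,(Int.negSucc 0))] (.node 147 [(105,(Int.ofNat 1))] (.node 146 [(103,(Int.negSucc 0))] .nil .nil) (.node 151 [(109,(Int.negSucc 0))] .nil .nil)) (.node 154 [(119,(Int.negSucc 0))] (.node 153 [(117,(Int.negSucc 0))] .nil .nil) .nil)) (.node 187 [(163,(Int.ofNat 1))] (.node 161 [(128,(Int.negSucc 0))] (.node 160 [(127,(Int.negSucc 0))] .nil .nil) (.node 177 [(162,(Int.ofNat 1))] .nil .nil)) (.node 198 [(166,(Int.negSucc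 0))] (.node 196 [(165,(Int.negSucc 0))] .nil .nil) .nil))) (.node 220 [(188,(Int.ofNat 1))] (.node 215 [(178,(Int.ofNat 1))] (.node 208 [(171,(Int.negSucc 0))] (.node 206 [(170,(Int.negSucc 0))] .nil .nil) (.node 209 [(172,(Int.negSucc 0))] .nil .nil)) (.node 217 [(181,(Int.ofNat 1))] (.node 216 [(179,(Int.ofNat 1))] .nil .nil) .nil)) (.node 225 [(210,(Int.negSucc 0))] (.node 222 [(191,(Int.ofNat 1))] (.node 221 [(189,(Int.ofNat 1))] .nil .nil) (.node 224 [(200,(Int.negSucc 0))] .nil .nil)) (.node 239 [(230,(Int.ofNat 1))] (.node 235 [(226,(Int.negSucc 0))] .nil .nil) .nil)))))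
noncomputable def ch85 : Tr (List (ℕ × ℤ)) := (.node 142 [(100,(Int.ofNat 1))] (.node 73 [(42,(Int.ofNat 1))] (.node 57 [(22,(Int.ofNat 1))] (.node 38 [(15,(Int.negSucc 0))] (.node 12 [(4,(Int.negSucc 0))] (.node 9 [(1,(Int.negSucc 0))] .nil .nil) (.node 28 [(14,(Int.negSucc 0))] .nil .nil)) (.node 49 [(18,(Int.ofNat 1))] (.node 47 [(17,(Int.ofNat 1))] .nil .nil) (.node 51 [(20,(Int.negSucc 0))] .nil .nil))) (.node 68 [(32,(Int.ofNat 1))] (.node 61 [(25,(Int.negSucc 0))] (.node 59 [(23,(Int.ofNat 1))] .nil .nil) (.node 66 [(30,(Int.negSucc 0))] .nil .nil)) (.node 71 [(40,(Int.negSucc 0))] (.node 69 [(34,(Int.ofNat 1))] .nil .nil) .nil))) (.node 119 [(84,(Int.ofNat 1))] (.node 110 [(78,(Int.negSucc 0))] (.node 76 [(53,(Int.negSucc 0))] (.node 74 [(44,(Int.ofNat 1))] .nil .nil) (.node 77 [(63,(Int.negSucc 0))] .nil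 .nil)) (.node 113 [(82,(Int.ofNat 1))] (.node 112 [(80,(Int.ofNat 1))] .nil .nil) .nil)) (.node 133 [(92,(Int.negSucc 0))] (.node 124 [(87,(Int.ofNat 1))] (.node 121 [(86,(Int.ofNat 1))] .nil .nil) (.node 130 [(89,(Int.ofNat 1))] .nil .nil)) (.node 139 [(97,(Int.negSucc 0))] (.node 136 [(94,(Int.ofNat 1))] .nil .nil) .nil)))) (.node 199 [(168,(Int.ofNat 1))] (.node 157 [(126,(Int.negSucc 0))] (.node 152 [(115,(Int.negSucc 0))] (.node 147 [(106,(Int.ofNat 1))] (.node 145 [(103,(Int.negSucc 0))] .nil .nil) (.node 150 [(109,(Int.negSucc 0))] .nil .nil)) (.node 155 [(120,(Int.negSucc 0))] (.node 153 [(118,(Int.negSucc 0))] .nil .nil) .nil)) (.node 186 [(163,(Int.ofNat 1))] (.node 161 [(129,(Int.ofNat 1))] (.node 159 [(127,(Int.negSucc 0))] .nil .nil) (.node 176 [(162,(Int.ofNat 1))] .nil .nil)) (.node 197 [(166,(Int.negSucc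 0))] (.node 195 [(165,(Int.negSucc 0))] .nil .nil) .nil))) (.node 219 [(188,(Int.ofNat 1))] (.node 214 [(178,(Int.ofNat 1))] (.node 207 [(171,(Int.negSucc 0))] (.node 205 [(170,(Int.negSucc 0))] .nil .nil) (.node 209 [(173,(Int.ofNat 1))] .nil .nil)) (.node 217 [(182,(Int.negSucc 0))] (.node 216 [(180,(Int.negSucc 0))] .nil .nil) .nil)) (.node 225 [(211,(Int.ofNat 1))] (.node 222 [(192,(Int.negSucc 0))] (.node 221 [(190,(Int.negSucc 0))] .nil .nil) (.node 224 [(201,(Int.ofNat 1))] .nil .nil)) (.node 238 [(230,(Int.ofNat 1))] (.node 235 [(227,(Int.ofNat 1))] .nil .nil) .nil)))))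
noncomputable def ch86 : Tr (List (ℕ × ℤ)) := (.node 142 [(101,(Int.ofNat 1))] (.node 72 [(42,(Int.negSucc 0))] (.node 56 [(22,(Int.negSucc 0))] (.node 37 [(15,(Int.ofNat 1))] (.node 11 [(4,(Int.ofNat 1))] (.node 9 [(2,(Int.negSucc 0))] .nil .nil) (.node 27 [(14,(Int.ofNat 1))] .nil .nil)) (.node 49 [(19,(Int.ofNat 1))] (.node 46 [(17,(Int.negSucc 0))] .nil .nil) (.node 50 [(20,(Int.ofNat 1))] .nil .nil))) (.node 67 [(32,(Int.negSucc 0))] (.node 60 [(25,(Int.ofNat 1))] (.node 59 [(24,(Int.ofNat 1))] .nil .nil) (.node 66 [(31,(Int.negSucc 0))] .nil .nil)) (.node 71 [(41,(Int.negSucc 0))] (.node 69 [(35,(Int.ofNat 1))] .nil .nil) .nil))) (.node 117 [(84,(Int.ofNat 1))] (.node 110 [(79,(Int.negSucc 0))] (.node 76 [(54,(Int.negSucc 0))] (.node 74 [(45,(Int.ofNat 1))] .nil .nil) (.node 77 [(64,(Int.negSucc 0))] .nil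 .nil)) (.node 113 [(83,(Int.ofNat 1))] (.node 111 [(80,(Int.negSucc 0))] .nil .nil) .nil)) (.node 132 [(92,(Int.negSucc 0))] (.node 123 [(87,(Int.ofNat 1))] (.node 118 [(85,(Int.ofNat 1))] .nil .nil) (.node 130 [(90,(Int.ofNat 1))] .nil .nil)) (.node 138 [(97,(Int.negSucc 0))] (.node 136 [(95,(Int.ofNat 1))] .nil .nil) .nil)))) (.node 198 [(168,(Int.ofNat 1))] (.node 156 [(126,(Int.negSucc 0))] (.node 152 [(116,(Int.negSucc 0))] (.node 147 [(107,(Int.ofNat 1))] (.node 144 [(103,(Int.negSucc 0))] .nil .nil) (.node 149 [(109,(Int.negSucc 0))] .nil .nil)) (.node 155 [(122,(Int.negSucc 0))] (.node 154 [(121,(Int.negSucc 0))] .nil .nil) .nil)) (.node 185 [(163,(Int.ofNat 1))] (.node 160 [(129,(Int.ofNat 1))] (.node 159 [(128,(Int.ofNat 1))] .nil .nil) (.node 175 [(162,(Int.ofNat 1))] .nil .nil)) (.node 197 [(167,(Int.ofNat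 1))] (.node 194 [(165,(Int.negSucc 0))] .nil .nil) .nil))) (.node 219 [(189,(Int.negSucc 0))] (.node 214 [(179,(Int.negSucc 0))] (.node 207 [(172,(Int.ofNat 1))] (.node 204 [(170,(Int.negSucc 0))] .nil .nil) (.node 208 [(173,(Int.ofNat 1))] .nil .nil)) (.node 217 [(183,(Int.ofNat 1))] (.node 215 [(180,(Int.negSucc 0))] .nil .nil) .nil)) (.node 225 [(212,(Int.negSucc 0))] (.node 222 [(193,(Int.ofNat 1))] (.node 220 [(190,(Int.negSucc 0))] .nil .nil) (.node 224 [(202,(Int.negSucc 0))] .nil .nil)) (.node 237 [(230,(Int.ofNat 1))] (.node 235 [(228,(Int.negSucc 0))] .nil .nil) .nil)))))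
noncomputable def ch87 : Tr (List (ℕ × ℤ)) := (.node 142 [(102,(Int.ofNat 1))] (.node 72 [(44,(Int.negSucc 0))] (.node 56 [(23,(Int.negSucc 0))] (.node 36 [(15,(Int.negSucc 0))] (.node 10 [(4,(Int.negSucc 0))] (.node 9 [(3,(Int.negSucc 0))] .nil .nil) (.node 26 [(14,(Int.negSucc 0))] .nil .nil)) (.node 47 [(19,(Int.negSucc 0))] (.node 46 [(18,(Int.negSucc 0))] .nil .nil) (.node 48 [(20,(Int.negSucc 0))] .nil .nil))) (.node 67 [(34,(Int.negSucc 0))] (.node 58 [(25,(Int.negSucc 0))] (.node 57 [(24,(Int.negSucc 0))] .nil .nil) (.node 66 [(33,(Int.negSucc 0))] .nil .nil)) (.node 71 [(43,(Int.negSucc 0))] (.node 68 [(35,(Int.negSucc 0))] .nil .nil) .nil))) (.node 114 [(84,(Int.ofNat 1))] (.node 110 [(81,(Int.negSucc 0))] (.node 76 [(55,(Int.negSucc 0))] (.node 73 [(45,(Int.negSucc 0))] .nil .nil) (.node 77 [(65,(Int.negSucc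 0))] .nil .nil)) (.node 112 [(83,(Int.negSucc 0))] (.node 111 [(82,(Int.negSucc 0))] .nil .nil) .nil)) (.node 131 [(92,(Int.negSucc 0))] (.node 116 [(86,(Int.ofNat 1))] (.node 115 [(85,(Int.ofNat 1))] .nil .nil) (.node 130 [(91,(Int.ofNat 1))] .nil .nil)) (.node 137 [(97,(Int.negSucc 0))] (.node 136 [(96,(Int.ofNat 1))] .nil .nil) .nil)))) (.node 196 [(168,(Int.ofNat 1))] (.node 156 [(127,(Int.ofNat 1))] (.node 153 [(123,(Int.negSucc 0))] (.node 147 [(108,(Int.ofNat 1))] (.node 143 [(103,(Int.negSucc 0))] .nil .nil) (.node 148 [(109,(Int.negSucc 0))] .nil .nil)) (.node 155 [(125,(Int.negSucc 0))] (.node 154 [(124,(Int.negSucc 0))] .nil .nil) .nil)) (.node 184 [(163,(Int.ofNat 1))] (.node 158 [(129,(Int.ofNat 1))] (.node 157 [(128,(Int.ofNat 1))] .nil .nil) (.node 174 [(162,(Int.ofNat 1))] .nil .nil)) (.node 195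 [(167,(Int.ofNat 1))] (.node 194 [(166,(Int.ofNat 1))] .nil .nil) .nil))) (.node 219 [(191,(Int.ofNat 1))] (.node 214 [(181,(Int.ofNat 1))] (.node 205 [(172,(Int.ofNat 1))] (.node 204 [(171,(Int.ofNat 1))] .nil .nil) (.node 206 [(173,(Int.ofNat 1))] .nil .nil)) (.node 216 [(183,(Int.ofNat 1))] (.node 215 [(182,(Int.ofNat 1))] .nil .nil) .nil)) (.node 225 [(213,(Int.ofNat 1))] (.node 221 [(193,(Int.ofNat 1))] (.node 220 [(192,(Int.ofNat 1))] .nil .nil) (.node 224 [(203,(Int.ofNat 1))] .nil .nil)) (.node 236 [(230,(Int.ofNat 1))] (.node 235 [(229,(Int.ofNat 1))] .nil .nil) .nil)))))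
noncomputable def ch88 : Tr (List (ℕ × ℤ)) := (.node 141 [(99,(Int.ofNat 1))] (.node 73 [(47,(Int.ofNat 1))] (.node 58 [(26,(Int.negSucc 0))] (.node 39 [(16,(Int.ofNat 1))] (.node 13 [(5,(Int.ofNat 1))] (.node 8 [(0,(Int.ofNat 1))] .nil .nil) (.node 25 [(14,(Int.negSucc 0))] .nil .nil)) (.node 44 [(18,(Int.ofNat 1))] (.node 42 [(17,(Int.ofNat 1))] .nil .nil) (.node 45 [(19,(Int.ofNat 1))] .nil .nil))) (.node 64 [(31,(Int.negSucc 0))] (.node 61 [(28,(Int.negSucc 0))] (.node 60 [(27,(Int.negSucc 0))] .nil .nil) (.node 63 [(30,(Int.negSucc 0))] .nil .nil)) (.node 72 [(46,(Int.ofNat 1))] (.node 65 [(33,(Int.negSucc 0))] .nil .nil) .nil))) (.node 109 [(84,(Int.ofNat 1))] (.node 106 [(78,(Int.ofNat 1))] (.node 75 [(52,(Int.ofNat 1))] (.node 74 [(49,(Int.ofNat 1))] .nil .nil) (.node 77 [(66,(Int.negSucc 0))] .nil .nil))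 (.node 108 [(81,(Int.ofNat 1))] (.node 107 [(79,(Int.ofNat 1))] .nil .nil) .nil)) (.node 129 [(92,(Int.ofNat 1))] (.node 122 [(90,(Int.ofNat 1))] (.node 120 [(89,(Int.ofNat 1))] .nil .nil) (.node 125 [(91,(Int.ofNat 1))] .nil .nil)) (.node 140 [(98,(Int.negSucc 0))] (.node 135 [(93,(Int.ofNat 1))] .nil .nil) .nil)))) (.node 193 [(167,(Int.negSucc 0))] (.node 158 [(131,(Int.negSucc 0))] (.node 149 [(117,(Int.negSucc 0))] (.node 147 [(110,(Int.negSucc 0))] (.node 146 [(104,(Int.negSucc 0))] .nil .nil) (.node 148 [(114,(Int.negSucc 0))] .nil .nil)) (.node 155 [(130,(Int.negSucc 0))] (.node 150 [(119,(Int.negSucc 0))] .nil .nil) .nil)) (.node 187 [(164,(Int.negSucc 0))] (.node 161 [(133,(Int.negSucc 0))] (.node 160 [(132,(Int.negSucc 0))] .nil .nil) (.node 173 [(162,(Int.ofNat 1))] .nil .nil)) (.node 192 [(166,(Int.negSucc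 0))] (.node 190 [(165,(Int.negSucc 0))] .nil .nil) .nil))) (.node 220 [(194,(Int.negSucc 0))] (.node 211 [(178,(Int.ofNat 1))] (.node 208 [(175,(Int.ofNat 1))] (.node 206 [(174,(Int.ofNat 1))] .nil .nil) (.node 209 [(176,(Int.ofNat 1))] .nil .nil)) (.node 213 [(181,(Int.ofNat 1))] (.node 212 [(179,(Int.ofNat 1))] .nil .nil) .nil)) (.node 225 [(214,(Int.ofNat 1))] (.node 222 [(197,(Int.negSucc 0))] (.node 221 [(195,(Int.negSucc 0))] .nil .nil) (.node 223 [(200,(Int.negSucc 0))] .nil .nil)) (.node 239 [(231,(Int.negSucc 0))] (.node 234 [(226,(Int.negSucc 0))] .nil .nil) .nil)))))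
noncomputable def ch89 : Tr (List (ℕ × ℤ)) := (.node 141 [(100,(Int.ofNat 1))] (.node 73 [(48,(Int.ofNat 1))] (.node 57 [(26,(Int.ofNat 1))] (.node 38 [(16,(Int.negSucc 0))] (.node 12 [(5,(Int.negSucc 0))] (.node 8 [(1,(Int.ofNat 1))] .nil .nil) (.node 24 [(14,(Int.ofNat 1))] .nil .nil)) (.node 43 [(18,(Int.negSucc 0))] (.node 41 [(17,(Int.negSucc 0))] .nil .nil) (.node 45 [(20,(Int.ofNat 1))] .nil .nil))) (.node 64 [(32,(Int.negSucc 0))] (.node 61 [(29,(Int.negSucc 0))] (.node 59 [(27,(Int.ofNat 1))] .nil .nil) (.node 62 [(30,(Int.ofNat 1))] .nil .nil)) (.node 71 [(46,(Int.negSucc 0))] (.node 65 [(34,(Int.negSucc 0))] .nil .nil) .nil))) (.node 109 [(85,(Int.ofNat 1))] (.node 105 [(78,(Int.negSucc 0))] (.node 75 [(53,(Int.ofNat 1))] (.node 74 [(50,(Int.ofNat 1))] .nil .nil) (.node 77 [(67,(Int.negSucc 0))] .nil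 .nil)) (.node 108 [(82,(Int.ofNat 1))] (.node 107 [(80,(Int.ofNat 1))] .nil .nil) .nil)) (.node 128 [(92,(Int.ofNat 1))] (.node 121 [(90,(Int.ofNat 1))] (.node 119 [(88,(Int.ofNat 1))] .nil .nil) (.node 124 [(91,(Int.ofNat 1))] .nil .nil)) (.node 139 [(98,(Int.negSucc 0))] (.node 135 [(94,(Int.ofNat 1))] .nil .nil) .nil)))) (.node 193 [(168,(Int.ofNat 1))] (.node 157 [(131,(Int.negSucc 0))] (.node 149 [(118,(Int.negSucc 0))] (.node 147 [(111,(Int.negSucc 0))] (.node 145 [(104,(Int.negSucc 0))] .nil .nil) (.node 148 [(115,(Int.negSucc 0))] .nil .nil)) (.node 154 [(130,(Int.negSucc 0))] (.node 151 [(120,(Int.negSucc 0))] .nil .nil) .nil)) (.node 186 [(164,(Int.negSucc 0))] (.node 161 [(134,(Int.ofNat 1))] (.node 159 [(132,(Int.negSucc 0))] .nil .nil) (.node 172 [(162,(Int.ofNat 1))] .nil .nil)) (.node 191 [(166,(Int.negSucc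 0))] (.node 189 [(165,(Int.negSucc 0))] .nil .nil) .nil))) (.node 219 [(194,(Int.negSucc 0))] (.node 210 [(178,(Int.ofNat 1))] (.node 207 [(175,(Int.ofNat 1))] (.node 205 [(174,(Int.ofNat 1))] .nil .nil) (.node 209 [(177,(Int.negSucc 0))] .nil .nil)) (.node 213 [(182,(Int.negSucc 0))] (.node 212 [(180,(Int.negSucc 0))] .nil .nil) .nil)) (.node 225 [(215,(Int.negSucc 0))] (.node 222 [(198,(Int.ofNat 1))] (.node 221 [(196,(Int.ofNat 1))] .nil .nil) (.node 223 [(201,(Int.ofNat 1))] .nil .nil)) (.node 238 [(231,(Int.negSucc 0))] (.node 234 [(227,(Int.ofNat 1))] .nil .nil) .nil)))))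
noncomputable def ch90 : Tr (List (ℕ × ℤ)) := (.node 141 [(101,(Int.ofNat 1))] (.node 72 [(48,(Int.negSucc 0))] (.node 56 [(26,(Int.negSucc 0))] (.node 37 [(16,(Int.ofNat 1))] (.node 11 [(5,(Int.ofNat 1))] (.node 8 [(2,(Int.ofNat 1))] .nil .nil) (.node 23 [(14,(Int.negSucc 0))] .nil .nil)) (.node 43 [(19,(Int.negSucc 0))] (.node 40 [(17,(Int.ofNat 1))] .nil .nil) (.node 44 [(20,(Int.negSucc 0))] .nil .nil))) (.node 63 [(32,(Int.ofNat 1))] (.node 60 [(29,(Int.ofNat 1))] (.node 59 [(28,(Int.ofNat 1))] .nil .nil) (.node 62 [(31,(Int.ofNat 1))] .nil .nil)) (.node 71 [(47,(Int.negSucc 0))] (.node 65 [(35,(Int.negSucc 0))] .nil .nil) .nil))) (.node 109 [(86,(Int.ofNat 1))] (.node 105 [(79,(Int.negSucc 0))] (.node 75 [(54,(Int.ofNat 1))] (.node 74 [(51,(Int.ofNat 1))] .nil .nil) (.node 77 [(68,(Int.negSucc 0))] .nil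 .nil)) (.node 108 [(83,(Int.ofNat 1))] (.node 106 [(80,(Int.negSucc 0))] .nil .nil) .nil)) (.node 127 [(92,(Int.ofNat 1))] (.node 118 [(89,(Int.ofNat 1))] (.node 117 [(88,(Int.ofNat 1))] .nil .nil) (.node 123 [(91,(Int.ofNat 1))] .nil .nil)) (.node 138 [(98,(Int.negSucc 0))] (.node 135 [(95,(Int.ofNat 1))] .nil .nil) .nil)))) (.node 192 [(168,(Int.ofNat 1))] (.node 156 [(131,(Int.negSucc 0))] (.node 150 [(121,(Int.negSucc 0))] (.node 147 [(112,(Int.negSucc 0))] (.node 144 [(104,(Int.negSucc 0))] .nil .nil) (.node 148 [(116,(Int.negSucc 0))] .nil .nil)) (.node 153 [(130,(Int.negSucc 0))] (.node 151 [(122,(Int.negSucc 0))] .nil .nil) .nil)) (.node 185 [(164,(Int.negSucc 0))] (.node 160 [(134,(Int.ofNat 1))] (.node 159 [(133,(Int.ofNat 1))] .nil .nil) (.node 171 [(162,(Int.ofNat 1))] .nil .nil)) (.node 191 [(167,(Int.ofNat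 1))] (.node 188 [(165,(Int.negSucc 0))] .nil .nil) .nil))) (.node 219 [(195,(Int.ofNat 1))] (.node 210 [(179,(Int.negSucc 0))] (.node 207 [(176,(Int.negSucc 0))] (.node 204 [(174,(Int.ofNat 1))] .nil .nil) (.node 208 [(177,(Int.negSucc 0))] .nil .nil)) (.node 213 [(183,(Int.ofNat 1))] (.node 211 [(180,(Int.negSucc 0))] .nil .nil) .nil)) (.node 225 [(216,(Int.ofNat 1))] (.node 222 [(199,(Int.negSucc 0))] (.node 220 [(196,(Int.ofNat 1))] .nil .nil) (.node 223 [(202,(Int.negSucc 0))] .nil .nil)) (.node 237 [(231,(Int.negSucc 0))] (.node 234 [(228,(Int.negSucc 0))] .nil .nil) .nil)))))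
noncomputable def ch91 : Tr (List (ℕ × ℤ)) := (.node 141 [(102,(Int.ofNat 1))] (.node 72 [(50,(Int.negSucc 0))] (.node 56 [(27,(Int.negSucc 0))] (.node 36 [(16,(Int.negSucc 0))] (.node 10 [(5,(Int.negSucc 0))] (.node 8 [(3,(Int.ofNat 1))] .nil .nil) (.node 22 [(14,(Int.ofNat 1))] .nil .nil)) (.node 41 [(19,(Int.ofNat 1))] (.node 40 [(18,(Int.ofNat 1))] .nil .nil) (.node 42 [(20,(Int.ofNat 1))] .nil .nil))) (.node 63 [(34,(Int.ofNat 1))] (.node 58 [(29,(Int.negSucc 0))] (.node 57 [(28,(Int.negSucc 0))] .nil .nil) (.node 62 [(33,(Int.ofNat 1))] .nil .nil)) (.node 71 [(49,(Int.negSucc 0))] (.node 64 [(35,(Int.ofNat 1))] .nil .nil) .nil))) (.node 109 [(87,(Int.ofNat 1))] (.node 105 [(81,(Int.negSucc 0))] (.node 75 [(55,(Int.ofNat 1))] (.node 73 [(51,(Int.negSucc 0))] .nil .nil) (.node 77 [(69,(Int.negSucc 0))] .nil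 .nil)) (.node 107 [(83,(Int.negSucc 0))] (.node 106 [(82,(Int.negSucc 0))] .nil .nil) .nil)) (.node 126 [(92,(Int.ofNat 1))] (.node 115 [(89,(Int.ofNat 1))] (.node 114 [(88,(Int.ofNat 1))] .nil .nil) (.node 116 [(90,(Int.ofNat 1))] .nil .nil)) (.node 137 [(98,(Int.negSucc 0))] (.node 135 [(96,(Int.ofNat 1))] .nil .nil) .nil)))) (.node 190 [(168,(Int.ofNat 1))] (.node 156 [(132,(Int.ofNat 1))] (.node 150 [(124,(Int.negSucc 0))] (.node 147 [(113,(Int.negSucc 0))] (.node 143 [(104,(Int.negSucc 0))] .nil .nil) (.node 149 [(123,(Int.negSucc 0))] .nil .nil)) (.node 152 [(130,(Int.negSucc 0))] (.node 151 [(125,(Int.negSucc 0))] .nil .nil) .nil)) (.node 184 [(164,(Int.negSucc 0))] (.node 158 [(134,(Int.ofNat 1))] (.node 157 [(133,(Int.ofNat 1))] .nil .nil) (.node 170 [(162,(Int.ofNat 1))] .nil .nil)) (.node 189 [(167,(Int.ofNat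 1))] (.node 188 [(166,(Int.ofNat 1))] .nil .nil) .nil))) (.node 219 [(197,(Int.negSucc 0))] (.node 210 [(181,(Int.ofNat 1))] (.node 205 [(176,(Int.negSucc 0))] (.node 204 [(175,(Int.negSucc 0))] .nil .nil) (.node 206 [(177,(Int.negSucc 0))] .nil .nil)) (.node 212 [(183,(Int.ofNat 1))] (.node 211 [(182,(Int.ofNat 1))] .nil .nil) .nil)) (.node 225 [(217,(Int.negSucc 0))] (.node 221 [(199,(Int.negSucc 0))] (.node 220 [(198,(Int.negSucc 0))] .nil .nil) (.node 223 [(203,(Int.ofNat 1))] .nil .nil)) (.node 236 [(231,(Int.negSucc 0))] (.node 234 [(229,(Int.ofNat 1))] .nil .nil) .nil)))))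
noncomputable def ch92 : Tr (List (ℕ × ℤ)) := (.node 141 [(103,(Int.ofNat 1))] (.node 72 [(53,(Int.negSucc 0))] (.node 56 [(30,(Int.negSucc 0))] (.node 36 [(17,(Int.negSucc 0))] (.node 9 [(5,(Int.ofNat 1))] (.node 8 [(4,(Int.ofNat 1))] .nil .nil) (.node 21 [(14,(Int.negSucc 0))] .nil .nil)) (.node 38 [(19,(Int.negSucc 0))] (.node 37 [(18,(Int.negSucc 0))] .nil .nil) (.node 39 [(20,(Int.negSucc 0))] .nil .nil))) (.node 60 [(34,(Int.negSucc 0))] (.node 58 [(32,(Int.negSucc 0))] (.node 57 [(31,(Int.negSucc 0))] .nil .nil) (.node 59 [(33,(Int.negSucc 0))] .nil .nil)) (.node 71 [(52,(Int.negSucc 0))] (.node 61 [(35,(Int.negSucc 0))] .nil .nil) .nil))) (.node 108 [(87,(Int.negSucc 0))] (.node 105 [(84,(Int.negSucc 0))] (.node 74 [(55,(Int.negSucc 0))] (.node 73 [(54,(Int.negSucc 0))] .nil .nil) (.node 77 [(70,(Int.negSucc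 0))] .nil .nil)) (.node 107 [(86,(Int.negSucc 0))] (.node 106 [(85,(Int.negSucc 0))] .nil .nil) .nil)) (.node 113 [(91,(Int.ofNat 1))] (.node 111 [(89,(Int.ofNat 1))] (.node 110 [(88,(Int.ofNat 1))] .nil .nil) (.node 112 [(90,(Int.ofNat 1))] .nil .nil)) (.node 136 [(98,(Int.negSucc 0))] (.node 135 [(97,(Int.ofNat 1))] .nil .nil) .nil)))) (.node 187 [(168,(Int.ofNat 1))] (.node 153 [(132,(Int.ofNat 1))] (.node 150 [(128,(Int.negSucc 0))] (.node 148 [(126,(Int.negSucc 0))] (.node 142 [(104,(Int.negSucc 0))] .nil .nil) (.node 149 [(127,(Int.negSucc 0))] .nil .nil)) (.node 152 [(131,(Int.ofNat 1))] (.node 151 [(129,(Int.negSucc 0))] .nil .nil) .nil)) (.node 184 [(165,(Int.ofNat 1))] (.node 155 [(134,(Int.ofNat 1))] (.node 154 [(133,(Int.ofNat 1))] .nil .nil) (.node 169 [(162,(Int.ofNat 1))] .nil .nil)) (.node 186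 [(167,(Int.ofNat 1))] (.node 185 [(166,(Int.ofNat 1))] .nil .nil) .nil))) (.node 219 [(200,(Int.ofNat 1))] (.node 207 [(181,(Int.ofNat 1))] (.node 205 [(179,(Int.ofNat 1))] (.node 204 [(178,(Int.ofNat 1))] .nil .nil) (.node 206 [(180,(Int.ofNat 1))] .nil .nil)) (.node 209 [(183,(Int.ofNat 1))] (.node 208 [(182,(Int.ofNat 1))] .nil .nil) .nil)) (.node 225 [(218,(Int.ofNat 1))] (.node 221 [(202,(Int.ofNat 1))] (.node 220 [(201,(Int.ofNat 1))] .nil .nil) (.node 222 [(203,(Int.ofNat 1))] .nil .nil)) (.node 235 [(231,(Int.negSucc 0))] (.node 234 [(230,(Int.negSucc 0))] .nil .nil) .nil)))))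
noncomputable def ch93 : Tr (List (ℕ × ℤ)) := (.node 141 [(105,(Int.negSucc 0))] (.node 73 [(57,(Int.ofNat 1))] (.node 48 [(26,(Int.ofNat 1))] (.node 39 [(21,(Int.ofNat 1))] (.node 13 [(6,(Int.ofNat 1))] (.node 7 [(0,(Int.negSucc 0))] .nil .nil) (.node 20 [(14,(Int.ofNat 1))] .nil .nil)) (.node 44 [(23,(Int.ofNat 1))] (.node 42 [(22,(Int.ofNat 1))] .nil .nil) (.node 45 [(24,(Int.ofNat 1))] .nil .nil))) (.node 54 [(31,(Int.ofNat 1))] (.node 51 [(28,(Int.ofNat 1))] (.node 50 [(27,(Int.ofNat 1))] .nil .nil) (.node 53 [(30,(Int.ofNat 1))] .nil .nil)) (.node 72 [(56,(Int.ofNat 1))] (.node 55 [(33,(Int.ofNat 1))] .nil .nil) .nil))) (.node 103 [(84,(Int.ofNat 1))] (.node 100 [(78,(Int.ofNat 1))] (.node 75 [(62,(Int.ofNat 1))] (.node 74 [(59,(Int.ofNat 1))] .nil .nil) (.node 76 [(66,(Int.ofNat 1))] .nil .nil)) (.node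 102 [(81,(Int.ofNat 1))] (.node 101 [(79,(Int.ofNat 1))] .nil .nil) .nil)) (.node 125 [(96,(Int.ofNat 1))] (.node 120 [(94,(Int.ofNat 1))] (.node 104 [(88,(Int.ofNat 1))] .nil .nil) (.node 122 [(95,(Int.ofNat 1))] .nil .nil)) (.node 134 [(98,(Int.ofNat 1))] (.node 129 [(97,(Int.ofNat 1))] .nil .nil) .nil)))) (.node 183 [(167,(Int.negSucc 0))] (.node 158 [(137,(Int.negSucc 0))] (.node 145 [(119,(Int.negSucc 0))] (.node 143 [(114,(Int.negSucc 0))] (.node 142 [(110,(Int.negSucc 0))] .nil .nil) (.node 144 [(117,(Int.negSucc 0))] .nil .nil)) (.node 155 [(136,(Int.negSucc 0))] (.node 151 [(135,(Int.negSucc 0))] .nil .nil) .nil)) (.node 177 [(164,(Int.negSucc 0))] (.node 161 [(139,(Int.negSucc 0))] (.node 160 [(138,(Int.negSucc 0))] .nil .nil) (.node 173 [(163,(Int.negSucc 0))] .nil .nil)) (.node 182 [(166,(Int.negSucc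 0))] (.node 180 [(165,(Int.negSucc 0))] .nil .nil) .nil))) (.node 215 [(194,(Int.negSucc 0))] (.node 211 [(188,(Int.negSucc 0))] (.node 208 [(185,(Int.negSucc 0))] (.node 206 [(184,(Int.negSucc 0))] .nil .nil) (.node 209 [(186,(Int.negSucc 0))] .nil .nil)) (.node 213 [(191,(Int.negSucc 0))] (.node 212 [(189,(Int.negSucc 0))] .nil .nil) .nil)) (.node 225 [(219,(Int.negSucc 0))] (.node 217 [(197,(Int.negSucc 0))] (.node 216 [(195,(Int.negSucc 0))] .nil .nil) (.node 218 [(200,(Int.negSucc 0))] .nil .nil)) (.node 239 [(232,(Int.ofNat 1))] (.node 233 [(226,(Int.negSucc 0))] .nil .nil) .nil)))))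
noncomputable def ch94 : Tr (List (ℕ × ℤ)) := (.node 141 [(106,(Int.negSucc 0))] (.node 73 [(58,(Int.ofNat 1))] (.node 47 [(26,(Int.negSucc 0))] (.node 38 [(21,(Int.negSucc 0))] (.node 12 [(6,(Int.negSucc 0))] (.node 7 [(1,(Int.negSucc 0))] .nil .nil) (.node 19 [(14,(Int.negSucc 0))] .nil .nil)) (.node 43 [(23,(Int.negSucc 0))] (.node 41 [(22,(Int.negSucc 0))] .nil .nil) (.node 45 [(25,(Int.ofNat 1))] .nil .nil))) (.node 54 [(32,(Int.ofNat 1))] (.node 51 [(29,(Int.ofNat 1))] (.node 49 [(27,(Int.negSucc 0))] .nil .nil) (.node 52 [(30,(Int.negSucc 0))] .nil .nil)) (.node 71 [(56,(Int.negSucc 0))] (.node 55 [(34,(Int.ofNat 1))] .nil .nil) .nil))) (.node 103 [(85,(Int.ofNat 1))] (.node 99 [(78,(Int.negSucc 0))] (.node 75 [(63,(Int.ofNat 1))] (.node 74 [(60,(Int.ofNat 1))] .nil .nil) (.node 76 [(67,(Int.ofNat 1))]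 .nil .nil)) (.node 102 [(82,(Int.ofNat 1))] (.node 101 [(80,(Int.ofNat 1))] .nil .nil) .nil)) (.node 124 [(96,(Int.ofNat 1))] (.node 119 [(93,(Int.ofNat 1))] (.node 104 [(89,(Int.ofNat 1))] .nil .nil) (.node 121 [(95,(Int.ofNat 1))] .nil .nil)) (.node 133 [(98,(Int.ofNat 1))] (.node 128 [(97,(Int.ofNat 1))] .nil .nil) .nil)))) (.node 183 [(168,(Int.ofNat 1))] (.node 157 [(137,(Int.negSucc 0))] (.node 146 [(120,(Int.negSucc 0))] (.node 143 [(115,(Int.negSucc 0))] (.node 142 [(111,(Int.negSucc 0))] .nil .nil) (.node 144 [(118,(Int.negSucc 0))] .nil .nil)) (.node 154 [(136,(Int.negSucc 0))] (.node 150 [(135,(Int.negSucc 0))] .nil .nil) .nil)) (.node 176 [(164,(Int.negSucc 0))] (.node 161 [(140,(Int.ofNat 1))] (.node 159 [(138,(Int.negSucc 0))] .nil .nil) (.node 172 [(163,(Int.negSucc 0))] .nil .nil)) (.node 181 [(166,(Int.negSucc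 0))] (.node 179 [(165,(Int.negSucc 0))] .nil .nil) .nil))) (.node 214 [(194,(Int.negSucc 0))] (.node 210 [(188,(Int.negSucc 0))] (.node 207 [(185,(Int.negSucc 0))] (.node 205 [(184,(Int.negSucc 0))] .nil .nil) (.node 209 [(187,(Int.ofNat 1))] .nil .nil)) (.node 213 [(192,(Int.ofNat 1))] (.node 212 [(190,(Int.ofNat 1))] .nil .nil) .nil)) (.node 225 [(220,(Int.ofNat 1))] (.node 217 [(198,(Int.ofNat 1))] (.node 216 [(196,(Int.ofNat 1))] .nil .nil) (.node 218 [(201,(Int.ofNat 1))] .nil .nil)) (.node 238 [(232,(Int.ofNat 1))] (.node 233 [(227,(Int.ofNat 1))] .nil .nil) .nil)))))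
noncomputable def ch95 : Tr (List (ℕ × ℤ)) := (.node 141 [(107,(Int.negSucc 0))] (.node 72 [(58,(Int.negSucc 0))] (.node 46 [(26,(Int.ofNat 1))] (.node 37 [(21,(Int.ofNat 1))] (.node 11 [(6,(Int.ofNat 1))] (.node 7 [(2,(Int.negSucc 0))] .nil .nil) (.node 18 [(14,(Int.ofNat 1))] .nil .nil)) (.node 43 [(24,(Int.negSucc 0))] (.node 40 [(22,(Int.ofNat 1))] .nil .nil) (.node 44 [(25,(Int.negSucc 0))] .nil .nil))) (.node 53 [(32,(Int.negSucc 0))] (.node 50 [(29,(Int.negSucc 0))] (.node 49 [(28,(Int.negSucc 0))] .nil .nil) (.node 52 [(31,(Int.negSucc 0))] .nil .nil)) (.node 71 [(57,(Int.negSucc 0))] (.node 55 [(35,(Int.ofNat 1))] .nil .nil) .nil))) (.node 103 [(86,(Int.ofNat 1))] (.node 99 [(79,(Int.negSucc 0))] (.node 75 [(64,(Int.ofNat 1))] (.node 74 [(61,(Int.ofNat 1))] .nil .nil) (.node 76 [(68,(Int.ofNat 1))] .nil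 .nil)) (.node 102 [(83,(Int.ofNat 1))] (.node 100 [(80,(Int.negSucc 0))] .nil .nil) .nil)) (.node 123 [(96,(Int.ofNat 1))] (.node 117 [(93,(Int.ofNat 1))] (.node 104 [(90,(Int.ofNat 1))] .nil .nil) (.node 118 [(94,(Int.ofNat 1))] .nil .nil)) (.node 132 [(98,(Int.ofNat 1))] (.node 127 [(97,(Int.ofNat 1))] .nil .nil) .nil)))) (.node 182 [(168,(Int.ofNat 1))] (.node 156 [(137,(Int.negSucc 0))] (.node 146 [(122,(Int.negSucc 0))] (.node 143 [(116,(Int.negSucc 0))] (.node 142 [(112,(Int.negSucc 0))] .nil .nil) (.node 145 [(121,(Int.negSucc 0))] .nil .nil)) (.node 153 [(136,(Int.negSucc 0))] (.node 149 [(135,(Int.negSucc 0))] .nil .nil) .nil)) (.node 175 [(164,(Int.negSucc 0))] (.node 160 [(140,(Int.ofNat 1))] (.node 159 [(139,(Int.ofNat 1))] .nil .nil) (.node 171 [(163,(Int.negSucc 0))] .nil .nil)) (.node 181 [(167,(Int.ofNat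 1))] (.node 178 [(165,(Int.negSucc 0))] .nil .nil) .nil))) (.node 214 [(195,(Int.ofNat 1))] (.node 210 [(189,(Int.ofNat 1))] (.node 207 [(186,(Int.ofNat 1))] (.node 204 [(184,(Int.negSucc 0))] .nil .nil) (.node 208 [(187,(Int.ofNat 1))] .nil .nil)) (.node 213 [(193,(Int.negSucc 0))] (.node 211 [(190,(Int.ofNat 1))] .nil .nil) .nil)) (.node 225 [(221,(Int.negSucc 0))] (.node 217 [(199,(Int.negSucc 0))] (.node 215 [(196,(Int.ofNat 1))] .nil .nil) (.node 218 [(202,(Int.negSucc 0))] .nil .nil)) (.node 237 [(232,(Int.ofNat 1))] (.node 233 [(228,(Int.negSucc 0))] .nil .nil) .nil)))))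
noncomputable def ch96 : Tr (List (ℕ × ℤ)) := (.node 141 [(108,(Int.negSucc 0))] (.node 72 [(60,(Int.negSucc 0))] (.node 46 [(27,(Int.ofNat 1))] (.node 36 [(21,(Int.negSucc 0))] (.node 10 [(6,(Int.negSucc 0))] (.node 7 [(3,(Int.negSucc 0))] .nil .nil) (.node 17 [(14,(Int.negSucc 0))] .nil .nil)) (.node 41 [(24,(Int.ofNat 1))] (.node 40 [(23,(Int.ofNat 1))] .nil .nil) (.node 42 [(25,(Int.ofNat 1))] .nil .nil))) (.node 53 [(34,(Int.negSucc 0))] (.node 48 [(29,(Int.ofNat 1))] (.node 47 [(28,(Int.ofNat 1))] .nil .nil) (.node 52 [(33,(Int.negSucc 0))] .nil .nil)) (.node 71 [(59,(Int.negSucc 0))] (.node 54 [(35,(Int.negSucc 0))] .nil .nil) .nil))) (.node 103 [(87,(Int.ofNat 1))] (.node 99 [(81,(Int.negSucc 0))] (.node 75 [(65,(Int.ofNat 1))] (.node 73 [(61,(Int.negSucc 0))] .nil .nil) (.node 76 [(69,(Int.ofNat 1))]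 .nil .nil)) (.node 101 [(83,(Int.negSucc 0))] (.node 100 [(82,(Int.negSucc 0))] .nil .nil) .nil)) (.node 116 [(95,(Int.ofNat 1))] (.node 114 [(93,(Int.ofNat 1))] (.node 104 [(91,(Int.ofNat 1))] .nil .nil) (.node 115 [(94,(Int.ofNat 1))] .nil .nil)) (.node 131 [(98,(Int.ofNat 1))] (.node 126 [(97,(Int.ofNat 1))] .nil .nil) .nil)))) (.node 180 [(168,(Int.ofNat 1))] (.node 156 [(138,(Int.ofNat 1))] (.node 146 [(125,(Int.negSucc 0))] (.node 144 [(123,(Int.negSucc 0))] (.node 142 [(113,(Int.negSucc 0))] .nil .nil) (.node 145 [(124,(Int.negSucc 0))] .nil .nil)) (.node 152 [(136,(Int.negSucc 0))] (.node 148 [(135,(Int.negSucc 0))] .nil .nil) .nil)) (.node 174 [(164,(Int.negSucc 0))] (.node 158 [(140,(Int.ofNat 1))] (.node 157 [(139,(Int.ofNat 1))] .nil .nil) (.node 170 [(163,(Int.negSucc 0))] .nil .nil)) (.node 179 [(167,(Int.ofNat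 1))] (.node 178 [(166,(Int.ofNat 1))] .nil .nil) .nil))) (.node 214 [(197,(Int.negSucc 0))] (.node 210 [(191,(Int.negSucc 0))] (.node 205 [(186,(Int.ofNat 1))] (.node 204 [(185,(Int.ofNat 1))] .nil .nil) (.node 206 [(187,(Int.ofNat 1))] .nil .nil)) (.node 212 [(193,(Int.negSucc 0))] (.node 211 [(192,(Int.negSucc 0))] .nil .nil) .nil)) (.node 225 [(222,(Int.ofNat 1))] (.node 216 [(199,(Int.negSucc 0))] (.node 215 [(198,(Int.negSucc 0))] .nil .nil) (.node 218 [(203,(Int.ofNat 1))] .nil .nil)) (.node 236 [(232,(Int.ofNat 1))] (.node 233 [(229,(Int.ofNat 1))] .nil .nil) .nil)))))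
noncomputable def ch97 : Tr (List (ℕ × ℤ)) := (.node 141 [(109,(Int.negSucc 0))] (.node 72 [(63,(Int.negSucc 0))] (.node 46 [(30,(Int.ofNat 1))] (.node 36 [(22,(Int.negSucc 0))] (.node 9 [(6,(Int.ofNat 1))] (.node 7 [(4,(Int.negSucc 0))] .nil .nil) (.node 16 [(14,(Int.ofNat 1))] .nil .nil)) (.node 38 [(24,(Int.negSucc 0))] (.node 37 [(23,(Int.negSucc 0))] .nil .nil) (.node 39 [(25,(Int.negSucc 0))] .nil .nil))) (.node 50 [(34,(Int.ofNat 1))] (.node 48 [(32,(Int.ofNat 1))] (.node 47 [(31,(Int.ofNat 1))] .nil .nil) (.node 49 [(33,(Int.ofNat 1))] .nil .nil)) (.node 71 [(62,(Int.negSucc 0))] (.node 51 [(35,(Int.ofNat 1))] .nil .nil) .nil))) (.node 102 [(87,(Int.negSucc 0))] (.node 99 [(84,(Int.negSucc 0))] (.node 74 [(65,(Int.negSucc 0))] (.node 73 [(64,(Int.negSucc 0))] .nil .nil) (.node 76 [(70,(Int.ofNat 1))] .nil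 .nil)) (.node 101 [(86,(Int.negSucc 0))] (.node 100 [(85,(Int.negSucc 0))] .nil .nil) .nil)) (.node 112 [(95,(Int.ofNat 1))] (.node 110 [(93,(Int.ofNat 1))] (.node 104 [(92,(Int.ofNat 1))] .nil .nil) (.node 111 [(94,(Int.ofNat 1))] .nil .nil)) (.node 130 [(98,(Int.ofNat 1))] (.node 113 [(96,(Int.ofNat 1))] .nil .nil) .nil)))) (.node 177 [(168,(Int.ofNat 1))] (.node 153 [(138,(Int.ofNat 1))] (.node 146 [(129,(Int.negSucc 0))] (.node 144 [(127,(Int.negSucc 0))] (.node 143 [(126,(Int.negSucc 0))] .nil .nil) (.node 145 [(128,(Int.negSucc 0))] .nil .nil)) (.node 152 [(137,(Int.ofNat 1))] (.node 147 [(135,(Int.negSucc 0))] .nil .nil) .nil)) (.node 174 [(165,(Int.ofNat 1))] (.node 155 [(140,(Int.ofNat 1))] (.node 154 [(139,(Int.ofNat 1))] .nil .nil) (.node 169 [(163,(Int.negSucc 0))] .nil .nil)) (.node 176 [(167,(Int.ofNat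 1))] (.node 175 [(166,(Int.ofNat 1))] .nil .nil) .nil))) (.node 214 [(200,(Int.ofNat 1))] (.node 207 [(191,(Int.negSucc 0))] (.node 205 [(189,(Int.negSucc 0))] (.node 204 [(188,(Int.negSucc 0))] .nil .nil) (.node 206 [(190,(Int.negSucc 0))] .nil .nil)) (.node 209 [(193,(Int.negSucc 0))] (.node 208 [(192,(Int.negSucc 0))] .nil .nil) .nil)) (.node 225 [(223,(Int.negSucc 0))] (.node 216 [(202,(Int.ofNat 1))] (.node 215 [(201,(Int.ofNat 1))] .nil .nil) (.node 217 [(203,(Int.ofNat 1))] .nil .nil)) (.node 235 [(232,(Int.ofNat 1))] (.node 233 [(230,(Int.negSucc 0))] .nil .nil) .nil)))))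
noncomputable def ch98 : Tr (List (ℕ × ℤ)) := (.node 142 [(130,(Int.negSucc 0))] (.node 72 [(67,(Int.negSucc 0))] (.node 40 [(30,(Int.negSucc 0))] (.node 36 [(26,(Int.negSucc 0))] (.node 8 [(6,(Int.negSucc 0))] (.node 7 [(5,(Int.negSucc 0))] .nil .nil) (.node 15 [(14,(Int.negSucc 0))] .nil .nil)) (.node 38 [(28,(Int.negSucc 0))] (.node 37 [(27,(Int.negSucc 0))] .nil .nil) (.node 39 [(29,(Int.negSucc 0))] .nil .nil))) (.node 44 [(34,(Int.negSucc 0))] (.node 42 [(32,(Int.negSucc 0))] (.node 41 [(31,(Int.negSucc 0))] .nil .nil) (.node 43 [(33,(Int.negSucc 0))] .nil .nil)) (.node 71 [(66,(Int.negSucc 0))] (.node 45 [(35,(Int.negSucc 0))] .nil .nil) .nil))) (.node 102 [(91,(Int.negSucc 0))] (.node 99 [(88,(Int.negSucc 0))] (.node 74 [(69,(Int.negSucc 0))] (.node 73 [(68,(Int.negSucc 0))] .nil .nil) (.node 75 [(70,(Int.negSucc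 0))] .nil .nil)) (.node 101 [(90,(Int.negSucc 0))] (.node 100 [(89,(Int.negSucc 0))] .nil .nil) .nil)) (.node 107 [(95,(Int.ofNat 1))] (.node 105 [(93,(Int.ofNat 1))] (.node 103 [(92,(Int.negSucc 0))] .nil .nil) (.node 106 [(94,(Int.ofNat 1))] .nil .nil)) (.node 109 [(97,(Int.ofNat 1))] (.node 108 [(96,(Int.ofNat 1))] .nil .nil) .nil)))) (.node 173 [(168,(Int.ofNat 1))] (.node 149 [(138,(Int.ofNat 1))] (.node 146 [(134,(Int.negSucc 0))] (.node 144 [(132,(Int.negSucc 0))] (.node 143 [(131,(Int.negSucc 0))] .nil .nil) (.node 145 [(133,(Int.negSucc 0))] .nil .nil)) (.node 148 [(137,(Int.ofNat 1))] (.node 147 [(136,(Int.ofNat 1))] .nil .nil) .nil)) (.node 170 [(165,(Int.ofNat 1))] (.node 151 [(140,(Int.ofNat 1))] (.node 150 [(139,(Int.ofNat 1))] .nil .nil) (.node 169 [(164,(Int.ofNat 1))] .nil .nil)) (.node 172 [(167,(Int.ofNat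 1))] (.node 171 [(166,(Int.ofNat 1))] .nil .nil) .nil))) (.node 210 [(200,(Int.ofNat 1))] (.node 207 [(197,(Int.ofNat 1))] (.node 205 [(195,(Int.ofNat 1))] (.node 204 [(194,(Int.ofNat 1))] .nil .nil) (.node 206 [(196,(Int.ofNat 1))] .nil .nil)) (.node 209 [(199,(Int.ofNat 1))] (.node 208 [(198,(Int.ofNat 1))] .nil .nil) .nil)) (.node 225 [(224,(Int.ofNat 1))] (.node 212 [(202,(Int.ofNat 1))] (.node 211 [(201,(Int.ofNat 1))] .nil .nil) (.node 213 [(203,(Int.ofNat 1))] .nil .nil)) (.node 234 [(232,(Int.ofNat 1))] (.node 233 [(231,(Int.ofNat 1))] .nil .nil) .nil)))))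
noncomputable def ch99 : Tr (List (ℕ × ℤ)) := (.node 135 [(105,(Int.negSucc 0))] (.node 68 [(47,(Int.negSucc 0))] (.node 58 [(36,(Int.negSucc 0))] (.node 29 [(16,(Int.negSucc 0))] (.node 13 [(7,(Int.ofNat 1))] (.node 6 [(0,(Int.negSucc 0))] .nil .nil) (.node 25 [(15,(Int.negSucc 0))] .nil .nil)) (.node 34 [(18,(Int.negSucc 0))] (.node 32 [(17,(Int.negSucc 0))] .nil .nil) (.node 35 [(19,(Int.negSucc 0))] .nil .nil))) (.node 64 [(41,(Int.negSucc 0))] (.node 61 [(38,(Int.negSucc 0))] (.node 60 [(37,(Int.negSucc 0))] .nil .nil) (.node 63 [(40,(Int.negSucc 0))] .nil .nil)) (.node 67 [(46,(Int.negSucc 0))] (.node 65 [(43,(Int.negSucc 0))] .nil .nil) .nil))) (.node 97 [(84,(Int.ofNat 1))] (.node 94 [(78,(Int.ofNat 1))] (.node 70 [(52,(Int.negSucc 0))] (.node 69 [(49,(Int.negSucc 0))] .nil .nil) (.node 77 [(71,(Int.negSucc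 0))] .nil .nil)) (.node 96 [(81,(Int.ofNat 1))] (.node 95 [(79,(Int.ofNat 1))] .nil .nil) .nil)) (.node 125 [(102,(Int.ofNat 1))] (.node 120 [(100,(Int.ofNat 1))] (.node 98 [(88,(Int.ofNat 1))] .nil .nil) (.node 122 [(101,(Int.ofNat 1))] .nil .nil)) (.node 134 [(104,(Int.ofNat 1))] (.node 129 [(103,(Int.ofNat 1))] .nil .nil) .nil)))) (.node 193 [(172,(Int.ofNat 1))] (.node 158 [(143,(Int.negSucc 0))] (.node 139 [(119,(Int.negSucc 0))] (.node 137 [(114,(Int.negSucc 0))] (.node 136 [(110,(Int.negSucc 0))] .nil .nil) (.node 138 [(117,(Int.negSucc 0))] .nil .nil)) (.node 155 [(142,(Int.negSucc 0))] (.node 151 [(141,(Int.negSucc 0))] .nil .nil) .nil)) (.node 187 [(169,(Int.ofNat 1))] (.node 161 [(145,(Int.negSucc 0))] (.node 160 [(144,(Int.negSucc 0))] .nil .nil) (.node 168 [(162,(Int.ofNat 1))] .nil .nil)) (.node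 192 [(171,(Int.ofNat 1))] (.node 190 [(170,(Int.ofNat 1))] .nil .nil) .nil))) (.node 220 [(204,(Int.ofNat 1))] (.node 201 [(178,(Int.ofNat 1))] (.node 198 [(175,(Int.ofNat 1))] (.node 196 [(174,(Int.ofNat 1))] .nil .nil) (.node 199 [(176,(Int.ofNat 1))] .nil .nil)) (.node 203 [(181,(Int.ofNat 1))] (.node 202 [(179,(Int.ofNat 1))] .nil .nil) .nil)) (.node 224 [(214,(Int.ofNat 1))] (.node 222 [(207,(Int.ofNat 1))] (.node 221 [(205,(Int.ofNat 1))] .nil .nil) (.node 223 [(210,(Int.ofNat 1))] .nil .nil)) (.node 239 [(233,(Int.ofNat 1))] (.node 232 [(226,(Int.negSucc 0))] .nil .nil) .nil)))))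
noncomputable def ch100 : Tr (List (ℕ × ℤ)) := (.node 135 [(106,(Int.negSucc 0))] (.node 68 [(48,(Int.negSucc 0))] (.node 57 [(36,(Int.ofNat 1))] (.node 28 [(16,(Int.ofNat 1))] (.node 12 [(7,(Int.negSucc 0))] (.node 6 [(1,(Int.negSucc 0))] .nil .nil) (.node 24 [(15,(Int.ofNat 1))] .nil .nil)) (.node 33 [(18,(Int.ofNat 1))] (.node 31 [(17,(Int.ofNat 1))] .nil .nil) (.node 35 [(20,(Int.negSucc 0))] .nil .nil))) (.node 64 [(42,(Int.negSucc 0))] (.node 61 [(39,(Int.negSucc 0))] (.node 59 [(37,(Int.ofNat 1))] .nil .nil) (.node 62 [(40,(Int.ofNat 1))] .nil .nil)) (.node 66 [(46,(Int.ofNat 1))] (.node 65 [(44,(Int.negSucc 0))] .nil .nil) .nil))) (.node 97 [(85,(Int.ofNat 1))] (.node 93 [(78,(Int.negSucc 0))] (.node 70 [(53,(Int.negSucc 0))] (.node 69 [(50,(Int.negSucc 0))] .nil .nil) (.node 77 [(72,(Int.negSucc 0))]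 .nil .nil)) (.node 96 [(82,(Int.ofNat 1))] (.node 95 [(80,(Int.ofNat 1))] .nil .nil) .nil)) (.node 124 [(102,(Int.ofNat 1))] (.node 119 [(99,(Int.ofNat 1))] (.node 98 [(89,(Int.ofNat 1))] .nil .nil) (.node 121 [(101,(Int.ofNat 1))] .nil .nil)) (.node 133 [(104,(Int.ofNat 1))] (.node 128 [(103,(Int.ofNat 1))] .nil .nil) .nil)))) (.node 193 [(173,(Int.negSucc 0))] (.node 157 [(143,(Int.negSucc 0))] (.node 140 [(120,(Int.negSucc 0))] (.node 137 [(115,(Int.negSucc 0))] (.node 136 [(111,(Int.negSucc 0))] .nil .nil) (.node 138 [(118,(Int.negSucc 0))] .nil .nil)) (.node 154 [(142,(Int.negSucc 0))] (.node 150 [(141,(Int.negSucc 0))] .nil .nil) .nil)) (.node 186 [(169,(Int.ofNat 1))] (.node 161 [(146,(Int.ofNat 1))] (.node 159 [(144,(Int.negSucc 0))] .nil .nil) (.node 167 [(162,(Int.ofNat 1))] .nil .nil)) (.node 191 [(171,(Int.ofNat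 1))] (.node 189 [(170,(Int.ofNat 1))] .nil .nil) .nil))) (.node 219 [(204,(Int.ofNat 1))] (.node 200 [(178,(Int.ofNat 1))] (.node 197 [(175,(Int.ofNat 1))] (.node 195 [(174,(Int.ofNat 1))] .nil .nil) (.node 199 [(177,(Int.negSucc 0))] .nil .nil)) (.node 203 [(182,(Int.negSucc 0))] (.node 202 [(180,(Int.negSucc 0))] .nil .nil) .nil)) (.node 224 [(215,(Int.negSucc 0))] (.node 222 [(208,(Int.negSucc 0))] (.node 221 [(206,(Int.negSucc 0))] .nil .nil) (.node 223 [(211,(Int.negSucc 0))] .nil .nil)) (.node 238 [(233,(Int.ofNat 1))] (.node 232 [(227,(Int.ofNat 1))] .nil .nil) .nil)))))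
noncomputable def ch101 : Tr (List (ℕ × ℤ)) := (.node 135 [(107,(Int.negSucc 0))] (.node 67 [(48,(Int.ofNat 1))] (.node 56 [(36,(Int.negSucc 0))] (.node 27 [(16,(Int.negSucc 0))] (.node 11 [(7,(Int.ofNat 1))] (.node 6 [(2,(Int.negSucc 0))] .nil .nil) (.node 23 [(15,(Int.negSucc 0))] .nil .nil)) (.node 33 [(19,(Int.ofNat 1))] (.node 30 [(17,(Int.negSucc 0))] .nil .nil) (.node 34 [(20,(Int.ofNat 1))] .nil .nil))) (.node 63 [(42,(Int.ofNat 1))] (.node 60 [(39,(Int.ofNat 1))] (.node 59 [(38,(Int.ofNat 1))] .nil .nil) (.node 62 [(41,(Int.ofNat 1))] .nil .nil)) (.node 66 [(47,(Int.ofNat 1))] (.node 65 [(45,(Int.negSucc 0))] .nil .nil) .nil))) (.node 97 [(86,(Int.ofNat 1))] (.node 93 [(79,(Int.negSucc 0))] (.node 70 [(54,(Int.negSucc 0))] (.node 69 [(51,(Int.negSucc 0))] .nil .nil) (.node 77 [(73,(Int.negSucc 0))] .nil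 .nil)) (.node 96 [(83,(Int.ofNat 1))] (.node 94 [(80,(Int.negSucc 0))] .nil .nil) .nil)) (.node 123 [(102,(Int.ofNat 1))] (.node 117 [(99,(Int.ofNat 1))] (.node 98 [(90,(Int.ofNat 1))] .nil .nil) (.node 118 [(100,(Int.ofNat 1))] .nil .nil)) (.node 132 [(104,(Int.ofNat 1))] (.node 127 [(103,(Int.ofNat 1))] .nil .nil) .nil)))) (.node 192 [(173,(Int.negSucc 0))] (.node 156 [(143,(Int.negSucc 0))] (.node 140 [(122,(Int.negSucc 0))] (.node 137 [(116,(Int.negSucc 0))] (.node 136 [(112,(Int.negSucc 0))] .nil .nil) (.node 139 [(121,(Int.negSucc 0))] .nil .nil)) (.node 153 [(142,(Int.negSucc 0))] (.node 149 [(141,(Int.negSucc 0))] .nil .nil) .nil)) (.node 185 [(169,(Int.ofNat 1))] (.node 160 [(146,(Int.ofNat 1))] (.node 159 [(145,(Int.ofNat 1))] .nil .nil) (.node 166 [(162,(Int.ofNat 1))] .nil .nil)) (.node 191 [(172,(Int.negSucc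 0))] (.node 188 [(170,(Int.ofNat 1))] .nil .nil) .nil))) (.node 219 [(205,(Int.negSucc 0))] (.node 200 [(179,(Int.negSucc 0))] (.node 197 [(176,(Int.negSucc 0))] (.node 194 [(174,(Int.ofNat 1))] .nil .nil) (.node 198 [(177,(Int.negSucc 0))] .nil .nil)) (.node 203 [(183,(Int.ofNat 1))] (.node 201 [(180,(Int.negSucc 0))] .nil .nil) .nil)) (.node 224 [(216,(Int.ofNat 1))] (.node 222 [(209,(Int.ofNat 1))] (.node 220 [(206,(Int.negSucc 0))] .nil .nil) (.node 223 [(212,(Int.ofNat 1))] .nil .nil)) (.node 237 [(233,(Int.ofNat 1))] (.node 232 [(228,(Int.negSucc 0))] .nil .nil) .nil)))))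
noncomputable def ch102 : Tr (List (ℕ × ℤ)) := (.node 135 [(108,(Int.negSucc 0))] (.node 67 [(50,(Int.ofNat 1))] (.node 56 [(37,(Int.negSucc 0))] (.node 26 [(16,(Int.ofNat 1))] (.node 10 [(7,(Int.negSucc 0))] (.node 6 [(3,(Int.negSucc 0))] .nil .nil) (.node 22 [(15,(Int.ofNat 1))] .nil .nil)) (.node 31 [(19,(Int.negSucc 0))] (.node 30 [(18,(Int.negSucc 0))] .nil .nil) (.node 32 [(20,(Int.negSucc 0))] .nil .nil))) (.node 63 [(44,(Int.ofNat 1))] (.node 58 [(39,(Int.negSucc 0))] (.node 57 [(38,(Int.negSucc 0))] .nil .nil) (.node 62 [(43,(Int.ofNat 1))] .nil .nil)) (.node 66 [(49,(Int.ofNat 1))] (.node 64 [(45,(Int.ofNat 1))] .nil .nil) .nil))) (.node 97 [(87,(Int.ofNat 1))] (.node 93 [(81,(Int.negSucc 0))] (.node 70 [(55,(Int.negSucc 0))] (.node 68 [(51,(Int.ofNat 1))] .nil .nil) (.node 77 [(74,(Int.negSucc 0))]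 .nil .nil)) (.node 95 [(83,(Int.negSucc 0))] (.node 94 [(82,(Int.negSucc 0))] .nil .nil) .nil)) (.node 116 [(101,(Int.ofNat 1))] (.node 114 [(99,(Int.ofNat 1))] (.node 98 [(91,(Int.ofNat 1))] .nil .nil) (.node 115 [(100,(Int.ofNat 1))] .nil .nil)) (.node 131 [(104,(Int.ofNat 1))] (.node 126 [(103,(Int.ofNat 1))] .nil .nil) .nil)))) (.node 190 [(173,(Int.negSucc 0))] (.node 156 [(144,(Int.ofNat 1))] (.node 140 [(125,(Int.negSucc 0))] (.node 138 [(123,(Int.negSucc 0))] (.node 136 [(113,(Int.negSucc 0))] .nil .nil) (.node 139 [(124,(Int.negSucc 0))] .nil .nil)) (.node 152 [(142,(Int.negSucc 0))] (.node 148 [(141,(Int.negSucc 0))] .nil .nil) .nil)) (.node 184 [(169,(Int.ofNat 1))] (.node 158 [(146,(Int.ofNat 1))] (.node 157 [(145,(Int.ofNat 1))] .nil .nil) (.node 165 [(162,(Int.ofNat 1))] .nil .nil)) (.node 189 [(172,(Int.negSucc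 0))] (.node 188 [(171,(Int.negSucc 0))] .nil .nil) .nil))) (.node 219 [(207,(Int.ofNat 1))] (.node 200 [(181,(Int.ofNat 1))] (.node 195 [(176,(Int.negSucc 0))] (.node 194 [(175,(Int.negSucc 0))] .nil .nil) (.node 196 [(177,(Int.negSucc 0))] .nil .nil)) (.node 202 [(183,(Int.ofNat 1))] (.node 201 [(182,(Int.ofNat 1))] .nil .nil) .nil)) (.node 224 [(217,(Int.negSucc 0))] (.node 221 [(209,(Int.ofNat 1))] (.node 220 [(208,(Int.ofNat 1))] .nil .nil) (.node 223 [(213,(Int.negSucc 0))] .nil .nil)) (.node 236 [(233,(Int.ofNat 1))] (.node 232 [(229,(Int.ofNat 1))] .nil .nil) .nil)))))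
noncomputable def ch103 : Tr (List (ℕ × ℤ)) := (.node 135 [(109,(Int.negSucc 0))] (.node 67 [(53,(Int.ofNat 1))] (.node 56 [(40,(Int.negSucc 0))] (.node 26 [(17,(Int.ofNat 1))] (.node 9 [(7,(Int.ofNat 1))] (.node 6 [(4,(Int.negSucc 0))] .nil .nil) (.node 21 [(15,(Int.negSucc 0))] .nil .nil)) (.node 28 [(19,(Int.ofNat 1))] (.node 27 [(18,(Int.ofNat 1))] .nil .nil) (.node 29 [(20,(Int.ofNat 1))] .nil .nil))) (.node 60 [(44,(Int.negSucc 0))] (.node 58 [(42,(Int.negSucc 0))] (.node 57 [(41,(Int.negSucc 0))] .nil .nil) (.node 59 [(43,(Int.negSucc 0))] .nil .nil)) (.node 66 [(52,(Int.ofNat 1))] (.node 61 [(45,(Int.negSucc 0))] .nil .nil) .nil))) (.node 96 [(87,(Int.negSucc 0))] (.node 93 [(84,(Int.negSucc 0))] (.node 69 [(55,(Int.ofNat 1))] (.node 68 [(54,(Int.ofNat 1))] .nil .nil) (.node 77 [(75,(Int.negSucc 0))] .nil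 .nil)) (.node 95 [(86,(Int.negSucc 0))] (.node 94 [(85,(Int.negSucc 0))] .nil .nil) .nil)) (.node 112 [(101,(Int.ofNat 1))] (.node 110 [(99,(Int.ofNat 1))] (.node 98 [(92,(Int.ofNat 1))] .nil .nil) (.node 111 [(100,(Int.ofNat 1))] .nil .nil)) (.node 130 [(104,(Int.ofNat 1))] (.node 113 [(102,(Int.ofNat 1))] .nil .nil) .nil)))) (.node 187 [(173,(Int.negSucc 0))] (.node 153 [(144,(Int.ofNat 1))] (.node 140 [(129,(Int.negSucc 0))] (.node 138 [(127,(Int.negSucc 0))] (.node 137 [(126,(Int.negSucc 0))] .nil .nil) (.node 139 [(128,(Int.negSucc 0))] .nil .nil)) (.node 152 [(143,(Int.ofNat 1))] (.node 147 [(141,(Int.negSucc 0))] .nil .nil) .nil)) (.node 184 [(170,(Int.negSucc 0))] (.node 155 [(146,(Int.ofNat 1))] (.node 154 [(145,(Int.ofNat 1))] .nil .nil) (.node 164 [(162,(Int.ofNat 1))] .nil .nil)) (.node 186 [(172,(Int.negSucc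 0))] (.node 185 [(171,(Int.negSucc 0))] .nil .nil) .nil))) (.node 219 [(210,(Int.negSucc 0))] (.node 197 [(181,(Int.ofNat 1))] (.node 195 [(179,(Int.ofNat 1))] (.node 194 [(178,(Int.ofNat 1))] .nil .nil) (.node 196 [(180,(Int.ofNat 1))] .nil .nil)) (.node 199 [(183,(Int.ofNat 1))] (.node 198 [(182,(Int.ofNat 1))] .nil .nil) .nil)) (.node 224 [(218,(Int.ofNat 1))] (.node 221 [(212,(Int.negSucc 0))] (.node 220 [(211,(Int.negSucc 0))] .nil .nil) (.node 222 [(213,(Int.negSucc 0))] .nil .nil)) (.node 235 [(233,(Int.ofNat 1))] (.node 232 [(230,(Int.negSucc 0))] .nil .nil) .nil)))))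
noncomputable def ch104 : Tr (List (ℕ × ℤ)) := (.node 136 [(130,(Int.negSucc 0))] (.node 63 [(53,(Int.negSucc 0))] (.node 56 [(46,(Int.negSucc 0))] (.node 22 [(17,(Int.negSucc 0))] (.node 8 [(7,(Int.negSucc 0))] (.node 6 [(5,(Int.negSucc 0))] .nil .nil) (.node 21 [(16,(Int.negSucc 0))] .nil .nil)) (.node 24 [(19,(Int.negSucc 0))] (.node 23 [(18,(Int.negSucc 0))] .nil .nil) (.node 25 [(20,(Int.negSucc 0))] .nil .nil))) (.node 60 [(50,(Int.negSucc 0))] (.node 58 [(48,(Int.negSucc 0))] (.node 57 [(47,(Int.negSucc 0))] .nil .nil) (.node 59 [(49,(Int.negSucc 0))] .nil .nil)) (.node 62 [(52,(Int.negSucc 0))] (.node 61 [(51,(Int.negSucc 0))] .nil .nil) .nil))) (.node 96 [(91,(Int.negSucc 0))] (.node 93 [(88,(Int.negSucc 0))] (.node 65 [(55,(Int.negSucc 0))] (.node 64 [(54,(Int.negSucc 0))] .nil .nil) (.node 77 [(76,(Int.negSucc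 0))] .nil .nil)) (.node 95 [(90,(Int.negSucc 0))] (.node 94 [(89,(Int.negSucc 0))] .nil .nil) .nil)) (.node 107 [(101,(Int.ofNat 1))] (.node 105 [(99,(Int.ofNat 1))] (.node 97 [(92,(Int.negSucc 0))] .nil .nil) (.node 106 [(100,(Int.ofNat 1))] .nil .nil)) (.node 109 [(103,(Int.ofNat 1))] (.node 108 [(102,(Int.ofNat 1))] .nil .nil) .nil)))) (.node 187 [(177,(Int.ofNat 1))] (.node 149 [(144,(Int.ofNat 1))] (.node 140 [(134,(Int.negSucc 0))] (.node 138 [(132,(Int.negSucc 0))] (.node 137 [(131,(Int.negSucc 0))] .nil .nil) (.node 139 [(133,(Int.negSucc 0))] .nil .nil)) (.node 148 [(143,(Int.ofNat 1))] (.node 147 [(142,(Int.ofNat 1))] .nil .nil) .nil)) (.node 184 [(174,(Int.ofNat 1))] (.node 151 [(146,(Int.ofNat 1))] (.node 150 [(145,(Int.ofNat 1))] .nil .nil) (.node 163 [(162,(Int.ofNat 1))] .nil .nil)) (.node 186 [(176,(Int.ofNat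 1))] (.node 185 [(175,(Int.ofNat 1))] .nil .nil) .nil))) (.node 219 [(214,(Int.ofNat 1))] (.node 191 [(181,(Int.ofNat 1))] (.node 189 [(179,(Int.ofNat 1))] (.node 188 [(178,(Int.ofNat 1))] .nil .nil) (.node 190 [(180,(Int.ofNat 1))] .nil .nil)) (.node 193 [(183,(Int.ofNat 1))] (.node 192 [(182,(Int.ofNat 1))] .nil .nil) .nil)) (.node 223 [(218,(Int.ofNat 1))] (.node 221 [(216,(Int.ofNat 1))] (.node 220 [(215,(Int.ofNat 1))] .nil .nil) (.node 222 [(217,(Int.ofNat 1))] .nil .nil)) (.node 234 [(233,(Int.ofNat 1))] (.node 232 [(231,(Int.ofNat 1))] .nil .nil) .nil)))))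
noncomputable def ch105 : Tr (List (ℕ × ℤ)) := (.node 130 [(110,(Int.negSucc 0))] (.node 68 [(57,(Int.ofNat 1))] (.node 48 [(36,(Int.negSucc 0))] (.node 29 [(21,(Int.ofNat 1))] (.node 13 [(8,(Int.negSucc 0))] (.node 5 [(0,(Int.negSucc 0))] .nil .nil) (.node 20 [(15,(Int.negSucc 0))] .nil .nil)) (.node 34 [(23,(Int.ofNat 1))] (.node 32 [(22,(Int.ofNat 1))] .nil .nil) (.node 35 [(24,(Int.ofNat 1))] .nil .nil))) (.node 54 [(41,(Int.negSucc 0))] (.node 51 [(38,(Int.negSucc 0))] (.node 50 [(37,(Int.negSucc 0))] .nil .nil) (.node 53 [(40,(Int.negSucc 0))] .nil .nil)) (.node 67 [(56,(Int.ofNat 1))] (.node 55 [(43,(Int.negSucc 0))] .nil .nil) .nil))) (.node 92 [(84,(Int.ofNat 1))] (.node 89 [(78,(Int.ofNat 1))] (.node 70 [(62,(Int.ofNat 1))] (.node 69 [(59,(Int.ofNat 1))] .nil .nil) (.node 76 [(71,(Int.negSucc 0))] .nil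 .nil)) (.node 91 [(81,(Int.ofNat 1))] (.node 90 [(79,(Int.ofNat 1))] .nil .nil) .nil)) (.node 122 [(107,(Int.ofNat 1))] (.node 104 [(99,(Int.negSucc 0))] (.node 98 [(93,(Int.negSucc 0))] .nil .nil) (.node 120 [(106,(Int.ofNat 1))] .nil .nil)) (.node 129 [(109,(Int.ofNat 1))] (.node 125 [(108,(Int.ofNat 1))] .nil .nil) .nil)))) (.node 183 [(172,(Int.negSucc 0))] (.node 158 [(148,(Int.negSucc 0))] (.node 140 [(135,(Int.ofNat 1))] (.node 132 [(117,(Int.negSucc 0))] (.node 131 [(114,(Int.negSucc 0))] .nil .nil) (.node 133 [(119,(Int.negSucc 0))] .nil .nil)) (.node 155 [(147,(Int.negSucc 0))] (.node 146 [(141,(Int.ofNat 1))] .nil .nil) .nil)) (.node 177 [(169,(Int.negSucc 0))] (.node 161 [(150,(Int.negSucc 0))] (.node 160 [(149,(Int.negSucc 0))] .nil .nil) (.node 168 [(163,(Int.ofNat 1))] .nil .nil)) (.node 182 [(171,(Int.negSucc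 0))] (.node 180 [(170,(Int.negSucc 0))] .nil .nil) .nil))) (.node 215 [(204,(Int.negSucc 0))] (.node 201 [(188,(Int.ofNat 1))] (.node 198 [(185,(Int.ofNat 1))] (.node 196 [(184,(Int.ofNat 1))] .nil .nil) (.node 199 [(186,(Int.ofNat 1))] .nil .nil)) (.node 203 [(191,(Int.ofNat 1))] (.node 202 [(189,(Int.ofNat 1))] .nil .nil) .nil)) (.node 224 [(219,(Int.ofNat 1))] (.node 217 [(207,(Int.negSucc 0))] (.node 216 [(205,(Int.negSucc 0))] .nil .nil) (.node 218 [(210,(Int.negSucc 0))] .nil .nil)) (.node 239 [(234,(Int.ofNat 1))] (.node 231 [(226,(Int.ofNat 1))] .nil .nil) .nil)))))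
noncomputable def ch106 : Tr (List (ℕ × ℤ)) := (.node 130 [(111,(Int.negSucc 0))] (.node 68 [(58,(Int.ofNat 1))] (.node 47 [(36,(Int.ofNat 1))] (.node 28 [(21,(Int.negSucc 0))] (.node 12 [(8,(Int.ofNat 1))] (.node 5 [(1,(Int.negSucc 0))] .nil .nil) (.node 19 [(15,(Int.ofNat 1))] .nil .nil)) (.node 33 [(23,(Int.negSucc 0))] (.node 31 [(22,(Int.negSucc 0))] .nil .nil) (.node 35 [(25,(Int.ofNat 1))] .nil .nil))) (.node 54 [(42,(Int.negSucc 0))] (.node 51 [(39,(Int.negSucc 0))] (.node 49 [(37,(Int.ofNat 1))] .nil .nil) (.node 52 [(40,(Int.ofNat 1))] .nil .nil)) (.node 66 [(56,(Int.negSucc 0))] (.node 55 [(44,(Int.negSucc 0))] .nil .nil) .nil))) (.node 92 [(85,(Int.ofNat 1))] (.node 88 [(78,(Int.negSucc 0))] (.node 70 [(63,(Int.ofNat 1))] (.node 69 [(60,(Int.ofNat 1))] .nil .nil) (.node 76 [(72,(Int.negSucc 0))] .nil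 .nil)) (.node 91 [(82,(Int.ofNat 1))] (.node 90 [(80,(Int.ofNat 1))] .nil .nil) .nil)) (.node 121 [(107,(Int.ofNat 1))] (.node 104 [(100,(Int.negSucc 0))] (.node 98 [(94,(Int.negSucc 0))] .nil .nil) (.node 119 [(105,(Int.ofNat 1))] .nil .nil)) (.node 128 [(109,(Int.ofNat 1))] (.node 124 [(108,(Int.ofNat 1))] .nil .nil) .nil)))) (.node 183 [(173,(Int.ofNat 1))] (.node 157 [(148,(Int.negSucc 0))] (.node 139 [(135,(Int.ofNat 1))] (.node 132 [(118,(Int.negSucc 0))] (.node 131 [(115,(Int.negSucc 0))] .nil .nil) (.node 134 [(120,(Int.negSucc 0))] .nil .nil)) (.node 154 [(147,(Int.negSucc 0))] (.node 145 [(141,(Int.ofNat 1))] .nil .nil) .nil)) (.node 176 [(169,(Int.negSucc 0))] (.node 161 [(151,(Int.ofNat 1))] (.node 159 [(149,(Int.negSucc 0))] .nil .nil) (.node 167 [(163,(Int.ofNat 1))] .nil .nil)) (.node 181 [(171,(Int.negSucc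 0))] (.node 179 [(170,(Int.negSucc 0))] .nil .nil) .nil))) (.node 214 [(204,(Int.negSucc 0))] (.node 200 [(188,(Int.ofNat 1))] (.node 197 [(185,(Int.ofNat 1))] (.node 195 [(184,(Int.ofNat 1))] .nil .nil) (.node 199 [(187,(Int.negSucc 0))] .nil .nil)) (.node 203 [(192,(Int.negSucc 0))] (.node 202 [(190,(Int.negSucc 0))] .nil .nil) .nil)) (.node 224 [(220,(Int.negSucc 0))] (.node 217 [(208,(Int.ofNat 1))] (.node 216 [(206,(Int.ofNat 1))] .nil .nil) (.node 218 [(211,(Int.ofNat 1))] .nil .nil)) (.node 238 [(234,(Int.ofNat 1))] (.node 231 [(227,(Int.negSucc 0))] .nil .nil) .nil)))))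
noncomputable def ch107 : Tr (List (ℕ × ℤ)) := (.node 130 [(112,(Int.negSucc 0))] (.node 67 [(58,(Int.negSucc 0))] (.node 46 [(36,(Int.negSucc 0))] (.node 27 [(21,(Int.ofNat 1))] (.node 11 [(8,(Int.negSucc 0))] (.node 5 [(2,(Int.negSucc 0))] .nil .nil) (.node 18 [(15,(Int.negSucc 0))] .nil .nil)) (.node 33 [(24,(Int.negSucc 0))] (.node 30 [(22,(Int.ofNat 1))] .nil .nil) (.node 34 [(25,(Int.negSucc 0))] .nil .nil))) (.node 53 [(42,(Int.ofNat 1))] (.node 50 [(39,(Int.ofNat 1))] (.node 49 [(38,(Int.ofNat 1))] .nil .nil) (.node 52 [(41,(Int.ofNat 1))] .nil .nil)) (.node 66 [(57,(Int.negSucc 0))] (.node 55 [(45,(Int.negSucc 0))] .nil .nil) .nil))) (.node 92 [(86,(Int.ofNat 1))] (.node 88 [(79,(Int.negSucc 0))] (.node 70 [(64,(Int.ofNat 1))] (.node 69 [(61,(Int.ofNat 1))] .nil .nil) (.node 76 [(73,(Int.negSucc 0))]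 .nil .nil)) (.node 91 [(83,(Int.ofNat 1))] (.node 89 [(80,(Int.negSucc 0))] .nil .nil) .nil)) (.node 118 [(106,(Int.ofNat 1))] (.node 104 [(101,(Int.negSucc 0))] (.node 98 [(95,(Int.negSucc 0))] .nil .nil) (.node 117 [(105,(Int.ofNat 1))] .nil .nil)) (.node 127 [(109,(Int.ofNat 1))] (.node 123 [(108,(Int.ofNat 1))] .nil .nil) .nil)))) (.node 182 [(173,(Int.ofNat 1))] (.node 156 [(148,(Int.negSucc 0))] (.node 138 [(135,(Int.ofNat 1))] (.node 133 [(121,(Int.negSucc 0))] (.node 131 [(116,(Int.negSucc 0))] .nil .nil) (.node 134 [(122,(Int.negSucc 0))] .nil .nil)) (.node 153 [(147,(Int.negSucc 0))] (.node 144 [(141,(Int.ofNat 1))] .nil .nil) .nil)) (.node 175 [(169,(Int.negSucc 0))] (.node 160 [(151,(Int.ofNat 1))] (.node 159 [(150,(Int.ofNat 1))] .nil .nil) (.node 166 [(163,(Int.ofNat 1))] .nil .nil)) (.node 181 [(172,(Int.ofNat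 1))] (.node 178 [(170,(Int.negSucc 0))] .nil .nil) .nil))) (.node 214 [(205,(Int.ofNat 1))] (.node 200 [(189,(Int.negSucc 0))] (.node 197 [(186,(Int.negSucc 0))] (.node 194 [(184,(Int.ofNat 1))] .nil .nil) (.node 198 [(187,(Int.negSucc 0))] .nil .nil)) (.node 203 [(193,(Int.ofNat 1))] (.node 201 [(190,(Int.negSucc 0))] .nil .nil) .nil)) (.node 224 [(221,(Int.ofNat 1))] (.node 217 [(209,(Int.negSucc 0))] (.node 215 [(206,(Int.ofNat 1))] .nil .nil) (.node 218 [(212,(Int.negSucc 0))] .nil .nil)) (.node 237 [(234,(Int.ofNat 1))] (.node 231 [(228,(Int.ofNat 1))] .nil .nil) .nil)))))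
noncomputable def ch108 : Tr (List (ℕ × ℤ)) := (.node 130 [(113,(Int.negSucc 0))] (.node 67 [(60,(Int.negSucc 0))] (.node 46 [(37,(Int.negSucc 0))] (.node 26 [(21,(Int.negSucc 0))] (.node 10 [(8,(Int.ofNat 1))] (.node 5 [(3,(Int.negSucc 0))] .nil .nil) (.node 17 [(15,(Int.ofNat 1))] .nil .nil)) (.node 31 [(24,(Int.ofNat 1))] (.node 30 [(23,(Int.ofNat 1))] .nil .nil) (.node 32 [(25,(Int.ofNat 1))] .nil .nil))) (.node 53 [(44,(Int.ofNat 1))] (.node 48 [(39,(Int.negSucc 0))] (.node 47 [(38,(Int.negSucc 0))] .nil .nil) (.node 52 [(43,(Int.ofNat 1))] .nil .nil)) (.node 66 [(59,(Int.negSucc 0))] (.node 54 [(45,(Int.ofNat 1))] .nil .nil) .nil))) (.node 92 [(87,(Int.ofNat 1))] (.node 88 [(81,(Int.negSucc 0))] (.node 70 [(65,(Int.ofNat 1))] (.node 68 [(61,(Int.negSucc 0))] .nil .nil) (.node 76 [(74,(Int.negSucc 0))] .nil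 .nil)) (.node 90 [(83,(Int.negSucc 0))] (.node 89 [(82,(Int.negSucc 0))] .nil .nil) .nil)) (.node 115 [(106,(Int.ofNat 1))] (.node 104 [(102,(Int.negSucc 0))] (.node 98 [(96,(Int.negSucc 0))] .nil .nil) (.node 114 [(105,(Int.ofNat 1))] .nil .nil)) (.node 126 [(109,(Int.ofNat 1))] (.node 116 [(107,(Int.ofNat 1))] .nil .nil) .nil)))) (.node 180 [(173,(Int.ofNat 1))] (.node 156 [(149,(Int.ofNat 1))] (.node 137 [(135,(Int.ofNat 1))] (.node 133 [(124,(Int.negSucc 0))] (.node 132 [(123,(Int.negSucc 0))] .nil .nil) (.node 134 [(125,(Int.negSucc 0))] .nil .nil)) (.node 152 [(147,(Int.negSucc 0))] (.node 143 [(141,(Int.ofNat 1))] .nil .nil) .nil)) (.node 174 [(169,(Int.negSucc 0))] (.node 158 [(151,(Int.ofNat 1))] (.node 157 [(150,(Int.ofNat 1))] .nil .nil) (.node 165 [(163,(Int.ofNat 1))] .nil .nil)) (.node 179 [(172,(Int.ofNat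 1))] (.node 178 [(171,(Int.ofNat 1))] .nil .nil) .nil))) (.node 214 [(207,(Int.negSucc 0))] (.node 200 [(191,(Int.ofNat 1))] (.node 195 [(186,(Int.negSucc 0))] (.node 194 [(185,(Int.negSucc 0))] .nil .nil) (.node 196 [(187,(Int.negSucc 0))] .nil .nil)) (.node 202 [(193,(Int.ofNat 1))] (.node 201 [(192,(Int.ofNat 1))] .nil .nil) .nil)) (.node 224 [(222,(Int.negSucc 0))] (.node 216 [(209,(Int.negSucc 0))] (.node 215 [(208,(Int.negSucc 0))] .nil .nil) (.node 218 [(213,(Int.ofNat 1))] .nil .nil)) (.node 236 [(234,(Int.ofNat 1))] (.node 231 [(229,(Int.negSucc 0))] .nil .nil) .nil)))))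
noncomputable def ch109 : Tr (List (ℕ × ℤ)) := (.node 131 [(126,(Int.negSucc 0))] (.node 67 [(63,(Int.negSucc 0))] (.node 46 [(40,(Int.negSucc 0))] (.node 26 [(22,(Int.negSucc 0))] (.node 9 [(8,(Int.negSucc 0))] (.node 5 [(4,(Int.negSucc 0))] .nil .nil) (.node 16 [(15,(Int.negSucc 0))] .nil .nil)) (.node 28 [(24,(Int.negSucc 0))] (.node 27 [(23,(Int.negSucc 0))] .nil .nil) (.node 29 [(25,(Int.negSucc 0))] .nil .nil))) (.node 50 [(44,(Int.negSucc 0))] (.node 48 [(42,(Int.negSucc 0))] (.node 47 [(41,(Int.negSucc 0))] .nil .nil) (.node 49 [(43,(Int.negSucc 0))] .nil .nil)) (.node 66 [(62,(Int.negSucc 0))] (.node 51 [(45,(Int.negSucc 0))] .nil .nil) .nil))) (.node 91 [(87,(Int.negSucc 0))] (.node 88 [(84,(Int.negSucc 0))] (.node 69 [(65,(Int.negSucc 0))] (.node 68 [(64,(Int.negSucc 0))] .nil .nil) (.node 76 [(75,(Int.negSucc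 0))] .nil .nil)) (.node 90 [(86,(Int.negSucc 0))] (.node 89 [(85,(Int.negSucc 0))] .nil .nil) .nil)) (.node 111 [(106,(Int.ofNat 1))] (.node 104 [(103,(Int.negSucc 0))] (.node 98 [(97,(Int.negSucc 0))] .nil .nil) (.node 110 [(105,(Int.ofNat 1))] .nil .nil)) (.node 113 [(108,(Int.ofNat 1))] (.node 112 [(107,(Int.ofNat 1))] .nil .nil) .nil)))) (.node 177 [(173,(Int.ofNat 1))] (.node 153 [(149,(Int.ofNat 1))] (.node 136 [(135,(Int.ofNat 1))] (.node 133 [(128,(Int.negSucc 0))] (.node 132 [(127,(Int.negSucc 0))] .nil .nil) (.node 134 [(129,(Int.negSucc 0))] .nil .nil)) (.node 152 [(148,(Int.ofNat 1))] (.node 142 [(141,(Int.ofNat 1))] .nil .nil) .nil)) (.node 174 [(170,(Int.ofNat 1))] (.node 155 [(151,(Int.ofNat 1))] (.node 154 [(150,(Int.ofNat 1))] .nil .nil) (.node 164 [(163,(Int.ofNat 1))] .nil .nil)) (.node 176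 [(172,(Int.ofNat 1))] (.node 175 [(171,(Int.ofNat 1))] .nil .nil) .nil))) (.node 214 [(210,(Int.ofNat 1))] (.node 197 [(191,(Int.ofNat 1))] (.node 195 [(189,(Int.ofNat 1))] (.node 194 [(188,(Int.ofNat 1))] .nil .nil) (.node 196 [(190,(Int.ofNat 1))] .nil .nil)) (.node 199 [(193,(Int.ofNat 1))] (.node 198 [(192,(Int.ofNat 1))] .nil .nil) .nil)) (.node 224 [(223,(Int.ofNat 1))] (.node 216 [(212,(Int.ofNat 1))] (.node 215 [(211,(Int.ofNat 1))] .nil .nil) (.node 217 [(213,(Int.ofNat 1))] .nil .nil)) (.node 235 [(234,(Int.ofNat 1))] (.node 231 [(230,(Int.ofNat 1))] .nil .nil) .nil)))))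
noncomputable def ch110 : Tr (List (ℕ × ℤ)) := (.node 126 [(114,(Int.negSucc 0))] (.node 64 [(57,(Int.ofNat 1))] (.node 42 [(36,(Int.negSucc 0))] (.node 25 [(21,(Int.ofNat 1))] (.node 13 [(9,(Int.ofNat 1))] (.node 4 [(0,(Int.negSucc 0))] .nil .nil) (.node 20 [(16,(Int.ofNat 1))] .nil .nil)) (.node 34 [(27,(Int.negSucc 0))] (.node 32 [(26,(Int.negSucc 0))] .nil .nil) (.node 35 [(28,(Int.negSucc 0))] .nil .nil))) (.node 54 [(47,(Int.ofNat 1))] (.node 45 [(38,(Int.negSucc 0))] (.node 44 [(37,(Int.negSucc 0))] .nil .nil) (.node 53 [(46,(Int.ofNat 1))] .nil .nil)) (.node 63 [(56,(Int.ofNat 1))] (.node 55 [(49,(Int.ofNat 1))] .nil .nil) .nil))) (.node 92 [(88,(Int.negSucc 0))] (.node 85 [(78,(Int.ofNat 1))] (.node 70 [(66,(Int.negSucc 0))] (.node 65 [(59,(Int.ofNat 1))] .nil .nil) (.node 75 [(71,(Int.negSucc 0))] .nil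 .nil)) (.node 87 [(81,(Int.ofNat 1))] (.node 86 [(79,(Int.ofNat 1))] .nil .nil) .nil)) (.node 120 [(111,(Int.ofNat 1))] (.node 103 [(99,(Int.negSucc 0))] (.node 97 [(93,(Int.negSucc 0))] .nil .nil) (.node 109 [(105,(Int.negSucc 0))] .nil .nil)) (.node 125 [(113,(Int.ofNat 1))] (.node 122 [(112,(Int.ofNat 1))] .nil .nil) .nil)))) (.node 183 [(176,(Int.negSucc 0))] (.node 158 [(152,(Int.negSucc 0))] (.node 140 [(136,(Int.ofNat 1))] (.node 128 [(119,(Int.negSucc 0))] (.node 127 [(117,(Int.negSucc 0))] .nil .nil) (.node 134 [(130,(Int.ofNat 1))] .nil .nil)) (.node 151 [(147,(Int.ofNat 1))] (.node 146 [(142,(Int.ofNat 1))] .nil .nil) .nil)) (.node 173 [(169,(Int.ofNat 1))] (.node 161 [(154,(Int.negSucc 0))] (.node 160 [(153,(Int.negSucc 0))] .nil .nil) (.node 168 [(164,(Int.ofNat 1))] .nil .nil)) (.node 182 [(175,(Int.negSucc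 0))] (.node 180 [(174,(Int.negSucc 0))] .nil .nil) .nil))) (.node 211 [(204,(Int.ofNat 1))] (.node 201 [(194,(Int.ofNat 1))] (.node 192 [(185,(Int.negSucc 0))] (.node 190 [(184,(Int.negSucc 0))] .nil .nil) (.node 193 [(186,(Int.negSucc 0))] .nil .nil)) (.node 203 [(197,(Int.ofNat 1))] (.node 202 [(195,(Int.ofNat 1))] .nil .nil) .nil)) (.node 223 [(219,(Int.negSucc 0))] (.node 213 [(207,(Int.ofNat 1))] (.node 212 [(205,(Int.ofNat 1))] .nil .nil) (.node 218 [(214,(Int.negSucc 0))] .nil .nil)) (.node 239 [(235,(Int.ofNat 1))] (.node 230 [(226,(Int.negSucc 0))] .nil .nil) .nil)))))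
noncomputable def ch111 : Tr (List (ℕ × ℤ)) := (.node 126 [(115,(Int.negSucc 0))] (.node 64 [(58,(Int.ofNat 1))] (.node 41 [(36,(Int.ofNat 1))] (.node 24 [(21,(Int.negSucc 0))] (.node 12 [(9,(Int.negSucc 0))] (.node 4 [(1,(Int.negSucc 0))] .nil .nil) (.node 19 [(16,(Int.negSucc 0))] .nil .nil)) (.node 33 [(27,(Int.ofNat 1))] (.node 31 [(26,(Int.ofNat 1))] .nil .nil) (.node 35 [(29,(Int.negSucc 0))] .nil .nil))) (.node 54 [(48,(Int.ofNat 1))] (.node 45 [(39,(Int.negSucc 0))] (.node 43 [(37,(Int.ofNat 1))] .nil .nil) (.node 52 [(46,(Int.negSucc 0))] .nil .nil)) (.node 62 [(56,(Int.negSucc 0))] (.node 55 [(50,(Int.ofNat 1))] .nil .nil) .nil))) (.node 92 [(89,(Int.negSucc 0))] (.node 84 [(78,(Int.negSucc 0))] (.node 70 [(67,(Int.negSucc 0))] (.node 65 [(60,(Int.ofNat 1))] .nil .nil) (.node 75 [(72,(Int.negSucc 0))]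 .nil .nil)) (.node 87 [(82,(Int.ofNat 1))] (.node 86 [(80,(Int.ofNat 1))] .nil .nil) .nil)) (.node 119 [(110,(Int.ofNat 1))] (.node 103 [(100,(Int.negSucc 0))] (.node 97 [(94,(Int.negSucc 0))] .nil .nil) (.node 109 [(106,(Int.negSucc 0))] .nil .nil)) (.node 124 [(113,(Int.ofNat 1))] (.node 121 [(112,(Int.ofNat 1))] .nil .nil) .nil)))) (.node 183 [(177,(Int.ofNat 1))] (.node 157 [(152,(Int.negSucc 0))] (.node 139 [(136,(Int.ofNat 1))] (.node 129 [(120,(Int.negSucc 0))] (.node 127 [(118,(Int.negSucc 0))] .nil .nil) (.node 133 [(130,(Int.ofNat 1))] .nil .nil)) (.node 150 [(147,(Int.ofNat 1))] (.node 145 [(142,(Int.ofNat 1))] .nil .nil) .nil)) (.node 172 [(169,(Int.ofNat 1))] (.node 161 [(155,(Int.ofNat 1))] (.node 159 [(153,(Int.negSucc 0))] .nil .nil) (.node 167 [(164,(Int.ofNat 1))] .nil .nil)) (.node 181 [(175,(Int.negSucc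 0))] (.node 179 [(174,(Int.negSucc 0))] .nil .nil) .nil))) (.node 210 [(204,(Int.ofNat 1))] (.node 200 [(194,(Int.ofNat 1))] (.node 191 [(185,(Int.negSucc 0))] (.node 189 [(184,(Int.negSucc 0))] .nil .nil) (.node 193 [(187,(Int.ofNat 1))] .nil .nil)) (.node 203 [(198,(Int.negSucc 0))] (.node 202 [(196,(Int.negSucc 0))] .nil .nil) .nil)) (.node 223 [(220,(Int.ofNat 1))] (.node 213 [(208,(Int.negSucc 0))] (.node 212 [(206,(Int.negSucc 0))] .nil .nil) (.node 218 [(215,(Int.ofNat 1))] .nil .nil)) (.node 238 [(235,(Int.ofNat 1))] (.node 230 [(227,(Int.ofNat 1))] .nil .nil) .nil)))))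
noncomputable def ch112 : Tr (List (ℕ × ℤ)) := (.node 126 [(116,(Int.negSucc 0))] (.node 63 [(58,(Int.negSucc 0))] (.node 40 [(36,(Int.negSucc 0))] (.node 23 [(21,(Int.ofNat 1))] (.node 11 [(9,(Int.ofNat 1))] (.node 4 [(2,(Int.negSucc 0))] .nil .nil) (.node 18 [(16,(Int.ofNat 1))] .nil .nil)) (.node 33 [(28,(Int.ofNat 1))] (.node 30 [(26,(Int.negSucc 0))] .nil .nil) (.node 34 [(29,(Int.ofNat 1))] .nil .nil))) (.node 53 [(48,(Int.negSucc 0))] (.node 44 [(39,(Int.ofNat 1))] (.node 43 [(38,(Int.ofNat 1))] .nil .nil) (.node 52 [(47,(Int.negSucc 0))] .nil .nil)) (.node 62 [(57,(Int.negSucc 0))] (.node 55 [(51,(Int.ofNat 1))] .nil .nil) .nil))) (.node 92 [(90,(Int.negSucc 0))] (.node 84 [(79,(Int.negSucc 0))] (.node 70 [(68,(Int.negSucc 0))] (.node 65 [(61,(Int.ofNat 1))] .nil .nil) (.node 75 [(73,(Int.negSucc 0))]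 .nil .nil)) (.node 87 [(83,(Int.ofNat 1))] (.node 85 [(80,(Int.negSucc 0))] .nil .nil) .nil)) (.node 117 [(110,(Int.ofNat 1))] (.node 103 [(101,(Int.negSucc 0))] (.node 97 [(95,(Int.negSucc 0))] .nil .nil) (.node 109 [(107,(Int.negSucc 0))] .nil .nil)) (.node 123 [(113,(Int.ofNat 1))] (.node 118 [(111,(Int.ofNat 1))] .nil .nil) .nil)))) (.node 182 [(177,(Int.ofNat 1))] (.node 156 [(152,(Int.negSucc 0))] (.node 138 [(136,(Int.ofNat 1))] (.node 129 [(122,(Int.negSucc 0))] (.node 128 [(121,(Int.negSucc 0))] .nil .nil) (.node 132 [(130,(Int.ofNat 1))] .nil .nil)) (.node 149 [(147,(Int.ofNat 1))] (.node 144 [(142,(Int.ofNat 1))] .nil .nil) .nil)) (.node 171 [(169,(Int.ofNat 1))] (.node 160 [(155,(Int.ofNat 1))] (.node 159 [(154,(Int.ofNat 1))] .nil .nil) (.node 166 [(164,(Int.ofNat 1))] .nil .nil)) (.node 181 [(176,(Int.ofNat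 1))] (.node 178 [(174,(Int.negSucc 0))] .nil .nil) .nil))) (.node 210 [(205,(Int.negSucc 0))] (.node 200 [(195,(Int.negSucc 0))] (.node 191 [(186,(Int.ofNat 1))] (.node 188 [(184,(Int.negSucc 0))] .nil .nil) (.node 192 [(187,(Int.ofNat 1))] .nil .nil)) (.node 203 [(199,(Int.ofNat 1))] (.node 201 [(196,(Int.negSucc 0))] .nil .nil) .nil)) (.node 223 [(221,(Int.negSucc 0))] (.node 213 [(209,(Int.ofNat 1))] (.node 211 [(206,(Int.negSucc 0))] .nil .nil) (.node 218 [(216,(Int.negSucc 0))] .nil .nil)) (.node 237 [(235,(Int.ofNat 1))] (.node 230 [(228,(Int.negSucc 0))] .nil .nil) .nil)))))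
noncomputable def ch113 : Tr (List (ℕ × ℤ)) := (.node 127 [(123,(Int.negSucc 0))] (.node 63 [(60,(Int.negSucc 0))] (.node 40 [(37,(Int.negSucc 0))] (.node 22 [(21,(Int.negSucc 0))] (.node 10 [(9,(Int.negSucc 0))] (.node 4 [(3,(Int.negSucc 0))] .nil .nil) (.node 17 [(16,(Int.negSucc 0))] .nil .nil)) (.node 31 [(28,(Int.negSucc 0))] (.node 30 [(27,(Int.negSucc 0))] .nil .nil) (.node 32 [(29,(Int.negSucc 0))] .nil .nil))) (.node 53 [(50,(Int.negSucc 0))] (.node 42 [(39,(Int.negSucc 0))] (.node 41 [(38,(Int.negSucc 0))] .nil .nil) (.node 52 [(49,(Int.negSucc 0))] .nil .nil)) (.node 62 [(59,(Int.negSucc 0))] (.node 54 [(51,(Int.negSucc 0))] .nil .nil) .nil))) (.node 92 [(91,(Int.negSucc 0))] (.node 84 [(81,(Int.negSucc 0))] (.node 70 [(69,(Int.negSucc 0))] (.node 64 [(61,(Int.negSucc 0))] .nil .nil) (.node 75 [(74,(Int.negSucc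 0))] .nil .nil)) (.node 86 [(83,(Int.negSucc 0))] (.node 85 [(82,(Int.negSucc 0))] .nil .nil) .nil)) (.node 114 [(110,(Int.ofNat 1))] (.node 103 [(102,(Int.negSucc 0))] (.node 97 [(96,(Int.negSucc 0))] .nil .nil) (.node 109 [(108,(Int.negSucc 0))] .nil .nil)) (.node 116 [(112,(Int.ofNat 1))] (.node 115 [(111,(Int.ofNat 1))] .nil .nil) .nil)))) (.node 180 [(177,(Int.ofNat 1))] (.node 156 [(153,(Int.ofNat 1))] (.node 137 [(136,(Int.ofNat 1))] (.node 129 [(125,(Int.negSucc 0))] (.node 128 [(124,(Int.negSucc 0))] .nil .nil) (.node 131 [(130,(Int.ofNat 1))] .nil .nil)) (.node 148 [(147,(Int.ofNat 1))] (.node 143 [(142,(Int.ofNat 1))] .nil .nil) .nil)) (.node 170 [(169,(Int.ofNat 1))] (.node 158 [(155,(Int.ofNat 1))] (.node 157 [(154,(Int.ofNat 1))] .nil .nil) (.node 165 [(164,(Int.ofNat 1))] .nil .nil)) (.node 179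 [(176,(Int.ofNat 1))] (.node 178 [(175,(Int.ofNat 1))] .nil .nil) .nil))) (.node 210 [(207,(Int.ofNat 1))] (.node 200 [(197,(Int.ofNat 1))] (.node 189 [(186,(Int.ofNat 1))] (.node 188 [(185,(Int.ofNat 1))] .nil .nil) (.node 190 [(187,(Int.ofNat 1))] .nil .nil)) (.node 202 [(199,(Int.ofNat 1))] (.node 201 [(198,(Int.ofNat 1))] .nil .nil) .nil)) (.node 223 [(222,(Int.ofNat 1))] (.node 212 [(209,(Int.ofNat 1))] (.node 211 [(208,(Int.ofNat 1))] .nil .nil) (.node 218 [(217,(Int.ofNat 1))] .nil .nil)) (.node 236 [(235,(Int.ofNat 1))] (.node 230 [(229,(Int.ofNat 1))] .nil .nil) .nil)))))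
noncomputable def ch114 : Tr (List (ℕ × ℤ)) := (.node 123 [(117,(Int.negSucc 0))] (.node 61 [(57,(Int.ofNat 1))] (.node 39 [(36,(Int.negSucc 0))] (.node 25 [(22,(Int.negSucc 0))] (.node 13 [(10,(Int.negSucc 0))] (.node 3 [(0,(Int.negSucc 0))] .nil .nil) (.node 20 [(17,(Int.negSucc 0))] .nil .nil)) (.node 34 [(30,(Int.ofNat 1))] (.node 29 [(26,(Int.negSucc 0))] .nil .nil) (.node 35 [(31,(Int.ofNat 1))] .nil .nil))) (.node 51 [(47,(Int.ofNat 1))] (.node 45 [(41,(Int.ofNat 1))] (.node 44 [(40,(Int.ofNat 1))] .nil .nil) (.node 50 [(46,(Int.ofNat 1))] .nil .nil)) (.node 60 [(56,(Int.ofNat 1))] (.node 55 [(52,(Int.negSucc 0))] .nil .nil) .nil))) (.node 91 [(88,(Int.negSucc 0))] (.node 82 [(78,(Int.ofNat 1))] (.node 69 [(66,(Int.negSucc 0))] (.node 65 [(62,(Int.negSucc 0))] .nil .nil) (.node 74 [(71,(Int.negSucc 0))]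 .nil .nil)) (.node 87 [(84,(Int.negSucc 0))] (.node 83 [(79,(Int.ofNat 1))] .nil .nil) .nil)) (.node 113 [(110,(Int.negSucc 0))] (.node 102 [(99,(Int.negSucc 0))] (.node 96 [(93,(Int.negSucc 0))] .nil .nil) (.node 108 [(105,(Int.negSucc 0))] .nil .nil)) (.node 122 [(116,(Int.ofNat 1))] (.node 120 [(115,(Int.ofNat 1))] .nil .nil) .nil)))) (.node 183 [(179,(Int.negSucc 0))] (.node 155 [(152,(Int.ofNat 1))] (.node 140 [(137,(Int.ofNat 1))] (.node 129 [(126,(Int.ofNat 1))] (.node 124 [(119,(Int.negSucc 0))] .nil .nil) (.node 134 [(131,(Int.ofNat 1))] .nil .nil)) (.node 151 [(148,(Int.ofNat 1))] (.node 146 [(143,(Int.ofNat 1))] .nil .nil) .nil)) (.node 173 [(170,(Int.ofNat 1))] (.node 161 [(157,(Int.negSucc 0))] (.node 160 [(156,(Int.negSucc 0))] .nil .nil) (.node 168 [(165,(Int.ofNat 1))] .nil .nil)) (.node 182 [(178,(Int.negSucc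 0))] (.node 177 [(174,(Int.ofNat 1))] .nil .nil) .nil))) (.node 208 [(204,(Int.negSucc 0))] (.node 198 [(194,(Int.negSucc 0))] (.node 192 [(188,(Int.negSucc 0))] (.node 187 [(184,(Int.ofNat 1))] .nil .nil) (.node 193 [(189,(Int.negSucc 0))] .nil .nil)) (.node 203 [(200,(Int.ofNat 1))] (.node 199 [(195,(Int.negSucc 0))] .nil .nil) .nil)) (.node 222 [(219,(Int.ofNat 1))] (.node 213 [(210,(Int.ofNat 1))] (.node 209 [(205,(Int.negSucc 0))] .nil .nil) (.node 217 [(214,(Int.ofNat 1))] .nil .nil)) (.node 239 [(236,(Int.ofNat 1))] (.node 229 [(226,(Int.ofNat 1))] .nil .nil) .nil)))))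
noncomputable def ch115 : Tr (List (ℕ × ℤ)) := (.node 123 [(118,(Int.negSucc 0))] (.node 61 [(58,(Int.ofNat 1))] (.node 38 [(36,(Int.ofNat 1))] (.node 24 [(22,(Int.ofNat 1))] (.node 12 [(10,(Int.ofNat 1))] (.node 3 [(1,(Int.negSucc 0))] .nil .nil) (.node 19 [(17,(Int.ofNat 1))] .nil .nil)) (.node 33 [(30,(Int.negSucc 0))] (.node 28 [(26,(Int.ofNat 1))] .nil .nil) (.node 35 [(32,(Int.ofNat 1))] .nil .nil))) (.node 51 [(48,(Int.ofNat 1))] (.node 45 [(42,(Int.ofNat 1))] (.node 43 [(40,(Int.negSucc 0))] .nil .nil) (.node 49 [(46,(Int.negSucc 0))] .nil .nil)) (.node 59 [(56,(Int.negSucc 0))] (.node 55 [(53,(Int.negSucc 0))] .nil .nil) .nil))) (.node 91 [(89,(Int.negSucc 0))] (.node 81 [(78,(Int.negSucc 0))] (.node 69 [(67,(Int.negSucc 0))] (.node 65 [(63,(Int.negSucc 0))] .nil .nil) (.node 74 [(72,(Int.negSucc 0))]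 .nil .nil)) (.node 87 [(85,(Int.negSucc 0))] (.node 83 [(80,(Int.ofNat 1))] .nil .nil) .nil)) (.node 113 [(111,(Int.negSucc 0))] (.node 102 [(100,(Int.negSucc 0))] (.node 96 [(94,(Int.negSucc 0))] .nil .nil) (.node 108 [(106,(Int.negSucc 0))] .nil .nil)) (.node 121 [(116,(Int.ofNat 1))] (.node 119 [(114,(Int.ofNat 1))] .nil .nil) .nil)))) (.node 183 [(180,(Int.ofNat 1))] (.node 154 [(152,(Int.ofNat 1))] (.node 139 [(137,(Int.ofNat 1))] (.node 128 [(126,(Int.ofNat 1))] (.node 125 [(120,(Int.negSucc 0))] .nil .nil) (.node 133 [(131,(Int.ofNat 1))] .nil .nil)) (.node 150 [(148,(Int.ofNat 1))] (.node 145 [(143,(Int.ofNat 1))] .nil .nil) .nil)) (.node 172 [(170,(Int.ofNat 1))] (.node 161 [(158,(Int.ofNat 1))] (.node 159 [(156,(Int.negSucc 0))] .nil .nil) (.node 167 [(165,(Int.ofNat 1))] .nil .nil)) (.node 181 [(178,(Int.negSucc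 0))] (.node 176 [(174,(Int.ofNat 1))] .nil .nil) .nil))) (.node 207 [(204,(Int.negSucc 0))] (.node 197 [(194,(Int.negSucc 0))] (.node 191 [(188,(Int.negSucc 0))] (.node 186 [(184,(Int.ofNat 1))] .nil .nil) (.node 193 [(190,(Int.ofNat 1))] .nil .nil)) (.node 203 [(201,(Int.negSucc 0))] (.node 199 [(196,(Int.ofNat 1))] .nil .nil) .nil)) (.node 222 [(220,(Int.negSucc 0))] (.node 213 [(211,(Int.negSucc 0))] (.node 209 [(206,(Int.ofNat 1))] .nil .nil) (.node 217 [(215,(Int.negSucc 0))] .nil .nil)) (.node 238 [(236,(Int.ofNat 1))] (.node 229 [(227,(Int.negSucc 0))] .nil .nil) .nil)))))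
noncomputable def ch116 : Tr (List (ℕ × ℤ)) := (.node 124 [(121,(Int.negSucc 0))] (.node 60 [(58,(Int.negSucc 0))] (.node 37 [(36,(Int.negSucc 0))] (.node 23 [(22,(Int.negSucc 0))] (.node 11 [(10,(Int.negSucc 0))] (.node 3 [(2,(Int.negSucc 0))] .nil .nil) (.node 18 [(17,(Int.negSucc 0))] .nil .nil)) (.node 33 [(31,(Int.negSucc 0))] (.node 27 [(26,(Int.negSucc 0))] .nil .nil) (.node 34 [(32,(Int.negSucc 0))] .nil .nil))) (.node 50 [(48,(Int.negSucc 0))] (.node 44 [(42,(Int.negSucc 0))] (.node 43 [(41,(Int.negSucc 0))] .nil .nil) (.node 49 [(47,(Int.negSucc 0))] .nil .nil)) (.node 59 [(57,(Int.negSucc 0))] (.node 55 [(54,(Int.negSucc 0))] .nil .nil) .nil))) (.node 91 [(90,(Int.negSucc 0))] (.node 81 [(79,(Int.negSucc 0))] (.node 69 [(68,(Int.negSucc 0))] (.node 65 [(64,(Int.negSucc 0))] .nil .nil) (.node 74 [(73,(Int.negSucc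 0))] .nil .nil)) (.node 87 [(86,(Int.negSucc 0))] (.node 82 [(80,(Int.negSucc 0))] .nil .nil) .nil)) (.node 113 [(112,(Int.negSucc 0))] (.node 102 [(101,(Int.negSucc 0))] (.node 96 [(95,(Int.negSucc 0))] .nil .nil) (.node 108 [(107,(Int.negSucc 0))] .nil .nil)) (.node 118 [(115,(Int.ofNat 1))] (.node 117 [(114,(Int.ofNat 1))] .nil .nil) .nil)))) (.node 182 [(180,(Int.ofNat 1))] (.node 153 [(152,(Int.ofNat 1))] (.node 138 [(137,(Int.ofNat 1))] (.node 127 [(126,(Int.ofNat 1))] (.node 125 [(122,(Int.negSucc 0))] .nil .nil) (.node 132 [(131,(Int.ofNat 1))] .nil .nil)) (.node 149 [(148,(Int.ofNat 1))] (.node 144 [(143,(Int.ofNat 1))] .nil .nil) .nil)) (.node 171 [(170,(Int.ofNat 1))] (.node 160 [(158,(Int.ofNat 1))] (.node 159 [(157,(Int.ofNat 1))] .nil .nil) (.node 166 [(165,(Int.ofNat 1))] .nil .nil)) (.node 181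 [(179,(Int.ofNat 1))] (.node 175 [(174,(Int.ofNat 1))] .nil .nil) .nil))) (.node 207 [(205,(Int.ofNat 1))] (.node 197 [(195,(Int.ofNat 1))] (.node 191 [(189,(Int.ofNat 1))] (.node 185 [(184,(Int.ofNat 1))] .nil .nil) (.node 192 [(190,(Int.ofNat 1))] .nil .nil)) (.node 203 [(202,(Int.ofNat 1))] (.node 198 [(196,(Int.ofNat 1))] .nil .nil) .nil)) (.node 222 [(221,(Int.ofNat 1))] (.node 213 [(212,(Int.ofNat 1))] (.node 208 [(206,(Int.ofNat 1))] .nil .nil) (.node 217 [(216,(Int.ofNat 1))] .nil .nil)) (.node 237 [(236,(Int.ofNat 1))] (.node 229 [(228,(Int.ofNat 1))] .nil .nil) .nil)))))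
noncomputable def ch117 : Tr (List (ℕ × ℤ)) := (.node 121 [(119,(Int.negSucc 0))] (.node 61 [(59,(Int.negSucc 0))] (.node 39 [(37,(Int.ofNat 1))] (.node 25 [(23,(Int.ofNat 1))] (.node 13 [(11,(Int.ofNat 1))] (.node 2 [(0,(Int.negSucc 0))] .nil .nil) (.node 20 [(18,(Int.ofNat 1))] .nil .nil)) (.node 32 [(30,(Int.ofNat 1))] (.node 29 [(27,(Int.ofNat 1))] .nil .nil) (.node 35 [(33,(Int.negSucc 0))] .nil .nil))) (.node 51 [(49,(Int.negSucc 0))] (.node 45 [(43,(Int.negSucc 0))] (.node 42 [(40,(Int.ofNat 1))] .nil .nil) (.node 48 [(46,(Int.ofNat 1))] .nil .nil)) (.node 58 [(56,(Int.ofNat 1))] (.node 54 [(52,(Int.negSucc 0))] .nil .nil) .nil))) (.node 90 [(88,(Int.negSucc 0))] (.node 80 [(78,(Int.ofNat 1))] (.node 68 [(66,(Int.negSucc 0))] (.node 64 [(62,(Int.negSucc 0))] .nil .nil) (.node 73 [(71,(Int.negSucc 0))] .nil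 .nil)) (.node 86 [(84,(Int.negSucc 0))] (.node 83 [(81,(Int.negSucc 0))] .nil .nil) .nil)) (.node 112 [(110,(Int.negSucc 0))] (.node 101 [(99,(Int.negSucc 0))] (.node 95 [(93,(Int.negSucc 0))] .nil .nil) (.node 107 [(105,(Int.negSucc 0))] .nil .nil)) (.node 120 [(118,(Int.ofNat 1))] (.node 116 [(114,(Int.negSucc 0))] .nil .nil) .nil)))) (.node 183 [(181,(Int.negSucc 0))] (.node 155 [(153,(Int.ofNat 1))] (.node 140 [(138,(Int.ofNat 1))] (.node 129 [(127,(Int.ofNat 1))] (.node 125 [(123,(Int.ofNat 1))] .nil .nil) (.node 134 [(132,(Int.ofNat 1))] .nil .nil)) (.node 151 [(149,(Int.ofNat 1))] (.node 146 [(144,(Int.ofNat 1))] .nil .nil) .nil)) (.node 173 [(171,(Int.ofNat 1))] (.node 161 [(159,(Int.negSucc 0))] (.node 158 [(156,(Int.ofNat 1))] .nil .nil) (.node 168 [(166,(Int.ofNat 1))] .nil .nil)) (.node 180 [(178,(Int.ofNat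 1))] (.node 177 [(175,(Int.ofNat 1))] .nil .nil) .nil))) (.node 206 [(204,(Int.ofNat 1))] (.node 196 [(194,(Int.ofNat 1))] (.node 190 [(188,(Int.ofNat 1))] (.node 187 [(185,(Int.ofNat 1))] .nil .nil) (.node 193 [(191,(Int.negSucc 0))] .nil .nil)) (.node 202 [(200,(Int.negSucc 0))] (.node 199 [(197,(Int.negSucc 0))] .nil .nil) .nil)) (.node 221 [(219,(Int.negSucc 0))] (.node 212 [(210,(Int.negSucc 0))] (.node 209 [(207,(Int.negSucc 0))] .nil .nil) (.node 216 [(214,(Int.negSucc 0))] .nil .nil)) (.node 239 [(237,(Int.ofNat 1))] (.node 228 [(226,(Int.negSucc 0))] .nil .nil) .nil)))))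
noncomputable def ch118 : Tr (List (ℕ × ℤ)) := (.node 122 [(120,(Int.negSucc 0))] (.node 61 [(60,(Int.negSucc 0))] (.node 38 [(37,(Int.negSucc 0))] (.node 24 [(23,(Int.negSucc 0))] (.node 12 [(11,(Int.negSucc 0))] (.node 2 [(1,(Int.negSucc 0))] .nil .nil) (.node 19 [(18,(Int.negSucc 0))] .nil .nil)) (.node 31 [(30,(Int.negSucc 0))] (.node 28 [(27,(Int.negSucc 0))] .nil .nil) (.node 35 [(34,(Int.negSucc 0))] .nil .nil))) (.node 51 [(50,(Int.negSucc 0))] (.node 45 [(44,(Int.negSucc 0))] (.node 41 [(40,(Int.negSucc 0))] .nil .nil) (.node 47 [(46,(Int.negSucc 0))] .nil .nil)) (.node 57 [(56,(Int.negSucc 0))] (.node 54 [(53,(Int.negSucc 0))] .nil .nil) .nil))) (.node 90 [(89,(Int.negSucc 0))] (.node 79 [(78,(Int.negSucc 0))] (.node 68 [(67,(Int.negSucc 0))] (.node 64 [(63,(Int.negSucc 0))] .nil .nil) (.node 73 [(72,(Int.negSucc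 0))] .nil .nil)) (.node 86 [(85,(Int.negSucc 0))] (.node 83 [(82,(Int.negSucc 0))] .nil .nil) .nil)) (.node 112 [(111,(Int.negSucc 0))] (.node 101 [(100,(Int.negSucc 0))] (.node 95 [(94,(Int.negSucc 0))] .nil .nil) (.node 107 [(106,(Int.negSucc 0))] .nil .nil)) (.node 119 [(117,(Int.ofNat 1))] (.node 116 [(115,(Int.negSucc 0))] .nil .nil) .nil)))) (.node 183 [(182,(Int.ofNat 1))] (.node 154 [(153,(Int.ofNat 1))] (.node 139 [(138,(Int.ofNat 1))] (.node 128 [(127,(Int.ofNat 1))] (.node 124 [(123,(Int.ofNat 1))] .nil .nil) (.node 133 [(132,(Int.ofNat 1))] .nil .nil)) (.node 150 [(149,(Int.ofNat 1))] (.node 145 [(144,(Int.ofNat 1))] .nil .nil) .nil)) (.node 172 [(171,(Int.ofNat 1))] (.node 161 [(160,(Int.ofNat 1))] (.node 157 [(156,(Int.ofNat 1))] .nil .nil) (.node 167 [(166,(Int.ofNat 1))] .nil .nil)) (.node 179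 [(178,(Int.ofNat 1))] (.node 176 [(175,(Int.ofNat 1))] .nil .nil) .nil))) (.node 205 [(204,(Int.ofNat 1))] (.node 195 [(194,(Int.ofNat 1))] (.node 189 [(188,(Int.ofNat 1))] (.node 186 [(185,(Int.ofNat 1))] .nil .nil) (.node 193 [(192,(Int.ofNat 1))] .nil .nil)) (.node 202 [(201,(Int.ofNat 1))] (.node 199 [(198,(Int.ofNat 1))] .nil .nil) .nil)) (.node 221 [(220,(Int.ofNat 1))] (.node 212 [(211,(Int.ofNat 1))] (.node 209 [(208,(Int.ofNat 1))] .nil .nil) (.node 216 [(215,(Int.ofNat 1))] .nil .nil)) (.node 238 [(237,(Int.ofNat 1))] (.node 228 [(227,(Int.ofNat 1))] .nil .nil) .nil)))))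
noncomputable def ch119 : Tr (List (ℕ × ℤ)) := (.node 122 [(121,(Int.ofNat 1))] (.node 60 [(59,(Int.negSucc 0))] (.node 39 [(38,(Int.negSucc 0))] (.node 25 [(24,(Int.negSucc 0))] (.node 13 [(12,(Int.negSucc 0))] (.node 1 [(0,(Int.negSucc 0))] .nil .nil) (.node 20 [(19,(Int.negSucc 0))] .nil .nil)) (.node 32 [(31,(Int.negSucc 0))] (.node 29 [(28,(Int.negSucc 0))] .nil .nil) (.node 34 [(33,(Int.negSucc 0))] .nil .nil))) (.node 50 [(49,(Int.negSucc 0))] (.node 44 [(43,(Int.negSucc 0))] (.node 42 [(41,(Int.negSucc 0))] .nil .nil) (.node 48 [(47,(Int.negSucc 0))] .nil .nil)) (.node 58 [(57,(Int.negSucc 0))] (.node 53 [(52,(Int.negSucc 0))] .nil .nil) .nil))) (.node 89 [(88,(Int.negSucc 0))] (.node 80 [(79,(Int.negSucc 0))] (.node 67 [(66,(Int.negSucc 0))] (.node 63 [(62,(Int.negSucc 0))] .nil .nil) (.node 72 [(71,(Int.negSucc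 0))] .nil .nil)) (.node 85 [(84,(Int.negSucc 0))] (.node 82 [(81,(Int.negSucc 0))] .nil .nil) .nil)) (.node 111 [(110,(Int.negSucc 0))] (.node 100 [(99,(Int.negSucc 0))] (.node 94 [(93,(Int.negSucc 0))] .nil .nil) (.node 106 [(105,(Int.negSucc 0))] .nil .nil)) (.node 118 [(117,(Int.negSucc 0))] (.node 115 [(114,(Int.negSucc 0))] .nil .nil) .nil)))) (.node 182 [(181,(Int.ofNat 1))] (.node 155 [(154,(Int.ofNat 1))] (.node 140 [(139,(Int.ofNat 1))] (.node 129 [(128,(Int.ofNat 1))] (.node 125 [(124,(Int.ofNat 1))] .nil .nil) (.node 134 [(133,(Int.ofNat 1))] .nil .nil)) (.node 151 [(150,(Int.ofNat 1))] (.node 146 [(145,(Int.ofNat 1))] .nil .nil) .nil)) (.node 173 [(172,(Int.ofNat 1))] (.node 160 [(159,(Int.ofNat 1))] (.node 158 [(157,(Int.ofNat 1))] .nil .nil) (.node 168 [(167,(Int.ofNat 1))] .nil .nil)) (.node 180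 [(179,(Int.ofNat 1))] (.node 177 [(176,(Int.ofNat 1))] .nil .nil) .nil))) (.node 206 [(205,(Int.ofNat 1))] (.node 196 [(195,(Int.ofNat 1))] (.node 190 [(189,(Int.ofNat 1))] (.node 187 [(186,(Int.ofNat 1))] .nil .nil) (.node 192 [(191,(Int.ofNat 1))] .nil .nil)) (.node 201 [(200,(Int.ofNat 1))] (.node 198 [(197,(Int.ofNat 1))] .nil .nil) .nil)) (.node 220 [(219,(Int.ofNat 1))] (.node 211 [(210,(Int.ofNat 1))] (.node 208 [(207,(Int.ofNat 1))] .nil .nil) (.node 215 [(214,(Int.ofNat 1))] .nil .nil)) (.node 239 [(238,(Int.ofNat 1))] (.node 227 [(226,(Int.ofNat 1))] .nil .nil) .nil)))))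
noncomputable def ch120 : Tr (List (ℕ × ℤ)) := (.node 121 [(122,(Int.ofNat 1))] (.node 59 [(60,(Int.negSucc 0))] (.node 38 [(39,(Int.negSucc 0))] (.node 24 [(25,(Int.negSucc 0))] (.node 12 [(13,(Int.negSucc 0))] (.node 0 [(1,(Int.negSucc 0))] .nil .nil) (.node 19 [(20,(Int.negSucc 0))] .nil .nil)) (.node 31 [(32,(Int.negSucc 0))] (.node 28 [(29,(Int.negSucc 0))] .nil .nil) (.node 33 [(34,(Int.negSucc 0))] .nil .nil))) (.node 49 [(50,(Int.negSucc 0))] (.node 43 [(44,(Int.negSucc 0))] (.node 41 [(42,(Int.negSucc 0))] .nil .nil) (.node 47 [(48,(Int.negSucc 0))] .nil .nil)) (.node 57 [(58,(Int.negSucc 0))] (.node 52 [(53,(Int.negSucc 0))] .nil .nil) .nil))) (.node 88 [(89,(Int.negSucc 0))] (.node 79 [(80,(Int.negSucc 0))] (.node 66 [(67,(Int.negSucc 0))] (.node 62 [(63,(Int.negSucc 0))] .nil .nil) (.node 71 [(72,(Int.negSucc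 0))] .nil .nil)) (.node 84 [(85,(Int.negSucc 0))] (.node 81 [(82,(Int.negSucc 0))] .nil .nil) .nil)) (.node 110 [(111,(Int.negSucc 0))] (.node 99 [(100,(Int.negSucc 0))] (.node 93 [(94,(Int.negSucc 0))] .nil .nil) (.node 105 [(106,(Int.negSucc 0))] .nil .nil)) (.node 117 [(118,(Int.negSucc 0))] (.node 114 [(115,(Int.negSucc 0))] .nil .nil) .nil)))) (.node 181 [(182,(Int.ofNat 1))] (.node 154 [(155,(Int.ofNat 1))] (.node 139 [(140,(Int.ofNat 1))] (.node 128 [(129,(Int.ofNat 1))] (.node 124 [(125,(Int.ofNat 1))] .nil .nil) (.node 133 [(134,(Int.ofNat 1))] .nil .nil)) (.node 150 [(151,(Int.ofNat 1))] (.node 145 [(146,(Int.ofNat 1))] .nil .nil) .nil)) (.node 172 [(173,(Int.ofNat 1))] (.node 159 [(160,(Int.ofNat 1))] (.node 157 [(158,(Int.ofNat 1))] .nil .nil) (.node 167 [(168,(Int.ofNat 1))] .nil .nil)) (.node 179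 [(180,(Int.ofNat 1))] (.node 176 [(177,(Int.ofNat 1))] .nil .nil) .nil))) (.node 205 [(206,(Int.ofNat 1))] (.node 195 [(196,(Int.ofNat 1))] (.node 189 [(190,(Int.ofNat 1))] (.node 186 [(187,(Int.ofNat 1))] .nil .nil) (.node 191 [(192,(Int.ofNat 1))] .nil .nil)) (.node 200 [(201,(Int.ofNat 1))] (.node 197 [(198,(Int.ofNat 1))] .nil .nil) .nil)) (.node 219 [(220,(Int.ofNat 1))] (.node 210 [(211,(Int.ofNat 1))] (.node 207 [(208,(Int.ofNat 1))] .nil .nil) (.node 214 [(215,(Int.ofNat 1))] .nil .nil)) (.node 238 [(239,(Int.ofNat 1))] (.node 226 [(227,(Int.ofNat 1))] .nil .nil) .nil)))))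
noncomputable def ch121 : Tr (List (ℕ × ℤ)) := (.node 120 [(122,(Int.negSucc 0))] (.node 60 [(61,(Int.negSucc 0))] (.node 37 [(38,(Int.negSucc 0))] (.node 23 [(24,(Int.negSucc 0))] (.node 11 [(12,(Int.negSucc 0))] (.node 1 [(2,(Int.negSucc 0))] .nil .nil) (.node 18 [(19,(Int.negSucc 0))] .nil .nil)) (.node 30 [(31,(Int.negSucc 0))] (.node 27 [(28,(Int.negSucc 0))] .nil .nil) (.node 34 [(35,(Int.negSucc 0))] .nil .nil))) (.node 50 [(51,(Int.negSucc 0))] (.node 44 [(45,(Int.negSucc 0))] (.node 40 [(41,(Int.negSucc 0))] .nil .nil) (.node 46 [(47,(Int.negSucc 0))] .nil .nil)) (.node 56 [(57,(Int.negSucc 0))] (.node 53 [(54,(Int.negSucc 0))] .nil .nil) .nil))) (.node 89 [(90,(Int.negSucc 0))] (.node 78 [(79,(Int.negSucc 0))] (.node 67 [(68,(Int.negSucc 0))] (.node 63 [(64,(Int.negSucc 0))] .nil .nil) (.node 72 [(73,(Int.negSucc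 0))] .nil .nil)) (.node 85 [(86,(Int.negSucc 0))] (.node 82 [(83,(Int.negSucc 0))] .nil .nil) .nil)) (.node 111 [(112,(Int.negSucc 0))] (.node 100 [(101,(Int.negSucc 0))] (.node 94 [(95,(Int.negSucc 0))] .nil .nil) (.node 106 [(107,(Int.negSucc 0))] .nil .nil)) (.node 117 [(119,(Int.ofNat 1))] (.node 115 [(116,(Int.negSucc 0))] .nil .nil) .nil)))) (.node 182 [(183,(Int.ofNat 1))] (.node 153 [(154,(Int.ofNat 1))] (.node 138 [(139,(Int.ofNat 1))] (.node 127 [(128,(Int.ofNat 1))] (.node 123 [(124,(Int.ofNat 1))] .nil .nil) (.node 132 [(133,(Int.ofNat 1))] .nil .nil)) (.node 149 [(150,(Int.ofNat 1))] (.node 144 [(145,(Int.ofNat 1))] .nil .nil) .nil)) (.node 171 [(172,(Int.ofNat 1))] (.node 160 [(161,(Int.ofNat 1))] (.node 156 [(157,(Int.ofNat 1))] .nil .nil) (.node 166 [(167,(Int.ofNat 1))] .nil .nil)) (.node 178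 [(179,(Int.ofNat 1))] (.node 175 [(176,(Int.ofNat 1))] .nil .nil) .nil))) (.node 204 [(205,(Int.ofNat 1))] (.node 194 [(195,(Int.ofNat 1))] (.node 188 [(189,(Int.ofNat 1))] (.node 185 [(186,(Int.ofNat 1))] .nil .nil) (.node 192 [(193,(Int.ofNat 1))] .nil .nil)) (.node 201 [(202,(Int.ofNat 1))] (.node 198 [(199,(Int.ofNat 1))] .nil .nil) .nil)) (.node 220 [(221,(Int.ofNat 1))] (.node 211 [(212,(Int.ofNat 1))] (.node 208 [(209,(Int.ofNat 1))] .nil .nil) (.node 215 [(216,(Int.ofNat 1))] .nil .nil)) (.node 237 [(238,(Int.ofNat 1))] (.node 227 [(228,(Int.ofNat 1))] .nil .nil) .nil)))))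
noncomputable def ch122 : Tr (List (ℕ × ℤ)) := (.node 119 [(121,(Int.negSucc 0))] (.node 59 [(61,(Int.negSucc 0))] (.node 37 [(39,(Int.ofNat 1))] (.node 23 [(25,(Int.ofNat 1))] (.node 11 [(13,(Int.ofNat 1))] (.node 0 [(2,(Int.negSucc 0))] .nil .nil) (.node 18 [(20,(Int.ofNat 1))] .nil .nil)) (.node 30 [(32,(Int.ofNat 1))] (.node 27 [(29,(Int.ofNat 1))] .nil .nil) (.node 33 [(35,(Int.negSucc 0))] .nil .nil))) (.node 49 [(51,(Int.negSucc 0))] (.node 43 [(45,(Int.negSucc 0))] (.node 40 [(42,(Int.ofNat 1))] .nil .nil) (.node 46 [(48,(Int.ofNat 1))] .nil .nil)) (.node 56 [(58,(Int.ofNat 1))] (.node 52 [(54,(Int.negSucc 0))] .nil .nil) .nil))) (.node 88 [(90,(Int.negSucc 0))] (.node 78 [(80,(Int.ofNat 1))] (.node 66 [(68,(Int.negSucc 0))] (.node 62 [(64,(Int.negSucc 0))] .nil .nil) (.node 71 [(73,(Int.negSucc 0))] .nil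 .nil)) (.node 84 [(86,(Int.negSucc 0))] (.node 81 [(83,(Int.negSucc 0))] .nil .nil) .nil)) (.node 110 [(112,(Int.negSucc 0))] (.node 99 [(101,(Int.negSucc 0))] (.node 93 [(95,(Int.negSucc 0))] .nil .nil) (.node 105 [(107,(Int.negSucc 0))] .nil .nil)) (.node 118 [(120,(Int.ofNat 1))] (.node 114 [(116,(Int.negSucc 0))] .nil .nil) .nil)))) (.node 181 [(183,(Int.negSucc 0))] (.node 153 [(155,(Int.ofNat 1))] (.node 138 [(140,(Int.ofNat 1))] (.node 127 [(129,(Int.ofNat 1))] (.node 123 [(125,(Int.ofNat 1))] .nil .nil) (.node 132 [(134,(Int.ofNat 1))] .nil .nil)) (.node 149 [(151,(Int.ofNat 1))] (.node 144 [(146,(Int.ofNat 1))] .nil .nil) .nil)) (.node 171 [(173,(Int.ofNat 1))] (.node 159 [(161,(Int.negSucc 0))] (.node 156 [(158,(Int.ofNat 1))] .nil .nil) (.node 166 [(168,(Int.ofNat 1))] .nil .nil)) (.node 178 [(180,(Int.ofNat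 1))] (.node 175 [(177,(Int.ofNat 1))] .nil .nil) .nil))) (.node 204 [(206,(Int.ofNat 1))] (.node 194 [(196,(Int.ofNat 1))] (.node 188 [(190,(Int.ofNat 1))] (.node 185 [(187,(Int.ofNat 1))] .nil .nil) (.node 191 [(193,(Int.negSucc 0))] .nil .nil)) (.node 200 [(202,(Int.negSucc 0))] (.node 197 [(199,(Int.negSucc 0))] .nil .nil) .nil)) (.node 219 [(221,(Int.negSucc 0))] (.node 210 [(212,(Int.negSucc 0))] (.node 207 [(209,(Int.negSucc 0))] .nil .nil) (.node 214 [(216,(Int.negSucc 0))] .nil .nil)) (.node 237 [(239,(Int.ofNat 1))] (.node 226 [(228,(Int.negSucc 0))] .nil .nil) .nil)))))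
noncomputable def ch123 : Tr (List (ℕ × ℤ)) := (.node 121 [(124,(Int.negSucc 0))] (.node 58 [(60,(Int.negSucc 0))] (.node 36 [(37,(Int.negSucc 0))] (.node 22 [(23,(Int.negSucc 0))] (.node 10 [(11,(Int.negSucc 0))] (.node 2 [(3,(Int.negSucc 0))] .nil .nil) (.node 17 [(18,(Int.negSucc 0))] .nil .nil)) (.node 31 [(33,(Int.negSucc 0))] (.node 26 [(27,(Int.negSucc 0))] .nil .nil) (.node 32 [(34,(Int.negSucc 0))] .nil .nil))) (.node 48 [(50,(Int.negSucc 0))] (.node 42 [(44,(Int.negSucc 0))] (.node 41 [(43,(Int.negSucc 0))] .nil .nil) (.node 47 [(49,(Int.negSucc 0))] .nil .nil)) (.node 57 [(59,(Int.negSucc 0))] (.node 54 [(55,(Int.negSucc 0))] .nil .nil) .nil))) (.node 90 [(91,(Int.negSucc 0))] (.node 79 [(81,(Int.negSucc 0))] (.node 68 [(69,(Int.negSucc 0))] (.node 64 [(65,(Int.negSucc 0))] .nil .nil) (.node 73 [(74,(Int.negSucc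 0))] .nil .nil)) (.node 86 [(87,(Int.negSucc 0))] (.node 80 [(82,(Int.negSucc 0))] .nil .nil) .nil)) (.node 112 [(113,(Int.negSucc 0))] (.node 101 [(102,(Int.negSucc 0))] (.node 95 [(96,(Int.negSucc 0))] .nil .nil) (.node 107 [(108,(Int.negSucc 0))] .nil .nil)) (.node 115 [(118,(Int.ofNat 1))] (.node 114 [(117,(Int.ofNat 1))] .nil .nil) .nil)))) (.node 180 [(182,(Int.ofNat 1))] (.node 152 [(153,(Int.ofNat 1))] (.node 137 [(138,(Int.ofNat 1))] (.node 126 [(127,(Int.ofNat 1))] (.node 122 [(125,(Int.negSucc 0))] .nil .nil) (.node 131 [(132,(Int.ofNat 1))] .nil .nil)) (.node 148 [(149,(Int.ofNat 1))] (.node 143 [(144,(Int.ofNat 1))] .nil .nil) .nil)) (.node 170 [(171,(Int.ofNat 1))] (.node 158 [(160,(Int.ofNat 1))] (.node 157 [(159,(Int.ofNat 1))] .nil .nil) (.node 165 [(166,(Int.ofNat 1))] .nil .nil)) (.node 179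 [(181,(Int.ofNat 1))] (.node 174 [(175,(Int.ofNat 1))] .nil .nil) .nil))) (.node 205 [(207,(Int.ofNat 1))] (.node 195 [(197,(Int.ofNat 1))] (.node 189 [(191,(Int.ofNat 1))] (.node 184 [(185,(Int.ofNat 1))] .nil .nil) (.node 190 [(192,(Int.ofNat 1))] .nil .nil)) (.node 202 [(203,(Int.ofNat 1))] (.node 196 [(198,(Int.ofNat 1))] .nil .nil) .nil)) (.node 221 [(222,(Int.ofNat 1))] (.node 212 [(213,(Int.ofNat 1))] (.node 206 [(208,(Int.ofNat 1))] .nil .nil) (.node 216 [(217,(Int.ofNat 1))] .nil .nil)) (.node 236 [(237,(Int.ofNat 1))] (.node 228 [(229,(Int.ofNat 1))] .nil .nil) .nil)))))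
noncomputable def ch124 : Tr (List (ℕ × ℤ)) := (.node 118 [(123,(Int.negSucc 0))] (.node 58 [(61,(Int.ofNat 1))] (.node 36 [(38,(Int.ofNat 1))] (.node 22 [(24,(Int.ofNat 1))] (.node 10 [(12,(Int.ofNat 1))] (.node 1 [(3,(Int.negSucc 0))] .nil .nil) (.node 17 [(19,(Int.ofNat 1))] .nil .nil)) (.node 30 [(33,(Int.negSucc 0))] (.node 26 [(28,(Int.ofNat 1))] .nil .nil) (.node 32 [(35,(Int.ofNat 1))] .nil .nil))) (.node 48 [(51,(Int.ofNat 1))] (.node 42 [(45,(Int.ofNat 1))] (.node 40 [(43,(Int.negSucc 0))] .nil .nil) (.node 46 [(49,(Int.negSucc 0))] .nil .nil)) (.node 56 [(59,(Int.negSucc 0))] (.node 53 [(55,(Int.negSucc 0))] .nil .nil) .nil))) (.node 89 [(91,(Int.negSucc 0))] (.node 78 [(81,(Int.negSucc 0))] (.node 67 [(69,(Int.negSucc 0))] (.node 63 [(65,(Int.negSucc 0))] .nil .nil) (.node 72 [(74,(Int.negSucc 0))]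 .nil .nil)) (.node 85 [(87,(Int.negSucc 0))] (.node 80 [(83,(Int.ofNat 1))] .nil .nil) .nil)) (.node 111 [(113,(Int.negSucc 0))] (.node 100 [(102,(Int.negSucc 0))] (.node 94 [(96,(Int.negSucc 0))] .nil .nil) (.node 106 [(108,(Int.negSucc 0))] .nil .nil)) (.node 116 [(121,(Int.ofNat 1))] (.node 114 [(119,(Int.ofNat 1))] .nil .nil) .nil)))) (.node 180 [(183,(Int.ofNat 1))] (.node 152 [(154,(Int.ofNat 1))] (.node 137 [(139,(Int.ofNat 1))] (.node 126 [(128,(Int.ofNat 1))] (.node 120 [(125,(Int.negSucc 0))] .nil .nil) (.node 131 [(133,(Int.ofNat 1))] .nil .nil)) (.node 148 [(150,(Int.ofNat 1))] (.node 143 [(145,(Int.ofNat 1))] .nil .nil) .nil)) (.node 170 [(172,(Int.ofNat 1))] (.node 158 [(161,(Int.ofNat 1))] (.node 156 [(159,(Int.negSucc 0))] .nil .nil) (.node 165 [(167,(Int.ofNat 1))] .nil .nil)) (.node 178 [(181,(Int.negSucc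 0))] (.node 174 [(176,(Int.ofNat 1))] .nil .nil) .nil))) (.node 204 [(207,(Int.negSucc 0))] (.node 194 [(197,(Int.negSucc 0))] (.node 188 [(191,(Int.negSucc 0))] (.node 184 [(186,(Int.ofNat 1))] .nil .nil) (.node 190 [(193,(Int.ofNat 1))] .nil .nil)) (.node 201 [(203,(Int.negSucc 0))] (.node 196 [(199,(Int.ofNat 1))] .nil .nil) .nil)) (.node 220 [(222,(Int.negSucc 0))] (.node 211 [(213,(Int.negSucc 0))] (.node 206 [(209,(Int.ofNat 1))] .nil .nil) (.node 215 [(217,(Int.negSucc 0))] .nil .nil)) (.node 236 [(238,(Int.ofNat 1))] (.node 227 [(229,(Int.negSucc 0))] .nil .nil) .nil)))))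
noncomputable def ch125 : Tr (List (ℕ × ℤ)) := (.node 117 [(123,(Int.negSucc 0))] (.node 57 [(61,(Int.ofNat 1))] (.node 36 [(39,(Int.negSucc 0))] (.node 22 [(25,(Int.negSucc 0))] (.node 10 [(13,(Int.negSucc 0))] (.node 0 [(3,(Int.negSucc 0))] .nil .nil) (.node 17 [(20,(Int.negSucc 0))] .nil .nil)) (.node 30 [(34,(Int.ofNat 1))] (.node 26 [(29,(Int.negSucc 0))] .nil .nil) (.node 31 [(35,(Int.ofNat 1))] .nil .nil))) (.node 47 [(51,(Int.ofNat 1))] (.node 41 [(45,(Int.ofNat 1))] (.node 40 [(44,(Int.ofNat 1))] .nil .nil) (.node 46 [(50,(Int.ofNat 1))] .nil .nil)) (.node 56 [(60,(Int.ofNat 1))] (.node 52 [(55,(Int.negSucc 0))] .nil .nil) .nil))) (.node 88 [(91,(Int.negSucc 0))] (.node 78 [(82,(Int.ofNat 1))] (.node 66 [(69,(Int.negSucc 0))] (.node 62 [(65,(Int.negSucc 0))] .nil .nil) (.node 71 [(74,(Int.negSucc 0))]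 .nil .nil)) (.node 84 [(87,(Int.negSucc 0))] (.node 79 [(83,(Int.ofNat 1))] .nil .nil) .nil)) (.node 110 [(113,(Int.negSucc 0))] (.node 99 [(102,(Int.negSucc 0))] (.node 93 [(96,(Int.negSucc 0))] .nil .nil) (.node 105 [(108,(Int.negSucc 0))] .nil .nil)) (.node 116 [(122,(Int.ofNat 1))] (.node 115 [(120,(Int.ofNat 1))] .nil .nil) .nil)))) (.node 179 [(183,(Int.negSucc 0))] (.node 152 [(155,(Int.ofNat 1))] (.node 137 [(140,(Int.ofNat 1))] (.node 126 [(129,(Int.ofNat 1))] (.node 119 [(124,(Int.negSucc 0))] .nil .nil) (.node 131 [(134,(Int.ofNat 1))] .nil .nil)) (.node 148 [(151,(Int.ofNat 1))] (.node 143 [(146,(Int.ofNat 1))] .nil .nil) .nil)) (.node 170 [(173,(Int.ofNat 1))] (.node 157 [(161,(Int.negSucc 0))] (.node 156 [(160,(Int.negSucc 0))] .nil .nil) (.node 165 [(168,(Int.ofNat 1))] .nil .nil)) (.node 178 [(182,(Int.negSucc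 0))] (.node 174 [(177,(Int.ofNat 1))] .nil .nil) .nil))) (.node 204 [(208,(Int.negSucc 0))] (.node 194 [(198,(Int.negSucc 0))] (.node 188 [(192,(Int.negSucc 0))] (.node 184 [(187,(Int.ofNat 1))] .nil .nil) (.node 189 [(193,(Int.negSucc 0))] .nil .nil)) (.node 200 [(203,(Int.ofNat 1))] (.node 195 [(199,(Int.negSucc 0))] .nil .nil) .nil)) (.node 219 [(222,(Int.ofNat 1))] (.node 210 [(213,(Int.ofNat 1))] (.node 205 [(209,(Int.negSucc 0))] .nil .nil) (.node 214 [(217,(Int.ofNat 1))] .nil .nil)) (.node 236 [(239,(Int.ofNat 1))] (.node 226 [(229,(Int.ofNat 1))] .nil .nil) .nil)))))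
noncomputable def ch126 : Tr (List (ℕ × ℤ)) := (.node 123 [(127,(Int.negSucc 0))] (.node 60 [(63,(Int.negSucc 0))] (.node 37 [(40,(Int.negSucc 0))] (.node 21 [(22,(Int.negSucc 0))] (.node 9 [(10,(Int.negSucc 0))] (.node 3 [(4,(Int.negSucc 0))] .nil .nil) (.node 16 [(17,(Int.negSucc 0))] .nil .nil)) (.node 28 [(31,(Int.negSucc 0))] (.node 27 [(30,(Int.negSucc 0))] .nil .nil) (.node 29 [(32,(Int.negSucc 0))] .nil .nil))) (.node 50 [(53,(Int.negSucc 0))] (.node 39 [(42,(Int.negSucc 0))] (.node 38 [(41,(Int.negSucc 0))] .nil .nil) (.node 49 [(52,(Int.negSucc 0))] .nil .nil)) (.node 59 [(62,(Int.negSucc 0))] (.node 51 [(54,(Int.negSucc 0))] .nil .nil) .nil))) (.node 91 [(92,(Int.negSucc 0))] (.node 81 [(84,(Int.negSucc 0))] (.node 69 [(70,(Int.negSucc 0))] (.node 61 [(64,(Int.negSucc 0))] .nil .nil) (.node 74 [(75,(Int.negSucc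 0))] .nil .nil)) (.node 83 [(86,(Int.negSucc 0))] (.node 82 [(85,(Int.negSucc 0))] .nil .nil) .nil)) (.node 110 [(114,(Int.ofNat 1))] (.node 102 [(103,(Int.negSucc 0))] (.node 96 [(97,(Int.negSucc 0))] .nil .nil) (.node 108 [(109,(Int.negSucc 0))] .nil .nil)) (.node 112 [(116,(Int.ofNat 1))] (.node 111 [(115,(Int.ofNat 1))] .nil .nil) .nil)))) (.node 177 [(180,(Int.ofNat 1))] (.node 153 [(156,(Int.ofNat 1))] (.node 136 [(137,(Int.ofNat 1))] (.node 125 [(129,(Int.negSucc 0))] (.node 124 [(128,(Int.negSucc 0))] .nil .nil) (.node 130 [(131,(Int.ofNat 1))] .nil .nil)) (.node 147 [(148,(Int.ofNat 1))] (.node 142 [(143,(Int.ofNat 1))] .nil .nil) .nil)) (.node 169 [(170,(Int.ofNat 1))] (.node 155 [(158,(Int.ofNat 1))] (.node 154 [(157,(Int.ofNat 1))] .nil .nil) (.node 164 [(165,(Int.ofNat 1))] .nil .nil)) (.node 176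 [(179,(Int.ofNat 1))] (.node 175 [(178,(Int.ofNat 1))] .nil .nil) .nil))) (.node 207 [(210,(Int.ofNat 1))] (.node 197 [(200,(Int.ofNat 1))] (.node 186 [(189,(Int.ofNat 1))] (.node 185 [(188,(Int.ofNat 1))] .nil .nil) (.node 187 [(190,(Int.ofNat 1))] .nil .nil)) (.node 199 [(202,(Int.ofNat 1))] (.node 198 [(201,(Int.ofNat 1))] .nil .nil) .nil)) (.node 222 [(223,(Int.ofNat 1))] (.node 209 [(212,(Int.ofNat 1))] (.node 208 [(211,(Int.ofNat 1))] .nil .nil) (.node 217 [(218,(Int.ofNat 1))] .nil .nil)) (.node 235 [(236,(Int.ofNat 1))] (.node 229 [(230,(Int.ofNat 1))] .nil .nil) .nil)))))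
noncomputable def ch127 : Tr (List (ℕ × ℤ)) := (.node 116 [(126,(Int.negSucc 0))] (.node 58 [(63,(Int.negSucc 0))] (.node 36 [(40,(Int.negSucc 0))] (.node 21 [(23,(Int.ofNat 1))] (.node 9 [(11,(Int.ofNat 1))] (.node 2 [(4,(Int.negSucc 0))] .nil .nil) (.node 16 [(18,(Int.ofNat 1))] .nil .nil)) (.node 28 [(33,(Int.ofNat 1))] (.node 26 [(30,(Int.negSucc 0))] .nil .nil) (.node 29 [(34,(Int.ofNat 1))] .nil .nil))) (.node 48 [(53,(Int.negSucc 0))] (.node 39 [(44,(Int.ofNat 1))] (.node 38 [(43,(Int.ofNat 1))] .nil .nil) (.node 47 [(52,(Int.negSucc 0))] .nil .nil)) (.node 57 [(62,(Int.negSucc 0))] (.node 51 [(55,(Int.ofNat 1))] .nil .nil) .nil))) (.node 90 [(92,(Int.negSucc 0))] (.node 79 [(84,(Int.negSucc 0))] (.node 68 [(70,(Int.negSucc 0))] (.node 61 [(65,(Int.ofNat 1))] .nil .nil) (.node 73 [(75,(Int.negSucc 0))]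 .nil .nil)) (.node 83 [(87,(Int.ofNat 1))] (.node 80 [(85,(Int.negSucc 0))] .nil .nil) .nil)) (.node 110 [(117,(Int.ofNat 1))] (.node 101 [(103,(Int.negSucc 0))] (.node 95 [(97,(Int.negSucc 0))] .nil .nil) (.node 107 [(109,(Int.negSucc 0))] .nil .nil)) (.node 113 [(123,(Int.ofNat 1))] (.node 111 [(118,(Int.ofNat 1))] .nil .nil) .nil)))) (.node 177 [(182,(Int.ofNat 1))] (.node 152 [(156,(Int.negSucc 0))] (.node 136 [(138,(Int.ofNat 1))] (.node 122 [(129,(Int.negSucc 0))] (.node 121 [(128,(Int.negSucc 0))] .nil .nil) (.node 130 [(132,(Int.ofNat 1))] .nil .nil)) (.node 147 [(149,(Int.ofNat 1))] (.node 142 [(144,(Int.ofNat 1))] .nil .nil) .nil)) (.node 169 [(171,(Int.ofNat 1))] (.node 155 [(160,(Int.ofNat 1))] (.node 154 [(159,(Int.ofNat 1))] .nil .nil) (.node 164 [(166,(Int.ofNat 1))] .nil .nil)) (.node 176 [(181,(Int.ofNat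 1))] (.node 174 [(178,(Int.negSucc 0))] .nil .nil) .nil))) (.node 205 [(210,(Int.negSucc 0))] (.node 195 [(200,(Int.negSucc 0))] (.node 186 [(191,(Int.ofNat 1))] (.node 184 [(188,(Int.negSucc 0))] .nil .nil) (.node 187 [(192,(Int.ofNat 1))] .nil .nil)) (.node 199 [(203,(Int.ofNat 1))] (.node 196 [(201,(Int.negSucc 0))] .nil .nil) .nil)) (.node 221 [(223,(Int.negSucc 0))] (.node 209 [(213,(Int.ofNat 1))] (.node 206 [(211,(Int.negSucc 0))] .nil .nil) (.node 216 [(218,(Int.negSucc 0))] .nil .nil)) (.node 235 [(237,(Int.ofNat 1))] (.node 228 [(230,(Int.negSucc 0))] .nil .nil) .nil)))))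
noncomputable def ch128 : Tr (List (ℕ × ℤ)) := (.node 115 [(126,(Int.negSucc 0))] (.node 58 [(64,(Int.ofNat 1))] (.node 36 [(41,(Int.ofNat 1))] (.node 21 [(24,(Int.negSucc 0))] (.node 9 [(12,(Int.negSucc 0))] (.node 1 [(4,(Int.negSucc 0))] .nil .nil) (.node 16 [(19,(Int.negSucc 0))] .nil .nil)) (.node 27 [(33,(Int.ofNat 1))] (.node 26 [(31,(Int.ofNat 1))] .nil .nil) (.node 29 [(35,(Int.negSucc 0))] .nil .nil))) (.node 48 [(54,(Int.ofNat 1))] (.node 39 [(45,(Int.negSucc 0))] (.node 37 [(43,(Int.ofNat 1))] .nil .nil) (.node 46 [(52,(Int.negSucc 0))] .nil .nil)) (.node 56 [(62,(Int.negSucc 0))] (.node 50 [(55,(Int.ofNat 1))] .nil .nil) .nil))) (.node 89 [(92,(Int.negSucc 0))] (.node 78 [(84,(Int.negSucc 0))] (.node 67 [(70,(Int.negSucc 0))] (.node 60 [(65,(Int.ofNat 1))] .nil .nil) (.node 72 [(75,(Int.negSucc 0))]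 .nil .nil)) (.node 82 [(87,(Int.ofNat 1))] (.node 80 [(86,(Int.ofNat 1))] .nil .nil) .nil)) (.node 110 [(119,(Int.ofNat 1))] (.node 100 [(103,(Int.negSucc 0))] (.node 94 [(97,(Int.negSucc 0))] .nil .nil) (.node 106 [(109,(Int.negSucc 0))] .nil .nil)) (.node 113 [(124,(Int.ofNat 1))] (.node 112 [(121,(Int.ofNat 1))] .nil .nil) .nil)))) (.node 177 [(183,(Int.ofNat 1))] (.node 152 [(157,(Int.negSucc 0))] (.node 136 [(139,(Int.ofNat 1))] (.node 120 [(129,(Int.negSucc 0))] (.node 118 [(127,(Int.negSucc 0))] .nil .nil) (.node 130 [(133,(Int.ofNat 1))] .nil .nil)) (.node 147 [(150,(Int.ofNat 1))] (.node 142 [(145,(Int.ofNat 1))] .nil .nil) .nil)) (.node 169 [(172,(Int.ofNat 1))] (.node 155 [(161,(Int.ofNat 1))] (.node 153 [(159,(Int.negSucc 0))] .nil .nil) (.node 164 [(167,(Int.ofNat 1))] .nil .nil)) (.node 175 [(181,(Int.negSucc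 0))] (.node 174 [(179,(Int.negSucc 0))] .nil .nil) .nil))) (.node 204 [(210,(Int.ofNat 1))] (.node 194 [(200,(Int.ofNat 1))] (.node 185 [(191,(Int.negSucc 0))] (.node 184 [(189,(Int.negSucc 0))] .nil .nil) (.node 187 [(193,(Int.ofNat 1))] .nil .nil)) (.node 198 [(203,(Int.negSucc 0))] (.node 196 [(202,(Int.negSucc 0))] .nil .nil) .nil)) (.node 220 [(223,(Int.ofNat 1))] (.node 208 [(213,(Int.negSucc 0))] (.node 206 [(212,(Int.negSucc 0))] .nil .nil) (.node 215 [(218,(Int.ofNat 1))] .nil .nil)) (.node 235 [(238,(Int.ofNat 1))] (.node 227 [(230,(Int.ofNat 1))] .nil .nil) .nil)))))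
noncomputable def ch129 : Tr (List (ℕ × ℤ)) := (.node 114 [(126,(Int.negSucc 0))] (.node 57 [(64,(Int.ofNat 1))] (.node 36 [(42,(Int.negSucc 0))] (.node 21 [(25,(Int.ofNat 1))] (.node 9 [(13,(Int.ofNat 1))] (.node 0 [(4,(Int.negSucc 0))] .nil .nil) (.node 16 [(20,(Int.ofNat 1))] .nil .nil)) (.node 27 [(34,(Int.negSucc 0))] (.node 26 [(32,(Int.negSucc 0))] .nil .nil) (.node 28 [(35,(Int.negSucc 0))] .nil .nil))) (.node 47 [(54,(Int.ofNat 1))] (.node 38 [(45,(Int.negSucc 0))] (.node 37 [(44,(Int.negSucc 0))] .nil .nil) (.node 46 [(53,(Int.ofNat 1))] .nil .nil)) (.node 56 [(63,(Int.ofNat 1))] (.node 49 [(55,(Int.ofNat 1))] .nil .nil) .nil))) (.node 88 [(92,(Int.negSucc 0))] (.node 78 [(85,(Int.ofNat 1))] (.node 66 [(70,(Int.negSucc 0))] (.node 59 [(65,(Int.ofNat 1))] .nil .nil) (.node 71 [(75,(Int.negSucc 0))] .nil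 .nil)) (.node 81 [(87,(Int.ofNat 1))] (.node 79 [(86,(Int.ofNat 1))] .nil .nil) .nil)) (.node 111 [(120,(Int.ofNat 1))] (.node 99 [(103,(Int.negSucc 0))] (.node 93 [(97,(Int.negSucc 0))] .nil .nil) (.node 105 [(109,(Int.negSucc 0))] .nil .nil)) (.node 113 [(125,(Int.ofNat 1))] (.node 112 [(122,(Int.ofNat 1))] .nil .nil) .nil)))) (.node 176 [(183,(Int.negSucc 0))] (.node 152 [(158,(Int.negSucc 0))] (.node 136 [(140,(Int.ofNat 1))] (.node 119 [(128,(Int.negSucc 0))] (.node 117 [(127,(Int.negSucc 0))] .nil .nil) (.node 130 [(134,(Int.ofNat 1))] .nil .nil)) (.node 147 [(151,(Int.ofNat 1))] (.node 142 [(146,(Int.ofNat 1))] .nil .nil) .nil)) (.node 169 [(173,(Int.ofNat 1))] (.node 154 [(161,(Int.negSucc 0))] (.node 153 [(160,(Int.negSucc 0))] .nil .nil) (.node 164 [(168,(Int.ofNat 1))] .nil .nil)) (.node 175 [(182,(Int.negSucc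 0))] (.node 174 [(180,(Int.negSucc 0))] .nil .nil) .nil))) (.node 204 [(211,(Int.ofNat 1))] (.node 194 [(201,(Int.ofNat 1))] (.node 185 [(192,(Int.negSucc 0))] (.node 184 [(190,(Int.negSucc 0))] .nil .nil) (.node 186 [(193,(Int.negSucc 0))] .nil .nil)) (.node 197 [(203,(Int.ofNat 1))] (.node 195 [(202,(Int.ofNat 1))] .nil .nil) .nil)) (.node 219 [(223,(Int.negSucc 0))] (.node 207 [(213,(Int.ofNat 1))] (.node 205 [(212,(Int.ofNat 1))] .nil .nil) (.node 214 [(218,(Int.negSucc 0))] .nil .nil)) (.node 235 [(239,(Int.ofNat 1))] (.node 226 [(230,(Int.negSucc 0))] .nil .nil) .nil)))))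
noncomputable def ch130 : Tr (List (ℕ × ℤ)) := (.node 126 [(131,(Int.negSucc 0))] (.node 63 [(67,(Int.negSucc 0))] (.node 40 [(46,(Int.negSucc 0))] (.node 22 [(26,(Int.negSucc 0))] (.node 8 [(9,(Int.negSucc 0))] (.node 4 [(5,(Int.negSucc 0))] .nil .nil) (.node 15 [(16,(Int.negSucc 0))] .nil .nil)) (.node 24 [(28,(Int.negSucc 0))] (.node 23 [(27,(Int.negSucc 0))] .nil .nil) (.node 25 [(29,(Int.negSucc 0))] .nil .nil))) (.node 44 [(50,(Int.negSucc 0))] (.node 42 [(48,(Int.negSucc 0))] (.node 41 [(47,(Int.negSucc 0))] .nil .nil) (.node 43 [(49,(Int.negSucc 0))] .nil .nil)) (.node 62 [(66,(Int.negSucc 0))] (.node 45 [(51,(Int.negSucc 0))] .nil .nil) .nil))) (.node 87 [(91,(Int.negSucc 0))] (.node 84 [(88,(Int.negSucc 0))] (.node 65 [(69,(Int.negSucc 0))] (.node 64 [(68,(Int.negSucc 0))] .nil .nil) (.node 75 [(76,(Int.negSucc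 0))] .nil .nil)) (.node 86 [(90,(Int.negSucc 0))] (.node 85 [(89,(Int.negSucc 0))] .nil .nil) .nil)) (.node 106 [(111,(Int.ofNat 1))] (.node 103 [(104,(Int.negSucc 0))] (.node 97 [(98,(Int.negSucc 0))] .nil .nil) (.node 105 [(110,(Int.ofNat 1))] .nil .nil)) (.node 108 [(113,(Int.ofNat 1))] (.node 107 [(112,(Int.ofNat 1))] .nil .nil) .nil)))) (.node 173 [(177,(Int.ofNat 1))] (.node 149 [(153,(Int.ofNat 1))] (.node 135 [(136,(Int.ofNat 1))] (.node 128 [(133,(Int.negSucc 0))] (.node 127 [(132,(Int.negSucc 0))] .nil .nil) (.node 129 [(134,(Int.negSucc 0))] .nil .nil)) (.node 148 [(152,(Int.ofNat 1))] (.node 141 [(142,(Int.ofNat 1))] .nil .nil) .nil)) (.node 170 [(174,(Int.ofNat 1))] (.node 151 [(155,(Int.ofNat 1))] (.node 150 [(154,(Int.ofNat 1))] .nil .nil) (.node 163 [(164,(Int.ofNat 1))] .nil .nil)) (.node 172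 [(176,(Int.ofNat 1))] (.node 171 [(175,(Int.ofNat 1))] .nil .nil) .nil))) (.node 210 [(214,(Int.ofNat 1))] (.node 191 [(197,(Int.ofNat 1))] (.node 189 [(195,(Int.ofNat 1))] (.node 188 [(194,(Int.ofNat 1))] .nil .nil) (.node 190 [(196,(Int.ofNat 1))] .nil .nil)) (.node 193 [(199,(Int.ofNat 1))] (.node 192 [(198,(Int.ofNat 1))] .nil .nil) .nil)) (.node 223 [(224,(Int.ofNat 1))] (.node 212 [(216,(Int.ofNat 1))] (.node 211 [(215,(Int.ofNat 1))] .nil .nil) (.node 213 [(217,(Int.ofNat 1))] .nil .nil)) (.node 234 [(235,(Int.ofNat 1))] (.node 230 [(231,(Int.ofNat 1))] .nil .nil) .nil)))))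
noncomputable def ch131 : Tr (List (ℕ × ℤ)) := (.node 113 [(130,(Int.negSucc 0))] (.node 60 [(67,(Int.negSucc 0))] (.node 37 [(46,(Int.negSucc 0))] (.node 21 [(26,(Int.negSucc 0))] (.node 8 [(10,(Int.ofNat 1))] (.node 3 [(5,(Int.negSucc 0))] .nil .nil) (.node 15 [(17,(Int.ofNat 1))] .nil .nil)) (.node 24 [(31,(Int.ofNat 1))] (.node 23 [(30,(Int.ofNat 1))] .nil .nil) (.node 25 [(32,(Int.ofNat 1))] .nil .nil))) (.node 44 [(53,(Int.ofNat 1))] (.node 39 [(48,(Int.negSucc 0))] (.node 38 [(47,(Int.negSucc 0))] .nil .nil) (.node 43 [(52,(Int.ofNat 1))] .nil .nil)) (.node 59 [(66,(Int.negSucc 0))] (.node 45 [(54,(Int.ofNat 1))] .nil .nil) .nil))) (.node 87 [(92,(Int.ofNat 1))] (.node 81 [(88,(Int.negSucc 0))] (.node 65 [(70,(Int.ofNat 1))] (.node 61 [(68,(Int.negSucc 0))] .nil .nil) (.node 74 [(76,(Int.negSucc 0))] .nil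 .nil)) (.node 83 [(90,(Int.negSucc 0))] (.node 82 [(89,(Int.negSucc 0))] .nil .nil) .nil)) (.node 106 [(115,(Int.ofNat 1))] (.node 102 [(104,(Int.negSucc 0))] (.node 96 [(98,(Int.negSucc 0))] .nil .nil) (.node 105 [(114,(Int.ofNat 1))] .nil .nil)) (.node 109 [(126,(Int.ofNat 1))] (.node 107 [(116,(Int.ofNat 1))] .nil .nil) .nil)))) (.node 173 [(180,(Int.ofNat 1))] (.node 149 [(156,(Int.ofNat 1))] (.node 135 [(137,(Int.ofNat 1))] (.node 124 [(133,(Int.negSucc 0))] (.node 123 [(132,(Int.negSucc 0))] .nil .nil) (.node 125 [(134,(Int.negSucc 0))] .nil .nil)) (.node 147 [(152,(Int.negSucc 0))] (.node 141 [(143,(Int.ofNat 1))] .nil .nil) .nil)) (.node 169 [(174,(Int.negSucc 0))] (.node 151 [(158,(Int.ofNat 1))] (.node 150 [(157,(Int.ofNat 1))] .nil .nil) (.node 163 [(165,(Int.ofNat 1))] .nil .nil)) (.node 172 [(179,(Int.ofNat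 1))] (.node 171 [(178,(Int.ofNat 1))] .nil .nil) .nil))) (.node 207 [(214,(Int.negSucc 0))] (.node 191 [(200,(Int.ofNat 1))] (.node 186 [(195,(Int.negSucc 0))] (.node 185 [(194,(Int.negSucc 0))] .nil .nil) (.node 187 [(196,(Int.negSucc 0))] .nil .nil)) (.node 193 [(202,(Int.ofNat 1))] (.node 192 [(201,(Int.ofNat 1))] .nil .nil) .nil)) (.node 222 [(224,(Int.negSucc 0))] (.node 209 [(216,(Int.negSucc 0))] (.node 208 [(215,(Int.negSucc 0))] .nil .nil) (.node 213 [(218,(Int.ofNat 1))] .nil .nil)) (.node 234 [(236,(Int.ofNat 1))] (.node 229 [(231,(Int.negSucc 0))] .nil .nil) .nil)))))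
noncomputable def ch132 : Tr (List (ℕ × ℤ)) := (.node 112 [(130,(Int.negSucc 0))] (.node 58 [(67,(Int.negSucc 0))] (.node 36 [(46,(Int.negSucc 0))] (.node 21 [(27,(Int.ofNat 1))] (.node 8 [(11,(Int.negSucc 0))] (.node 2 [(5,(Int.negSucc 0))] .nil .nil) (.node 15 [(18,(Int.negSucc 0))] .nil .nil)) (.node 24 [(33,(Int.negSucc 0))] (.node 22 [(30,(Int.ofNat 1))] .nil .nil) (.node 25 [(34,(Int.negSucc 0))] .nil .nil))) (.node 42 [(53,(Int.ofNat 1))] (.node 39 [(50,(Int.ofNat 1))] (.node 38 [(49,(Int.ofNat 1))] .nil .nil) (.node 41 [(52,(Int.ofNat 1))] .nil .nil)) (.node 57 [(66,(Int.negSucc 0))] (.node 45 [(55,(Int.negSucc 0))] .nil .nil) .nil))) (.node 86 [(92,(Int.ofNat 1))] (.node 79 [(88,(Int.negSucc 0))] (.node 64 [(70,(Int.ofNat 1))] (.node 61 [(69,(Int.ofNat 1))] .nil .nil) (.node 73 [(76,(Int.negSucc 0))]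 .nil .nil)) (.node 83 [(91,(Int.ofNat 1))] (.node 80 [(89,(Int.negSucc 0))] .nil .nil) .nil)) (.node 106 [(118,(Int.ofNat 1))] (.node 101 [(104,(Int.negSucc 0))] (.node 95 [(98,(Int.negSucc 0))] .nil .nil) (.node 105 [(117,(Int.ofNat 1))] .nil .nil)) (.node 109 [(127,(Int.ofNat 1))] (.node 108 [(123,(Int.ofNat 1))] .nil .nil) .nil)))) (.node 173 [(182,(Int.ofNat 1))] (.node 148 [(156,(Int.negSucc 0))] (.node 135 [(138,(Int.ofNat 1))] (.node 121 [(133,(Int.negSucc 0))] (.node 116 [(131,(Int.negSucc 0))] .nil .nil) (.node 122 [(134,(Int.negSucc 0))] .nil .nil)) (.node 147 [(153,(Int.negSucc 0))] (.node 141 [(144,(Int.ofNat 1))] .nil .nil) .nil)) (.node 169 [(175,(Int.negSucc 0))] (.node 151 [(160,(Int.ofNat 1))] (.node 150 [(159,(Int.ofNat 1))] .nil .nil) (.node 163 [(166,(Int.ofNat 1))] .nil .nil)) (.node 172 [(181,(Int.ofNat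 1))] (.node 170 [(178,(Int.negSucc 0))] .nil .nil) .nil))) (.node 205 [(214,(Int.ofNat 1))] (.node 189 [(200,(Int.negSucc 0))] (.node 186 [(197,(Int.negSucc 0))] (.node 184 [(194,(Int.ofNat 1))] .nil .nil) (.node 187 [(198,(Int.negSucc 0))] .nil .nil)) (.node 193 [(203,(Int.ofNat 1))] (.node 190 [(201,(Int.negSucc 0))] .nil .nil) .nil)) (.node 221 [(224,(Int.ofNat 1))] (.node 209 [(217,(Int.negSucc 0))] (.node 206 [(215,(Int.ofNat 1))] .nil .nil) (.node 212 [(218,(Int.negSucc 0))] .nil .nil)) (.node 234 [(237,(Int.ofNat 1))] (.node 228 [(231,(Int.ofNat 1))] .nil .nil) .nil)))))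
noncomputable def ch133 : Tr (List (ℕ × ℤ)) := (.node 111 [(130,(Int.negSucc 0))] (.node 58 [(68,(Int.ofNat 1))] (.node 36 [(47,(Int.ofNat 1))] (.node 21 [(28,(Int.negSucc 0))] (.node 8 [(12,(Int.ofNat 1))] (.node 1 [(5,(Int.negSucc 0))] .nil .nil) (.node 15 [(19,(Int.ofNat 1))] .nil .nil)) (.node 23 [(33,(Int.negSucc 0))] (.node 22 [(31,(Int.negSucc 0))] .nil .nil) (.node 25 [(35,(Int.ofNat 1))] .nil .nil))) (.node 42 [(54,(Int.negSucc 0))] (.node 39 [(51,(Int.negSucc 0))] (.node 37 [(49,(Int.ofNat 1))] .nil .nil) (.node 40 [(52,(Int.ofNat 1))] .nil .nil)) (.node 56 [(66,(Int.negSucc 0))] (.node 44 [(55,(Int.negSucc 0))] .nil .nil) .nil))) (.node 85 [(92,(Int.ofNat 1))] (.node 78 [(88,(Int.negSucc 0))] (.node 63 [(70,(Int.ofNat 1))] (.node 60 [(69,(Int.ofNat 1))] .nil .nil) (.node 72 [(76,(Int.negSucc 0))] .nil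 .nil)) (.node 82 [(91,(Int.ofNat 1))] (.node 80 [(90,(Int.ofNat 1))] .nil .nil) .nil)) (.node 107 [(121,(Int.ofNat 1))] (.node 100 [(104,(Int.negSucc 0))] (.node 94 [(98,(Int.negSucc 0))] .nil .nil) (.node 105 [(119,(Int.ofNat 1))] .nil .nil)) (.node 109 [(128,(Int.ofNat 1))] (.node 108 [(124,(Int.ofNat 1))] .nil .nil) .nil)))) (.node 173 [(183,(Int.ofNat 1))] (.node 148 [(157,(Int.negSucc 0))] (.node 135 [(139,(Int.ofNat 1))] (.node 118 [(132,(Int.negSucc 0))] (.node 115 [(131,(Int.negSucc 0))] .nil .nil) (.node 120 [(134,(Int.negSucc 0))] .nil .nil)) (.node 147 [(154,(Int.negSucc 0))] (.node 141 [(145,(Int.ofNat 1))] .nil .nil) .nil)) (.node 169 [(176,(Int.negSucc 0))] (.node 151 [(161,(Int.ofNat 1))] (.node 149 [(159,(Int.negSucc 0))] .nil .nil) (.node 163 [(167,(Int.ofNat 1))] .nil .nil)) (.node 171 [(181,(Int.negSucc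 0))] (.node 170 [(179,(Int.negSucc 0))] .nil .nil) .nil))) (.node 204 [(214,(Int.negSucc 0))] (.node 188 [(200,(Int.ofNat 1))] (.node 185 [(197,(Int.ofNat 1))] (.node 184 [(195,(Int.ofNat 1))] .nil .nil) (.node 187 [(199,(Int.negSucc 0))] .nil .nil)) (.node 192 [(203,(Int.negSucc 0))] (.node 190 [(202,(Int.negSucc 0))] .nil .nil) .nil)) (.node 220 [(224,(Int.negSucc 0))] (.node 208 [(217,(Int.ofNat 1))] (.node 206 [(216,(Int.ofNat 1))] .nil .nil) (.node 211 [(218,(Int.ofNat 1))] .nil .nil)) (.node 234 [(238,(Int.ofNat 1))] (.node 227 [(231,(Int.negSucc 0))] .nil .nil) .nil)))))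
noncomputable def ch134 : Tr (List (ℕ × ℤ)) := (.node 110 [(130,(Int.negSucc 0))] (.node 57 [(68,(Int.ofNat 1))] (.node 36 [(48,(Int.negSucc 0))] (.node 21 [(29,(Int.ofNat 1))] (.node 8 [(13,(Int.negSucc 0))] (.node 0 [(5,(Int.negSucc 0))] .nil .nil) (.node 15 [(20,(Int.negSucc 0))] .nil .nil)) (.node 23 [(34,(Int.ofNat 1))] (.node 22 [(32,(Int.ofNat 1))] .nil .nil) (.node 24 [(35,(Int.ofNat 1))] .nil .nil))) (.node 41 [(54,(Int.negSucc 0))] (.node 38 [(51,(Int.negSucc 0))] (.node 37 [(50,(Int.negSucc 0))] .nil .nil) (.node 40 [(53,(Int.negSucc 0))] .nil .nil)) (.node 56 [(67,(Int.ofNat 1))] (.node 43 [(55,(Int.negSucc 0))] .nil .nil) .nil))) (.node 84 [(92,(Int.ofNat 1))] (.node 78 [(89,(Int.ofNat 1))] (.node 62 [(70,(Int.ofNat 1))] (.node 59 [(69,(Int.ofNat 1))] .nil .nil) (.node 71 [(76,(Int.negSucc 0))] .nil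 .nil)) (.node 81 [(91,(Int.ofNat 1))] (.node 79 [(90,(Int.ofNat 1))] .nil .nil) .nil)) (.node 107 [(122,(Int.ofNat 1))] (.node 99 [(104,(Int.negSucc 0))] (.node 93 [(98,(Int.negSucc 0))] .nil .nil) (.node 106 [(120,(Int.ofNat 1))] .nil .nil)) (.node 109 [(129,(Int.ofNat 1))] (.node 108 [(125,(Int.ofNat 1))] .nil .nil) .nil)))) (.node 172 [(183,(Int.negSucc 0))] (.node 148 [(158,(Int.negSucc 0))] (.node 135 [(140,(Int.ofNat 1))] (.node 117 [(132,(Int.negSucc 0))] (.node 114 [(131,(Int.negSucc 0))] .nil .nil) (.node 119 [(133,(Int.negSucc 0))] .nil .nil)) (.node 147 [(155,(Int.negSucc 0))] (.node 141 [(146,(Int.ofNat 1))] .nil .nil) .nil)) (.node 169 [(177,(Int.negSucc 0))] (.node 150 [(161,(Int.negSucc 0))] (.node 149 [(160,(Int.negSucc 0))] .nil .nil) (.node 163 [(168,(Int.ofNat 1))] .nil .nil)) (.node 171 [(182,(Int.negSucc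 0))] (.node 170 [(180,(Int.negSucc 0))] .nil .nil) .nil))) (.node 204 [(215,(Int.negSucc 0))] (.node 188 [(201,(Int.ofNat 1))] (.node 185 [(198,(Int.ofNat 1))] (.node 184 [(196,(Int.ofNat 1))] .nil .nil) (.node 186 [(199,(Int.ofNat 1))] .nil .nil)) (.node 191 [(203,(Int.ofNat 1))] (.node 189 [(202,(Int.ofNat 1))] .nil .nil) .nil)) (.node 219 [(224,(Int.ofNat 1))] (.node 207 [(217,(Int.negSucc 0))] (.node 205 [(216,(Int.negSucc 0))] .nil .nil) (.node 210 [(218,(Int.negSucc 0))] .nil .nil)) (.node 234 [(239,(Int.ofNat 1))] (.node 226 [(231,(Int.ofNat 1))] .nil .nil) .nil)))))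
noncomputable def ch135 : Tr (List (ℕ × ℤ)) := (.node 130 [(136,(Int.negSucc 0))] (.node 53 [(63,(Int.negSucc 0))] (.node 46 [(56,(Int.negSucc 0))] (.node 17 [(22,(Int.negSucc 0))] (.node 7 [(8,(Int.negSucc 0))] (.node 5 [(6,(Int.negSucc 0))] .nil .nil) (.node 16 [(21,(Int.negSucc 0))] .nil .nil)) (.node 19 [(24,(Int.negSucc 0))] (.node 18 [(23,(Int.negSucc 0))] .nil .nil) (.node 20 [(25,(Int.negSucc 0))] .nil .nil))) (.node 50 [(60,(Int.negSucc 0))] (.node 48 [(58,(Int.negSucc 0))] (.node 47 [(57,(Int.negSucc 0))] .nil .nil) (.node 49 [(59,(Int.negSucc 0))] .nil .nil)) (.node 52 [(62,(Int.negSucc 0))] (.node 51 [(61,(Int.negSucc 0))] .nil .nil) .nil))) (.node 91 [(96,(Int.negSucc 0))] (.node 88 [(93,(Int.negSucc 0))] (.node 55 [(65,(Int.negSucc 0))] (.node 54 [(64,(Int.negSucc 0))] .nil .nil) (.node 76 [(77,(Int.negSucc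 0))] .nil .nil)) (.node 90 [(95,(Int.negSucc 0))] (.node 89 [(94,(Int.negSucc 0))] .nil .nil) .nil)) (.node 101 [(107,(Int.ofNat 1))] (.node 99 [(105,(Int.ofNat 1))] (.node 92 [(97,(Int.negSucc 0))] .nil .nil) (.node 100 [(106,(Int.ofNat 1))] .nil .nil)) (.node 103 [(109,(Int.ofNat 1))] (.node 102 [(108,(Int.ofNat 1))] .nil .nil) .nil)))) (.node 177 [(187,(Int.ofNat 1))] (.node 144 [(149,(Int.ofNat 1))] (.node 134 [(140,(Int.negSucc 0))] (.node 132 [(138,(Int.negSucc 0))] (.node 131 [(137,(Int.negSucc 0))] .nil .nil) (.node 133 [(139,(Int.negSucc 0))] .nil .nil)) (.node 143 [(148,(Int.ofNat 1))] (.node 142 [(147,(Int.ofNat 1))] .nil .nil) .nil)) (.node 174 [(184,(Int.ofNat 1))] (.node 146 [(151,(Int.ofNat 1))] (.node 145 [(150,(Int.ofNat 1))] .nil .nil) (.node 162 [(163,(Int.ofNat 1))] .nil .nil)) (.node 176 [(186,(Int.ofNat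 1))] (.node 175 [(185,(Int.ofNat 1))] .nil .nil) .nil))) (.node 214 [(219,(Int.ofNat 1))] (.node 181 [(191,(Int.ofNat 1))] (.node 179 [(189,(Int.ofNat 1))] (.node 178 [(188,(Int.ofNat 1))] .nil .nil) (.node 180 [(190,(Int.ofNat 1))] .nil .nil)) (.node 183 [(193,(Int.ofNat 1))] (.node 182 [(192,(Int.ofNat 1))] .nil .nil) .nil)) (.node 218 [(223,(Int.ofNat 1))] (.node 216 [(221,(Int.ofNat 1))] (.node 215 [(220,(Int.ofNat 1))] .nil .nil) (.node 217 [(222,(Int.ofNat 1))] .nil .nil)) (.node 233 [(234,(Int.ofNat 1))] (.node 231 [(232,(Int.ofNat 1))] .nil .nil) .nil)))))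
noncomputable def ch136 : Tr (List (ℕ × ℤ)) := (.node 109 [(135,(Int.negSucc 0))] (.node 53 [(67,(Int.ofNat 1))] (.node 40 [(56,(Int.negSucc 0))] (.node 17 [(26,(Int.ofNat 1))] (.node 7 [(9,(Int.ofNat 1))] (.node 4 [(6,(Int.negSucc 0))] .nil .nil) (.node 15 [(21,(Int.negSucc 0))] .nil .nil)) (.node 19 [(28,(Int.ofNat 1))] (.node 18 [(27,(Int.ofNat 1))] .nil .nil) (.node 20 [(29,(Int.ofNat 1))] .nil .nil))) (.node 44 [(60,(Int.negSucc 0))] (.node 42 [(58,(Int.negSucc 0))] (.node 41 [(57,(Int.negSucc 0))] .nil .nil) (.node 43 [(59,(Int.negSucc 0))] .nil .nil)) (.node 52 [(66,(Int.ofNat 1))] (.node 45 [(61,(Int.negSucc 0))] .nil .nil) .nil))) (.node 87 [(96,(Int.negSucc 0))] (.node 84 [(93,(Int.negSucc 0))] (.node 55 [(69,(Int.ofNat 1))] (.node 54 [(68,(Int.ofNat 1))] .nil .nil) (.node 75 [(77,(Int.negSucc 0))] .nil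 .nil)) (.node 86 [(95,(Int.negSucc 0))] (.node 85 [(94,(Int.negSucc 0))] .nil .nil) .nil)) (.node 101 [(112,(Int.ofNat 1))] (.node 99 [(110,(Int.ofNat 1))] (.node 92 [(98,(Int.ofNat 1))] .nil .nil) (.node 100 [(111,(Int.ofNat 1))] .nil .nil)) (.node 104 [(130,(Int.ofNat 1))] (.node 102 [(113,(Int.ofNat 1))] .nil .nil) .nil)))) (.node 173 [(187,(Int.negSucc 0))] (.node 144 [(153,(Int.ofNat 1))] (.node 129 [(140,(Int.negSucc 0))] (.node 127 [(138,(Int.negSucc 0))] (.node 126 [(137,(Int.negSucc 0))] .nil .nil) (.node 128 [(139,(Int.negSucc 0))] .nil .nil)) (.node 143 [(152,(Int.ofNat 1))] (.node 141 [(147,(Int.negSucc 0))] .nil .nil) .nil)) (.node 170 [(184,(Int.negSucc 0))] (.node 146 [(155,(Int.ofNat 1))] (.node 145 [(154,(Int.ofNat 1))] .nil .nil) (.node 162 [(164,(Int.ofNat 1))] .nil .nil)) (.node 172 [(186,(Int.negSucc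 0))] (.node 171 [(185,(Int.negSucc 0))] .nil .nil) .nil))) (.node 210 [(219,(Int.negSucc 0))] (.node 181 [(197,(Int.ofNat 1))] (.node 179 [(195,(Int.ofNat 1))] (.node 178 [(194,(Int.ofNat 1))] .nil .nil) (.node 180 [(196,(Int.ofNat 1))] .nil .nil)) (.node 183 [(199,(Int.ofNat 1))] (.node 182 [(198,(Int.ofNat 1))] .nil .nil) .nil)) (.node 218 [(224,(Int.ofNat 1))] (.node 212 [(221,(Int.negSucc 0))] (.node 211 [(220,(Int.negSucc 0))] .nil .nil) (.node 213 [(222,(Int.negSucc 0))] .nil .nil)) (.node 233 [(235,(Int.ofNat 1))] (.node 230 [(232,(Int.negSucc 0))] .nil .nil) .nil)))))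
noncomputable def ch137 : Tr (List (ℕ × ℤ)) := (.node 108 [(135,(Int.negSucc 0))] (.node 50 [(67,(Int.ofNat 1))] (.node 37 [(56,(Int.negSucc 0))] (.node 16 [(26,(Int.ofNat 1))] (.node 7 [(10,(Int.negSucc 0))] (.node 3 [(6,(Int.negSucc 0))] .nil .nil) (.node 15 [(22,(Int.ofNat 1))] .nil .nil)) (.node 19 [(31,(Int.negSucc 0))] (.node 18 [(30,(Int.negSucc 0))] .nil .nil) (.node 20 [(32,(Int.negSucc 0))] .nil .nil))) (.node 44 [(63,(Int.ofNat 1))] (.node 39 [(58,(Int.negSucc 0))] (.node 38 [(57,(Int.negSucc 0))] .nil .nil) (.node 43 [(62,(Int.ofNat 1))] .nil .nil)) (.node 49 [(66,(Int.ofNat 1))] (.node 45 [(64,(Int.ofNat 1))] .nil .nil) .nil))) (.node 87 [(97,(Int.ofNat 1))] (.node 81 [(93,(Int.negSucc 0))] (.node 55 [(70,(Int.negSucc 0))] (.node 51 [(68,(Int.ofNat 1))] .nil .nil) (.node 74 [(77,(Int.negSucc 0))]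 .nil .nil)) (.node 83 [(95,(Int.negSucc 0))] (.node 82 [(94,(Int.negSucc 0))] .nil .nil) .nil)) (.node 101 [(116,(Int.ofNat 1))] (.node 99 [(114,(Int.ofNat 1))] (.node 91 [(98,(Int.ofNat 1))] .nil .nil) (.node 100 [(115,(Int.ofNat 1))] .nil .nil)) (.node 104 [(131,(Int.ofNat 1))] (.node 103 [(126,(Int.ofNat 1))] .nil .nil) .nil)))) (.node 173 [(190,(Int.negSucc 0))] (.node 144 [(156,(Int.ofNat 1))] (.node 125 [(140,(Int.negSucc 0))] (.node 123 [(138,(Int.negSucc 0))] (.node 113 [(136,(Int.negSucc 0))] .nil .nil) (.node 124 [(139,(Int.negSucc 0))] .nil .nil)) (.node 142 [(152,(Int.negSucc 0))] (.node 141 [(148,(Int.negSucc 0))] .nil .nil) .nil)) (.node 169 [(184,(Int.ofNat 1))] (.node 146 [(158,(Int.ofNat 1))] (.node 145 [(157,(Int.ofNat 1))] .nil .nil) (.node 162 [(165,(Int.ofNat 1))] .nil .nil)) (.node 172 [(189,(Int.negSucc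 0))] (.node 171 [(188,(Int.negSucc 0))] .nil .nil) .nil))) (.node 207 [(219,(Int.ofNat 1))] (.node 181 [(200,(Int.ofNat 1))] (.node 176 [(195,(Int.negSucc 0))] (.node 175 [(194,(Int.negSucc 0))] .nil .nil) (.node 177 [(196,(Int.negSucc 0))] .nil .nil)) (.node 183 [(202,(Int.ofNat 1))] (.node 182 [(201,(Int.ofNat 1))] .nil .nil) .nil)) (.node 217 [(224,(Int.negSucc 0))] (.node 209 [(221,(Int.ofNat 1))] (.node 208 [(220,(Int.ofNat 1))] .nil .nil) (.node 213 [(223,(Int.negSucc 0))] .nil .nil)) (.node 233 [(236,(Int.ofNat 1))] (.node 229 [(232,(Int.ofNat 1))] .nil .nil) .nil)))))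
noncomputable def ch138 : Tr (List (ℕ × ℤ)) := (.node 107 [(135,(Int.negSucc 0))] (.node 48 [(67,(Int.ofNat 1))] (.node 36 [(56,(Int.negSucc 0))] (.node 16 [(27,(Int.negSucc 0))] (.node 7 [(11,(Int.ofNat 1))] (.node 2 [(6,(Int.negSucc 0))] .nil .nil) (.node 15 [(23,(Int.negSucc 0))] .nil .nil)) (.node 19 [(33,(Int.ofNat 1))] (.node 17 [(30,(Int.negSucc 0))] .nil .nil) (.node 20 [(34,(Int.ofNat 1))] .nil .nil))) (.node 42 [(63,(Int.ofNat 1))] (.node 39 [(60,(Int.ofNat 1))] (.node 38 [(59,(Int.ofNat 1))] .nil .nil) (.node 41 [(62,(Int.ofNat 1))] .nil .nil)) (.node 47 [(66,(Int.ofNat 1))] (.node 45 [(65,(Int.negSucc 0))] .nil .nil) .nil))) (.node 86 [(97,(Int.ofNat 1))] (.node 79 [(93,(Int.negSucc 0))] (.node 54 [(70,(Int.negSucc 0))] (.node 51 [(69,(Int.negSucc 0))] .nil .nil) (.node 73 [(77,(Int.negSucc 0))] .nil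 .nil)) (.node 83 [(96,(Int.ofNat 1))] (.node 80 [(94,(Int.negSucc 0))] .nil .nil) .nil)) (.node 102 [(123,(Int.ofNat 1))] (.node 99 [(117,(Int.ofNat 1))] (.node 90 [(98,(Int.ofNat 1))] .nil .nil) (.node 100 [(118,(Int.ofNat 1))] .nil .nil)) (.node 104 [(132,(Int.ofNat 1))] (.node 103 [(127,(Int.ofNat 1))] .nil .nil) .nil)))) (.node 173 [(192,(Int.negSucc 0))] (.node 143 [(156,(Int.negSucc 0))] (.node 122 [(140,(Int.negSucc 0))] (.node 116 [(137,(Int.negSucc 0))] (.node 112 [(136,(Int.negSucc 0))] .nil .nil) (.node 121 [(139,(Int.negSucc 0))] .nil .nil)) (.node 142 [(153,(Int.negSucc 0))] (.node 141 [(149,(Int.negSucc 0))] .nil .nil) .nil)) (.node 169 [(185,(Int.ofNat 1))] (.node 146 [(160,(Int.ofNat 1))] (.node 145 [(159,(Int.ofNat 1))] .nil .nil) (.node 162 [(166,(Int.ofNat 1))] .nil .nil)) (.node 172 [(191,(Int.negSucc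 0))] (.node 170 [(188,(Int.ofNat 1))] .nil .nil) .nil))) (.node 205 [(219,(Int.negSucc 0))] (.node 179 [(200,(Int.negSucc 0))] (.node 176 [(197,(Int.negSucc 0))] (.node 174 [(194,(Int.ofNat 1))] .nil .nil) (.node 177 [(198,(Int.negSucc 0))] .nil .nil)) (.node 183 [(203,(Int.ofNat 1))] (.node 180 [(201,(Int.negSucc 0))] .nil .nil) .nil)) (.node 216 [(224,(Int.ofNat 1))] (.node 209 [(222,(Int.ofNat 1))] (.node 206 [(220,(Int.negSucc 0))] .nil .nil) (.node 212 [(223,(Int.ofNat 1))] .nil .nil)) (.node 233 [(237,(Int.ofNat 1))] (.node 228 [(232,(Int.negSucc 0))] .nil .nil) .nil)))))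
noncomputable def ch139 : Tr (List (ℕ × ℤ)) := (.node 106 [(135,(Int.negSucc 0))] (.node 48 [(68,(Int.negSucc 0))] (.node 36 [(57,(Int.ofNat 1))] (.node 16 [(28,(Int.ofNat 1))] (.node 7 [(12,(Int.negSucc 0))] (.node 1 [(6,(Int.negSucc 0))] .nil .nil) (.node 15 [(24,(Int.ofNat 1))] .nil .nil)) (.node 18 [(33,(Int.ofNat 1))] (.node 17 [(31,(Int.ofNat 1))] .nil .nil) (.node 20 [(35,(Int.negSucc 0))] .nil .nil))) (.node 42 [(64,(Int.negSucc 0))] (.node 39 [(61,(Int.negSucc 0))] (.node 37 [(59,(Int.ofNat 1))] .nil .nil) (.node 40 [(62,(Int.ofNat 1))] .nil .nil)) (.node 46 [(66,(Int.ofNat 1))] (.node 44 [(65,(Int.negSucc 0))] .nil .nil) .nil))) (.node 85 [(97,(Int.ofNat 1))] (.node 78 [(93,(Int.negSucc 0))] (.node 53 [(70,(Int.negSucc 0))] (.node 50 [(69,(Int.negSucc 0))] .nil .nil) (.node 72 [(77,(Int.negSucc 0))]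 .nil .nil)) (.node 82 [(96,(Int.ofNat 1))] (.node 80 [(95,(Int.ofNat 1))] .nil .nil) .nil)) (.node 102 [(124,(Int.ofNat 1))] (.node 99 [(119,(Int.ofNat 1))] (.node 89 [(98,(Int.ofNat 1))] .nil .nil) (.node 101 [(121,(Int.ofNat 1))] .nil .nil)) (.node 104 [(133,(Int.ofNat 1))] (.node 103 [(128,(Int.ofNat 1))] .nil .nil) .nil)))) (.node 173 [(193,(Int.negSucc 0))] (.node 143 [(157,(Int.negSucc 0))] (.node 120 [(140,(Int.negSucc 0))] (.node 115 [(137,(Int.negSucc 0))] (.node 111 [(136,(Int.negSucc 0))] .nil .nil) (.node 118 [(138,(Int.negSucc 0))] .nil .nil)) (.node 142 [(154,(Int.negSucc 0))] (.node 141 [(150,(Int.negSucc 0))] .nil .nil) .nil)) (.node 169 [(186,(Int.ofNat 1))] (.node 146 [(161,(Int.ofNat 1))] (.node 144 [(159,(Int.negSucc 0))] .nil .nil) (.node 162 [(167,(Int.ofNat 1))] .nil .nil)) (.node 171 [(191,(Int.ofNat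 1))] (.node 170 [(189,(Int.ofNat 1))] .nil .nil) .nil))) (.node 204 [(219,(Int.ofNat 1))] (.node 178 [(200,(Int.ofNat 1))] (.node 175 [(197,(Int.ofNat 1))] (.node 174 [(195,(Int.ofNat 1))] .nil .nil) (.node 177 [(199,(Int.negSucc 0))] .nil .nil)) (.node 182 [(203,(Int.negSucc 0))] (.node 180 [(202,(Int.negSucc 0))] .nil .nil) .nil)) (.node 215 [(224,(Int.negSucc 0))] (.node 208 [(222,(Int.negSucc 0))] (.node 206 [(221,(Int.negSucc 0))] .nil .nil) (.node 211 [(223,(Int.negSucc 0))] .nil .nil)) (.node 233 [(238,(Int.ofNat 1))] (.node 227 [(232,(Int.ofNat 1))] .nil .nil) .nil)))))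
noncomputable def ch140 : Tr (List (ℕ × ℤ)) := (.node 105 [(135,(Int.negSucc 0))] (.node 47 [(68,(Int.negSucc 0))] (.node 36 [(58,(Int.negSucc 0))] (.node 16 [(29,(Int.negSucc 0))] (.node 7 [(13,(Int.ofNat 1))] (.node 0 [(6,(Int.negSucc 0))] .nil .nil) (.node 15 [(25,(Int.negSucc 0))] .nil .nil)) (.node 18 [(34,(Int.negSucc 0))] (.node 17 [(32,(Int.negSucc 0))] .nil .nil) (.node 19 [(35,(Int.negSucc 0))] .nil .nil))) (.node 41 [(64,(Int.negSucc 0))] (.node 38 [(61,(Int.negSucc 0))] (.node 37 [(60,(Int.negSucc 0))] .nil .nil) (.node 40 [(63,(Int.negSucc 0))] .nil .nil)) (.node 46 [(67,(Int.negSucc 0))] (.node 43 [(65,(Int.negSucc 0))] .nil .nil) .nil))) (.node 84 [(97,(Int.ofNat 1))] (.node 78 [(94,(Int.ofNat 1))] (.node 52 [(70,(Int.negSucc 0))] (.node 49 [(69,(Int.negSucc 0))] .nil .nil) (.node 71 [(77,(Int.negSucc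 0))] .nil .nil)) (.node 81 [(96,(Int.ofNat 1))] (.node 79 [(95,(Int.ofNat 1))] .nil .nil) .nil)) (.node 102 [(125,(Int.ofNat 1))] (.node 100 [(120,(Int.ofNat 1))] (.node 88 [(98,(Int.ofNat 1))] .nil .nil) (.node 101 [(122,(Int.ofNat 1))] .nil .nil)) (.node 104 [(134,(Int.ofNat 1))] (.node 103 [(129,(Int.ofNat 1))] .nil .nil) .nil)))) (.node 172 [(193,(Int.ofNat 1))] (.node 143 [(158,(Int.negSucc 0))] (.node 119 [(139,(Int.negSucc 0))] (.node 114 [(137,(Int.negSucc 0))] (.node 110 [(136,(Int.negSucc 0))] .nil .nil) (.node 117 [(138,(Int.negSucc 0))] .nil .nil)) (.node 142 [(155,(Int.negSucc 0))] (.node 141 [(151,(Int.negSucc 0))] .nil .nil) .nil)) (.node 169 [(187,(Int.ofNat 1))] (.node 145 [(161,(Int.negSucc 0))] (.node 144 [(160,(Int.negSucc 0))] .nil .nil) (.node 162 [(168,(Int.ofNat 1))] .nil .nil)) (.node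 171 [(192,(Int.ofNat 1))] (.node 170 [(190,(Int.ofNat 1))] .nil .nil) .nil))) (.node 204 [(220,(Int.ofNat 1))] (.node 178 [(201,(Int.ofNat 1))] (.node 175 [(198,(Int.ofNat 1))] (.node 174 [(196,(Int.ofNat 1))] .nil .nil) (.node 176 [(199,(Int.ofNat 1))] .nil .nil)) (.node 181 [(203,(Int.ofNat 1))] (.node 179 [(202,(Int.ofNat 1))] .nil .nil) .nil)) (.node 214 [(224,(Int.ofNat 1))] (.node 207 [(222,(Int.ofNat 1))] (.node 205 [(221,(Int.ofNat 1))] .nil .nil) (.node 210 [(223,(Int.ofNat 1))] .nil .nil)) (.node 233 [(239,(Int.ofNat 1))] (.node 226 [(232,(Int.negSucc 0))] .nil .nil) .nil)))))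
noncomputable def ch141 : Tr (List (ℕ × ℤ)) := (.node 130 [(142,(Int.negSucc 0))] (.node 67 [(72,(Int.negSucc 0))] (.node 30 [(40,(Int.negSucc 0))] (.node 26 [(36,(Int.negSucc 0))] (.node 6 [(8,(Int.negSucc 0))] (.node 5 [(7,(Int.negSucc 0))] .nil .nil) (.node 14 [(15,(Int.negSucc 0))] .nil .nil)) (.node 28 [(38,(Int.negSucc 0))] (.node 27 [(37,(Int.negSucc 0))] .nil .nil) (.node 29 [(39,(Int.negSucc 0))] .nil .nil))) (.node 34 [(44,(Int.negSucc 0))] (.node 32 [(42,(Int.negSucc 0))] (.node 31 [(41,(Int.negSucc 0))] .nil .nil) (.node 33 [(43,(Int.negSucc 0))] .nil .nil)) (.node 66 [(71,(Int.negSucc 0))] (.node 35 [(45,(Int.negSucc 0))] .nil .nil) .nil))) (.node 91 [(102,(Int.negSucc 0))] (.node 88 [(99,(Int.negSucc 0))] (.node 69 [(74,(Int.negSucc 0))] (.node 68 [(73,(Int.negSucc 0))] .nil .nil) (.node 70 [(75,(Int.negSucc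 0))] .nil .nil)) (.node 90 [(101,(Int.negSucc 0))] (.node 89 [(100,(Int.negSucc 0))] .nil .nil) .nil)) (.node 95 [(107,(Int.ofNat 1))] (.node 93 [(105,(Int.ofNat 1))] (.node 92 [(103,(Int.negSucc 0))] .nil .nil) (.node 94 [(106,(Int.ofNat 1))] .nil .nil)) (.node 97 [(109,(Int.ofNat 1))] (.node 96 [(108,(Int.ofNat 1))] .nil .nil) .nil)))) (.node 168 [(173,(Int.ofNat 1))] (.node 138 [(149,(Int.ofNat 1))] (.node 134 [(146,(Int.negSucc 0))] (.node 132 [(144,(Int.negSucc 0))] (.node 131 [(143,(Int.negSucc 0))] .nil .nil) (.node 133 [(145,(Int.negSucc 0))] .nil .nil)) (.node 137 [(148,(Int.ofNat 1))] (.node 136 [(147,(Int.ofNat 1))] .nil .nil) .nil)) (.node 165 [(170,(Int.ofNat 1))] (.node 140 [(151,(Int.ofNat 1))] (.node 139 [(150,(Int.ofNat 1))] .nil .nil) (.node 164 [(169,(Int.ofNat 1))] .nil .nil)) (.node 167 [(172,(Int.ofNat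 1))] (.node 166 [(171,(Int.ofNat 1))] .nil .nil) .nil))) (.node 200 [(210,(Int.ofNat 1))] (.node 197 [(207,(Int.ofNat 1))] (.node 195 [(205,(Int.ofNat 1))] (.node 194 [(204,(Int.ofNat 1))] .nil .nil) (.node 196 [(206,(Int.ofNat 1))] .nil .nil)) (.node 199 [(209,(Int.ofNat 1))] (.node 198 [(208,(Int.ofNat 1))] .nil .nil) .nil)) (.node 224 [(225,(Int.ofNat 1))] (.node 202 [(212,(Int.ofNat 1))] (.node 201 [(211,(Int.ofNat 1))] .nil .nil) (.node 203 [(213,(Int.ofNat 1))] .nil .nil)) (.node 232 [(234,(Int.ofNat 1))] (.node 231 [(233,(Int.ofNat 1))] .nil .nil) .nil)))))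
noncomputable def ch142 : Tr (List (ℕ × ℤ)) := (.node 109 [(141,(Int.negSucc 0))] (.node 63 [(72,(Int.negSucc 0))] (.node 30 [(46,(Int.ofNat 1))] (.node 22 [(36,(Int.negSucc 0))] (.node 6 [(9,(Int.ofNat 1))] (.node 4 [(7,(Int.negSucc 0))] .nil .nil) (.node 14 [(16,(Int.ofNat 1))] .nil .nil)) (.node 24 [(38,(Int.negSucc 0))] (.node 23 [(37,(Int.negSucc 0))] .nil .nil) (.node 25 [(39,(Int.negSucc 0))] .nil .nil))) (.node 34 [(50,(Int.ofNat 1))] (.node 32 [(48,(Int.ofNat 1))] (.node 31 [(47,(Int.ofNat 1))] .nil .nil) (.node 33 [(49,(Int.ofNat 1))] .nil .nil)) (.node 62 [(71,(Int.negSucc 0))] (.node 35 [(51,(Int.ofNat 1))] .nil .nil) .nil))) (.node 87 [(102,(Int.negSucc 0))] (.node 84 [(99,(Int.negSucc 0))] (.node 65 [(74,(Int.negSucc 0))] (.node 64 [(73,(Int.negSucc 0))] .nil .nil) (.node 70 [(76,(Int.ofNat 1))]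 .nil .nil)) (.node 86 [(101,(Int.negSucc 0))] (.node 85 [(100,(Int.negSucc 0))] .nil .nil) .nil)) (.node 95 [(112,(Int.ofNat 1))] (.node 93 [(110,(Int.ofNat 1))] (.node 92 [(104,(Int.ofNat 1))] .nil .nil) (.node 94 [(111,(Int.ofNat 1))] .nil .nil)) (.node 98 [(130,(Int.ofNat 1))] (.node 96 [(113,(Int.ofNat 1))] .nil .nil) .nil)))) (.node 168 [(177,(Int.ofNat 1))] (.node 138 [(153,(Int.ofNat 1))] (.node 129 [(146,(Int.negSucc 0))] (.node 127 [(144,(Int.negSucc 0))] (.node 126 [(143,(Int.negSucc 0))] .nil .nil) (.node 128 [(145,(Int.negSucc 0))] .nil .nil)) (.node 137 [(152,(Int.ofNat 1))] (.node 135 [(147,(Int.negSucc 0))] .nil .nil) .nil)) (.node 165 [(174,(Int.ofNat 1))] (.node 140 [(155,(Int.ofNat 1))] (.node 139 [(154,(Int.ofNat 1))] .nil .nil) (.node 163 [(169,(Int.negSucc 0))] .nil .nil)) (.node 167 [(176,(Int.ofNat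 1))] (.node 166 [(175,(Int.ofNat 1))] .nil .nil) .nil))) (.node 200 [(214,(Int.ofNat 1))] (.node 191 [(207,(Int.negSucc 0))] (.node 189 [(205,(Int.negSucc 0))] (.node 188 [(204,(Int.negSucc 0))] .nil .nil) (.node 190 [(206,(Int.negSucc 0))] .nil .nil)) (.node 193 [(209,(Int.negSucc 0))] (.node 192 [(208,(Int.negSucc 0))] .nil .nil) .nil)) (.node 223 [(225,(Int.negSucc 0))] (.node 202 [(216,(Int.ofNat 1))] (.node 201 [(215,(Int.ofNat 1))] .nil .nil) (.node 203 [(217,(Int.ofNat 1))] .nil .nil)) (.node 232 [(235,(Int.ofNat 1))] (.node 230 [(233,(Int.negSucc 0))] .nil .nil) .nil)))))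
noncomputable def ch143 : Tr (List (ℕ × ℤ)) := (.node 108 [(141,(Int.negSucc 0))] (.node 60 [(72,(Int.negSucc 0))] (.node 27 [(46,(Int.ofNat 1))] (.node 21 [(36,(Int.negSucc 0))] (.node 6 [(10,(Int.negSucc 0))] (.node 3 [(7,(Int.negSucc 0))] .nil .nil) (.node 14 [(17,(Int.negSucc 0))] .nil .nil)) (.node 24 [(41,(Int.ofNat 1))] (.node 23 [(40,(Int.ofNat 1))] .nil .nil) (.node 25 [(42,(Int.ofNat 1))] .nil .nil))) (.node 34 [(53,(Int.negSucc 0))] (.node 29 [(48,(Int.ofNat 1))] (.node 28 [(47,(Int.ofNat 1))] .nil .nil) (.node 33 [(52,(Int.negSucc 0))] .nil .nil)) (.node 59 [(71,(Int.negSucc 0))] (.node 35 [(54,(Int.negSucc 0))] .nil .nil) .nil))) (.node 87 [(103,(Int.ofNat 1))] (.node 81 [(99,(Int.negSucc 0))] (.node 65 [(75,(Int.ofNat 1))] (.node 61 [(73,(Int.negSucc 0))] .nil .nil) (.node 69 [(76,(Int.ofNat 1))]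 .nil .nil)) (.node 83 [(101,(Int.negSucc 0))] (.node 82 [(100,(Int.negSucc 0))] .nil .nil) .nil)) (.node 95 [(116,(Int.ofNat 1))] (.node 93 [(114,(Int.ofNat 1))] (.node 91 [(104,(Int.ofNat 1))] .nil .nil) (.node 94 [(115,(Int.ofNat 1))] .nil .nil)) (.node 98 [(131,(Int.ofNat 1))] (.node 97 [(126,(Int.ofNat 1))] .nil .nil) .nil)))) (.node 168 [(180,(Int.ofNat 1))] (.node 138 [(156,(Int.ofNat 1))] (.node 125 [(146,(Int.negSucc 0))] (.node 123 [(144,(Int.negSucc 0))] (.node 113 [(142,(Int.negSucc 0))] .nil .nil) (.node 124 [(145,(Int.negSucc 0))] .nil .nil)) (.node 136 [(152,(Int.negSucc 0))] (.node 135 [(148,(Int.negSucc 0))] .nil .nil) .nil)) (.node 164 [(174,(Int.negSucc 0))] (.node 140 [(158,(Int.ofNat 1))] (.node 139 [(157,(Int.ofNat 1))] .nil .nil) (.node 163 [(170,(Int.negSucc 0))] .nil .nil)) (.node 167 [(179,(Int.ofNat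 1))] (.node 166 [(178,(Int.ofNat 1))] .nil .nil) .nil))) (.node 197 [(214,(Int.negSucc 0))] (.node 191 [(210,(Int.negSucc 0))] (.node 186 [(205,(Int.ofNat 1))] (.node 185 [(204,(Int.ofNat 1))] .nil .nil) (.node 187 [(206,(Int.ofNat 1))] .nil .nil)) (.node 193 [(212,(Int.negSucc 0))] (.node 192 [(211,(Int.negSucc 0))] .nil .nil) .nil)) (.node 222 [(225,(Int.ofNat 1))] (.node 199 [(216,(Int.negSucc 0))] (.node 198 [(215,(Int.negSucc 0))] .nil .nil) (.node 203 [(218,(Int.ofNat 1))] .nil .nil)) (.node 232 [(236,(Int.ofNat 1))] (.node 229 [(233,(Int.ofNat 1))] .nil .nil) .nil)))))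
noncomputable def ch144 : Tr (List (ℕ × ℤ)) := (.node 107 [(141,(Int.negSucc 0))] (.node 58 [(72,(Int.negSucc 0))] (.node 26 [(46,(Int.ofNat 1))] (.node 21 [(37,(Int.ofNat 1))] (.node 6 [(11,(Int.ofNat 1))] (.node 2 [(7,(Int.negSucc 0))] .nil .nil) (.node 14 [(18,(Int.ofNat 1))] .nil .nil)) (.node 24 [(43,(Int.negSucc 0))] (.node 22 [(40,(Int.ofNat 1))] .nil .nil) (.node 25 [(44,(Int.negSucc 0))] .nil .nil))) (.node 32 [(53,(Int.negSucc 0))] (.node 29 [(50,(Int.negSucc 0))] (.node 28 [(49,(Int.negSucc 0))] .nil .nil) (.node 31 [(52,(Int.negSucc 0))] .nil .nil)) (.node 57 [(71,(Int.negSucc 0))] (.node 35 [(55,(Int.ofNat 1))] .nil .nil) .nil))) (.node 86 [(103,(Int.ofNat 1))] (.node 79 [(99,(Int.negSucc 0))] (.node 64 [(75,(Int.ofNat 1))] (.node 61 [(74,(Int.ofNat 1))] .nil .nil) (.node 68 [(76,(Int.ofNat 1))] .nil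 .nil)) (.node 83 [(102,(Int.ofNat 1))] (.node 80 [(100,(Int.negSucc 0))] .nil .nil) .nil)) (.node 96 [(123,(Int.ofNat 1))] (.node 93 [(117,(Int.ofNat 1))] (.node 90 [(104,(Int.ofNat 1))] .nil .nil) (.node 94 [(118,(Int.ofNat 1))] .nil .nil)) (.node 98 [(132,(Int.ofNat 1))] (.node 97 [(127,(Int.ofNat 1))] .nil .nil) .nil)))) (.node 168 [(182,(Int.ofNat 1))] (.node 137 [(156,(Int.negSucc 0))] (.node 122 [(146,(Int.negSucc 0))] (.node 116 [(143,(Int.negSucc 0))] (.node 112 [(142,(Int.negSucc 0))] .nil .nil) (.node 121 [(145,(Int.negSucc 0))] .nil .nil)) (.node 136 [(153,(Int.negSucc 0))] (.node 135 [(149,(Int.negSucc 0))] .nil .nil) .nil)) (.node 164 [(175,(Int.negSucc 0))] (.node 140 [(160,(Int.ofNat 1))] (.node 139 [(159,(Int.ofNat 1))] .nil .nil) (.node 163 [(171,(Int.negSucc 0))] .nil .nil)) (.node 167 [(181,(Int.ofNat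 1))] (.node 165 [(178,(Int.negSucc 0))] .nil .nil) .nil))) (.node 195 [(214,(Int.ofNat 1))] (.node 189 [(210,(Int.ofNat 1))] (.node 186 [(207,(Int.ofNat 1))] (.node 184 [(204,(Int.negSucc 0))] .nil .nil) (.node 187 [(208,(Int.ofNat 1))] .nil .nil)) (.node 193 [(213,(Int.negSucc 0))] (.node 190 [(211,(Int.ofNat 1))] .nil .nil) .nil)) (.node 221 [(225,(Int.negSucc 0))] (.node 199 [(217,(Int.negSucc 0))] (.node 196 [(215,(Int.ofNat 1))] .nil .nil) (.node 202 [(218,(Int.negSucc 0))] .nil .nil)) (.node 232 [(237,(Int.ofNat 1))] (.node 228 [(233,(Int.negSucc 0))] .nil .nil) .nil)))))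
noncomputable def ch145 : Tr (List (ℕ × ℤ)) := (.node 106 [(141,(Int.negSucc 0))] (.node 58 [(73,(Int.ofNat 1))] (.node 26 [(47,(Int.negSucc 0))] (.node 21 [(38,(Int.negSucc 0))] (.node 6 [(12,(Int.negSucc 0))] (.node 1 [(7,(Int.negSucc 0))] .nil .nil) (.node 14 [(19,(Int.negSucc 0))] .nil .nil)) (.node 23 [(43,(Int.negSucc 0))] (.node 22 [(41,(Int.negSucc 0))] .nil .nil) (.node 25 [(45,(Int.ofNat 1))] .nil .nil))) (.node 32 [(54,(Int.ofNat 1))] (.node 29 [(51,(Int.ofNat 1))] (.node 27 [(49,(Int.negSucc 0))] .nil .nil) (.node 30 [(52,(Int.negSucc 0))] .nil .nil)) (.node 56 [(71,(Int.negSucc 0))] (.node 34 [(55,(Int.ofNat 1))] .nil .nil) .nil))) (.node 85 [(103,(Int.ofNat 1))] (.node 78 [(99,(Int.negSucc 0))] (.node 63 [(75,(Int.ofNat 1))] (.node 60 [(74,(Int.ofNat 1))] .nil .nil) (.node 67 [(76,(Int.ofNat 1))]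 .nil .nil)) (.node 82 [(102,(Int.ofNat 1))] (.node 80 [(101,(Int.ofNat 1))] .nil .nil) .nil)) (.node 96 [(124,(Int.ofNat 1))] (.node 93 [(119,(Int.ofNat 1))] (.node 89 [(104,(Int.ofNat 1))] .nil .nil) (.node 95 [(121,(Int.ofNat 1))] .nil .nil)) (.node 98 [(133,(Int.ofNat 1))] (.node 97 [(128,(Int.ofNat 1))] .nil .nil) .nil)))) (.node 168 [(183,(Int.ofNat 1))] (.node 137 [(157,(Int.negSucc 0))] (.node 120 [(146,(Int.negSucc 0))] (.node 115 [(143,(Int.negSucc 0))] (.node 111 [(142,(Int.negSucc 0))] .nil .nil) (.node 118 [(144,(Int.negSucc 0))] .nil .nil)) (.node 136 [(154,(Int.negSucc 0))] (.node 135 [(150,(Int.negSucc 0))] .nil .nil) .nil)) (.node 164 [(176,(Int.negSucc 0))] (.node 140 [(161,(Int.ofNat 1))] (.node 138 [(159,(Int.negSucc 0))] .nil .nil) (.node 163 [(172,(Int.negSucc 0))] .nil .nil)) (.node 166 [(181,(Int.negSucc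 0))] (.node 165 [(179,(Int.negSucc 0))] .nil .nil) .nil))) (.node 194 [(214,(Int.negSucc 0))] (.node 188 [(210,(Int.negSucc 0))] (.node 185 [(207,(Int.negSucc 0))] (.node 184 [(205,(Int.negSucc 0))] .nil .nil) (.node 187 [(209,(Int.ofNat 1))] .nil .nil)) (.node 192 [(213,(Int.ofNat 1))] (.node 190 [(212,(Int.ofNat 1))] .nil .nil) .nil)) (.node 220 [(225,(Int.ofNat 1))] (.node 198 [(217,(Int.ofNat 1))] (.node 196 [(216,(Int.ofNat 1))] .nil .nil) (.node 201 [(218,(Int.ofNat 1))] .nil .nil)) (.node 232 [(238,(Int.ofNat 1))] (.node 227 [(233,(Int.ofNat 1))] .nil .nil) .nil)))))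
noncomputable def ch146 : Tr (List (ℕ × ℤ)) := (.node 105 [(141,(Int.negSucc 0))] (.node 57 [(73,(Int.ofNat 1))] (.node 26 [(48,(Int.ofNat 1))] (.node 21 [(39,(Int.ofNat 1))] (.node 6 [(13,(Int.ofNat 1))] (.node 0 [(7,(Int.negSucc 0))] .nil .nil) (.node 14 [(20,(Int.ofNat 1))] .nil .nil)) (.node 23 [(44,(Int.ofNat 1))] (.node 22 [(42,(Int.ofNat 1))] .nil .nil) (.node 24 [(45,(Int.ofNat 1))] .nil .nil))) (.node 31 [(54,(Int.ofNat 1))] (.node 28 [(51,(Int.ofNat 1))] (.node 27 [(50,(Int.ofNat 1))] .nil .nil) (.node 30 [(53,(Int.ofNat 1))] .nil .nil)) (.node 56 [(72,(Int.ofNat 1))] (.node 33 [(55,(Int.ofNat 1))] .nil .nil) .nil))) (.node 84 [(103,(Int.ofNat 1))] (.node 78 [(100,(Int.ofNat 1))] (.node 62 [(75,(Int.ofNat 1))] (.node 59 [(74,(Int.ofNat 1))] .nil .nil) (.node 66 [(76,(Int.ofNat 1))] .nil .nil)) (.node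 81 [(102,(Int.ofNat 1))] (.node 79 [(101,(Int.ofNat 1))] .nil .nil) .nil)) (.node 96 [(125,(Int.ofNat 1))] (.node 94 [(120,(Int.ofNat 1))] (.node 88 [(104,(Int.ofNat 1))] .nil .nil) (.node 95 [(122,(Int.ofNat 1))] .nil .nil)) (.node 98 [(134,(Int.ofNat 1))] (.node 97 [(129,(Int.ofNat 1))] .nil .nil) .nil)))) (.node 167 [(183,(Int.negSucc 0))] (.node 137 [(158,(Int.negSucc 0))] (.node 119 [(145,(Int.negSucc 0))] (.node 114 [(143,(Int.negSucc 0))] (.node 110 [(142,(Int.negSucc 0))] .nil .nil) (.node 117 [(144,(Int.negSucc 0))] .nil .nil)) (.node 136 [(155,(Int.negSucc 0))] (.node 135 [(151,(Int.negSucc 0))] .nil .nil) .nil)) (.node 164 [(177,(Int.negSucc 0))] (.node 139 [(161,(Int.negSucc 0))] (.node 138 [(160,(Int.negSucc 0))] .nil .nil) (.node 163 [(173,(Int.negSucc 0))] .nil .nil)) (.node 166 [(182,(Int.negSucc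 0))] (.node 165 [(180,(Int.negSucc 0))] .nil .nil) .nil))) (.node 194 [(215,(Int.negSucc 0))] (.node 188 [(211,(Int.negSucc 0))] (.node 185 [(208,(Int.negSucc 0))] (.node 184 [(206,(Int.negSucc 0))] .nil .nil) (.node 186 [(209,(Int.negSucc 0))] .nil .nil)) (.node 191 [(213,(Int.negSucc 0))] (.node 189 [(212,(Int.negSucc 0))] .nil .nil) .nil)) (.node 219 [(225,(Int.negSucc 0))] (.node 197 [(217,(Int.negSucc 0))] (.node 195 [(216,(Int.negSucc 0))] .nil .nil) (.node 200 [(218,(Int.negSucc 0))] .nil .nil)) (.node 232 [(239,(Int.ofNat 1))] (.node 226 [(233,(Int.negSucc 0))] .nil .nil) .nil)))))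
noncomputable def ch147 : Tr (List (ℕ × ℤ)) := (.node 103 [(141,(Int.ofNat 1))] (.node 53 [(72,(Int.negSucc 0))] (.node 30 [(56,(Int.negSucc 0))] (.node 17 [(36,(Int.negSucc 0))] (.node 5 [(9,(Int.ofNat 1))] (.node 4 [(8,(Int.ofNat 1))] .nil .nil) (.node 14 [(21,(Int.negSucc 0))] .nil .nil)) (.node 19 [(38,(Int.negSucc 0))] (.node 18 [(37,(Int.negSucc 0))] .nil .nil) (.node 20 [(39,(Int.negSucc 0))] .nil .nil))) (.node 34 [(60,(Int.negSucc 0))] (.node 32 [(58,(Int.negSucc 0))] (.node 31 [(57,(Int.negSucc 0))] .nil .nil) (.node 33 [(59,(Int.negSucc 0))] .nil .nil)) (.node 52 [(71,(Int.negSucc 0))] (.node 35 [(61,(Int.negSucc 0))] .nil .nil) .nil))) (.node 87 [(108,(Int.negSucc 0))] (.node 84 [(105,(Int.negSucc 0))] (.node 55 [(74,(Int.negSucc 0))] (.node 54 [(73,(Int.negSucc 0))] .nil .nil) (.node 70 [(77,(Int.negSucc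 0))] .nil .nil)) (.node 86 [(107,(Int.negSucc 0))] (.node 85 [(106,(Int.negSucc 0))] .nil .nil) .nil)) (.node 91 [(113,(Int.ofNat 1))] (.node 89 [(111,(Int.ofNat 1))] (.node 88 [(110,(Int.ofNat 1))] .nil .nil) (.node 90 [(112,(Int.ofNat 1))] .nil .nil)) (.node 98 [(136,(Int.negSucc 0))] (.node 97 [(135,(Int.ofNat 1))] .nil .nil) .nil)))) (.node 168 [(187,(Int.ofNat 1))] (.node 132 [(153,(Int.ofNat 1))] (.node 128 [(150,(Int.negSucc 0))] (.node 126 [(148,(Int.negSucc 0))] (.node 104 [(142,(Int.negSucc 0))] .nil .nil) (.node 127 [(149,(Int.negSucc 0))] .nil .nil)) (.node 131 [(152,(Int.ofNat 1))] (.node 129 [(151,(Int.negSucc 0))] .nil .nil) .nil)) (.node 165 [(184,(Int.ofNat 1))] (.node 134 [(155,(Int.ofNat 1))] (.node 133 [(154,(Int.ofNat 1))] .nil .nil) (.node 162 [(169,(Int.ofNat 1))] .nil .nil)) (.node 167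 [(186,(Int.ofNat 1))] (.node 166 [(185,(Int.ofNat 1))] .nil .nil) .nil))) (.node 200 [(219,(Int.ofNat 1))] (.node 181 [(207,(Int.ofNat 1))] (.node 179 [(205,(Int.ofNat 1))] (.node 178 [(204,(Int.ofNat 1))] .nil .nil) (.node 180 [(206,(Int.ofNat 1))] .nil .nil)) (.node 183 [(209,(Int.ofNat 1))] (.node 182 [(208,(Int.ofNat 1))] .nil .nil) .nil)) (.node 218 [(225,(Int.ofNat 1))] (.node 202 [(221,(Int.ofNat 1))] (.node 201 [(220,(Int.ofNat 1))] .nil .nil) (.node 203 [(222,(Int.ofNat 1))] .nil .nil)) (.node 231 [(235,(Int.negSucc 0))] (.node 230 [(234,(Int.negSucc 0))] .nil .nil) .nil)))))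
noncomputable def ch148 : Tr (List (ℕ × ℤ)) := (.node 102 [(141,(Int.ofNat 1))] (.node 50 [(72,(Int.negSucc 0))] (.node 27 [(56,(Int.negSucc 0))] (.node 16 [(36,(Int.negSucc 0))] (.node 5 [(10,(Int.negSucc 0))] (.node 3 [(8,(Int.ofNat 1))] .nil .nil) (.node 14 [(22,(Int.ofNat 1))] .nil .nil)) (.node 19 [(41,(Int.ofNat 1))] (.node 18 [(40,(Int.ofNat 1))] .nil .nil) (.node 20 [(42,(Int.ofNat 1))] .nil .nil))) (.node 34 [(63,(Int.ofNat 1))] (.node 29 [(58,(Int.negSucc 0))] (.node 28 [(57,(Int.negSucc 0))] .nil .nil) (.node 33 [(62,(Int.ofNat 1))] .nil .nil)) (.node 49 [(71,(Int.negSucc 0))] (.node 35 [(64,(Int.ofNat 1))] .nil .nil) .nil))) (.node 87 [(109,(Int.ofNat 1))] (.node 81 [(105,(Int.negSucc 0))] (.node 55 [(75,(Int.ofNat 1))] (.node 51 [(73,(Int.negSucc 0))] .nil .nil) (.node 69 [(77,(Int.negSucc 0))] .nil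 .nil)) (.node 83 [(107,(Int.negSucc 0))] (.node 82 [(106,(Int.negSucc 0))] .nil .nil) .nil)) (.node 92 [(126,(Int.ofNat 1))] (.node 89 [(115,(Int.ofNat 1))] (.node 88 [(114,(Int.ofNat 1))] .nil .nil) (.node 90 [(116,(Int.ofNat 1))] .nil .nil)) (.node 98 [(137,(Int.negSucc 0))] (.node 96 [(135,(Int.ofNat 1))] .nil .nil) .nil)))) (.node 168 [(190,(Int.ofNat 1))] (.node 132 [(156,(Int.ofNat 1))] (.node 124 [(150,(Int.negSucc 0))] (.node 113 [(147,(Int.negSucc 0))] (.node 104 [(143,(Int.negSucc 0))] .nil .nil) (.node 123 [(149,(Int.negSucc 0))] .nil .nil)) (.node 130 [(152,(Int.negSucc 0))] (.node 125 [(151,(Int.negSucc 0))] .nil .nil) .nil)) (.node 164 [(184,(Int.negSucc 0))] (.node 134 [(158,(Int.ofNat 1))] (.node 133 [(157,(Int.ofNat 1))] .nil .nil) (.node 162 [(170,(Int.ofNat 1))] .nil .nil)) (.node 167 [(189,(Int.ofNat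 1))] (.node 166 [(188,(Int.ofNat 1))] .nil .nil) .nil))) (.node 197 [(219,(Int.negSucc 0))] (.node 181 [(210,(Int.ofNat 1))] (.node 176 [(205,(Int.negSucc 0))] (.node 175 [(204,(Int.negSucc 0))] .nil .nil) (.node 177 [(206,(Int.negSucc 0))] .nil .nil)) (.node 183 [(212,(Int.ofNat 1))] (.node 182 [(211,(Int.ofNat 1))] .nil .nil) .nil)) (.node 217 [(225,(Int.negSucc 0))] (.node 199 [(221,(Int.negSucc 0))] (.node 198 [(220,(Int.negSucc 0))] .nil .nil) (.node 203 [(223,(Int.ofNat 1))] .nil .nil)) (.node 231 [(236,(Int.negSucc 0))] (.node 229 [(234,(Int.ofNat 1))] .nil .nil) .nil)))))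
noncomputable def ch149 : Tr (List (ℕ × ℤ)) := (.node 101 [(141,(Int.ofNat 1))] (.node 48 [(72,(Int.negSucc 0))] (.node 26 [(56,(Int.negSucc 0))] (.node 16 [(37,(Int.ofNat 1))] (.node 5 [(11,(Int.ofNat 1))] (.node 2 [(8,(Int.ofNat 1))] .nil .nil) (.node 14 [(23,(Int.negSucc 0))] .nil .nil)) (.node 19 [(43,(Int.negSucc 0))] (.node 17 [(40,(Int.ofNat 1))] .nil .nil) (.node 20 [(44,(Int.negSucc 0))] .nil .nil))) (.node 32 [(63,(Int.ofNat 1))] (.node 29 [(60,(Int.ofNat 1))] (.node 28 [(59,(Int.ofNat 1))] .nil .nil) (.node 31 [(62,(Int.ofNat 1))] .nil .nil)) (.node 47 [(71,(Int.negSucc 0))] (.node 35 [(65,(Int.negSucc 0))] .nil .nil) .nil))) (.node 86 [(109,(Int.ofNat 1))] (.node 79 [(105,(Int.negSucc 0))] (.node 54 [(75,(Int.ofNat 1))] (.node 51 [(74,(Int.ofNat 1))] .nil .nil) (.node 68 [(77,(Int.negSucc 0))] .nil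 .nil)) (.node 83 [(108,(Int.ofNat 1))] (.node 80 [(106,(Int.negSucc 0))] .nil .nil) .nil)) (.node 92 [(127,(Int.ofNat 1))] (.node 89 [(118,(Int.ofNat 1))] (.node 88 [(117,(Int.ofNat 1))] .nil .nil) (.node 91 [(123,(Int.ofNat 1))] .nil .nil)) (.node 98 [(138,(Int.negSucc 0))] (.node 95 [(135,(Int.ofNat 1))] .nil .nil) .nil)))) (.node 168 [(192,(Int.ofNat 1))] (.node 131 [(156,(Int.negSucc 0))] (.node 121 [(150,(Int.negSucc 0))] (.node 112 [(147,(Int.negSucc 0))] (.node 104 [(144,(Int.negSucc 0))] .nil .nil) (.node 116 [(148,(Int.negSucc 0))] .nil .nil)) (.node 130 [(153,(Int.negSucc 0))] (.node 122 [(151,(Int.negSucc 0))] .nil .nil) .nil)) (.node 164 [(185,(Int.negSucc 0))] (.node 134 [(160,(Int.ofNat 1))] (.node 133 [(159,(Int.ofNat 1))] .nil .nil) (.node 162 [(171,(Int.ofNat 1))] .nil .nil)) (.node 167 [(191,(Int.ofNat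 1))] (.node 165 [(188,(Int.negSucc 0))] .nil .nil) .nil))) (.node 195 [(219,(Int.ofNat 1))] (.node 179 [(210,(Int.negSucc 0))] (.node 176 [(207,(Int.negSucc 0))] (.node 174 [(204,(Int.ofNat 1))] .nil .nil) (.node 177 [(208,(Int.negSucc 0))] .nil .nil)) (.node 183 [(213,(Int.ofNat 1))] (.node 180 [(211,(Int.negSucc 0))] .nil .nil) .nil)) (.node 216 [(225,(Int.ofNat 1))] (.node 199 [(222,(Int.negSucc 0))] (.node 196 [(220,(Int.ofNat 1))] .nil .nil) (.node 202 [(223,(Int.negSucc 0))] .nil .nil)) (.node 231 [(237,(Int.negSucc 0))] (.node 228 [(234,(Int.negSucc 0))] .nil .nil) .nil)))))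
noncomputable def ch150 : Tr (List (ℕ × ℤ)) := (.node 100 [(141,(Int.ofNat 1))] (.node 48 [(73,(Int.ofNat 1))] (.node 26 [(57,(Int.ofNat 1))] (.node 16 [(38,(Int.negSucc 0))] (.node 5 [(12,(Int.negSucc 0))] (.node 1 [(8,(Int.ofNat 1))] .nil .nil) (.node 14 [(24,(Int.ofNat 1))] .nil .nil)) (.node 18 [(43,(Int.negSucc 0))] (.node 17 [(41,(Int.negSucc 0))] .nil .nil) (.node 20 [(45,(Int.ofNat 1))] .nil .nil))) (.node 32 [(64,(Int.negSucc 0))] (.node 29 [(61,(Int.negSucc 0))] (.node 27 [(59,(Int.ofNat 1))] .nil .nil) (.node 30 [(62,(Int.ofNat 1))] .nil .nil)) (.node 46 [(71,(Int.negSucc 0))] (.node 34 [(65,(Int.negSucc 0))] .nil .nil) .nil))) (.node 85 [(109,(Int.ofNat 1))] (.node 78 [(105,(Int.negSucc 0))] (.node 53 [(75,(Int.ofNat 1))] (.node 50 [(74,(Int.ofNat 1))] .nil .nil) (.node 67 [(77,(Int.negSucc 0))] .nil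 .nil)) (.node 82 [(108,(Int.ofNat 1))] (.node 80 [(107,(Int.ofNat 1))] .nil .nil) .nil)) (.node 92 [(128,(Int.ofNat 1))] (.node 90 [(121,(Int.ofNat 1))] (.node 88 [(119,(Int.ofNat 1))] .nil .nil) (.node 91 [(124,(Int.ofNat 1))] .nil .nil)) (.node 98 [(139,(Int.negSucc 0))] (.node 94 [(135,(Int.ofNat 1))] .nil .nil) .nil)))) (.node 168 [(193,(Int.ofNat 1))] (.node 131 [(157,(Int.negSucc 0))] (.node 118 [(149,(Int.negSucc 0))] (.node 111 [(147,(Int.negSucc 0))] (.node 104 [(145,(Int.negSucc 0))] .nil .nil) (.node 115 [(148,(Int.negSucc 0))] .nil .nil)) (.node 130 [(154,(Int.negSucc 0))] (.node 120 [(151,(Int.negSucc 0))] .nil .nil) .nil)) (.node 164 [(186,(Int.negSucc 0))] (.node 134 [(161,(Int.ofNat 1))] (.node 132 [(159,(Int.negSucc 0))] .nil .nil) (.node 162 [(172,(Int.ofNat 1))] .nil .nil)) (.node 166 [(191,(Int.negSucc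 0))] (.node 165 [(189,(Int.negSucc 0))] .nil .nil) .nil))) (.node 194 [(219,(Int.negSucc 0))] (.node 178 [(210,(Int.ofNat 1))] (.node 175 [(207,(Int.ofNat 1))] (.node 174 [(205,(Int.ofNat 1))] .nil .nil) (.node 177 [(209,(Int.negSucc 0))] .nil .nil)) (.node 182 [(213,(Int.negSucc 0))] (.node 180 [(212,(Int.negSucc 0))] .nil .nil) .nil)) (.node 215 [(225,(Int.negSucc 0))] (.node 198 [(222,(Int.ofNat 1))] (.node 196 [(221,(Int.ofNat 1))] .nil .nil) (.node 201 [(223,(Int.ofNat 1))] .nil .nil)) (.node 231 [(238,(Int.negSucc 0))] (.node 227 [(234,(Int.ofNat 1))] .nil .nil) .nil)))))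
noncomputable def ch151 : Tr (List (ℕ × ℤ)) := (.node 99 [(141,(Int.ofNat 1))] (.node 47 [(73,(Int.ofNat 1))] (.node 26 [(58,(Int.negSucc 0))] (.node 16 [(39,(Int.ofNat 1))] (.node 5 [(13,(Int.ofNat 1))] (.node 0 [(8,(Int.ofNat 1))] .nil .nil) (.node 14 [(25,(Int.negSucc 0))] .nil .nil)) (.node 18 [(44,(Int.ofNat 1))] (.node 17 [(42,(Int.ofNat 1))] .nil .nil) (.node 19 [(45,(Int.ofNat 1))] .nil .nil))) (.node 31 [(64,(Int.negSucc 0))] (.node 28 [(61,(Int.negSucc 0))] (.node 27 [(60,(Int.negSucc 0))] .nil .nil) (.node 30 [(63,(Int.negSucc 0))] .nil .nil)) (.node 46 [(72,(Int.ofNat 1))] (.node 33 [(65,(Int.negSucc 0))] .nil .nil) .nil))) (.node 84 [(109,(Int.ofNat 1))] (.node 78 [(106,(Int.ofNat 1))] (.node 52 [(75,(Int.ofNat 1))] (.node 49 [(74,(Int.ofNat 1))] .nil .nil) (.node 66 [(77,(Int.negSucc 0))] .nil .nil))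 (.node 81 [(108,(Int.ofNat 1))] (.node 79 [(107,(Int.ofNat 1))] .nil .nil) .nil)) (.node 92 [(129,(Int.ofNat 1))] (.node 90 [(122,(Int.ofNat 1))] (.node 89 [(120,(Int.ofNat 1))] .nil .nil) (.node 91 [(125,(Int.ofNat 1))] .nil .nil)) (.node 98 [(140,(Int.negSucc 0))] (.node 93 [(135,(Int.ofNat 1))] .nil .nil) .nil)))) (.node 167 [(193,(Int.negSucc 0))] (.node 131 [(158,(Int.negSucc 0))] (.node 117 [(149,(Int.negSucc 0))] (.node 110 [(147,(Int.negSucc 0))] (.node 104 [(146,(Int.negSucc 0))] .nil .nil) (.node 114 [(148,(Int.negSucc 0))] .nil .nil)) (.node 130 [(155,(Int.negSucc 0))] (.node 119 [(150,(Int.negSucc 0))] .nil .nil) .nil)) (.node 164 [(187,(Int.negSucc 0))] (.node 133 [(161,(Int.negSucc 0))] (.node 132 [(160,(Int.negSucc 0))] .nil .nil) (.node 162 [(173,(Int.ofNat 1))] .nil .nil)) (.node 166 [(192,(Int.negSucc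 0))] (.node 165 [(190,(Int.negSucc 0))] .nil .nil) .nil))) (.node 194 [(220,(Int.negSucc 0))] (.node 178 [(211,(Int.ofNat 1))] (.node 175 [(208,(Int.ofNat 1))] (.node 174 [(206,(Int.ofNat 1))] .nil .nil) (.node 176 [(209,(Int.ofNat 1))] .nil .nil)) (.node 181 [(213,(Int.ofNat 1))] (.node 179 [(212,(Int.ofNat 1))] .nil .nil) .nil)) (.node 214 [(225,(Int.ofNat 1))] (.node 197 [(222,(Int.negSucc 0))] (.node 195 [(221,(Int.negSucc 0))] .nil .nil) (.node 200 [(223,(Int.negSucc 0))] .nil .nil)) (.node 231 [(239,(Int.negSucc 0))] (.node 226 [(234,(Int.negSucc 0))] .nil .nil) .nil)))))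
noncomputable def ch152 : Tr (List (ℕ × ℤ)) := (.node 102 [(142,(Int.ofNat 1))] (.node 44 [(72,(Int.negSucc 0))] (.node 23 [(56,(Int.negSucc 0))] (.node 15 [(36,(Int.negSucc 0))] (.node 4 [(10,(Int.negSucc 0))] (.node 3 [(9,(Int.negSucc 0))] .nil .nil) (.node 14 [(26,(Int.negSucc 0))] .nil .nil)) (.node 19 [(47,(Int.negSucc 0))] (.node 18 [(46,(Int.negSucc 0))] .nil .nil) (.node 20 [(48,(Int.negSucc 0))] .nil .nil))) (.node 34 [(67,(Int.negSucc 0))] (.node 25 [(58,(Int.negSucc 0))] (.node 24 [(57,(Int.negSucc 0))] .nil .nil) (.node 33 [(66,(Int.negSucc 0))] .nil .nil)) (.node 43 [(71,(Int.negSucc 0))] (.node 35 [(68,(Int.negSucc 0))] .nil .nil) .nil))) (.node 84 [(114,(Int.ofNat 1))] (.node 81 [(110,(Int.negSucc 0))] (.node 55 [(76,(Int.negSucc 0))] (.node 45 [(73,(Int.negSucc 0))] .nil .nil) (.node 65 [(77,(Int.negSucc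 0))] .nil .nil)) (.node 83 [(112,(Int.negSucc 0))] (.node 82 [(111,(Int.negSucc 0))] .nil .nil) .nil)) (.node 92 [(131,(Int.negSucc 0))] (.node 86 [(116,(Int.ofNat 1))] (.node 85 [(115,(Int.ofNat 1))] .nil .nil) (.node 91 [(130,(Int.ofNat 1))] .nil .nil)) (.node 97 [(137,(Int.negSucc 0))] (.node 96 [(136,(Int.ofNat 1))] .nil .nil) .nil)))) (.node 168 [(196,(Int.ofNat 1))] (.node 127 [(156,(Int.ofNat 1))] (.node 123 [(153,(Int.negSucc 0))] (.node 108 [(147,(Int.ofNat 1))] (.node 103 [(143,(Int.negSucc 0))] .nil .nil) (.node 109 [(148,(Int.negSucc 0))] .nil .nil)) (.node 125 [(155,(Int.negSucc 0))] (.node 124 [(154,(Int.negSucc 0))] .nil .nil) .nil)) (.node 163 [(184,(Int.ofNat 1))] (.node 129 [(158,(Int.ofNat 1))] (.node 128 [(157,(Int.ofNat 1))] .nil .nil) (.node 162 [(174,(Int.ofNat 1))] .nil .nil)) (.node 167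 [(195,(Int.ofNat 1))] (.node 166 [(194,(Int.ofNat 1))] .nil .nil) .nil))) (.node 191 [(219,(Int.ofNat 1))] (.node 181 [(214,(Int.ofNat 1))] (.node 172 [(205,(Int.ofNat 1))] (.node 171 [(204,(Int.ofNat 1))] .nil .nil) (.node 173 [(206,(Int.ofNat 1))] .nil .nil)) (.node 183 [(216,(Int.ofNat 1))] (.node 182 [(215,(Int.ofNat 1))] .nil .nil) .nil)) (.node 213 [(225,(Int.ofNat 1))] (.node 193 [(221,(Int.ofNat 1))] (.node 192 [(220,(Int.ofNat 1))] .nil .nil) (.node 203 [(224,(Int.ofNat 1))] .nil .nil)) (.node 230 [(236,(Int.ofNat 1))] (.node 229 [(235,(Int.ofNat 1))] .nil .nil) .nil)))))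
noncomputable def ch153 : Tr (List (ℕ × ℤ)) := (.node 101 [(142,(Int.ofNat 1))] (.node 42 [(72,(Int.negSucc 0))] (.node 22 [(56,(Int.negSucc 0))] (.node 15 [(37,(Int.ofNat 1))] (.node 4 [(11,(Int.ofNat 1))] (.node 2 [(9,(Int.negSucc 0))] .nil .nil) (.node 14 [(27,(Int.ofNat 1))] .nil .nil)) (.node 19 [(49,(Int.ofNat 1))] (.node 17 [(46,(Int.negSucc 0))] .nil .nil) (.node 20 [(50,(Int.ofNat 1))] .nil .nil))) (.node 32 [(67,(Int.negSucc 0))] (.node 25 [(60,(Int.ofNat 1))] (.node 24 [(59,(Int.ofNat 1))] .nil .nil) (.node 31 [(66,(Int.negSucc 0))] .nil .nil)) (.node 41 [(71,(Int.negSucc 0))] (.node 35 [(69,(Int.ofNat 1))] .nil .nil) .nil))) (.node 84 [(117,(Int.ofNat 1))] (.node 79 [(110,(Int.negSucc 0))] (.node 54 [(76,(Int.negSucc 0))] (.node 45 [(74,(Int.ofNat 1))] .nil .nil) (.node 64 [(77,(Int.negSucc 0))] .nil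 .nil)) (.node 83 [(113,(Int.ofNat 1))] (.node 80 [(111,(Int.negSucc 0))] .nil .nil) .nil)) (.node 92 [(132,(Int.negSucc 0))] (.node 87 [(123,(Int.ofNat 1))] (.node 85 [(118,(Int.ofNat 1))] .nil .nil) (.node 90 [(130,(Int.ofNat 1))] .nil .nil)) (.node 97 [(138,(Int.negSucc 0))] (.node 95 [(136,(Int.ofNat 1))] .nil .nil) .nil)))) (.node 168 [(198,(Int.ofNat 1))] (.node 126 [(156,(Int.negSucc 0))] (.node 116 [(152,(Int.negSucc 0))] (.node 107 [(147,(Int.ofNat 1))] (.node 103 [(144,(Int.negSucc 0))] .nil .nil) (.node 109 [(149,(Int.negSucc 0))] .nil .nil)) (.node 122 [(155,(Int.negSucc 0))] (.node 121 [(154,(Int.negSucc 0))] .nil .nil) .nil)) (.node 163 [(185,(Int.ofNat 1))] (.node 129 [(160,(Int.ofNat 1))] (.node 128 [(159,(Int.ofNat 1))] .nil .nil) (.node 162 [(175,(Int.ofNat 1))] .nil .nil)) (.node 167 [(197,(Int.ofNat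 1))] (.node 165 [(194,(Int.negSucc 0))] .nil .nil) .nil))) (.node 189 [(219,(Int.negSucc 0))] (.node 179 [(214,(Int.negSucc 0))] (.node 172 [(207,(Int.ofNat 1))] (.node 170 [(204,(Int.negSucc 0))] .nil .nil) (.node 173 [(208,(Int.ofNat 1))] .nil .nil)) (.node 183 [(217,(Int.ofNat 1))] (.node 180 [(215,(Int.negSucc 0))] .nil .nil) .nil)) (.node 212 [(225,(Int.negSucc 0))] (.node 193 [(222,(Int.ofNat 1))] (.node 190 [(220,(Int.negSucc 0))] .nil .nil) (.node 202 [(224,(Int.negSucc 0))] .nil .nil)) (.node 230 [(237,(Int.ofNat 1))] (.node 228 [(235,(Int.negSucc 0))] .nil .nil) .nil)))))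
noncomputable def ch154 : Tr (List (ℕ × ℤ)) := (.node 100 [(142,(Int.ofNat 1))] (.node 42 [(73,(Int.ofNat 1))] (.node 22 [(57,(Int.ofNat 1))] (.node 15 [(38,(Int.negSucc 0))] (.node 4 [(12,(Int.negSucc 0))] (.node 1 [(9,(Int.negSucc 0))] .nil .nil) (.node 14 [(28,(Int.negSucc 0))] .nil .nil)) (.node 18 [(49,(Int.ofNat 1))] (.node 17 [(47,(Int.ofNat 1))] .nil .nil) (.node 20 [(51,(Int.negSucc 0))] .nil .nil))) (.node 32 [(68,(Int.ofNat 1))] (.node 25 [(61,(Int.negSucc 0))] (.node 23 [(59,(Int.ofNat 1))] .nil .nil) (.node 30 [(66,(Int.negSucc 0))] .nil .nil)) (.node 40 [(71,(Int.negSucc 0))] (.node 34 [(69,(Int.ofNat 1))] .nil .nil) .nil))) (.node 84 [(119,(Int.ofNat 1))] (.node 78 [(110,(Int.negSucc 0))] (.node 53 [(76,(Int.negSucc 0))] (.node 44 [(74,(Int.ofNat 1))] .nil .nil) (.node 63 [(77,(Int.negSucc 0))]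 .nil .nil)) (.node 82 [(113,(Int.ofNat 1))] (.node 80 [(112,(Int.ofNat 1))] .nil .nil) .nil)) (.node 92 [(133,(Int.negSucc 0))] (.node 87 [(124,(Int.ofNat 1))] (.node 86 [(121,(Int.ofNat 1))] .nil .nil) (.node 89 [(130,(Int.ofNat 1))] .nil .nil)) (.node 97 [(139,(Int.negSucc 0))] (.node 94 [(136,(Int.ofNat 1))] .nil .nil) .nil)))) (.node 168 [(199,(Int.ofNat 1))] (.node 126 [(157,(Int.negSucc 0))] (.node 115 [(152,(Int.negSucc 0))] (.node 106 [(147,(Int.ofNat 1))] (.node 103 [(145,(Int.negSucc 0))] .nil .nil) (.node 109 [(150,(Int.negSucc 0))] .nil .nil)) (.node 120 [(155,(Int.negSucc 0))] (.node 118 [(153,(Int.negSucc 0))] .nil .nil) .nil)) (.node 163 [(186,(Int.ofNat 1))] (.node 129 [(161,(Int.ofNat 1))] (.node 127 [(159,(Int.negSucc 0))] .nil .nil) (.node 162 [(176,(Int.ofNat 1))] .nil .nil)) (.node 166 [(197,(Int.negSucc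 0))] (.node 165 [(195,(Int.negSucc 0))] .nil .nil) .nil))) (.node 188 [(219,(Int.ofNat 1))] (.node 178 [(214,(Int.ofNat 1))] (.node 171 [(207,(Int.negSucc 0))] (.node 170 [(205,(Int.negSucc 0))] .nil .nil) (.node 173 [(209,(Int.ofNat 1))] .nil .nil)) (.node 182 [(217,(Int.negSucc 0))] (.node 180 [(216,(Int.negSucc 0))] .nil .nil) .nil)) (.node 211 [(225,(Int.ofNat 1))] (.node 192 [(222,(Int.negSucc 0))] (.node 190 [(221,(Int.negSucc 0))] .nil .nil) (.node 201 [(224,(Int.ofNat 1))] .nil .nil)) (.node 230 [(238,(Int.ofNat 1))] (.node 227 [(235,(Int.ofNat 1))] .nil .nil) .nil)))))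
noncomputable def ch155 : Tr (List (ℕ × ℤ)) := (.node 99 [(142,(Int.ofNat 1))] (.node 41 [(73,(Int.ofNat 1))] (.node 22 [(58,(Int.negSucc 0))] (.node 15 [(39,(Int.ofNat 1))] (.node 4 [(13,(Int.ofNat 1))] (.node 0 [(9,(Int.negSucc 0))] .nil .nil) (.node 14 [(29,(Int.ofNat 1))] .nil .nil)) (.node 18 [(50,(Int.negSucc 0))] (.node 17 [(48,(Int.negSucc 0))] .nil .nil) (.node 19 [(51,(Int.negSucc 0))] .nil .nil))) (.node 31 [(68,(Int.ofNat 1))] (.node 24 [(61,(Int.negSucc 0))] (.node 23 [(60,(Int.negSucc 0))] .nil .nil) (.node 30 [(67,(Int.ofNat 1))] .nil .nil)) (.node 40 [(72,(Int.ofNat 1))] (.node 33 [(69,(Int.ofNat 1))] .nil .nil) .nil))) (.node 85 [(120,(Int.ofNat 1))] (.node 78 [(111,(Int.ofNat 1))] (.node 52 [(76,(Int.negSucc 0))] (.node 43 [(74,(Int.ofNat 1))] .nil .nil) (.node 62 [(77,(Int.negSucc 0))] .nil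 .nil)) (.node 81 [(113,(Int.ofNat 1))] (.node 79 [(112,(Int.ofNat 1))] .nil .nil) .nil)) (.node 92 [(134,(Int.negSucc 0))] (.node 87 [(125,(Int.ofNat 1))] (.node 86 [(122,(Int.ofNat 1))] .nil .nil) (.node 88 [(130,(Int.ofNat 1))] .nil .nil)) (.node 97 [(140,(Int.negSucc 0))] (.node 93 [(136,(Int.ofNat 1))] .nil .nil) .nil)))) (.node 167 [(199,(Int.negSucc 0))] (.node 126 [(158,(Int.negSucc 0))] (.node 114 [(152,(Int.negSucc 0))] (.node 105 [(147,(Int.ofNat 1))] (.node 103 [(146,(Int.negSucc 0))] .nil .nil) (.node 109 [(151,(Int.negSucc 0))] .nil .nil)) (.node 119 [(154,(Int.negSucc 0))] (.node 117 [(153,(Int.negSucc 0))] .nil .nil) .nil)) (.node 163 [(187,(Int.ofNat 1))] (.node 128 [(161,(Int.negSucc 0))] (.node 127 [(160,(Int.negSucc 0))] .nil .nil) (.node 162 [(177,(Int.ofNat 1))] .nil .nil)) (.node 166 [(198,(Int.negSucc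 0))] (.node 165 [(196,(Int.negSucc 0))] .nil .nil) .nil))) (.node 188 [(220,(Int.ofNat 1))] (.node 178 [(215,(Int.ofNat 1))] (.node 171 [(208,(Int.negSucc 0))] (.node 170 [(206,(Int.negSucc 0))] .nil .nil) (.node 172 [(209,(Int.negSucc 0))] .nil .nil)) (.node 181 [(217,(Int.ofNat 1))] (.node 179 [(216,(Int.ofNat 1))] .nil .nil) .nil)) (.node 210 [(225,(Int.negSucc 0))] (.node 191 [(222,(Int.ofNat 1))] (.node 189 [(221,(Int.ofNat 1))] .nil .nil) (.node 200 [(224,(Int.negSucc 0))] .nil .nil)) (.node 230 [(239,(Int.ofNat 1))] (.node 226 [(235,(Int.negSucc 0))] .nil .nil) .nil)))))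
noncomputable def ch156 : Tr (List (ℕ × ℤ)) := (.node 101 [(143,(Int.ofNat 1))] (.node 39 [(72,(Int.negSucc 0))] (.node 21 [(56,(Int.negSucc 0))] (.node 15 [(40,(Int.negSucc 0))] (.node 3 [(11,(Int.ofNat 1))] (.node 2 [(10,(Int.ofNat 1))] .nil .nil) (.node 14 [(30,(Int.negSucc 0))] .nil .nil)) (.node 19 [(52,(Int.negSucc 0))] (.node 16 [(46,(Int.negSucc 0))] .nil .nil) (.node 20 [(53,(Int.negSucc 0))] .nil .nil))) (.node 29 [(67,(Int.negSucc 0))] (.node 25 [(63,(Int.negSucc 0))] (.node 24 [(62,(Int.negSucc 0))] .nil .nil) (.node 28 [(66,(Int.negSucc 0))] .nil .nil)) (.node 38 [(71,(Int.negSucc 0))] (.node 35 [(70,(Int.negSucc 0))] .nil .nil) .nil))) (.node 82 [(118,(Int.ofNat 1))] (.node 79 [(114,(Int.negSucc 0))] (.node 51 [(76,(Int.negSucc 0))] (.node 45 [(75,(Int.negSucc 0))] .nil .nil) (.node 61 [(77,(Int.negSucc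 0))] .nil .nil)) (.node 81 [(117,(Int.ofNat 1))] (.node 80 [(115,(Int.negSucc 0))] .nil .nil) .nil)) (.node 91 [(132,(Int.negSucc 0))] (.node 87 [(127,(Int.negSucc 0))] (.node 86 [(126,(Int.ofNat 1))] .nil .nil) (.node 90 [(131,(Int.ofNat 1))] .nil .nil)) (.node 96 [(138,(Int.negSucc 0))] (.node 95 [(137,(Int.ofNat 1))] .nil .nil) .nil)))) (.node 168 [(201,(Int.ofNat 1))] (.node 122 [(158,(Int.negSucc 0))] (.node 112 [(152,(Int.ofNat 1))] (.node 107 [(148,(Int.ofNat 1))] (.node 102 [(144,(Int.negSucc 0))] .nil .nil) (.node 108 [(149,(Int.negSucc 0))] .nil .nil)) (.node 121 [(157,(Int.negSucc 0))] (.node 113 [(153,(Int.negSucc 0))] .nil .nil) .nil)) (.node 163 [(188,(Int.ofNat 1))] (.node 125 [(160,(Int.ofNat 1))] (.node 124 [(159,(Int.ofNat 1))] .nil .nil) (.node 162 [(178,(Int.ofNat 1))] .nil .nil)) (.node 167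 [(200,(Int.ofNat 1))] (.node 164 [(194,(Int.ofNat 1))] .nil .nil) .nil))) (.node 186 [(219,(Int.ofNat 1))] (.node 176 [(214,(Int.ofNat 1))] (.node 172 [(210,(Int.ofNat 1))] (.node 169 [(204,(Int.ofNat 1))] .nil .nil) (.node 173 [(211,(Int.ofNat 1))] .nil .nil)) (.node 183 [(218,(Int.ofNat 1))] (.node 177 [(215,(Int.ofNat 1))] .nil .nil) .nil)) (.node 209 [(225,(Int.ofNat 1))] (.node 193 [(223,(Int.ofNat 1))] (.node 187 [(220,(Int.ofNat 1))] .nil .nil) (.node 199 [(224,(Int.ofNat 1))] .nil .nil)) (.node 229 [(237,(Int.negSucc 0))] (.node 228 [(236,(Int.negSucc 0))] .nil .nil) .nil)))))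
noncomputable def ch157 : Tr (List (ℕ × ℤ)) := (.node 100 [(143,(Int.ofNat 1))] (.node 39 [(73,(Int.ofNat 1))] (.node 21 [(57,(Int.ofNat 1))] (.node 15 [(41,(Int.ofNat 1))] (.node 3 [(12,(Int.negSucc 0))] (.node 1 [(10,(Int.ofNat 1))] .nil .nil) (.node 14 [(31,(Int.ofNat 1))] .nil .nil)) (.node 18 [(52,(Int.negSucc 0))] (.node 16 [(47,(Int.ofNat 1))] .nil .nil) (.node 20 [(54,(Int.ofNat 1))] .nil .nil))) (.node 29 [(68,(Int.ofNat 1))] (.node 25 [(64,(Int.ofNat 1))] (.node 23 [(62,(Int.negSucc 0))] .nil .nil) (.node 27 [(66,(Int.negSucc 0))] .nil .nil)) (.node 37 [(71,(Int.negSucc 0))] (.node 34 [(70,(Int.negSucc 0))] .nil .nil) .nil))) (.node 83 [(121,(Int.ofNat 1))] (.node 78 [(114,(Int.negSucc 0))] (.node 50 [(76,(Int.negSucc 0))] (.node 44 [(75,(Int.negSucc 0))] .nil .nil) (.node 60 [(77,(Int.negSucc 0))] .nil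 .nil)) (.node 81 [(119,(Int.ofNat 1))] (.node 80 [(116,(Int.ofNat 1))] .nil .nil) .nil)) (.node 91 [(133,(Int.negSucc 0))] (.node 87 [(128,(Int.negSucc 0))] (.node 85 [(126,(Int.ofNat 1))] .nil .nil) (.node 89 [(131,(Int.ofNat 1))] .nil .nil)) (.node 96 [(139,(Int.negSucc 0))] (.node 94 [(137,(Int.ofNat 1))] .nil .nil) .nil)))) (.node 168 [(202,(Int.ofNat 1))] (.node 120 [(158,(Int.negSucc 0))] (.node 111 [(152,(Int.ofNat 1))] (.node 106 [(148,(Int.ofNat 1))] (.node 102 [(145,(Int.negSucc 0))] .nil .nil) (.node 108 [(150,(Int.negSucc 0))] .nil .nil)) (.node 118 [(156,(Int.negSucc 0))] (.node 113 [(154,(Int.negSucc 0))] .nil .nil) .nil)) (.node 163 [(189,(Int.ofNat 1))] (.node 125 [(161,(Int.ofNat 1))] (.node 123 [(159,(Int.negSucc 0))] .nil .nil) (.node 162 [(179,(Int.ofNat 1))] .nil .nil)) (.node 166 [(200,(Int.negSucc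 0))] (.node 164 [(195,(Int.ofNat 1))] .nil .nil) .nil))) (.node 185 [(219,(Int.negSucc 0))] (.node 175 [(214,(Int.negSucc 0))] (.node 171 [(210,(Int.negSucc 0))] (.node 169 [(205,(Int.ofNat 1))] .nil .nil) (.node 173 [(212,(Int.ofNat 1))] .nil .nil)) (.node 182 [(218,(Int.negSucc 0))] (.node 177 [(216,(Int.ofNat 1))] .nil .nil) .nil)) (.node 208 [(225,(Int.negSucc 0))] (.node 192 [(223,(Int.negSucc 0))] (.node 187 [(221,(Int.ofNat 1))] .nil .nil) (.node 198 [(224,(Int.negSucc 0))] .nil .nil)) (.node 229 [(238,(Int.negSucc 0))] (.node 227 [(236,(Int.ofNat 1))] .nil .nil) .nil)))))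
noncomputable def ch158 : Tr (List (ℕ × ℤ)) := (.node 99 [(143,(Int.ofNat 1))] (.node 38 [(73,(Int.ofNat 1))] (.node 21 [(58,(Int.negSucc 0))] (.node 15 [(42,(Int.negSucc 0))] (.node 3 [(13,(Int.ofNat 1))] (.node 0 [(10,(Int.ofNat 1))] .nil .nil) (.node 14 [(32,(Int.negSucc 0))] .nil .nil)) (.node 18 [(53,(Int.ofNat 1))] (.node 16 [(48,(Int.negSucc 0))] .nil .nil) (.node 19 [(54,(Int.ofNat 1))] .nil .nil))) (.node 28 [(68,(Int.ofNat 1))] (.node 24 [(64,(Int.ofNat 1))] (.node 23 [(63,(Int.ofNat 1))] .nil .nil) (.node 27 [(67,(Int.ofNat 1))] .nil .nil)) (.node 37 [(72,(Int.ofNat 1))] (.node 33 [(70,(Int.negSucc 0))] .nil .nil) .nil))) (.node 83 [(122,(Int.ofNat 1))] (.node 78 [(115,(Int.ofNat 1))] (.node 49 [(76,(Int.negSucc 0))] (.node 43 [(75,(Int.negSucc 0))] .nil .nil) (.node 59 [(77,(Int.negSucc 0))] .nil .nil))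 (.node 82 [(120,(Int.ofNat 1))] (.node 79 [(116,(Int.ofNat 1))] .nil .nil) .nil)) (.node 91 [(134,(Int.negSucc 0))] (.node 87 [(129,(Int.negSucc 0))] (.node 84 [(126,(Int.ofNat 1))] .nil .nil) (.node 88 [(131,(Int.ofNat 1))] .nil .nil)) (.node 96 [(140,(Int.negSucc 0))] (.node 93 [(137,(Int.ofNat 1))] .nil .nil) .nil)))) (.node 167 [(202,(Int.negSucc 0))] (.node 119 [(157,(Int.negSucc 0))] (.node 110 [(152,(Int.ofNat 1))] (.node 105 [(148,(Int.ofNat 1))] (.node 102 [(146,(Int.negSucc 0))] .nil .nil) (.node 108 [(151,(Int.negSucc 0))] .nil .nil)) (.node 117 [(156,(Int.negSucc 0))] (.node 113 [(155,(Int.negSucc 0))] .nil .nil) .nil)) (.node 163 [(190,(Int.ofNat 1))] (.node 124 [(161,(Int.negSucc 0))] (.node 123 [(160,(Int.negSucc 0))] .nil .nil) (.node 162 [(180,(Int.ofNat 1))] .nil .nil)) (.node 166 [(201,(Int.negSucc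 0))] (.node 164 [(196,(Int.ofNat 1))] .nil .nil) .nil))) (.node 185 [(220,(Int.negSucc 0))] (.node 175 [(215,(Int.negSucc 0))] (.node 171 [(211,(Int.negSucc 0))] (.node 169 [(206,(Int.ofNat 1))] .nil .nil) (.node 172 [(212,(Int.negSucc 0))] .nil .nil)) (.node 181 [(218,(Int.ofNat 1))] (.node 176 [(216,(Int.negSucc 0))] .nil .nil) .nil)) (.node 207 [(225,(Int.ofNat 1))] (.node 191 [(223,(Int.ofNat 1))] (.node 186 [(221,(Int.negSucc 0))] .nil .nil) (.node 197 [(224,(Int.ofNat 1))] .nil .nil)) (.node 229 [(239,(Int.negSucc 0))] (.node 226 [(236,(Int.negSucc 0))] .nil .nil) .nil)))))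
noncomputable def ch159 : Tr (List (ℕ × ℤ)) := (.node 100 [(144,(Int.ofNat 1))] (.node 39 [(74,(Int.negSucc 0))] (.node 21 [(59,(Int.negSucc 0))] (.node 15 [(43,(Int.negSucc 0))] (.node 2 [(12,(Int.negSucc 0))] (.node 1 [(11,(Int.negSucc 0))] .nil .nil) (.node 14 [(33,(Int.negSucc 0))] .nil .nil)) (.node 17 [(52,(Int.negSucc 0))] (.node 16 [(49,(Int.negSucc 0))] .nil .nil) (.node 20 [(55,(Int.negSucc 0))] .nil .nil))) (.node 29 [(69,(Int.negSucc 0))] (.node 25 [(65,(Int.negSucc 0))] (.node 22 [(62,(Int.negSucc 0))] .nil .nil) (.node 26 [(66,(Int.negSucc 0))] .nil .nil)) (.node 36 [(71,(Int.negSucc 0))] (.node 32 [(70,(Int.negSucc 0))] .nil .nil) .nil))) (.node 83 [(124,(Int.negSucc 0))] (.node 78 [(117,(Int.negSucc 0))] (.node 48 [(76,(Int.negSucc 0))] (.node 42 [(75,(Int.negSucc 0))] .nil .nil) (.node 58 [(77,(Int.negSucc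 0))] .nil .nil)) (.node 82 [(123,(Int.ofNat 1))] (.node 79 [(119,(Int.ofNat 1))] .nil .nil) .nil)) (.node 90 [(133,(Int.negSucc 0))] (.node 86 [(128,(Int.negSucc 0))] (.node 85 [(127,(Int.ofNat 1))] .nil .nil) (.node 89 [(132,(Int.ofNat 1))] .nil .nil)) (.node 95 [(139,(Int.negSucc 0))] (.node 94 [(138,(Int.ofNat 1))] .nil .nil) .nil)))) (.node 168 [(203,(Int.ofNat 1))] (.node 116 [(157,(Int.negSucc 0))] (.node 111 [(153,(Int.ofNat 1))] (.node 106 [(149,(Int.ofNat 1))] (.node 101 [(145,(Int.negSucc 0))] .nil .nil) (.node 107 [(150,(Int.negSucc 0))] .nil .nil)) (.node 115 [(156,(Int.ofNat 1))] (.node 112 [(154,(Int.negSucc 0))] .nil .nil) .nil)) (.node 163 [(191,(Int.ofNat 1))] (.node 122 [(161,(Int.ofNat 1))] (.node 120 [(160,(Int.negSucc 0))] .nil .nil) (.node 162 [(181,(Int.ofNat 1))] .nil .nil)) (.node 165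 [(200,(Int.ofNat 1))] (.node 164 [(197,(Int.ofNat 1))] .nil .nil) .nil))) (.node 184 [(219,(Int.ofNat 1))] (.node 174 [(214,(Int.ofNat 1))] (.node 170 [(210,(Int.ofNat 1))] (.node 169 [(207,(Int.ofNat 1))] .nil .nil) (.node 173 [(213,(Int.ofNat 1))] .nil .nil)) (.node 180 [(218,(Int.ofNat 1))] (.node 177 [(217,(Int.ofNat 1))] .nil .nil) .nil)) (.node 206 [(225,(Int.ofNat 1))] (.node 190 [(223,(Int.ofNat 1))] (.node 187 [(222,(Int.ofNat 1))] .nil .nil) (.node 196 [(224,(Int.ofNat 1))] .nil .nil)) (.node 228 [(238,(Int.ofNat 1))] (.node 227 [(237,(Int.ofNat 1))] .nil .nil) .nil)))))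
noncomputable def ch160 : Tr (List (ℕ × ℤ)) := (.node 99 [(144,(Int.ofNat 1))] (.node 38 [(74,(Int.negSucc 0))] (.node 21 [(60,(Int.ofNat 1))] (.node 15 [(44,(Int.ofNat 1))] (.node 2 [(13,(Int.ofNat 1))] (.node 0 [(11,(Int.negSucc 0))] .nil .nil) (.node 14 [(34,(Int.ofNat 1))] .nil .nil)) (.node 17 [(53,(Int.ofNat 1))] (.node 16 [(50,(Int.ofNat 1))] .nil .nil) (.node 19 [(55,(Int.negSucc 0))] .nil .nil))) (.node 28 [(69,(Int.negSucc 0))] (.node 24 [(65,(Int.negSucc 0))] (.node 22 [(63,(Int.ofNat 1))] .nil .nil) (.node 26 [(67,(Int.ofNat 1))] .nil .nil)) (.node 36 [(72,(Int.ofNat 1))] (.node 31 [(70,(Int.negSucc 0))] .nil .nil) .nil))) (.node 83 [(125,(Int.negSucc 0))] (.node 78 [(118,(Int.ofNat 1))] (.node 47 [(76,(Int.negSucc 0))] (.node 41 [(75,(Int.negSucc 0))] .nil .nil) (.node 57 [(77,(Int.negSucc 0))] .nil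 .nil)) (.node 81 [(123,(Int.ofNat 1))] (.node 80 [(120,(Int.ofNat 1))] .nil .nil) .nil)) (.node 90 [(134,(Int.negSucc 0))] (.node 86 [(129,(Int.negSucc 0))] (.node 84 [(127,(Int.ofNat 1))] .nil .nil) (.node 88 [(132,(Int.ofNat 1))] .nil .nil)) (.node 95 [(140,(Int.negSucc 0))] (.node 93 [(138,(Int.ofNat 1))] .nil .nil) .nil)))) (.node 167 [(203,(Int.negSucc 0))] (.node 116 [(158,(Int.negSucc 0))] (.node 110 [(153,(Int.ofNat 1))] (.node 105 [(149,(Int.ofNat 1))] (.node 101 [(146,(Int.negSucc 0))] .nil .nil) (.node 107 [(151,(Int.negSucc 0))] .nil .nil)) (.node 114 [(156,(Int.ofNat 1))] (.node 112 [(155,(Int.negSucc 0))] .nil .nil) .nil)) (.node 163 [(192,(Int.ofNat 1))] (.node 121 [(161,(Int.negSucc 0))] (.node 119 [(159,(Int.negSucc 0))] .nil .nil) (.node 162 [(182,(Int.ofNat 1))] .nil .nil)) (.node 165 [(201,(Int.ofNat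 1))] (.node 164 [(198,(Int.ofNat 1))] .nil .nil) .nil))) (.node 184 [(220,(Int.ofNat 1))] (.node 174 [(215,(Int.ofNat 1))] (.node 170 [(211,(Int.ofNat 1))] (.node 169 [(208,(Int.ofNat 1))] .nil .nil) (.node 172 [(213,(Int.negSucc 0))] .nil .nil)) (.node 179 [(218,(Int.negSucc 0))] (.node 176 [(217,(Int.negSucc 0))] .nil .nil) .nil)) (.node 205 [(225,(Int.negSucc 0))] (.node 189 [(223,(Int.negSucc 0))] (.node 186 [(222,(Int.negSucc 0))] .nil .nil) (.node 195 [(224,(Int.negSucc 0))] .nil .nil)) (.node 228 [(239,(Int.ofNat 1))] (.node 226 [(237,(Int.negSucc 0))] .nil .nil) .nil)))))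
noncomputable def ch161 : Tr (List (ℕ × ℤ)) := (.node 99 [(145,(Int.ofNat 1))] (.node 37 [(74,(Int.negSucc 0))] (.node 21 [(61,(Int.negSucc 0))] (.node 15 [(45,(Int.negSucc 0))] (.node 1 [(13,(Int.ofNat 1))] (.node 0 [(12,(Int.ofNat 1))] .nil .nil) (.node 14 [(35,(Int.negSucc 0))] .nil .nil)) (.node 17 [(54,(Int.negSucc 0))] (.node 16 [(51,(Int.negSucc 0))] .nil .nil) (.node 18 [(55,(Int.negSucc 0))] .nil .nil))) (.node 27 [(69,(Int.negSucc 0))] (.node 23 [(65,(Int.negSucc 0))] (.node 22 [(64,(Int.negSucc 0))] .nil .nil) (.node 26 [(68,(Int.negSucc 0))] .nil .nil)) (.node 36 [(73,(Int.negSucc 0))] (.node 30 [(70,(Int.negSucc 0))] .nil .nil) .nil))) (.node 82 [(125,(Int.negSucc 0))] (.node 79 [(121,(Int.ofNat 1))] (.node 46 [(76,(Int.negSucc 0))] (.node 40 [(75,(Int.negSucc 0))] .nil .nil) (.node 56 [(77,(Int.negSucc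 0))] .nil .nil)) (.node 81 [(124,(Int.ofNat 1))] (.node 80 [(122,(Int.negSucc 0))] .nil .nil) .nil)) (.node 89 [(134,(Int.negSucc 0))] (.node 85 [(129,(Int.negSucc 0))] (.node 84 [(128,(Int.ofNat 1))] .nil .nil) (.node 88 [(133,(Int.ofNat 1))] .nil .nil)) (.node 94 [(140,(Int.negSucc 0))] (.node 93 [(139,(Int.ofNat 1))] .nil .nil) .nil)))) (.node 166 [(203,(Int.ofNat 1))] (.node 115 [(158,(Int.negSucc 0))] (.node 110 [(154,(Int.ofNat 1))] (.node 105 [(150,(Int.ofNat 1))] (.node 100 [(146,(Int.negSucc 0))] .nil .nil) (.node 106 [(151,(Int.negSucc 0))] .nil .nil)) (.node 114 [(157,(Int.ofNat 1))] (.node 111 [(155,(Int.negSucc 0))] .nil .nil) .nil)) (.node 163 [(193,(Int.ofNat 1))] (.node 118 [(160,(Int.negSucc 0))] (.node 117 [(159,(Int.ofNat 1))] .nil .nil) (.node 162 [(183,(Int.ofNat 1))] .nil .nil)) (.node 165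 [(202,(Int.ofNat 1))] (.node 164 [(199,(Int.ofNat 1))] .nil .nil) .nil))) (.node 184 [(221,(Int.ofNat 1))] (.node 174 [(216,(Int.ofNat 1))] (.node 170 [(212,(Int.ofNat 1))] (.node 169 [(209,(Int.ofNat 1))] .nil .nil) (.node 171 [(213,(Int.ofNat 1))] .nil .nil)) (.node 178 [(218,(Int.ofNat 1))] (.node 175 [(217,(Int.ofNat 1))] .nil .nil) .nil)) (.node 204 [(225,(Int.ofNat 1))] (.node 188 [(223,(Int.ofNat 1))] (.node 185 [(222,(Int.ofNat 1))] .nil .nil) (.node 194 [(224,(Int.ofNat 1))] .nil .nil)) (.node 227 [(239,(Int.negSucc 0))] (.node 226 [(238,(Int.negSucc 0))] .nil .nil) .nil)))))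
noncomputable def ch162 : Tr (List (ℕ × ℤ)) := (.node 135 [(163,(Int.negSucc 0))] (.node 63 [(85,(Int.ofNat 1))] (.node 56 [(78,(Int.ofNat 1))] (.node 10 [(17,(Int.negSucc 0))] (.node 8 [(15,(Int.negSucc 0))] (.node 6 [(14,(Int.negSucc 0))] .nil .nil) (.node 9 [(16,(Int.negSucc 0))] .nil .nil)) (.node 12 [(19,(Int.negSucc 0))] (.node 11 [(18,(Int.negSucc 0))] .nil .nil) (.node 13 [(20,(Int.negSucc 0))] .nil .nil))) (.node 60 [(82,(Int.ofNat 1))] (.node 58 [(80,(Int.ofNat 1))] (.node 57 [(79,(Int.ofNat 1))] .nil .nil) (.node 59 [(81,(Int.ofNat 1))] .nil .nil)) (.node 62 [(84,(Int.ofNat 1))] (.node 61 [(83,(Int.ofNat 1))] .nil .nil) .nil))) (.node 70 [(92,(Int.ofNat 1))] (.node 67 [(89,(Int.ofNat 1))] (.node 65 [(87,(Int.ofNat 1))] (.node 64 [(86,(Int.ofNat 1))] .nil .nil) (.node 66 [(88,(Int.ofNat 1))] .nil .nil))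 (.node 69 [(91,(Int.ofNat 1))] (.node 68 [(90,(Int.ofNat 1))] .nil .nil) .nil)) (.node 74 [(102,(Int.ofNat 1))] (.node 72 [(100,(Int.ofNat 1))] (.node 71 [(99,(Int.ofNat 1))] .nil .nil) (.node 73 [(101,(Int.ofNat 1))] .nil .nil)) (.node 76 [(104,(Int.ofNat 1))] (.node 75 [(103,(Int.ofNat 1))] .nil .nil) .nil)))) (.node 155 [(177,(Int.negSucc 0))] (.node 148 [(170,(Int.negSucc 0))] (.node 139 [(167,(Int.negSucc 0))] (.node 137 [(165,(Int.negSucc 0))] (.node 136 [(164,(Int.negSucc 0))] .nil .nil) (.node 138 [(166,(Int.negSucc 0))] .nil .nil)) (.node 147 [(169,(Int.negSucc 0))] (.node 140 [(168,(Int.negSucc 0))] .nil .nil) .nil)) (.node 152 [(174,(Int.negSucc 0))] (.node 150 [(172,(Int.negSucc 0))] (.node 149 [(171,(Int.negSucc 0))] .nil .nil) (.node 151 [(173,(Int.negSucc 0))] .nil .nil)) (.node 154 [(176,(Int.negSucc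 0))] (.node 153 [(175,(Int.negSucc 0))] .nil .nil) .nil))) (.node 219 [(226,(Int.ofNat 1))] (.node 159 [(181,(Int.negSucc 0))] (.node 157 [(179,(Int.negSucc 0))] (.node 156 [(178,(Int.negSucc 0))] .nil .nil) (.node 158 [(180,(Int.negSucc 0))] .nil .nil)) (.node 161 [(183,(Int.negSucc 0))] (.node 160 [(182,(Int.negSucc 0))] .nil .nil) .nil)) (.node 223 [(230,(Int.ofNat 1))] (.node 221 [(228,(Int.ofNat 1))] (.node 220 [(227,(Int.ofNat 1))] .nil .nil) (.node 222 [(229,(Int.ofNat 1))] .nil .nil)) (.node 225 [(233,(Int.ofNat 1))] (.node 224 [(231,(Int.ofNat 1))] .nil .nil) .nil)))))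
noncomputable def ch163 : Tr (List (ℕ × ℤ)) := (.node 104 [(162,(Int.negSucc 0))] (.node 53 [(85,(Int.ofNat 1))] (.node 46 [(78,(Int.ofNat 1))] (.node 10 [(22,(Int.ofNat 1))] (.node 7 [(15,(Int.negSucc 0))] (.node 5 [(14,(Int.negSucc 0))] .nil .nil) (.node 9 [(21,(Int.ofNat 1))] .nil .nil)) (.node 12 [(24,(Int.ofNat 1))] (.node 11 [(23,(Int.ofNat 1))] .nil .nil) (.node 13 [(25,(Int.ofNat 1))] .nil .nil))) (.node 50 [(82,(Int.ofNat 1))] (.node 48 [(80,(Int.ofNat 1))] (.node 47 [(79,(Int.ofNat 1))] .nil .nil) (.node 49 [(81,(Int.ofNat 1))] .nil .nil)) (.node 52 [(84,(Int.ofNat 1))] (.node 51 [(83,(Int.ofNat 1))] .nil .nil) .nil))) (.node 70 [(97,(Int.negSucc 0))] (.node 67 [(94,(Int.negSucc 0))] (.node 55 [(87,(Int.ofNat 1))] (.node 54 [(86,(Int.ofNat 1))] .nil .nil) (.node 66 [(93,(Int.negSucc 0))] .nil .nil))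 (.node 69 [(96,(Int.negSucc 0))] (.node 68 [(95,(Int.negSucc 0))] .nil .nil) .nil)) (.node 74 [(108,(Int.ofNat 1))] (.node 72 [(106,(Int.ofNat 1))] (.node 71 [(105,(Int.ofNat 1))] .nil .nil) (.node 73 [(107,(Int.ofNat 1))] .nil .nil)) (.node 77 [(135,(Int.ofNat 1))] (.node 75 [(109,(Int.ofNat 1))] .nil .nil) .nil)))) (.node 155 [(187,(Int.negSucc 0))] (.node 143 [(170,(Int.ofNat 1))] (.node 133 [(167,(Int.negSucc 0))] (.node 131 [(165,(Int.negSucc 0))] (.node 130 [(164,(Int.negSucc 0))] .nil .nil) (.node 132 [(166,(Int.negSucc 0))] .nil .nil)) (.node 142 [(169,(Int.ofNat 1))] (.node 134 [(168,(Int.negSucc 0))] .nil .nil) .nil)) (.node 152 [(184,(Int.negSucc 0))] (.node 145 [(172,(Int.ofNat 1))] (.node 144 [(171,(Int.ofNat 1))] .nil .nil) (.node 146 [(173,(Int.ofNat 1))] .nil .nil)) (.node 154 [(186,(Int.negSucc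 0))] (.node 153 [(185,(Int.negSucc 0))] .nil .nil) .nil))) (.node 214 [(226,(Int.negSucc 0))] (.node 159 [(191,(Int.negSucc 0))] (.node 157 [(189,(Int.negSucc 0))] (.node 156 [(188,(Int.negSucc 0))] .nil .nil) (.node 158 [(190,(Int.negSucc 0))] .nil .nil)) (.node 161 [(193,(Int.negSucc 0))] (.node 160 [(192,(Int.negSucc 0))] .nil .nil) .nil)) (.node 218 [(230,(Int.negSucc 0))] (.node 216 [(228,(Int.negSucc 0))] (.node 215 [(227,(Int.negSucc 0))] .nil .nil) (.node 217 [(229,(Int.negSucc 0))] .nil .nil)) (.node 225 [(234,(Int.ofNat 1))] (.node 224 [(232,(Int.ofNat 1))] .nil .nil) .nil)))))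
noncomputable def ch164 : Tr (List (ℕ × ℤ)) := (.node 103 [(162,(Int.negSucc 0))] (.node 53 [(89,(Int.negSucc 0))] (.node 40 [(78,(Int.ofNat 1))] (.node 10 [(26,(Int.negSucc 0))] (.node 7 [(16,(Int.ofNat 1))] (.node 4 [(14,(Int.negSucc 0))] .nil .nil) (.node 8 [(21,(Int.ofNat 1))] .nil .nil)) (.node 12 [(28,(Int.negSucc 0))] (.node 11 [(27,(Int.negSucc 0))] .nil .nil) (.node 13 [(29,(Int.negSucc 0))] .nil .nil))) (.node 44 [(82,(Int.ofNat 1))] (.node 42 [(80,(Int.ofNat 1))] (.node 41 [(79,(Int.ofNat 1))] .nil .nil) (.node 43 [(81,(Int.ofNat 1))] .nil .nil)) (.node 52 [(88,(Int.negSucc 0))] (.node 45 [(83,(Int.ofNat 1))] .nil .nil) .nil))) (.node 70 [(98,(Int.ofNat 1))] (.node 63 [(94,(Int.negSucc 0))] (.node 55 [(91,(Int.negSucc 0))] (.node 54 [(90,(Int.negSucc 0))] .nil .nil) (.node 62 [(93,(Int.negSucc 0))]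 .nil .nil)) (.node 65 [(96,(Int.negSucc 0))] (.node 64 [(95,(Int.negSucc 0))] .nil .nil) .nil)) (.node 74 [(113,(Int.ofNat 1))] (.node 72 [(111,(Int.ofNat 1))] (.node 71 [(110,(Int.ofNat 1))] .nil .nil) (.node 73 [(112,(Int.ofNat 1))] .nil .nil)) (.node 77 [(136,(Int.ofNat 1))] (.node 76 [(130,(Int.ofNat 1))] .nil .nil) .nil)))) (.node 151 [(187,(Int.ofNat 1))] (.node 143 [(174,(Int.ofNat 1))] (.node 128 [(167,(Int.negSucc 0))] (.node 126 [(165,(Int.negSucc 0))] (.node 109 [(163,(Int.negSucc 0))] .nil .nil) (.node 127 [(166,(Int.negSucc 0))] .nil .nil)) (.node 141 [(169,(Int.negSucc 0))] (.node 129 [(168,(Int.negSucc 0))] .nil .nil) .nil)) (.node 148 [(184,(Int.ofNat 1))] (.node 145 [(176,(Int.ofNat 1))] (.node 144 [(175,(Int.ofNat 1))] .nil .nil) (.node 146 [(177,(Int.ofNat 1))] .nil .nil)) (.node 150 [(186,(Int.ofNat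 1))] (.node 149 [(185,(Int.ofNat 1))] .nil .nil) .nil))) (.node 210 [(226,(Int.ofNat 1))] (.node 159 [(197,(Int.negSucc 0))] (.node 157 [(195,(Int.negSucc 0))] (.node 156 [(194,(Int.negSucc 0))] .nil .nil) (.node 158 [(196,(Int.negSucc 0))] .nil .nil)) (.node 161 [(199,(Int.negSucc 0))] (.node 160 [(198,(Int.negSucc 0))] .nil .nil) .nil)) (.node 218 [(231,(Int.negSucc 0))] (.node 212 [(228,(Int.ofNat 1))] (.node 211 [(227,(Int.ofNat 1))] .nil .nil) (.node 213 [(229,(Int.ofNat 1))] .nil .nil)) (.node 225 [(235,(Int.ofNat 1))] (.node 223 [(232,(Int.negSucc 0))] .nil .nil) .nil)))))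
noncomputable def ch165 : Tr (List (ℕ × ℤ)) := (.node 102 [(162,(Int.negSucc 0))] (.node 50 [(89,(Int.negSucc 0))] (.node 37 [(78,(Int.ofNat 1))] (.node 9 [(26,(Int.negSucc 0))] (.node 7 [(17,(Int.negSucc 0))] (.node 3 [(14,(Int.negSucc 0))] .nil .nil) (.node 8 [(22,(Int.negSucc 0))] .nil .nil)) (.node 12 [(31,(Int.ofNat 1))] (.node 11 [(30,(Int.ofNat 1))] .nil .nil) (.node 13 [(32,(Int.ofNat 1))] .nil .nil))) (.node 44 [(85,(Int.negSucc 0))] (.node 39 [(80,(Int.ofNat 1))] (.node 38 [(79,(Int.ofNat 1))] .nil .nil) (.node 43 [(84,(Int.negSucc 0))] .nil .nil)) (.node 49 [(88,(Int.negSucc 0))] (.node 45 [(86,(Int.negSucc 0))] .nil .nil) .nil))) (.node 69 [(98,(Int.ofNat 1))] (.node 60 [(94,(Int.negSucc 0))] (.node 55 [(92,(Int.ofNat 1))] (.node 51 [(90,(Int.negSucc 0))] .nil .nil) (.node 59 [(93,(Int.negSucc 0))]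 .nil .nil)) (.node 65 [(97,(Int.ofNat 1))] (.node 61 [(95,(Int.negSucc 0))] .nil .nil) .nil)) (.node 75 [(126,(Int.ofNat 1))] (.node 72 [(115,(Int.ofNat 1))] (.node 71 [(114,(Int.ofNat 1))] .nil .nil) (.node 73 [(116,(Int.ofNat 1))] .nil .nil)) (.node 77 [(137,(Int.ofNat 1))] (.node 76 [(131,(Int.ofNat 1))] .nil .nil) .nil)))) (.node 151 [(190,(Int.ofNat 1))] (.node 142 [(174,(Int.negSucc 0))] (.node 124 [(167,(Int.negSucc 0))] (.node 113 [(164,(Int.negSucc 0))] (.node 108 [(163,(Int.negSucc 0))] .nil .nil) (.node 123 [(166,(Int.negSucc 0))] .nil .nil)) (.node 141 [(170,(Int.negSucc 0))] (.node 125 [(168,(Int.negSucc 0))] .nil .nil) .nil)) (.node 147 [(184,(Int.negSucc 0))] (.node 145 [(179,(Int.ofNat 1))] (.node 144 [(178,(Int.ofNat 1))] .nil .nil) (.node 146 [(180,(Int.ofNat 1))] .nil .nil)) (.node 150 [(189,(Int.ofNat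 1))] (.node 149 [(188,(Int.ofNat 1))] .nil .nil) .nil))) (.node 207 [(226,(Int.negSucc 0))] (.node 159 [(200,(Int.negSucc 0))] (.node 154 [(195,(Int.ofNat 1))] (.node 153 [(194,(Int.ofNat 1))] .nil .nil) (.node 155 [(196,(Int.ofNat 1))] .nil .nil)) (.node 161 [(202,(Int.negSucc 0))] (.node 160 [(201,(Int.negSucc 0))] .nil .nil) .nil)) (.node 217 [(231,(Int.ofNat 1))] (.node 209 [(228,(Int.negSucc 0))] (.node 208 [(227,(Int.negSucc 0))] .nil .nil) (.node 213 [(230,(Int.ofNat 1))] .nil .nil)) (.node 225 [(236,(Int.ofNat 1))] (.node 222 [(232,(Int.ofNat 1))] .nil .nil) .nil)))))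
noncomputable def ch166 : Tr (List (ℕ × ℤ)) := (.node 101 [(162,(Int.negSucc 0))] (.node 48 [(89,(Int.negSucc 0))] (.node 36 [(78,(Int.ofNat 1))] (.node 9 [(27,(Int.ofNat 1))] (.node 7 [(18,(Int.ofNat 1))] (.node 2 [(14,(Int.negSucc 0))] .nil .nil) (.node 8 [(23,(Int.ofNat 1))] .nil .nil)) (.node 12 [(33,(Int.negSucc 0))] (.node 10 [(30,(Int.ofNat 1))] .nil .nil) (.node 13 [(34,(Int.negSucc 0))] .nil .nil))) (.node 42 [(85,(Int.negSucc 0))] (.node 39 [(82,(Int.negSucc 0))] (.node 38 [(81,(Int.negSucc 0))] .nil .nil) (.node 41 [(84,(Int.negSucc 0))] .nil .nil)) (.node 47 [(88,(Int.negSucc 0))] (.node 45 [(87,(Int.ofNat 1))] .nil .nil) .nil))) (.node 68 [(98,(Int.ofNat 1))] (.node 58 [(94,(Int.negSucc 0))] (.node 54 [(92,(Int.ofNat 1))] (.node 51 [(91,(Int.ofNat 1))] .nil .nil) (.node 57 [(93,(Int.negSucc 0))] .nil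 .nil)) (.node 64 [(97,(Int.ofNat 1))] (.node 61 [(96,(Int.ofNat 1))] .nil .nil) .nil)) (.node 75 [(127,(Int.ofNat 1))] (.node 72 [(118,(Int.ofNat 1))] (.node 71 [(117,(Int.ofNat 1))] .nil .nil) (.node 74 [(123,(Int.ofNat 1))] .nil .nil)) (.node 77 [(138,(Int.ofNat 1))] (.node 76 [(132,(Int.ofNat 1))] .nil .nil) .nil)))) (.node 151 [(192,(Int.ofNat 1))] (.node 142 [(175,(Int.negSucc 0))] (.node 121 [(167,(Int.negSucc 0))] (.node 112 [(164,(Int.negSucc 0))] (.node 107 [(163,(Int.negSucc 0))] .nil .nil) (.node 116 [(165,(Int.negSucc 0))] .nil .nil)) (.node 141 [(171,(Int.negSucc 0))] (.node 122 [(168,(Int.negSucc 0))] .nil .nil) .nil)) (.node 147 [(185,(Int.negSucc 0))] (.node 145 [(181,(Int.ofNat 1))] (.node 143 [(178,(Int.negSucc 0))] .nil .nil) (.node 146 [(182,(Int.ofNat 1))] .nil .nil)) (.node 150 [(191,(Int.ofNat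 1))] (.node 148 [(188,(Int.negSucc 0))] .nil .nil) .nil))) (.node 205 [(226,(Int.ofNat 1))] (.node 157 [(200,(Int.ofNat 1))] (.node 154 [(197,(Int.ofNat 1))] (.node 152 [(194,(Int.negSucc 0))] .nil .nil) (.node 155 [(198,(Int.ofNat 1))] .nil .nil)) (.node 161 [(203,(Int.negSucc 0))] (.node 158 [(201,(Int.ofNat 1))] .nil .nil) .nil)) (.node 216 [(231,(Int.negSucc 0))] (.node 209 [(229,(Int.negSucc 0))] (.node 206 [(227,(Int.ofNat 1))] .nil .nil) (.node 212 [(230,(Int.negSucc 0))] .nil .nil)) (.node 225 [(237,(Int.ofNat 1))] (.node 221 [(232,(Int.negSucc 0))] .nil .nil) .nil)))))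
noncomputable def ch167 : Tr (List (ℕ × ℤ)) := (.node 100 [(162,(Int.negSucc 0))] (.node 48 [(90,(Int.ofNat 1))] (.node 36 [(79,(Int.negSucc 0))] (.node 9 [(28,(Int.negSucc 0))] (.node 7 [(19,(Int.negSucc 0))] (.node 1 [(14,(Int.negSucc 0))] .nil .nil) (.node 8 [(24,(Int.negSucc 0))] .nil .nil)) (.node 11 [(33,(Int.negSucc 0))] (.node 10 [(31,(Int.negSucc 0))] .nil .nil) (.node 13 [(35,(Int.ofNat 1))] .nil .nil))) (.node 42 [(86,(Int.ofNat 1))] (.node 39 [(83,(Int.ofNat 1))] (.node 37 [(81,(Int.negSucc 0))] .nil .nil) (.node 40 [(84,(Int.negSucc 0))] .nil .nil)) (.node 46 [(88,(Int.negSucc 0))] (.node 44 [(87,(Int.ofNat 1))] .nil .nil) .nil))) (.node 67 [(98,(Int.ofNat 1))] (.node 58 [(95,(Int.ofNat 1))] (.node 53 [(92,(Int.ofNat 1))] (.node 50 [(91,(Int.ofNat 1))] .nil .nil) (.node 56 [(93,(Int.negSucc 0))] .nil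 .nil)) (.node 63 [(97,(Int.ofNat 1))] (.node 60 [(96,(Int.ofNat 1))] .nil .nil) .nil)) (.node 75 [(128,(Int.ofNat 1))] (.node 73 [(121,(Int.ofNat 1))] (.node 71 [(119,(Int.ofNat 1))] .nil .nil) (.node 74 [(124,(Int.ofNat 1))] .nil .nil)) (.node 77 [(139,(Int.ofNat 1))] (.node 76 [(133,(Int.ofNat 1))] .nil .nil) .nil)))) (.node 151 [(193,(Int.ofNat 1))] (.node 142 [(176,(Int.negSucc 0))] (.node 118 [(166,(Int.negSucc 0))] (.node 111 [(164,(Int.negSucc 0))] (.node 106 [(163,(Int.negSucc 0))] .nil .nil) (.node 115 [(165,(Int.negSucc 0))] .nil .nil)) (.node 141 [(172,(Int.negSucc 0))] (.node 120 [(168,(Int.negSucc 0))] .nil .nil) .nil)) (.node 147 [(186,(Int.negSucc 0))] (.node 144 [(181,(Int.negSucc 0))] (.node 143 [(179,(Int.negSucc 0))] .nil .nil) (.node 146 [(183,(Int.ofNat 1))] .nil .nil)) (.node 149 [(191,(Int.negSucc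 0))] (.node 148 [(189,(Int.negSucc 0))] .nil .nil) .nil))) (.node 204 [(226,(Int.negSucc 0))] (.node 156 [(200,(Int.negSucc 0))] (.node 153 [(197,(Int.negSucc 0))] (.node 152 [(195,(Int.negSucc 0))] .nil .nil) (.node 155 [(199,(Int.ofNat 1))] .nil .nil)) (.node 160 [(203,(Int.ofNat 1))] (.node 158 [(202,(Int.ofNat 1))] .nil .nil) .nil)) (.node 215 [(231,(Int.ofNat 1))] (.node 208 [(229,(Int.ofNat 1))] (.node 206 [(228,(Int.ofNat 1))] .nil .nil) (.node 211 [(230,(Int.ofNat 1))] .nil .nil)) (.node 225 [(238,(Int.ofNat 1))] (.node 220 [(232,(Int.ofNat 1))] .nil .nil) .nil)))))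
noncomputable def ch168 : Tr (List (ℕ × ℤ)) := (.node 99 [(162,(Int.negSucc 0))] (.node 47 [(90,(Int.ofNat 1))] (.node 36 [(80,(Int.ofNat 1))] (.node 9 [(29,(Int.ofNat 1))] (.node 7 [(20,(Int.ofNat 1))] (.node 0 [(14,(Int.negSucc 0))] .nil .nil) (.node 8 [(25,(Int.ofNat 1))] .nil .nil)) (.node 11 [(34,(Int.ofNat 1))] (.node 10 [(32,(Int.ofNat 1))] .nil .nil) (.node 12 [(35,(Int.ofNat 1))] .nil .nil))) (.node 41 [(86,(Int.ofNat 1))] (.node 38 [(83,(Int.ofNat 1))] (.node 37 [(82,(Int.ofNat 1))] .nil .nil) (.node 40 [(85,(Int.ofNat 1))] .nil .nil)) (.node 46 [(89,(Int.ofNat 1))] (.node 43 [(87,(Int.ofNat 1))] .nil .nil) .nil))) (.node 66 [(98,(Int.ofNat 1))] (.node 57 [(95,(Int.ofNat 1))] (.node 52 [(92,(Int.ofNat 1))] (.node 49 [(91,(Int.ofNat 1))] .nil .nil) (.node 56 [(94,(Int.ofNat 1))] .nil .nil)) (.node 62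 [(97,(Int.ofNat 1))] (.node 59 [(96,(Int.ofNat 1))] .nil .nil) .nil)) (.node 75 [(129,(Int.ofNat 1))] (.node 73 [(122,(Int.ofNat 1))] (.node 72 [(120,(Int.ofNat 1))] .nil .nil) (.node 74 [(125,(Int.ofNat 1))] .nil .nil)) (.node 77 [(140,(Int.ofNat 1))] (.node 76 [(134,(Int.ofNat 1))] .nil .nil) .nil)))) (.node 150 [(193,(Int.negSucc 0))] (.node 142 [(177,(Int.negSucc 0))] (.node 117 [(166,(Int.negSucc 0))] (.node 110 [(164,(Int.negSucc 0))] (.node 105 [(163,(Int.negSucc 0))] .nil .nil) (.node 114 [(165,(Int.negSucc 0))] .nil .nil)) (.node 141 [(173,(Int.negSucc 0))] (.node 119 [(167,(Int.negSucc 0))] .nil .nil) .nil)) (.node 147 [(187,(Int.negSucc 0))] (.node 144 [(182,(Int.negSucc 0))] (.node 143 [(180,(Int.negSucc 0))] .nil .nil) (.node 145 [(183,(Int.negSucc 0))] .nil .nil)) (.node 149 [(192,(Int.negSucc 0))]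 (.node 148 [(190,(Int.negSucc 0))] .nil .nil) .nil))) (.node 204 [(227,(Int.negSucc 0))] (.node 156 [(201,(Int.negSucc 0))] (.node 153 [(198,(Int.negSucc 0))] (.node 152 [(196,(Int.negSucc 0))] .nil .nil) (.node 154 [(199,(Int.negSucc 0))] .nil .nil)) (.node 159 [(203,(Int.negSucc 0))] (.node 157 [(202,(Int.negSucc 0))] .nil .nil) .nil)) (.node 214 [(231,(Int.negSucc 0))] (.node 207 [(229,(Int.negSucc 0))] (.node 205 [(228,(Int.negSucc 0))] .nil .nil) (.node 210 [(230,(Int.negSucc 0))] .nil .nil)) (.node 225 [(239,(Int.ofNat 1))] (.node 219 [(232,(Int.negSucc 0))] .nil .nil) .nil)))))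
noncomputable def ch169 : Tr (List (ℕ × ℤ)) := (.node 92 [(162,(Int.negSucc 0))] (.node 53 [(100,(Int.ofNat 1))] (.node 30 [(78,(Int.ofNat 1))] (.node 10 [(36,(Int.ofNat 1))] (.node 5 [(16,(Int.ofNat 1))] (.node 4 [(15,(Int.ofNat 1))] .nil .nil) (.node 6 [(21,(Int.ofNat 1))] .nil .nil)) (.node 12 [(38,(Int.ofNat 1))] (.node 11 [(37,(Int.ofNat 1))] .nil .nil) (.node 13 [(39,(Int.ofNat 1))] .nil .nil))) (.node 34 [(82,(Int.ofNat 1))] (.node 32 [(80,(Int.ofNat 1))] (.node 31 [(79,(Int.ofNat 1))] .nil .nil) (.node 33 [(81,(Int.ofNat 1))] .nil .nil)) (.node 52 [(99,(Int.ofNat 1))] (.node 35 [(83,(Int.ofNat 1))] .nil .nil) .nil))) (.node 66 [(110,(Int.ofNat 1))] (.node 63 [(106,(Int.negSucc 0))] (.node 55 [(102,(Int.ofNat 1))] (.node 54 [(101,(Int.ofNat 1))] .nil .nil) (.node 62 [(105,(Int.negSucc 0))] .nil .nil)) (.node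 65 [(108,(Int.negSucc 0))] (.node 64 [(107,(Int.negSucc 0))] .nil .nil) .nil)) (.node 75 [(141,(Int.ofNat 1))] (.node 68 [(112,(Int.ofNat 1))] (.node 67 [(111,(Int.ofNat 1))] .nil .nil) (.node 69 [(113,(Int.ofNat 1))] .nil .nil)) (.node 77 [(147,(Int.ofNat 1))] (.node 76 [(142,(Int.negSucc 0))] .nil .nil) .nil)))) (.node 140 [(187,(Int.negSucc 0))] (.node 131 [(174,(Int.ofNat 1))] (.node 127 [(171,(Int.negSucc 0))] (.node 98 [(164,(Int.negSucc 0))] (.node 97 [(163,(Int.ofNat 1))] .nil .nil) (.node 126 [(170,(Int.negSucc 0))] .nil .nil)) (.node 129 [(173,(Int.negSucc 0))] (.node 128 [(172,(Int.negSucc 0))] .nil .nil) .nil)) (.node 137 [(184,(Int.negSucc 0))] (.node 133 [(176,(Int.ofNat 1))] (.node 132 [(175,(Int.ofNat 1))] .nil .nil) (.node 134 [(177,(Int.ofNat 1))] .nil .nil)) (.node 139 [(186,(Int.negSucc 0))]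 (.node 138 [(185,(Int.negSucc 0))] .nil .nil) .nil))) (.node 200 [(226,(Int.negSucc 0))] (.node 159 [(207,(Int.negSucc 0))] (.node 157 [(205,(Int.negSucc 0))] (.node 156 [(204,(Int.negSucc 0))] .nil .nil) (.node 158 [(206,(Int.negSucc 0))] .nil .nil)) (.node 161 [(209,(Int.negSucc 0))] (.node 160 [(208,(Int.negSucc 0))] .nil .nil) .nil)) (.node 218 [(233,(Int.negSucc 0))] (.node 202 [(228,(Int.negSucc 0))] (.node 201 [(227,(Int.negSucc 0))] .nil .nil) (.node 203 [(229,(Int.negSucc 0))] .nil .nil)) (.node 224 [(235,(Int.negSucc 0))] (.node 223 [(234,(Int.negSucc 0))] .nil .nil) .nil)))))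
noncomputable def ch170 : Tr (List (ℕ × ℤ)) := (.node 91 [(162,(Int.negSucc 0))] (.node 50 [(100,(Int.ofNat 1))] (.node 27 [(78,(Int.ofNat 1))] (.node 9 [(36,(Int.ofNat 1))] (.node 5 [(17,(Int.negSucc 0))] (.node 3 [(15,(Int.ofNat 1))] .nil .nil) (.node 6 [(22,(Int.negSucc 0))] .nil .nil)) (.node 12 [(41,(Int.negSucc 0))] (.node 11 [(40,(Int.negSucc 0))] .nil .nil) (.node 13 [(42,(Int.negSucc 0))] .nil .nil))) (.node 34 [(85,(Int.negSucc 0))] (.node 29 [(80,(Int.ofNat 1))] (.node 28 [(79,(Int.ofNat 1))] .nil .nil) (.node 33 [(84,(Int.negSucc 0))] .nil .nil)) (.node 49 [(99,(Int.ofNat 1))] (.node 35 [(86,(Int.negSucc 0))] .nil .nil) .nil))) (.node 66 [(114,(Int.ofNat 1))] (.node 60 [(106,(Int.negSucc 0))] (.node 55 [(103,(Int.negSucc 0))] (.node 51 [(101,(Int.ofNat 1))] .nil .nil) (.node 59 [(105,(Int.negSucc 0))]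 .nil .nil)) (.node 65 [(109,(Int.ofNat 1))] (.node 61 [(107,(Int.negSucc 0))] .nil .nil) .nil)) (.node 74 [(141,(Int.ofNat 1))] (.node 68 [(116,(Int.ofNat 1))] (.node 67 [(115,(Int.ofNat 1))] .nil .nil) (.node 70 [(126,(Int.ofNat 1))] .nil .nil)) (.node 77 [(148,(Int.ofNat 1))] (.node 76 [(143,(Int.negSucc 0))] .nil .nil) .nil)))) (.node 140 [(190,(Int.negSucc 0))] (.node 130 [(174,(Int.negSucc 0))] (.node 123 [(171,(Int.negSucc 0))] (.node 98 [(165,(Int.negSucc 0))] (.node 96 [(163,(Int.ofNat 1))] .nil .nil) (.node 113 [(169,(Int.negSucc 0))] .nil .nil)) (.node 125 [(173,(Int.negSucc 0))] (.node 124 [(172,(Int.negSucc 0))] .nil .nil) .nil)) (.node 136 [(184,(Int.ofNat 1))] (.node 133 [(179,(Int.ofNat 1))] (.node 132 [(178,(Int.ofNat 1))] .nil .nil) (.node 134 [(180,(Int.ofNat 1))] .nil .nil)) (.node 139 [(189,(Int.negSucc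 0))] (.node 138 [(188,(Int.negSucc 0))] .nil .nil) .nil))) (.node 197 [(226,(Int.ofNat 1))] (.node 159 [(210,(Int.negSucc 0))] (.node 154 [(205,(Int.ofNat 1))] (.node 153 [(204,(Int.ofNat 1))] .nil .nil) (.node 155 [(206,(Int.ofNat 1))] .nil .nil)) (.node 161 [(212,(Int.negSucc 0))] (.node 160 [(211,(Int.negSucc 0))] .nil .nil) .nil)) (.node 217 [(233,(Int.ofNat 1))] (.node 199 [(228,(Int.ofNat 1))] (.node 198 [(227,(Int.ofNat 1))] .nil .nil) (.node 203 [(230,(Int.negSucc 0))] .nil .nil)) (.node 224 [(236,(Int.negSucc 0))] (.node 222 [(234,(Int.ofNat 1))] .nil .nil) .nil)))))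
noncomputable def ch171 : Tr (List (ℕ × ℤ)) := (.node 90 [(162,(Int.negSucc 0))] (.node 48 [(100,(Int.ofNat 1))] (.node 26 [(78,(Int.ofNat 1))] (.node 9 [(37,(Int.negSucc 0))] (.node 5 [(18,(Int.ofNat 1))] (.node 2 [(15,(Int.ofNat 1))] .nil .nil) (.node 6 [(23,(Int.ofNat 1))] .nil .nil)) (.node 12 [(43,(Int.ofNat 1))] (.node 10 [(40,(Int.negSucc 0))] .nil .nil) (.node 13 [(44,(Int.ofNat 1))] .nil .nil))) (.node 32 [(85,(Int.negSucc 0))] (.node 29 [(82,(Int.negSucc 0))] (.node 28 [(81,(Int.negSucc 0))] .nil .nil) (.node 31 [(84,(Int.negSucc 0))] .nil .nil)) (.node 47 [(99,(Int.ofNat 1))] (.node 35 [(87,(Int.ofNat 1))] .nil .nil) .nil))) (.node 66 [(117,(Int.ofNat 1))] (.node 58 [(106,(Int.negSucc 0))] (.node 54 [(103,(Int.negSucc 0))] (.node 51 [(102,(Int.negSucc 0))] .nil .nil) (.node 57 [(105,(Int.negSucc 0))]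 .nil .nil)) (.node 64 [(109,(Int.ofNat 1))] (.node 61 [(108,(Int.ofNat 1))] .nil .nil) .nil)) (.node 73 [(141,(Int.ofNat 1))] (.node 69 [(123,(Int.ofNat 1))] (.node 67 [(118,(Int.ofNat 1))] .nil .nil) (.node 70 [(127,(Int.ofNat 1))] .nil .nil)) (.node 77 [(149,(Int.ofNat 1))] (.node 76 [(144,(Int.negSucc 0))] .nil .nil) .nil)))) (.node 140 [(192,(Int.negSucc 0))] (.node 130 [(175,(Int.negSucc 0))] (.node 116 [(170,(Int.negSucc 0))] (.node 98 [(166,(Int.negSucc 0))] (.node 95 [(163,(Int.ofNat 1))] .nil .nil) (.node 112 [(169,(Int.negSucc 0))] .nil .nil)) (.node 122 [(173,(Int.negSucc 0))] (.node 121 [(172,(Int.negSucc 0))] .nil .nil) .nil)) (.node 136 [(185,(Int.ofNat 1))] (.node 133 [(181,(Int.ofNat 1))] (.node 131 [(178,(Int.negSucc 0))] .nil .nil) (.node 134 [(182,(Int.ofNat 1))] .nil .nil)) (.node 139 [(191,(Int.negSucc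 0))] (.node 137 [(188,(Int.ofNat 1))] .nil .nil) .nil))) (.node 195 [(226,(Int.negSucc 0))] (.node 157 [(210,(Int.ofNat 1))] (.node 154 [(207,(Int.ofNat 1))] (.node 152 [(204,(Int.negSucc 0))] .nil .nil) (.node 155 [(208,(Int.ofNat 1))] .nil .nil)) (.node 161 [(213,(Int.negSucc 0))] (.node 158 [(211,(Int.ofNat 1))] .nil .nil) .nil)) (.node 216 [(233,(Int.negSucc 0))] (.node 199 [(229,(Int.ofNat 1))] (.node 196 [(227,(Int.negSucc 0))] .nil .nil) (.node 202 [(230,(Int.ofNat 1))] .nil .nil)) (.node 224 [(237,(Int.negSucc 0))] (.node 221 [(234,(Int.negSucc 0))] .nil .nil) .nil)))))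
noncomputable def ch172 : Tr (List (ℕ × ℤ)) := (.node 89 [(162,(Int.negSucc 0))] (.node 48 [(101,(Int.negSucc 0))] (.node 26 [(79,(Int.negSucc 0))] (.node 9 [(38,(Int.ofNat 1))] (.node 5 [(19,(Int.negSucc 0))] (.node 1 [(15,(Int.ofNat 1))] .nil .nil) (.node 6 [(24,(Int.negSucc 0))] .nil .nil)) (.node 11 [(43,(Int.ofNat 1))] (.node 10 [(41,(Int.ofNat 1))] .nil .nil) (.node 13 [(45,(Int.negSucc 0))] .nil .nil))) (.node 32 [(86,(Int.ofNat 1))] (.node 29 [(83,(Int.ofNat 1))] (.node 27 [(81,(Int.negSucc 0))] .nil .nil) (.node 30 [(84,(Int.negSucc 0))] .nil .nil)) (.node 46 [(99,(Int.ofNat 1))] (.node 34 [(87,(Int.ofNat 1))] .nil .nil) .nil))) (.node 66 [(119,(Int.ofNat 1))] (.node 58 [(107,(Int.ofNat 1))] (.node 53 [(103,(Int.negSucc 0))] (.node 50 [(102,(Int.negSucc 0))] .nil .nil) (.node 56 [(105,(Int.negSucc 0))]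 .nil .nil)) (.node 63 [(109,(Int.ofNat 1))] (.node 60 [(108,(Int.ofNat 1))] .nil .nil) .nil)) (.node 72 [(141,(Int.ofNat 1))] (.node 69 [(124,(Int.ofNat 1))] (.node 68 [(121,(Int.ofNat 1))] .nil .nil) (.node 70 [(128,(Int.ofNat 1))] .nil .nil)) (.node 77 [(150,(Int.ofNat 1))] (.node 76 [(145,(Int.negSucc 0))] .nil .nil) .nil)))) (.node 140 [(193,(Int.negSucc 0))] (.node 130 [(176,(Int.negSucc 0))] (.node 115 [(170,(Int.negSucc 0))] (.node 98 [(167,(Int.negSucc 0))] (.node 94 [(163,(Int.ofNat 1))] .nil .nil) (.node 111 [(169,(Int.negSucc 0))] .nil .nil)) (.node 120 [(173,(Int.negSucc 0))] (.node 118 [(171,(Int.negSucc 0))] .nil .nil) .nil)) (.node 136 [(186,(Int.ofNat 1))] (.node 132 [(181,(Int.negSucc 0))] (.node 131 [(179,(Int.negSucc 0))] .nil .nil) (.node 134 [(183,(Int.ofNat 1))] .nil .nil)) (.node 138 [(191,(Int.ofNat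 1))] (.node 137 [(189,(Int.ofNat 1))] .nil .nil) .nil))) (.node 194 [(226,(Int.ofNat 1))] (.node 156 [(210,(Int.negSucc 0))] (.node 153 [(207,(Int.negSucc 0))] (.node 152 [(205,(Int.negSucc 0))] .nil .nil) (.node 155 [(209,(Int.ofNat 1))] .nil .nil)) (.node 160 [(213,(Int.ofNat 1))] (.node 158 [(212,(Int.ofNat 1))] .nil .nil) .nil)) (.node 215 [(233,(Int.ofNat 1))] (.node 198 [(229,(Int.negSucc 0))] (.node 196 [(228,(Int.negSucc 0))] .nil .nil) (.node 201 [(230,(Int.negSucc 0))] .nil .nil)) (.node 224 [(238,(Int.negSucc 0))] (.node 220 [(234,(Int.ofNat 1))] .nil .nil) .nil)))))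
noncomputable def ch173 : Tr (List (ℕ × ℤ)) := (.node 88 [(162,(Int.negSucc 0))] (.node 47 [(101,(Int.negSucc 0))] (.node 26 [(80,(Int.ofNat 1))] (.node 9 [(39,(Int.negSucc 0))] (.node 5 [(20,(Int.ofNat 1))] (.node 0 [(15,(Int.ofNat 1))] .nil .nil) (.node 6 [(25,(Int.ofNat 1))] .nil .nil)) (.node 11 [(44,(Int.negSucc 0))] (.node 10 [(42,(Int.negSucc 0))] .nil .nil) (.node 12 [(45,(Int.negSucc 0))] .nil .nil))) (.node 31 [(86,(Int.ofNat 1))] (.node 28 [(83,(Int.ofNat 1))] (.node 27 [(82,(Int.ofNat 1))] .nil .nil) (.node 30 [(85,(Int.ofNat 1))] .nil .nil)) (.node 46 [(100,(Int.negSucc 0))] (.node 33 [(87,(Int.ofNat 1))] .nil .nil) .nil))) (.node 67 [(120,(Int.ofNat 1))] (.node 57 [(107,(Int.ofNat 1))] (.node 52 [(103,(Int.negSucc 0))] (.node 49 [(102,(Int.negSucc 0))] .nil .nil) (.node 56 [(106,(Int.ofNat 1))] .nil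 .nil)) (.node 62 [(109,(Int.ofNat 1))] (.node 59 [(108,(Int.ofNat 1))] .nil .nil) .nil)) (.node 71 [(141,(Int.ofNat 1))] (.node 69 [(125,(Int.ofNat 1))] (.node 68 [(122,(Int.ofNat 1))] .nil .nil) (.node 70 [(129,(Int.ofNat 1))] .nil .nil)) (.node 77 [(151,(Int.ofNat 1))] (.node 76 [(146,(Int.negSucc 0))] .nil .nil) .nil)))) (.node 139 [(193,(Int.ofNat 1))] (.node 130 [(177,(Int.negSucc 0))] (.node 114 [(170,(Int.negSucc 0))] (.node 98 [(168,(Int.negSucc 0))] (.node 93 [(163,(Int.ofNat 1))] .nil .nil) (.node 110 [(169,(Int.negSucc 0))] .nil .nil)) (.node 119 [(172,(Int.negSucc 0))] (.node 117 [(171,(Int.negSucc 0))] .nil .nil) .nil)) (.node 136 [(187,(Int.ofNat 1))] (.node 132 [(182,(Int.negSucc 0))] (.node 131 [(180,(Int.negSucc 0))] .nil .nil) (.node 133 [(183,(Int.negSucc 0))] .nil .nil)) (.node 138 [(192,(Int.ofNat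 1))] (.node 137 [(190,(Int.ofNat 1))] .nil .nil) .nil))) (.node 194 [(227,(Int.ofNat 1))] (.node 156 [(211,(Int.negSucc 0))] (.node 153 [(208,(Int.negSucc 0))] (.node 152 [(206,(Int.negSucc 0))] .nil .nil) (.node 154 [(209,(Int.negSucc 0))] .nil .nil)) (.node 159 [(213,(Int.negSucc 0))] (.node 157 [(212,(Int.negSucc 0))] .nil .nil) .nil)) (.node 214 [(233,(Int.negSucc 0))] (.node 197 [(229,(Int.ofNat 1))] (.node 195 [(228,(Int.ofNat 1))] .nil .nil) (.node 200 [(230,(Int.ofNat 1))] .nil .nil)) (.node 224 [(239,(Int.negSucc 0))] (.node 219 [(234,(Int.negSucc 0))] .nil .nil) .nil)))))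
noncomputable def ch174 : Tr (List (ℕ × ℤ)) := (.node 87 [(162,(Int.negSucc 0))] (.node 44 [(100,(Int.ofNat 1))] (.node 23 [(78,(Int.ofNat 1))] (.node 8 [(36,(Int.ofNat 1))] (.node 4 [(17,(Int.negSucc 0))] (.node 3 [(16,(Int.negSucc 0))] .nil .nil) (.node 6 [(26,(Int.ofNat 1))] .nil .nil)) (.node 12 [(47,(Int.ofNat 1))] (.node 11 [(46,(Int.ofNat 1))] .nil .nil) (.node 13 [(48,(Int.ofNat 1))] .nil .nil))) (.node 34 [(89,(Int.ofNat 1))] (.node 25 [(80,(Int.ofNat 1))] (.node 24 [(79,(Int.ofNat 1))] .nil .nil) (.node 33 [(88,(Int.ofNat 1))] .nil .nil)) (.node 43 [(99,(Int.ofNat 1))] (.node 35 [(90,(Int.ofNat 1))] .nil .nil) .nil))) (.node 63 [(115,(Int.ofNat 1))] (.node 60 [(111,(Int.negSucc 0))] (.node 55 [(104,(Int.ofNat 1))] (.node 45 [(101,(Int.ofNat 1))] .nil .nil) (.node 59 [(110,(Int.negSucc 0))] .nil .nil))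 (.node 62 [(114,(Int.ofNat 1))] (.node 61 [(112,(Int.negSucc 0))] .nil .nil) .nil)) (.node 74 [(142,(Int.ofNat 1))] (.node 69 [(130,(Int.ofNat 1))] (.node 64 [(116,(Int.ofNat 1))] .nil .nil) (.node 70 [(131,(Int.negSucc 0))] .nil .nil)) (.node 77 [(152,(Int.ofNat 1))] (.node 75 [(143,(Int.negSucc 0))] .nil .nil) .nil)))) (.node 140 [(196,(Int.negSucc 0))] (.node 125 [(177,(Int.negSucc 0))] (.node 109 [(170,(Int.negSucc 0))] (.node 97 [(165,(Int.negSucc 0))] (.node 96 [(164,(Int.ofNat 1))] .nil .nil) (.node 108 [(169,(Int.ofNat 1))] .nil .nil)) (.node 124 [(176,(Int.negSucc 0))] (.node 123 [(175,(Int.negSucc 0))] .nil .nil) .nil)) (.node 135 [(184,(Int.negSucc 0))] (.node 128 [(179,(Int.ofNat 1))] (.node 127 [(178,(Int.ofNat 1))] .nil .nil) (.node 129 [(180,(Int.ofNat 1))] .nil .nil)) (.node 139 [(195,(Int.negSucc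 0))] (.node 138 [(194,(Int.negSucc 0))] .nil .nil) .nil))) (.node 191 [(226,(Int.negSucc 0))] (.node 159 [(214,(Int.negSucc 0))] (.node 150 [(205,(Int.negSucc 0))] (.node 149 [(204,(Int.negSucc 0))] .nil .nil) (.node 151 [(206,(Int.negSucc 0))] .nil .nil)) (.node 161 [(216,(Int.negSucc 0))] (.node 160 [(215,(Int.negSucc 0))] .nil .nil) .nil)) (.node 213 [(233,(Int.negSucc 0))] (.node 193 [(228,(Int.negSucc 0))] (.node 192 [(227,(Int.negSucc 0))] .nil .nil) (.node 203 [(231,(Int.negSucc 0))] .nil .nil)) (.node 223 [(236,(Int.ofNat 1))] (.node 222 [(235,(Int.ofNat 1))] .nil .nil) .nil)))))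
noncomputable def ch175 : Tr (List (ℕ × ℤ)) := (.node 86 [(162,(Int.negSucc 0))] (.node 42 [(100,(Int.ofNat 1))] (.node 22 [(78,(Int.ofNat 1))] (.node 8 [(37,(Int.negSucc 0))] (.node 4 [(18,(Int.ofNat 1))] (.node 2 [(16,(Int.negSucc 0))] .nil .nil) (.node 6 [(27,(Int.negSucc 0))] .nil .nil)) (.node 12 [(49,(Int.negSucc 0))] (.node 10 [(46,(Int.ofNat 1))] .nil .nil) (.node 13 [(50,(Int.negSucc 0))] .nil .nil))) (.node 32 [(89,(Int.ofNat 1))] (.node 25 [(82,(Int.negSucc 0))] (.node 24 [(81,(Int.negSucc 0))] .nil .nil) (.node 31 [(88,(Int.ofNat 1))] .nil .nil)) (.node 41 [(99,(Int.ofNat 1))] (.node 35 [(91,(Int.negSucc 0))] .nil .nil) .nil))) (.node 63 [(118,(Int.ofNat 1))] (.node 58 [(111,(Int.negSucc 0))] (.node 54 [(104,(Int.ofNat 1))] (.node 45 [(102,(Int.negSucc 0))] .nil .nil) (.node 57 [(110,(Int.negSucc 0))]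 .nil .nil)) (.node 62 [(117,(Int.ofNat 1))] (.node 61 [(113,(Int.ofNat 1))] .nil .nil) .nil)) (.node 73 [(142,(Int.ofNat 1))] (.node 68 [(130,(Int.ofNat 1))] (.node 65 [(123,(Int.ofNat 1))] .nil .nil) (.node 70 [(132,(Int.negSucc 0))] .nil .nil)) (.node 77 [(153,(Int.ofNat 1))] (.node 75 [(144,(Int.negSucc 0))] .nil .nil) .nil)))) (.node 140 [(198,(Int.negSucc 0))] (.node 122 [(177,(Int.negSucc 0))] (.node 109 [(171,(Int.negSucc 0))] (.node 97 [(166,(Int.negSucc 0))] (.node 95 [(164,(Int.ofNat 1))] .nil .nil) (.node 107 [(169,(Int.ofNat 1))] .nil .nil)) (.node 121 [(176,(Int.negSucc 0))] (.node 116 [(174,(Int.negSucc 0))] .nil .nil) .nil)) (.node 135 [(185,(Int.negSucc 0))] (.node 128 [(181,(Int.ofNat 1))] (.node 126 [(178,(Int.negSucc 0))] .nil .nil) (.node 129 [(182,(Int.ofNat 1))] .nil .nil)) (.node 139 [(197,(Int.negSucc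 0))] (.node 137 [(194,(Int.ofNat 1))] .nil .nil) .nil))) (.node 189 [(226,(Int.ofNat 1))] (.node 157 [(214,(Int.ofNat 1))] (.node 150 [(207,(Int.negSucc 0))] (.node 148 [(204,(Int.ofNat 1))] .nil .nil) (.node 151 [(208,(Int.negSucc 0))] .nil .nil)) (.node 161 [(217,(Int.negSucc 0))] (.node 158 [(215,(Int.ofNat 1))] .nil .nil) .nil)) (.node 212 [(233,(Int.ofNat 1))] (.node 193 [(229,(Int.negSucc 0))] (.node 190 [(227,(Int.ofNat 1))] .nil .nil) (.node 202 [(231,(Int.ofNat 1))] .nil .nil)) (.node 223 [(237,(Int.ofNat 1))] (.node 221 [(235,(Int.negSucc 0))] .nil .nil) .nil)))))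
noncomputable def ch176 : Tr (List (ℕ × ℤ)) := (.node 85 [(162,(Int.negSucc 0))] (.node 42 [(101,(Int.negSucc 0))] (.node 22 [(79,(Int.negSucc 0))] (.node 8 [(38,(Int.ofNat 1))] (.node 4 [(19,(Int.negSucc 0))] (.node 1 [(16,(Int.negSucc 0))] .nil .nil) (.node 6 [(28,(Int.ofNat 1))] .nil .nil)) (.node 11 [(49,(Int.negSucc 0))] (.node 10 [(47,(Int.negSucc 0))] .nil .nil) (.node 13 [(51,(Int.ofNat 1))] .nil .nil))) (.node 32 [(90,(Int.negSucc 0))] (.node 25 [(83,(Int.ofNat 1))] (.node 23 [(81,(Int.negSucc 0))] .nil .nil) (.node 30 [(88,(Int.ofNat 1))] .nil .nil)) (.node 40 [(99,(Int.ofNat 1))] (.node 34 [(91,(Int.negSucc 0))] .nil .nil) .nil))) (.node 64 [(121,(Int.ofNat 1))] (.node 58 [(112,(Int.ofNat 1))] (.node 53 [(104,(Int.ofNat 1))] (.node 44 [(102,(Int.negSucc 0))] .nil .nil) (.node 56 [(110,(Int.negSucc 0))]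 .nil .nil)) (.node 62 [(119,(Int.ofNat 1))] (.node 60 [(113,(Int.ofNat 1))] .nil .nil) .nil)) (.node 72 [(142,(Int.ofNat 1))] (.node 67 [(130,(Int.ofNat 1))] (.node 65 [(124,(Int.ofNat 1))] .nil .nil) (.node 70 [(133,(Int.negSucc 0))] .nil .nil)) (.node 77 [(154,(Int.ofNat 1))] (.node 75 [(145,(Int.negSucc 0))] .nil .nil) .nil)))) (.node 140 [(199,(Int.negSucc 0))] (.node 120 [(177,(Int.negSucc 0))] (.node 109 [(172,(Int.negSucc 0))] (.node 97 [(167,(Int.negSucc 0))] (.node 94 [(164,(Int.ofNat 1))] .nil .nil) (.node 106 [(169,(Int.ofNat 1))] .nil .nil)) (.node 118 [(175,(Int.negSucc 0))] (.node 115 [(174,(Int.negSucc 0))] .nil .nil) .nil)) (.node 135 [(186,(Int.negSucc 0))] (.node 127 [(181,(Int.negSucc 0))] (.node 126 [(179,(Int.negSucc 0))] .nil .nil) (.node 129 [(183,(Int.ofNat 1))] .nil .nil)) (.node 138 [(197,(Int.ofNat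 1))] (.node 137 [(195,(Int.ofNat 1))] .nil .nil) .nil))) (.node 188 [(226,(Int.negSucc 0))] (.node 156 [(214,(Int.negSucc 0))] (.node 149 [(207,(Int.ofNat 1))] (.node 148 [(205,(Int.ofNat 1))] .nil .nil) (.node 151 [(209,(Int.negSucc 0))] .nil .nil)) (.node 160 [(217,(Int.ofNat 1))] (.node 158 [(216,(Int.ofNat 1))] .nil .nil) .nil)) (.node 211 [(233,(Int.negSucc 0))] (.node 192 [(229,(Int.ofNat 1))] (.node 190 [(228,(Int.ofNat 1))] .nil .nil) (.node 201 [(231,(Int.negSucc 0))] .nil .nil)) (.node 223 [(238,(Int.ofNat 1))] (.node 220 [(235,(Int.ofNat 1))] .nil .nil) .nil)))))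
noncomputable def ch177 : Tr (List (ℕ × ℤ)) := (.node 84 [(162,(Int.negSucc 0))] (.node 41 [(101,(Int.negSucc 0))] (.node 22 [(80,(Int.ofNat 1))] (.node 8 [(39,(Int.negSucc 0))] (.node 4 [(20,(Int.ofNat 1))] (.node 0 [(16,(Int.negSucc 0))] .nil .nil) (.node 6 [(29,(Int.negSucc 0))] .nil .nil)) (.node 11 [(50,(Int.ofNat 1))] (.node 10 [(48,(Int.ofNat 1))] .nil .nil) (.node 12 [(51,(Int.ofNat 1))] .nil .nil))) (.node 31 [(90,(Int.negSucc 0))] (.node 24 [(83,(Int.ofNat 1))] (.node 23 [(82,(Int.ofNat 1))] .nil .nil) (.node 30 [(89,(Int.negSucc 0))] .nil .nil)) (.node 40 [(100,(Int.negSucc 0))] (.node 33 [(91,(Int.negSucc 0))] .nil .nil) .nil))) (.node 64 [(122,(Int.ofNat 1))] (.node 57 [(112,(Int.ofNat 1))] (.node 52 [(104,(Int.ofNat 1))] (.node 43 [(102,(Int.negSucc 0))] .nil .nil) (.node 56 [(111,(Int.ofNat 1))]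 .nil .nil)) (.node 63 [(120,(Int.ofNat 1))] (.node 59 [(113,(Int.ofNat 1))] .nil .nil) .nil)) (.node 71 [(142,(Int.ofNat 1))] (.node 66 [(130,(Int.ofNat 1))] (.node 65 [(125,(Int.ofNat 1))] .nil .nil) (.node 70 [(134,(Int.negSucc 0))] .nil .nil)) (.node 77 [(155,(Int.ofNat 1))] (.node 75 [(146,(Int.negSucc 0))] .nil .nil) .nil)))) (.node 139 [(199,(Int.ofNat 1))] (.node 119 [(176,(Int.negSucc 0))] (.node 109 [(173,(Int.negSucc 0))] (.node 97 [(168,(Int.negSucc 0))] (.node 93 [(164,(Int.ofNat 1))] .nil .nil) (.node 105 [(169,(Int.ofNat 1))] .nil .nil)) (.node 117 [(175,(Int.negSucc 0))] (.node 114 [(174,(Int.negSucc 0))] .nil .nil) .nil)) (.node 135 [(187,(Int.negSucc 0))] (.node 127 [(182,(Int.negSucc 0))] (.node 126 [(180,(Int.negSucc 0))] .nil .nil) (.node 128 [(183,(Int.negSucc 0))] .nil .nil)) (.node 138 [(198,(Int.ofNat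 1))] (.node 137 [(196,(Int.ofNat 1))] .nil .nil) .nil))) (.node 188 [(227,(Int.negSucc 0))] (.node 156 [(215,(Int.negSucc 0))] (.node 149 [(208,(Int.ofNat 1))] (.node 148 [(206,(Int.ofNat 1))] .nil .nil) (.node 150 [(209,(Int.ofNat 1))] .nil .nil)) (.node 159 [(217,(Int.negSucc 0))] (.node 157 [(216,(Int.negSucc 0))] .nil .nil) .nil)) (.node 210 [(233,(Int.ofNat 1))] (.node 191 [(229,(Int.negSucc 0))] (.node 189 [(228,(Int.negSucc 0))] .nil .nil) (.node 200 [(231,(Int.ofNat 1))] .nil .nil)) (.node 223 [(239,(Int.ofNat 1))] (.node 219 [(235,(Int.negSucc 0))] .nil .nil) .nil)))))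
noncomputable def ch178 : Tr (List (ℕ × ℤ)) := (.node 83 [(162,(Int.negSucc 0))] (.node 39 [(100,(Int.ofNat 1))] (.node 21 [(78,(Int.ofNat 1))] (.node 8 [(40,(Int.ofNat 1))] (.node 3 [(18,(Int.ofNat 1))] (.node 2 [(17,(Int.ofNat 1))] .nil .nil) (.node 6 [(30,(Int.ofNat 1))] .nil .nil)) (.node 12 [(52,(Int.ofNat 1))] (.node 9 [(46,(Int.ofNat 1))] .nil .nil) (.node 13 [(53,(Int.ofNat 1))] .nil .nil))) (.node 29 [(89,(Int.ofNat 1))] (.node 25 [(85,(Int.ofNat 1))] (.node 24 [(84,(Int.ofNat 1))] .nil .nil) (.node 28 [(88,(Int.ofNat 1))] .nil .nil)) (.node 38 [(99,(Int.ofNat 1))] (.node 35 [(92,(Int.ofNat 1))] .nil .nil) .nil))) (.node 64 [(126,(Int.ofNat 1))] (.node 58 [(115,(Int.negSucc 0))] (.node 51 [(104,(Int.ofNat 1))] (.node 45 [(103,(Int.ofNat 1))] .nil .nil) (.node 57 [(114,(Int.negSucc 0))] .nil .nil)) (.node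 60 [(118,(Int.ofNat 1))] (.node 59 [(117,(Int.ofNat 1))] .nil .nil) .nil)) (.node 73 [(143,(Int.ofNat 1))] (.node 68 [(131,(Int.ofNat 1))] (.node 65 [(127,(Int.negSucc 0))] .nil .nil) (.node 69 [(132,(Int.negSucc 0))] .nil .nil)) (.node 77 [(156,(Int.ofNat 1))] (.node 74 [(144,(Int.negSucc 0))] .nil .nil) .nil)))) (.node 140 [(201,(Int.negSucc 0))] (.node 121 [(179,(Int.negSucc 0))] (.node 108 [(171,(Int.negSucc 0))] (.node 96 [(166,(Int.negSucc 0))] (.node 95 [(165,(Int.ofNat 1))] .nil .nil) (.node 107 [(170,(Int.ofNat 1))] .nil .nil)) (.node 113 [(175,(Int.negSucc 0))] (.node 112 [(174,(Int.ofNat 1))] .nil .nil) .nil)) (.node 135 [(188,(Int.negSucc 0))] (.node 124 [(181,(Int.ofNat 1))] (.node 122 [(180,(Int.negSucc 0))] .nil .nil) (.node 125 [(182,(Int.ofNat 1))] .nil .nil)) (.node 139 [(200,(Int.negSucc 0))]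 (.node 136 [(194,(Int.negSucc 0))] .nil .nil) .nil))) (.node 186 [(226,(Int.negSucc 0))] (.node 154 [(214,(Int.negSucc 0))] (.node 150 [(210,(Int.negSucc 0))] (.node 147 [(204,(Int.negSucc 0))] .nil .nil) (.node 151 [(211,(Int.negSucc 0))] .nil .nil)) (.node 161 [(218,(Int.negSucc 0))] (.node 155 [(215,(Int.negSucc 0))] .nil .nil) .nil)) (.node 209 [(233,(Int.negSucc 0))] (.node 193 [(230,(Int.negSucc 0))] (.node 187 [(227,(Int.negSucc 0))] .nil .nil) (.node 199 [(231,(Int.negSucc 0))] .nil .nil)) (.node 222 [(237,(Int.negSucc 0))] (.node 221 [(236,(Int.negSucc 0))] .nil .nil) .nil)))))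
noncomputable def ch179 : Tr (List (ℕ × ℤ)) := (.node 82 [(162,(Int.negSucc 0))] (.node 39 [(101,(Int.negSucc 0))] (.node 21 [(79,(Int.negSucc 0))] (.node 8 [(41,(Int.negSucc 0))] (.node 3 [(19,(Int.negSucc 0))] (.node 1 [(17,(Int.ofNat 1))] .nil .nil) (.node 6 [(31,(Int.negSucc 0))] .nil .nil)) (.node 11 [(52,(Int.ofNat 1))] (.node 9 [(47,(Int.negSucc 0))] .nil .nil) (.node 13 [(54,(Int.negSucc 0))] .nil .nil))) (.node 29 [(90,(Int.negSucc 0))] (.node 25 [(86,(Int.negSucc 0))] (.node 23 [(84,(Int.ofNat 1))] .nil .nil) (.node 27 [(88,(Int.ofNat 1))] .nil .nil)) (.node 37 [(99,(Int.ofNat 1))] (.node 34 [(92,(Int.ofNat 1))] .nil .nil) .nil))) (.node 63 [(126,(Int.ofNat 1))] (.node 58 [(116,(Int.ofNat 1))] (.node 50 [(104,(Int.ofNat 1))] (.node 44 [(103,(Int.ofNat 1))] .nil .nil) (.node 56 [(114,(Int.negSucc 0))]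 .nil .nil)) (.node 61 [(121,(Int.ofNat 1))] (.node 59 [(119,(Int.ofNat 1))] .nil .nil) .nil)) (.node 72 [(143,(Int.ofNat 1))] (.node 67 [(131,(Int.ofNat 1))] (.node 65 [(128,(Int.negSucc 0))] .nil .nil) (.node 69 [(133,(Int.negSucc 0))] .nil .nil)) (.node 77 [(157,(Int.ofNat 1))] (.node 74 [(145,(Int.negSucc 0))] .nil .nil) .nil)))) (.node 140 [(202,(Int.negSucc 0))] (.node 118 [(178,(Int.negSucc 0))] (.node 108 [(172,(Int.negSucc 0))] (.node 96 [(167,(Int.negSucc 0))] (.node 94 [(165,(Int.ofNat 1))] .nil .nil) (.node 106 [(170,(Int.ofNat 1))] .nil .nil)) (.node 113 [(176,(Int.negSucc 0))] (.node 111 [(174,(Int.ofNat 1))] .nil .nil) .nil)) (.node 135 [(189,(Int.negSucc 0))] (.node 123 [(181,(Int.negSucc 0))] (.node 120 [(180,(Int.negSucc 0))] .nil .nil) (.node 125 [(183,(Int.ofNat 1))] .nil .nil)) (.node 138 [(200,(Int.ofNat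 1))] (.node 136 [(195,(Int.negSucc 0))] .nil .nil) .nil))) (.node 185 [(226,(Int.ofNat 1))] (.node 153 [(214,(Int.ofNat 1))] (.node 149 [(210,(Int.ofNat 1))] (.node 147 [(205,(Int.negSucc 0))] .nil .nil) (.node 151 [(212,(Int.negSucc 0))] .nil .nil)) (.node 160 [(218,(Int.ofNat 1))] (.node 155 [(216,(Int.negSucc 0))] .nil .nil) .nil)) (.node 208 [(233,(Int.ofNat 1))] (.node 192 [(230,(Int.ofNat 1))] (.node 187 [(228,(Int.negSucc 0))] .nil .nil) (.node 198 [(231,(Int.ofNat 1))] .nil .nil)) (.node 222 [(238,(Int.negSucc 0))] (.node 220 [(236,(Int.ofNat 1))] .nil .nil) .nil)))))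
noncomputable def ch180 : Tr (List (ℕ × ℤ)) := (.node 81 [(162,(Int.negSucc 0))] (.node 38 [(101,(Int.negSucc 0))] (.node 21 [(80,(Int.ofNat 1))] (.node 8 [(42,(Int.ofNat 1))] (.node 3 [(20,(Int.ofNat 1))] (.node 0 [(17,(Int.ofNat 1))] .nil .nil) (.node 6 [(32,(Int.ofNat 1))] .nil .nil)) (.node 11 [(53,(Int.negSucc 0))] (.node 9 [(48,(Int.ofNat 1))] .nil .nil) (.node 12 [(54,(Int.negSucc 0))] .nil .nil))) (.node 28 [(90,(Int.negSucc 0))] (.node 24 [(86,(Int.negSucc 0))] (.node 23 [(85,(Int.negSucc 0))] .nil .nil) (.node 27 [(89,(Int.negSucc 0))] .nil .nil)) (.node 37 [(100,(Int.negSucc 0))] (.node 33 [(92,(Int.ofNat 1))] .nil .nil) .nil))) (.node 62 [(126,(Int.ofNat 1))] (.node 57 [(116,(Int.ofNat 1))] (.node 49 [(104,(Int.ofNat 1))] (.node 43 [(103,(Int.ofNat 1))] .nil .nil) (.node 56 [(115,(Int.ofNat 1))] .nil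 .nil)) (.node 61 [(122,(Int.ofNat 1))] (.node 60 [(120,(Int.ofNat 1))] .nil .nil) .nil)) (.node 71 [(143,(Int.ofNat 1))] (.node 66 [(131,(Int.ofNat 1))] (.node 65 [(129,(Int.negSucc 0))] .nil .nil) (.node 69 [(134,(Int.negSucc 0))] .nil .nil)) (.node 77 [(158,(Int.ofNat 1))] (.node 74 [(146,(Int.negSucc 0))] .nil .nil) .nil)))) (.node 139 [(202,(Int.ofNat 1))] (.node 117 [(178,(Int.negSucc 0))] (.node 108 [(173,(Int.negSucc 0))] (.node 96 [(168,(Int.negSucc 0))] (.node 93 [(165,(Int.ofNat 1))] .nil .nil) (.node 105 [(170,(Int.ofNat 1))] .nil .nil)) (.node 113 [(177,(Int.negSucc 0))] (.node 110 [(174,(Int.ofNat 1))] .nil .nil) .nil)) (.node 135 [(190,(Int.negSucc 0))] (.node 123 [(182,(Int.negSucc 0))] (.node 119 [(179,(Int.negSucc 0))] .nil .nil) (.node 124 [(183,(Int.negSucc 0))] .nil .nil)) (.node 138 [(201,(Int.ofNat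 1))] (.node 136 [(196,(Int.negSucc 0))] .nil .nil) .nil))) (.node 185 [(227,(Int.ofNat 1))] (.node 153 [(215,(Int.ofNat 1))] (.node 149 [(211,(Int.ofNat 1))] (.node 147 [(206,(Int.negSucc 0))] .nil .nil) (.node 150 [(212,(Int.ofNat 1))] .nil .nil)) (.node 159 [(218,(Int.negSucc 0))] (.node 154 [(216,(Int.ofNat 1))] .nil .nil) .nil)) (.node 207 [(233,(Int.negSucc 0))] (.node 191 [(230,(Int.negSucc 0))] (.node 186 [(228,(Int.ofNat 1))] .nil .nil) (.node 197 [(231,(Int.negSucc 0))] .nil .nil)) (.node 222 [(239,(Int.negSucc 0))] (.node 219 [(236,(Int.negSucc 0))] .nil .nil) .nil)))))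
noncomputable def ch181 : Tr (List (ℕ × ℤ)) := (.node 80 [(162,(Int.negSucc 0))] (.node 39 [(102,(Int.ofNat 1))] (.node 21 [(81,(Int.ofNat 1))] (.node 8 [(43,(Int.ofNat 1))] (.node 2 [(19,(Int.negSucc 0))] (.node 1 [(18,(Int.negSucc 0))] .nil .nil) (.node 6 [(33,(Int.ofNat 1))] .nil .nil)) (.node 10 [(52,(Int.ofNat 1))] (.node 9 [(49,(Int.ofNat 1))] .nil .nil) (.node 13 [(55,(Int.ofNat 1))] .nil .nil))) (.node 29 [(91,(Int.ofNat 1))] (.node 25 [(87,(Int.ofNat 1))] (.node 22 [(84,(Int.ofNat 1))] .nil .nil) (.node 26 [(88,(Int.ofNat 1))] .nil .nil)) (.node 36 [(99,(Int.ofNat 1))] (.node 32 [(92,(Int.ofNat 1))] .nil .nil) .nil))) (.node 63 [(127,(Int.ofNat 1))] (.node 57 [(119,(Int.ofNat 1))] (.node 48 [(104,(Int.ofNat 1))] (.node 42 [(103,(Int.ofNat 1))] .nil .nil) (.node 56 [(117,(Int.negSucc 0))] .nil .nil)) (.node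 61 [(124,(Int.negSucc 0))] (.node 60 [(123,(Int.ofNat 1))] .nil .nil) .nil)) (.node 72 [(144,(Int.ofNat 1))] (.node 67 [(132,(Int.ofNat 1))] (.node 64 [(128,(Int.negSucc 0))] .nil .nil) (.node 68 [(133,(Int.negSucc 0))] .nil .nil)) (.node 77 [(159,(Int.ofNat 1))] (.node 73 [(145,(Int.negSucc 0))] .nil .nil) .nil)))) (.node 140 [(203,(Int.negSucc 0))] (.node 115 [(178,(Int.ofNat 1))] (.node 107 [(172,(Int.negSucc 0))] (.node 95 [(167,(Int.negSucc 0))] (.node 94 [(166,(Int.ofNat 1))] .nil .nil) (.node 106 [(171,(Int.ofNat 1))] .nil .nil)) (.node 112 [(176,(Int.negSucc 0))] (.node 111 [(175,(Int.ofNat 1))] .nil .nil) .nil)) (.node 135 [(191,(Int.negSucc 0))] (.node 120 [(182,(Int.negSucc 0))] (.node 116 [(179,(Int.negSucc 0))] .nil .nil) (.node 122 [(183,(Int.ofNat 1))] .nil .nil)) (.node 137 [(200,(Int.negSucc 0))]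 (.node 136 [(197,(Int.negSucc 0))] .nil .nil) .nil))) (.node 184 [(226,(Int.negSucc 0))] (.node 152 [(214,(Int.negSucc 0))] (.node 148 [(210,(Int.negSucc 0))] (.node 147 [(207,(Int.negSucc 0))] .nil .nil) (.node 151 [(213,(Int.negSucc 0))] .nil .nil)) (.node 158 [(218,(Int.negSucc 0))] (.node 155 [(217,(Int.negSucc 0))] .nil .nil) .nil)) (.node 206 [(233,(Int.negSucc 0))] (.node 190 [(230,(Int.negSucc 0))] (.node 187 [(229,(Int.negSucc 0))] .nil .nil) (.node 196 [(231,(Int.negSucc 0))] .nil .nil)) (.node 221 [(238,(Int.ofNat 1))] (.node 220 [(237,(Int.ofNat 1))] .nil .nil) .nil)))))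
noncomputable def ch182 : Tr (List (ℕ × ℤ)) := (.node 79 [(162,(Int.negSucc 0))] (.node 38 [(102,(Int.ofNat 1))] (.node 21 [(82,(Int.negSucc 0))] (.node 8 [(44,(Int.negSucc 0))] (.node 2 [(20,(Int.ofNat 1))] (.node 0 [(18,(Int.negSucc 0))] .nil .nil) (.node 6 [(34,(Int.negSucc 0))] .nil .nil)) (.node 10 [(53,(Int.negSucc 0))] (.node 9 [(50,(Int.negSucc 0))] .nil .nil) (.node 12 [(55,(Int.ofNat 1))] .nil .nil))) (.node 28 [(91,(Int.ofNat 1))] (.node 24 [(87,(Int.ofNat 1))] (.node 22 [(85,(Int.negSucc 0))] .nil .nil) (.node 26 [(89,(Int.negSucc 0))] .nil .nil)) (.node 36 [(100,(Int.negSucc 0))] (.node 31 [(92,(Int.ofNat 1))] .nil .nil) .nil))) (.node 62 [(127,(Int.ofNat 1))] (.node 58 [(120,(Int.ofNat 1))] (.node 47 [(104,(Int.ofNat 1))] (.node 41 [(103,(Int.ofNat 1))] .nil .nil) (.node 56 [(118,(Int.ofNat 1))]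 .nil .nil)) (.node 61 [(125,(Int.negSucc 0))] (.node 59 [(123,(Int.ofNat 1))] .nil .nil) .nil)) (.node 71 [(144,(Int.ofNat 1))] (.node 66 [(132,(Int.ofNat 1))] (.node 64 [(129,(Int.negSucc 0))] .nil .nil) (.node 68 [(134,(Int.negSucc 0))] .nil .nil)) (.node 77 [(160,(Int.ofNat 1))] (.node 73 [(146,(Int.negSucc 0))] .nil .nil) .nil)))) (.node 139 [(203,(Int.ofNat 1))] (.node 114 [(178,(Int.ofNat 1))] (.node 107 [(173,(Int.negSucc 0))] (.node 95 [(168,(Int.negSucc 0))] (.node 93 [(166,(Int.ofNat 1))] .nil .nil) (.node 105 [(171,(Int.ofNat 1))] .nil .nil)) (.node 112 [(177,(Int.negSucc 0))] (.node 110 [(175,(Int.ofNat 1))] .nil .nil) .nil)) (.node 135 [(192,(Int.negSucc 0))] (.node 119 [(181,(Int.negSucc 0))] (.node 116 [(180,(Int.negSucc 0))] .nil .nil) (.node 121 [(183,(Int.negSucc 0))] .nil .nil)) (.node 137 [(201,(Int.negSucc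 0))] (.node 136 [(198,(Int.negSucc 0))] .nil .nil) .nil))) (.node 184 [(227,(Int.negSucc 0))] (.node 152 [(215,(Int.negSucc 0))] (.node 148 [(211,(Int.negSucc 0))] (.node 147 [(208,(Int.negSucc 0))] .nil .nil) (.node 150 [(213,(Int.ofNat 1))] .nil .nil)) (.node 157 [(218,(Int.ofNat 1))] (.node 154 [(217,(Int.ofNat 1))] .nil .nil) .nil)) (.node 205 [(233,(Int.ofNat 1))] (.node 189 [(230,(Int.ofNat 1))] (.node 186 [(229,(Int.ofNat 1))] .nil .nil) (.node 195 [(231,(Int.ofNat 1))] .nil .nil)) (.node 221 [(239,(Int.ofNat 1))] (.node 219 [(237,(Int.negSucc 0))] .nil .nil) .nil)))))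
noncomputable def ch183 : Tr (List (ℕ × ℤ)) := (.node 78 [(162,(Int.negSucc 0))] (.node 37 [(102,(Int.ofNat 1))] (.node 21 [(83,(Int.ofNat 1))] (.node 8 [(45,(Int.ofNat 1))] (.node 1 [(20,(Int.ofNat 1))] (.node 0 [(19,(Int.ofNat 1))] .nil .nil) (.node 6 [(35,(Int.ofNat 1))] .nil .nil)) (.node 10 [(54,(Int.ofNat 1))] (.node 9 [(51,(Int.ofNat 1))] .nil .nil) (.node 11 [(55,(Int.ofNat 1))] .nil .nil))) (.node 27 [(91,(Int.ofNat 1))] (.node 23 [(87,(Int.ofNat 1))] (.node 22 [(86,(Int.ofNat 1))] .nil .nil) (.node 26 [(90,(Int.ofNat 1))] .nil .nil)) (.node 36 [(101,(Int.ofNat 1))] (.node 30 [(92,(Int.ofNat 1))] .nil .nil) .nil))) (.node 62 [(128,(Int.ofNat 1))] (.node 58 [(122,(Int.negSucc 0))] (.node 46 [(104,(Int.ofNat 1))] (.node 40 [(103,(Int.ofNat 1))] .nil .nil) (.node 57 [(121,(Int.ofNat 1))] .nil .nil)) (.node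 60 [(125,(Int.negSucc 0))] (.node 59 [(124,(Int.ofNat 1))] .nil .nil) .nil)) (.node 71 [(145,(Int.ofNat 1))] (.node 66 [(133,(Int.ofNat 1))] (.node 63 [(129,(Int.negSucc 0))] .nil .nil) (.node 67 [(134,(Int.negSucc 0))] .nil .nil)) (.node 77 [(161,(Int.ofNat 1))] (.node 72 [(146,(Int.negSucc 0))] .nil .nil) .nil)))) (.node 138 [(203,(Int.negSucc 0))] (.node 114 [(179,(Int.ofNat 1))] (.node 106 [(173,(Int.negSucc 0))] (.node 94 [(168,(Int.negSucc 0))] (.node 93 [(167,(Int.ofNat 1))] .nil .nil) (.node 105 [(172,(Int.ofNat 1))] .nil .nil)) (.node 111 [(177,(Int.negSucc 0))] (.node 110 [(176,(Int.ofNat 1))] .nil .nil) .nil)) (.node 135 [(193,(Int.negSucc 0))] (.node 117 [(181,(Int.ofNat 1))] (.node 115 [(180,(Int.negSucc 0))] .nil .nil) (.node 118 [(182,(Int.negSucc 0))] .nil .nil)) (.node 137 [(202,(Int.negSucc 0))]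 (.node 136 [(199,(Int.negSucc 0))] .nil .nil) .nil))) (.node 184 [(228,(Int.negSucc 0))] (.node 152 [(216,(Int.negSucc 0))] (.node 148 [(212,(Int.negSucc 0))] (.node 147 [(209,(Int.negSucc 0))] .nil .nil) (.node 149 [(213,(Int.negSucc 0))] .nil .nil)) (.node 156 [(218,(Int.negSucc 0))] (.node 153 [(217,(Int.negSucc 0))] .nil .nil) .nil)) (.node 204 [(233,(Int.negSucc 0))] (.node 188 [(230,(Int.negSucc 0))] (.node 185 [(229,(Int.negSucc 0))] .nil .nil) (.node 194 [(231,(Int.negSucc 0))] .nil .nil)) (.node 220 [(239,(Int.negSucc 0))] (.node 219 [(238,(Int.negSucc 0))] .nil .nil) .nil)))))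
noncomputable def ch184 : Tr (List (ℕ × ℤ)) := (.node 87 [(163,(Int.negSucc 0))] (.node 44 [(106,(Int.ofNat 1))] (.node 18 [(78,(Int.ofNat 1))] (.node 7 [(36,(Int.ofNat 1))] (.node 4 [(22,(Int.ofNat 1))] (.node 3 [(21,(Int.ofNat 1))] .nil .nil) (.node 5 [(26,(Int.ofNat 1))] .nil .nil)) (.node 12 [(57,(Int.negSucc 0))] (.node 11 [(56,(Int.negSucc 0))] .nil .nil) (.node 13 [(58,(Int.negSucc 0))] .nil .nil))) (.node 34 [(94,(Int.negSucc 0))] (.node 20 [(80,(Int.ofNat 1))] (.node 19 [(79,(Int.ofNat 1))] .nil .nil) (.node 33 [(93,(Int.negSucc 0))] .nil .nil)) (.node 43 [(105,(Int.ofNat 1))] (.node 35 [(95,(Int.negSucc 0))] .nil .nil) .nil))) (.node 54 [(116,(Int.ofNat 1))] (.node 51 [(112,(Int.negSucc 0))] (.node 49 [(110,(Int.negSucc 0))] (.node 45 [(107,(Int.ofNat 1))] .nil .nil) (.node 50 [(111,(Int.negSucc 0))]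 .nil .nil)) (.node 53 [(115,(Int.ofNat 1))] (.node 52 [(114,(Int.ofNat 1))] .nil .nil) .nil)) (.node 74 [(147,(Int.ofNat 1))] (.node 69 [(136,(Int.negSucc 0))] (.node 65 [(135,(Int.ofNat 1))] .nil .nil) (.node 70 [(137,(Int.ofNat 1))] .nil .nil)) (.node 76 [(152,(Int.ofNat 1))] (.node 75 [(148,(Int.negSucc 0))] .nil .nil) .nil)))) (.node 134 [(196,(Int.negSucc 0))] (.node 124 [(186,(Int.negSucc 0))] (.node 103 [(170,(Int.ofNat 1))] (.node 92 [(165,(Int.negSucc 0))] (.node 91 [(164,(Int.ofNat 1))] .nil .nil) (.node 102 [(169,(Int.negSucc 0))] .nil .nil)) (.node 123 [(185,(Int.negSucc 0))] (.node 104 [(174,(Int.negSucc 0))] .nil .nil) .nil)) (.node 129 [(190,(Int.ofNat 1))] (.node 127 [(188,(Int.ofNat 1))] (.node 125 [(187,(Int.negSucc 0))] .nil .nil) (.node 128 [(189,(Int.ofNat 1))] .nil .nil)) (.node 133 [(195,(Int.negSucc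 0))] (.node 132 [(194,(Int.negSucc 0))] .nil .nil) .nil))) (.node 181 [(226,(Int.ofNat 1))] (.node 159 [(219,(Int.negSucc 0))] (.node 145 [(205,(Int.ofNat 1))] (.node 144 [(204,(Int.ofNat 1))] .nil .nil) (.node 146 [(206,(Int.ofNat 1))] .nil .nil)) (.node 161 [(221,(Int.negSucc 0))] (.node 160 [(220,(Int.negSucc 0))] .nil .nil) .nil)) (.node 213 [(234,(Int.negSucc 0))] (.node 183 [(228,(Int.ofNat 1))] (.node 182 [(227,(Int.ofNat 1))] .nil .nil) (.node 203 [(232,(Int.negSucc 0))] .nil .nil)) (.node 218 [(236,(Int.negSucc 0))] (.node 217 [(235,(Int.negSucc 0))] .nil .nil) .nil)))))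
noncomputable def ch185 : Tr (List (ℕ × ℤ)) := (.node 86 [(163,(Int.negSucc 0))] (.node 42 [(106,(Int.ofNat 1))] (.node 17 [(78,(Int.ofNat 1))] (.node 7 [(37,(Int.negSucc 0))] (.node 4 [(23,(Int.negSucc 0))] (.node 2 [(21,(Int.ofNat 1))] .nil .nil) (.node 5 [(27,(Int.negSucc 0))] .nil .nil)) (.node 12 [(59,(Int.ofNat 1))] (.node 10 [(56,(Int.negSucc 0))] .nil .nil) (.node 13 [(60,(Int.ofNat 1))] .nil .nil))) (.node 32 [(94,(Int.negSucc 0))] (.node 20 [(82,(Int.negSucc 0))] (.node 19 [(81,(Int.negSucc 0))] .nil .nil) (.node 31 [(93,(Int.negSucc 0))] .nil .nil)) (.node 41 [(105,(Int.ofNat 1))] (.node 35 [(96,(Int.ofNat 1))] .nil .nil) .nil))) (.node 55 [(123,(Int.ofNat 1))] (.node 51 [(113,(Int.ofNat 1))] (.node 47 [(110,(Int.negSucc 0))] (.node 45 [(108,(Int.negSucc 0))] .nil .nil) (.node 48 [(111,(Int.negSucc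 0))] .nil .nil)) (.node 53 [(118,(Int.ofNat 1))] (.node 52 [(117,(Int.ofNat 1))] .nil .nil) .nil)) (.node 73 [(147,(Int.ofNat 1))] (.node 68 [(136,(Int.negSucc 0))] (.node 64 [(135,(Int.ofNat 1))] .nil .nil) (.node 70 [(138,(Int.ofNat 1))] .nil .nil)) (.node 76 [(153,(Int.ofNat 1))] (.node 75 [(149,(Int.negSucc 0))] .nil .nil) .nil)))) (.node 134 [(198,(Int.negSucc 0))] (.node 121 [(186,(Int.negSucc 0))] (.node 103 [(171,(Int.ofNat 1))] (.node 92 [(166,(Int.negSucc 0))] (.node 90 [(164,(Int.ofNat 1))] .nil .nil) (.node 101 [(169,(Int.negSucc 0))] .nil .nil)) (.node 116 [(184,(Int.negSucc 0))] (.node 104 [(175,(Int.negSucc 0))] .nil .nil) .nil)) (.node 129 [(192,(Int.ofNat 1))] (.node 126 [(188,(Int.negSucc 0))] (.node 122 [(187,(Int.negSucc 0))] .nil .nil) (.node 128 [(191,(Int.ofNat 1))] .nil .nil)) (.node 133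 [(197,(Int.negSucc 0))] (.node 131 [(194,(Int.ofNat 1))] .nil .nil) .nil))) (.node 179 [(226,(Int.negSucc 0))] (.node 157 [(219,(Int.ofNat 1))] (.node 145 [(207,(Int.ofNat 1))] (.node 143 [(204,(Int.negSucc 0))] .nil .nil) (.node 146 [(208,(Int.ofNat 1))] .nil .nil)) (.node 161 [(222,(Int.negSucc 0))] (.node 158 [(220,(Int.ofNat 1))] .nil .nil) .nil)) (.node 212 [(234,(Int.ofNat 1))] (.node 183 [(229,(Int.ofNat 1))] (.node 180 [(227,(Int.negSucc 0))] .nil .nil) (.node 202 [(232,(Int.ofNat 1))] .nil .nil)) (.node 218 [(237,(Int.negSucc 0))] (.node 216 [(235,(Int.ofNat 1))] .nil .nil) .nil)))))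
noncomputable def ch186 : Tr (List (ℕ × ℤ)) := (.node 85 [(163,(Int.negSucc 0))] (.node 42 [(107,(Int.negSucc 0))] (.node 17 [(79,(Int.negSucc 0))] (.node 7 [(38,(Int.ofNat 1))] (.node 4 [(24,(Int.ofNat 1))] (.node 1 [(21,(Int.ofNat 1))] .nil .nil) (.node 5 [(28,(Int.ofNat 1))] .nil .nil)) (.node 11 [(59,(Int.ofNat 1))] (.node 10 [(57,(Int.ofNat 1))] .nil .nil) (.node 13 [(61,(Int.negSucc 0))] .nil .nil))) (.node 32 [(95,(Int.ofNat 1))] (.node 20 [(83,(Int.ofNat 1))] (.node 18 [(81,(Int.negSucc 0))] .nil .nil) (.node 30 [(93,(Int.negSucc 0))] .nil .nil)) (.node 40 [(105,(Int.ofNat 1))] (.node 34 [(96,(Int.ofNat 1))] .nil .nil) .nil))) (.node 55 [(124,(Int.ofNat 1))] (.node 50 [(113,(Int.ofNat 1))] (.node 46 [(110,(Int.negSucc 0))] (.node 44 [(108,(Int.negSucc 0))] .nil .nil) (.node 48 [(112,(Int.ofNat 1))] .nil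 .nil)) (.node 54 [(121,(Int.ofNat 1))] (.node 52 [(119,(Int.ofNat 1))] .nil .nil) .nil)) (.node 72 [(147,(Int.ofNat 1))] (.node 67 [(136,(Int.negSucc 0))] (.node 63 [(135,(Int.ofNat 1))] .nil .nil) (.node 70 [(139,(Int.ofNat 1))] .nil .nil)) (.node 76 [(154,(Int.ofNat 1))] (.node 75 [(150,(Int.negSucc 0))] .nil .nil) .nil)))) (.node 134 [(199,(Int.negSucc 0))] (.node 118 [(185,(Int.negSucc 0))] (.node 103 [(172,(Int.ofNat 1))] (.node 92 [(167,(Int.negSucc 0))] (.node 89 [(164,(Int.ofNat 1))] .nil .nil) (.node 100 [(169,(Int.negSucc 0))] .nil .nil)) (.node 115 [(184,(Int.negSucc 0))] (.node 104 [(176,(Int.negSucc 0))] .nil .nil) .nil)) (.node 129 [(193,(Int.ofNat 1))] (.node 126 [(189,(Int.negSucc 0))] (.node 120 [(187,(Int.negSucc 0))] .nil .nil) (.node 127 [(191,(Int.negSucc 0))] .nil .nil)) (.node 132 [(197,(Int.ofNat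 1))] (.node 131 [(195,(Int.ofNat 1))] .nil .nil) .nil))) (.node 178 [(226,(Int.ofNat 1))] (.node 156 [(219,(Int.negSucc 0))] (.node 144 [(207,(Int.negSucc 0))] (.node 143 [(205,(Int.negSucc 0))] .nil .nil) (.node 146 [(209,(Int.ofNat 1))] .nil .nil)) (.node 160 [(222,(Int.ofNat 1))] (.node 158 [(221,(Int.ofNat 1))] .nil .nil) .nil)) (.node 211 [(234,(Int.negSucc 0))] (.node 182 [(229,(Int.negSucc 0))] (.node 180 [(228,(Int.negSucc 0))] .nil .nil) (.node 201 [(232,(Int.negSucc 0))] .nil .nil)) (.node 218 [(238,(Int.negSucc 0))] (.node 215 [(235,(Int.negSucc 0))] .nil .nil) .nil)))))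
noncomputable def ch187 : Tr (List (ℕ × ℤ)) := (.node 84 [(163,(Int.negSucc 0))] (.node 41 [(107,(Int.negSucc 0))] (.node 17 [(80,(Int.ofNat 1))] (.node 7 [(39,(Int.negSucc 0))] (.node 4 [(25,(Int.negSucc 0))] (.node 0 [(21,(Int.ofNat 1))] .nil .nil) (.node 5 [(29,(Int.negSucc 0))] .nil .nil)) (.node 11 [(60,(Int.negSucc 0))] (.node 10 [(58,(Int.negSucc 0))] .nil .nil) (.node 12 [(61,(Int.negSucc 0))] .nil .nil))) (.node 31 [(95,(Int.ofNat 1))] (.node 19 [(83,(Int.ofNat 1))] (.node 18 [(82,(Int.ofNat 1))] .nil .nil) (.node 30 [(94,(Int.ofNat 1))] .nil .nil)) (.node 40 [(106,(Int.negSucc 0))] (.node 33 [(96,(Int.ofNat 1))] .nil .nil) .nil))) (.node 55 [(125,(Int.ofNat 1))] (.node 49 [(113,(Int.ofNat 1))] (.node 46 [(111,(Int.ofNat 1))] (.node 43 [(108,(Int.negSucc 0))] .nil .nil) (.node 47 [(112,(Int.ofNat 1))]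 .nil .nil)) (.node 54 [(122,(Int.ofNat 1))] (.node 53 [(120,(Int.ofNat 1))] .nil .nil) .nil)) (.node 71 [(147,(Int.ofNat 1))] (.node 66 [(136,(Int.negSucc 0))] (.node 62 [(135,(Int.ofNat 1))] .nil .nil) (.node 70 [(140,(Int.ofNat 1))] .nil .nil)) (.node 76 [(155,(Int.ofNat 1))] (.node 75 [(151,(Int.negSucc 0))] .nil .nil) .nil)))) (.node 133 [(199,(Int.ofNat 1))] (.node 117 [(185,(Int.negSucc 0))] (.node 103 [(173,(Int.ofNat 1))] (.node 92 [(168,(Int.negSucc 0))] (.node 88 [(164,(Int.ofNat 1))] .nil .nil) (.node 99 [(169,(Int.negSucc 0))] .nil .nil)) (.node 114 [(184,(Int.negSucc 0))] (.node 104 [(177,(Int.negSucc 0))] .nil .nil) .nil)) (.node 128 [(193,(Int.negSucc 0))] (.node 126 [(190,(Int.negSucc 0))] (.node 119 [(186,(Int.negSucc 0))] .nil .nil) (.node 127 [(192,(Int.negSucc 0))] .nil .nil)) (.node 132 [(198,(Int.ofNat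 1))] (.node 131 [(196,(Int.ofNat 1))] .nil .nil) .nil))) (.node 178 [(227,(Int.ofNat 1))] (.node 156 [(220,(Int.negSucc 0))] (.node 144 [(208,(Int.negSucc 0))] (.node 143 [(206,(Int.negSucc 0))] .nil .nil) (.node 145 [(209,(Int.negSucc 0))] .nil .nil)) (.node 159 [(222,(Int.negSucc 0))] (.node 157 [(221,(Int.negSucc 0))] .nil .nil) .nil)) (.node 210 [(234,(Int.ofNat 1))] (.node 181 [(229,(Int.ofNat 1))] (.node 179 [(228,(Int.ofNat 1))] .nil .nil) (.node 200 [(232,(Int.ofNat 1))] .nil .nil)) (.node 218 [(239,(Int.negSucc 0))] (.node 214 [(235,(Int.ofNat 1))] .nil .nil) .nil)))))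
noncomputable def ch188 : Tr (List (ℕ × ℤ)) := (.node 83 [(163,(Int.negSucc 0))] (.node 39 [(106,(Int.ofNat 1))] (.node 16 [(78,(Int.ofNat 1))] (.node 7 [(40,(Int.ofNat 1))] (.node 3 [(23,(Int.negSucc 0))] (.node 2 [(22,(Int.negSucc 0))] .nil .nil) (.node 5 [(30,(Int.ofNat 1))] .nil .nil)) (.node 12 [(62,(Int.negSucc 0))] (.node 9 [(56,(Int.negSucc 0))] .nil .nil) (.node 13 [(63,(Int.negSucc 0))] .nil .nil))) (.node 29 [(94,(Int.negSucc 0))] (.node 20 [(85,(Int.ofNat 1))] (.node 19 [(84,(Int.ofNat 1))] .nil .nil) (.node 28 [(93,(Int.negSucc 0))] .nil .nil)) (.node 38 [(105,(Int.ofNat 1))] (.node 35 [(97,(Int.negSucc 0))] .nil .nil) .nil))) (.node 55 [(127,(Int.negSucc 0))] (.node 49 [(117,(Int.ofNat 1))] (.node 47 [(114,(Int.negSucc 0))] (.node 45 [(109,(Int.ofNat 1))] .nil .nil) (.node 48 [(115,(Int.negSucc 0))]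 .nil .nil)) (.node 54 [(126,(Int.ofNat 1))] (.node 50 [(118,(Int.ofNat 1))] .nil .nil) .nil)) (.node 73 [(148,(Int.ofNat 1))] (.node 68 [(137,(Int.negSucc 0))] (.node 61 [(135,(Int.ofNat 1))] .nil .nil) (.node 69 [(138,(Int.ofNat 1))] .nil .nil)) (.node 76 [(156,(Int.ofNat 1))] (.node 74 [(149,(Int.negSucc 0))] .nil .nil) .nil)))) (.node 134 [(201,(Int.negSucc 0))] (.node 113 [(185,(Int.negSucc 0))] (.node 102 [(171,(Int.ofNat 1))] (.node 91 [(166,(Int.negSucc 0))] (.node 90 [(165,(Int.ofNat 1))] .nil .nil) (.node 101 [(170,(Int.negSucc 0))] .nil .nil)) (.node 112 [(184,(Int.ofNat 1))] (.node 104 [(178,(Int.negSucc 0))] .nil .nil) .nil)) (.node 125 [(192,(Int.ofNat 1))] (.node 122 [(190,(Int.negSucc 0))] (.node 121 [(189,(Int.negSucc 0))] .nil .nil) (.node 124 [(191,(Int.ofNat 1))] .nil .nil)) (.node 133 [(200,(Int.negSucc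 0))] (.node 130 [(194,(Int.negSucc 0))] .nil .nil) .nil))) (.node 176 [(226,(Int.ofNat 1))] (.node 154 [(219,(Int.negSucc 0))] (.node 145 [(210,(Int.ofNat 1))] (.node 142 [(204,(Int.ofNat 1))] .nil .nil) (.node 146 [(211,(Int.ofNat 1))] .nil .nil)) (.node 161 [(223,(Int.negSucc 0))] (.node 155 [(220,(Int.negSucc 0))] .nil .nil) .nil)) (.node 209 [(234,(Int.negSucc 0))] (.node 183 [(230,(Int.ofNat 1))] (.node 177 [(227,(Int.ofNat 1))] .nil .nil) (.node 199 [(232,(Int.negSucc 0))] .nil .nil)) (.node 217 [(237,(Int.ofNat 1))] (.node 216 [(236,(Int.ofNat 1))] .nil .nil) .nil)))))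
noncomputable def ch189 : Tr (List (ℕ × ℤ)) := (.node 82 [(163,(Int.negSucc 0))] (.node 39 [(107,(Int.negSucc 0))] (.node 16 [(79,(Int.negSucc 0))] (.node 7 [(41,(Int.negSucc 0))] (.node 3 [(24,(Int.ofNat 1))] (.node 1 [(22,(Int.negSucc 0))] .nil .nil) (.node 5 [(31,(Int.negSucc 0))] .nil .nil)) (.node 11 [(62,(Int.negSucc 0))] (.node 9 [(57,(Int.ofNat 1))] .nil .nil) (.node 13 [(64,(Int.ofNat 1))] .nil .nil))) (.node 29 [(95,(Int.ofNat 1))] (.node 20 [(86,(Int.negSucc 0))] (.node 18 [(84,(Int.ofNat 1))] .nil .nil) (.node 27 [(93,(Int.negSucc 0))] .nil .nil)) (.node 37 [(105,(Int.ofNat 1))] (.node 34 [(97,(Int.negSucc 0))] .nil .nil) .nil))) (.node 55 [(128,(Int.negSucc 0))] (.node 49 [(119,(Int.ofNat 1))] (.node 46 [(114,(Int.negSucc 0))] (.node 44 [(109,(Int.ofNat 1))] .nil .nil) (.node 48 [(116,(Int.ofNat 1))]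 .nil .nil)) (.node 53 [(126,(Int.ofNat 1))] (.node 51 [(121,(Int.ofNat 1))] .nil .nil) .nil)) (.node 72 [(148,(Int.ofNat 1))] (.node 67 [(137,(Int.negSucc 0))] (.node 60 [(135,(Int.ofNat 1))] .nil .nil) (.node 69 [(139,(Int.ofNat 1))] .nil .nil)) (.node 76 [(157,(Int.ofNat 1))] (.node 74 [(150,(Int.negSucc 0))] .nil .nil) .nil)))) (.node 134 [(202,(Int.negSucc 0))] (.node 113 [(186,(Int.negSucc 0))] (.node 102 [(172,(Int.ofNat 1))] (.node 91 [(167,(Int.negSucc 0))] (.node 89 [(165,(Int.ofNat 1))] .nil .nil) (.node 100 [(170,(Int.negSucc 0))] .nil .nil)) (.node 111 [(184,(Int.ofNat 1))] (.node 104 [(179,(Int.negSucc 0))] .nil .nil) .nil)) (.node 125 [(193,(Int.ofNat 1))] (.node 120 [(190,(Int.negSucc 0))] (.node 118 [(188,(Int.negSucc 0))] .nil .nil) (.node 123 [(191,(Int.negSucc 0))] .nil .nil)) (.node 132 [(200,(Int.ofNat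 1))] (.node 130 [(195,(Int.negSucc 0))] .nil .nil) .nil))) (.node 175 [(226,(Int.negSucc 0))] (.node 153 [(219,(Int.ofNat 1))] (.node 144 [(210,(Int.negSucc 0))] (.node 142 [(205,(Int.ofNat 1))] .nil .nil) (.node 146 [(212,(Int.ofNat 1))] .nil .nil)) (.node 160 [(223,(Int.ofNat 1))] (.node 155 [(221,(Int.negSucc 0))] .nil .nil) .nil)) (.node 208 [(234,(Int.ofNat 1))] (.node 182 [(230,(Int.negSucc 0))] (.node 177 [(228,(Int.ofNat 1))] .nil .nil) (.node 198 [(232,(Int.ofNat 1))] .nil .nil)) (.node 217 [(238,(Int.ofNat 1))] (.node 215 [(236,(Int.negSucc 0))] .nil .nil) .nil)))))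
noncomputable def ch190 : Tr (List (ℕ × ℤ)) := (.node 81 [(163,(Int.negSucc 0))] (.node 38 [(107,(Int.negSucc 0))] (.node 16 [(80,(Int.ofNat 1))] (.node 7 [(42,(Int.ofNat 1))] (.node 3 [(25,(Int.negSucc 0))] (.node 0 [(22,(Int.negSucc 0))] .nil .nil) (.node 5 [(32,(Int.ofNat 1))] .nil .nil)) (.node 11 [(63,(Int.ofNat 1))] (.node 9 [(58,(Int.negSucc 0))] .nil .nil) (.node 12 [(64,(Int.ofNat 1))] .nil .nil))) (.node 28 [(95,(Int.ofNat 1))] (.node 19 [(86,(Int.negSucc 0))] (.node 18 [(85,(Int.negSucc 0))] .nil .nil) (.node 27 [(94,(Int.ofNat 1))] .nil .nil)) (.node 37 [(106,(Int.negSucc 0))] (.node 33 [(97,(Int.negSucc 0))] .nil .nil) .nil))) (.node 55 [(129,(Int.negSucc 0))] (.node 50 [(120,(Int.ofNat 1))] (.node 46 [(115,(Int.ofNat 1))] (.node 43 [(109,(Int.ofNat 1))] .nil .nil) (.node 47 [(116,(Int.ofNat 1))]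 .nil .nil)) (.node 52 [(126,(Int.ofNat 1))] (.node 51 [(122,(Int.ofNat 1))] .nil .nil) .nil)) (.node 71 [(148,(Int.ofNat 1))] (.node 66 [(137,(Int.negSucc 0))] (.node 59 [(135,(Int.ofNat 1))] .nil .nil) (.node 69 [(140,(Int.ofNat 1))] .nil .nil)) (.node 76 [(158,(Int.ofNat 1))] (.node 74 [(151,(Int.negSucc 0))] .nil .nil) .nil)))) (.node 133 [(202,(Int.ofNat 1))] (.node 113 [(187,(Int.negSucc 0))] (.node 102 [(173,(Int.ofNat 1))] (.node 91 [(168,(Int.negSucc 0))] (.node 88 [(165,(Int.ofNat 1))] .nil .nil) (.node 99 [(170,(Int.negSucc 0))] .nil .nil)) (.node 110 [(184,(Int.ofNat 1))] (.node 104 [(180,(Int.negSucc 0))] .nil .nil) .nil)) (.node 124 [(193,(Int.negSucc 0))] (.node 119 [(189,(Int.negSucc 0))] (.node 117 [(188,(Int.negSucc 0))] .nil .nil) (.node 123 [(192,(Int.negSucc 0))] .nil .nil)) (.node 132 [(201,(Int.ofNat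 1))] (.node 130 [(196,(Int.negSucc 0))] .nil .nil) .nil))) (.node 175 [(227,(Int.negSucc 0))] (.node 153 [(220,(Int.ofNat 1))] (.node 144 [(211,(Int.negSucc 0))] (.node 142 [(206,(Int.ofNat 1))] .nil .nil) (.node 145 [(212,(Int.negSucc 0))] .nil .nil)) (.node 159 [(223,(Int.negSucc 0))] (.node 154 [(221,(Int.ofNat 1))] .nil .nil) .nil)) (.node 207 [(234,(Int.negSucc 0))] (.node 181 [(230,(Int.ofNat 1))] (.node 176 [(228,(Int.negSucc 0))] .nil .nil) (.node 197 [(232,(Int.negSucc 0))] .nil .nil)) (.node 217 [(239,(Int.ofNat 1))] (.node 214 [(236,(Int.ofNat 1))] .nil .nil) .nil)))))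
noncomputable def ch191 : Tr (List (ℕ × ℤ)) := (.node 80 [(163,(Int.negSucc 0))] (.node 39 [(108,(Int.ofNat 1))] (.node 16 [(81,(Int.ofNat 1))] (.node 7 [(43,(Int.ofNat 1))] (.node 2 [(24,(Int.ofNat 1))] (.node 1 [(23,(Int.ofNat 1))] .nil .nil) (.node 5 [(33,(Int.ofNat 1))] .nil .nil)) (.node 10 [(62,(Int.negSucc 0))] (.node 9 [(59,(Int.negSucc 0))] .nil .nil) (.node 13 [(65,(Int.negSucc 0))] .nil .nil))) (.node 29 [(96,(Int.negSucc 0))] (.node 20 [(87,(Int.ofNat 1))] (.node 17 [(84,(Int.ofNat 1))] .nil .nil) (.node 26 [(93,(Int.negSucc 0))] .nil .nil)) (.node 36 [(105,(Int.ofNat 1))] (.node 32 [(97,(Int.negSucc 0))] .nil .nil) .nil))) (.node 54 [(128,(Int.negSucc 0))] (.node 50 [(123,(Int.ofNat 1))] (.node 46 [(117,(Int.negSucc 0))] (.node 42 [(109,(Int.ofNat 1))] .nil .nil) (.node 47 [(119,(Int.ofNat 1))] .nil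 .nil)) (.node 53 [(127,(Int.ofNat 1))] (.node 51 [(124,(Int.negSucc 0))] .nil .nil) .nil)) (.node 72 [(149,(Int.ofNat 1))] (.node 67 [(138,(Int.negSucc 0))] (.node 58 [(135,(Int.ofNat 1))] .nil .nil) (.node 68 [(139,(Int.ofNat 1))] .nil .nil)) (.node 76 [(159,(Int.ofNat 1))] (.node 73 [(150,(Int.negSucc 0))] .nil .nil) .nil)))) (.node 134 [(203,(Int.negSucc 0))] (.node 112 [(186,(Int.negSucc 0))] (.node 101 [(172,(Int.ofNat 1))] (.node 90 [(167,(Int.negSucc 0))] (.node 89 [(166,(Int.ofNat 1))] .nil .nil) (.node 100 [(171,(Int.negSucc 0))] .nil .nil)) (.node 111 [(185,(Int.ofNat 1))] (.node 104 [(181,(Int.negSucc 0))] .nil .nil) .nil)) (.node 122 [(193,(Int.ofNat 1))] (.node 116 [(189,(Int.negSucc 0))] (.node 115 [(188,(Int.ofNat 1))] .nil .nil) (.node 120 [(192,(Int.negSucc 0))] .nil .nil)) (.node 131 [(200,(Int.negSucc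 0))] (.node 130 [(197,(Int.negSucc 0))] .nil .nil) .nil))) (.node 174 [(226,(Int.ofNat 1))] (.node 152 [(219,(Int.negSucc 0))] (.node 143 [(210,(Int.ofNat 1))] (.node 142 [(207,(Int.ofNat 1))] .nil .nil) (.node 146 [(213,(Int.ofNat 1))] .nil .nil)) (.node 158 [(223,(Int.negSucc 0))] (.node 155 [(222,(Int.negSucc 0))] .nil .nil) .nil)) (.node 206 [(234,(Int.negSucc 0))] (.node 180 [(230,(Int.ofNat 1))] (.node 177 [(229,(Int.ofNat 1))] .nil .nil) (.node 196 [(232,(Int.negSucc 0))] .nil .nil)) (.node 216 [(238,(Int.negSucc 0))] (.node 215 [(237,(Int.negSucc 0))] .nil .nil) .nil)))))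
noncomputable def ch192 : Tr (List (ℕ × ℤ)) := (.node 79 [(163,(Int.negSucc 0))] (.node 38 [(108,(Int.ofNat 1))] (.node 16 [(82,(Int.negSucc 0))] (.node 7 [(44,(Int.negSucc 0))] (.node 2 [(25,(Int.negSucc 0))] (.node 0 [(23,(Int.ofNat 1))] .nil .nil) (.node 5 [(34,(Int.negSucc 0))] .nil .nil)) (.node 10 [(63,(Int.ofNat 1))] (.node 9 [(60,(Int.ofNat 1))] .nil .nil) (.node 12 [(65,(Int.negSucc 0))] .nil .nil))) (.node 28 [(96,(Int.negSucc 0))] (.node 19 [(87,(Int.ofNat 1))] (.node 17 [(85,(Int.negSucc 0))] .nil .nil) (.node 26 [(94,(Int.ofNat 1))] .nil .nil)) (.node 36 [(106,(Int.negSucc 0))] (.node 31 [(97,(Int.negSucc 0))] .nil .nil) .nil))) (.node 54 [(129,(Int.negSucc 0))] (.node 49 [(123,(Int.ofNat 1))] (.node 46 [(118,(Int.ofNat 1))] (.node 41 [(109,(Int.ofNat 1))] .nil .nil) (.node 48 [(120,(Int.ofNat 1))]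 .nil .nil)) (.node 52 [(127,(Int.ofNat 1))] (.node 51 [(125,(Int.negSucc 0))] .nil .nil) .nil)) (.node 71 [(149,(Int.ofNat 1))] (.node 66 [(138,(Int.negSucc 0))] (.node 57 [(135,(Int.ofNat 1))] .nil .nil) (.node 68 [(140,(Int.ofNat 1))] .nil .nil)) (.node 76 [(160,(Int.ofNat 1))] (.node 73 [(151,(Int.negSucc 0))] .nil .nil) .nil)))) (.node 133 [(203,(Int.ofNat 1))] (.node 112 [(187,(Int.negSucc 0))] (.node 101 [(173,(Int.ofNat 1))] (.node 90 [(168,(Int.negSucc 0))] (.node 88 [(166,(Int.ofNat 1))] .nil .nil) (.node 99 [(171,(Int.negSucc 0))] .nil .nil)) (.node 110 [(185,(Int.ofNat 1))] (.node 104 [(182,(Int.negSucc 0))] .nil .nil) .nil)) (.node 121 [(193,(Int.negSucc 0))] (.node 116 [(190,(Int.negSucc 0))] (.node 114 [(188,(Int.ofNat 1))] .nil .nil) (.node 119 [(191,(Int.negSucc 0))] .nil .nil)) (.node 131 [(201,(Int.negSucc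 0))] (.node 130 [(198,(Int.negSucc 0))] .nil .nil) .nil))) (.node 174 [(227,(Int.ofNat 1))] (.node 152 [(220,(Int.negSucc 0))] (.node 143 [(211,(Int.ofNat 1))] (.node 142 [(208,(Int.ofNat 1))] .nil .nil) (.node 145 [(213,(Int.negSucc 0))] .nil .nil)) (.node 157 [(223,(Int.ofNat 1))] (.node 154 [(222,(Int.ofNat 1))] .nil .nil) .nil)) (.node 205 [(234,(Int.ofNat 1))] (.node 179 [(230,(Int.negSucc 0))] (.node 176 [(229,(Int.negSucc 0))] .nil .nil) (.node 195 [(232,(Int.ofNat 1))] .nil .nil)) (.node 216 [(239,(Int.negSucc 0))] (.node 214 [(237,(Int.ofNat 1))] .nil .nil) .nil)))))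
noncomputable def ch193 : Tr (List (ℕ × ℤ)) := (.node 78 [(163,(Int.negSucc 0))] (.node 37 [(108,(Int.ofNat 1))] (.node 16 [(83,(Int.ofNat 1))] (.node 7 [(45,(Int.ofNat 1))] (.node 1 [(25,(Int.negSucc 0))] (.node 0 [(24,(Int.negSucc 0))] .nil .nil) (.node 5 [(35,(Int.ofNat 1))] .nil .nil)) (.node 10 [(64,(Int.negSucc 0))] (.node 9 [(61,(Int.negSucc 0))] .nil .nil) (.node 11 [(65,(Int.negSucc 0))] .nil .nil))) (.node 27 [(96,(Int.negSucc 0))] (.node 18 [(87,(Int.ofNat 1))] (.node 17 [(86,(Int.ofNat 1))] .nil .nil) (.node 26 [(95,(Int.negSucc 0))] .nil .nil)) (.node 36 [(107,(Int.ofNat 1))] (.node 30 [(97,(Int.negSucc 0))] .nil .nil) .nil))) (.node 53 [(129,(Int.negSucc 0))] (.node 49 [(124,(Int.ofNat 1))] (.node 47 [(121,(Int.ofNat 1))] (.node 40 [(109,(Int.ofNat 1))] .nil .nil) (.node 48 [(122,(Int.negSucc 0))]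 .nil .nil)) (.node 52 [(128,(Int.ofNat 1))] (.node 50 [(125,(Int.negSucc 0))] .nil .nil) .nil)) (.node 71 [(150,(Int.ofNat 1))] (.node 66 [(139,(Int.negSucc 0))] (.node 56 [(135,(Int.ofNat 1))] .nil .nil) (.node 67 [(140,(Int.ofNat 1))] .nil .nil)) (.node 76 [(161,(Int.ofNat 1))] (.node 72 [(151,(Int.negSucc 0))] .nil .nil) .nil)))) (.node 132 [(203,(Int.negSucc 0))] (.node 111 [(187,(Int.negSucc 0))] (.node 100 [(173,(Int.ofNat 1))] (.node 89 [(168,(Int.negSucc 0))] (.node 88 [(167,(Int.ofNat 1))] .nil .nil) (.node 99 [(172,(Int.negSucc 0))] .nil .nil)) (.node 110 [(186,(Int.ofNat 1))] (.node 104 [(183,(Int.negSucc 0))] .nil .nil) .nil)) (.node 118 [(192,(Int.negSucc 0))] (.node 115 [(190,(Int.negSucc 0))] (.node 114 [(189,(Int.ofNat 1))] .nil .nil) (.node 117 [(191,(Int.ofNat 1))] .nil .nil)) (.node 131 [(202,(Int.negSucc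 0))] (.node 130 [(199,(Int.negSucc 0))] .nil .nil) .nil))) (.node 174 [(228,(Int.ofNat 1))] (.node 152 [(221,(Int.negSucc 0))] (.node 143 [(212,(Int.ofNat 1))] (.node 142 [(209,(Int.ofNat 1))] .nil .nil) (.node 144 [(213,(Int.ofNat 1))] .nil .nil)) (.node 156 [(223,(Int.negSucc 0))] (.node 153 [(222,(Int.negSucc 0))] .nil .nil) .nil)) (.node 204 [(234,(Int.negSucc 0))] (.node 178 [(230,(Int.ofNat 1))] (.node 175 [(229,(Int.ofNat 1))] .nil .nil) (.node 194 [(232,(Int.negSucc 0))] .nil .nil)) (.node 215 [(239,(Int.ofNat 1))] (.node 214 [(238,(Int.ofNat 1))] .nil .nil) .nil)))))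
noncomputable def ch194 : Tr (List (ℕ × ℤ)) := (.node 83 [(164,(Int.negSucc 0))] (.node 39 [(111,(Int.ofNat 1))] (.node 15 [(78,(Int.ofNat 1))] (.node 7 [(46,(Int.negSucc 0))] (.node 3 [(27,(Int.ofNat 1))] (.node 2 [(26,(Int.ofNat 1))] .nil .nil) (.node 4 [(30,(Int.ofNat 1))] .nil .nil)) (.node 12 [(66,(Int.ofNat 1))] (.node 8 [(56,(Int.negSucc 0))] .nil .nil) (.node 13 [(67,(Int.ofNat 1))] .nil .nil))) (.node 25 [(94,(Int.negSucc 0))] (.node 20 [(89,(Int.negSucc 0))] (.node 19 [(88,(Int.negSucc 0))] .nil .nil) (.node 24 [(93,(Int.negSucc 0))] .nil .nil)) (.node 38 [(110,(Int.ofNat 1))] (.node 35 [(98,(Int.ofNat 1))] .nil .nil) .nil))) (.node 55 [(132,(Int.ofNat 1))] (.node 44 [(118,(Int.ofNat 1))] (.node 42 [(115,(Int.negSucc 0))] (.node 41 [(114,(Int.negSucc 0))] .nil .nil) (.node 43 [(117,(Int.ofNat 1))] .nil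 .nil)) (.node 54 [(131,(Int.negSucc 0))] (.node 51 [(130,(Int.ofNat 1))] .nil .nil) .nil)) (.node 73 [(152,(Int.ofNat 1))] (.node 64 [(137,(Int.negSucc 0))] (.node 61 [(136,(Int.ofNat 1))] .nil .nil) (.node 65 [(138,(Int.ofNat 1))] .nil .nil)) (.node 75 [(156,(Int.ofNat 1))] (.node 74 [(153,(Int.negSucc 0))] .nil .nil) .nil)))) (.node 129 [(201,(Int.negSucc 0))] (.node 108 [(185,(Int.ofNat 1))] (.node 102 [(175,(Int.ofNat 1))] (.node 87 [(166,(Int.negSucc 0))] (.node 86 [(165,(Int.ofNat 1))] .nil .nil) (.node 101 [(174,(Int.negSucc 0))] .nil .nil)) (.node 107 [(184,(Int.negSucc 0))] (.node 103 [(178,(Int.negSucc 0))] .nil .nil) .nil)) (.node 124 [(197,(Int.ofNat 1))] (.node 121 [(195,(Int.negSucc 0))] (.node 109 [(188,(Int.negSucc 0))] .nil .nil) (.node 122 [(196,(Int.negSucc 0))] .nil .nil)) (.node 128 [(200,(Int.negSucc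 0))] (.node 125 [(198,(Int.ofNat 1))] .nil .nil) .nil))) (.node 172 [(226,(Int.negSucc 0))] (.node 150 [(219,(Int.ofNat 1))] (.node 145 [(214,(Int.ofNat 1))] (.node 141 [(204,(Int.negSucc 0))] .nil .nil) (.node 146 [(215,(Int.ofNat 1))] .nil .nil)) (.node 161 [(224,(Int.negSucc 0))] (.node 151 [(220,(Int.ofNat 1))] .nil .nil) .nil)) (.node 209 [(235,(Int.negSucc 0))] (.node 183 [(231,(Int.ofNat 1))] (.node 173 [(227,(Int.negSucc 0))] .nil .nil) (.node 193 [(232,(Int.ofNat 1))] .nil .nil)) (.node 213 [(237,(Int.negSucc 0))] (.node 212 [(236,(Int.negSucc 0))] .nil .nil) .nil)))))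
noncomputable def ch195 : Tr (List (ℕ × ℤ)) := (.node 82 [(164,(Int.negSucc 0))] (.node 39 [(112,(Int.negSucc 0))] (.node 15 [(79,(Int.negSucc 0))] (.node 7 [(47,(Int.ofNat 1))] (.node 3 [(28,(Int.negSucc 0))] (.node 1 [(26,(Int.ofNat 1))] .nil .nil) (.node 4 [(31,(Int.negSucc 0))] .nil .nil)) (.node 11 [(66,(Int.ofNat 1))] (.node 8 [(57,(Int.ofNat 1))] .nil .nil) (.node 13 [(68,(Int.negSucc 0))] .nil .nil))) (.node 25 [(95,(Int.ofNat 1))] (.node 20 [(90,(Int.ofNat 1))] (.node 18 [(88,(Int.negSucc 0))] .nil .nil) (.node 23 [(93,(Int.negSucc 0))] .nil .nil)) (.node 37 [(110,(Int.ofNat 1))] (.node 34 [(98,(Int.ofNat 1))] .nil .nil) .nil))) (.node 55 [(133,(Int.ofNat 1))] (.node 45 [(121,(Int.ofNat 1))] (.node 42 [(116,(Int.ofNat 1))] (.node 40 [(114,(Int.negSucc 0))] .nil .nil) (.node 43 [(119,(Int.ofNat 1))] .nil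 .nil)) (.node 53 [(131,(Int.negSucc 0))] (.node 50 [(130,(Int.ofNat 1))] .nil .nil) .nil)) (.node 72 [(152,(Int.ofNat 1))] (.node 63 [(137,(Int.negSucc 0))] (.node 60 [(136,(Int.ofNat 1))] .nil .nil) (.node 65 [(139,(Int.ofNat 1))] .nil .nil)) (.node 75 [(157,(Int.ofNat 1))] (.node 74 [(154,(Int.negSucc 0))] .nil .nil) .nil)))) (.node 129 [(202,(Int.negSucc 0))] (.node 108 [(186,(Int.ofNat 1))] (.node 102 [(176,(Int.ofNat 1))] (.node 87 [(167,(Int.negSucc 0))] (.node 85 [(165,(Int.ofNat 1))] .nil .nil) (.node 100 [(174,(Int.negSucc 0))] .nil .nil)) (.node 106 [(184,(Int.negSucc 0))] (.node 103 [(179,(Int.negSucc 0))] .nil .nil) .nil)) (.node 123 [(197,(Int.negSucc 0))] (.node 118 [(194,(Int.negSucc 0))] (.node 109 [(189,(Int.negSucc 0))] .nil .nil) (.node 120 [(196,(Int.negSucc 0))] .nil .nil)) (.node 127 [(200,(Int.ofNat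 1))] (.node 125 [(199,(Int.ofNat 1))] .nil .nil) .nil))) (.node 171 [(226,(Int.ofNat 1))] (.node 149 [(219,(Int.negSucc 0))] (.node 144 [(214,(Int.negSucc 0))] (.node 141 [(205,(Int.negSucc 0))] .nil .nil) (.node 146 [(216,(Int.ofNat 1))] .nil .nil)) (.node 160 [(224,(Int.ofNat 1))] (.node 151 [(221,(Int.ofNat 1))] .nil .nil) .nil)) (.node 208 [(235,(Int.ofNat 1))] (.node 182 [(231,(Int.negSucc 0))] (.node 173 [(228,(Int.negSucc 0))] .nil .nil) (.node 192 [(232,(Int.negSucc 0))] .nil .nil)) (.node 213 [(238,(Int.negSucc 0))] (.node 211 [(236,(Int.ofNat 1))] .nil .nil) .nil)))))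
noncomputable def ch196 : Tr (List (ℕ × ℤ)) := (.node 81 [(164,(Int.negSucc 0))] (.node 38 [(112,(Int.negSucc 0))] (.node 15 [(80,(Int.ofNat 1))] (.node 7 [(48,(Int.negSucc 0))] (.node 3 [(29,(Int.ofNat 1))] (.node 0 [(26,(Int.ofNat 1))] .nil .nil) (.node 4 [(32,(Int.ofNat 1))] .nil .nil)) (.node 11 [(67,(Int.negSucc 0))] (.node 8 [(58,(Int.negSucc 0))] .nil .nil) (.node 12 [(68,(Int.negSucc 0))] .nil .nil))) (.node 24 [(95,(Int.ofNat 1))] (.node 19 [(90,(Int.ofNat 1))] (.node 18 [(89,(Int.ofNat 1))] .nil .nil) (.node 23 [(94,(Int.ofNat 1))] .nil .nil)) (.node 37 [(111,(Int.negSucc 0))] (.node 33 [(98,(Int.ofNat 1))] .nil .nil) .nil))) (.node 55 [(134,(Int.ofNat 1))] (.node 45 [(122,(Int.ofNat 1))] (.node 41 [(116,(Int.ofNat 1))] (.node 40 [(115,(Int.ofNat 1))] .nil .nil) (.node 44 [(120,(Int.ofNat 1))] .nil .nil))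 (.node 52 [(131,(Int.negSucc 0))] (.node 49 [(130,(Int.ofNat 1))] .nil .nil) .nil)) (.node 71 [(152,(Int.ofNat 1))] (.node 62 [(137,(Int.negSucc 0))] (.node 59 [(136,(Int.ofNat 1))] .nil .nil) (.node 65 [(140,(Int.ofNat 1))] .nil .nil)) (.node 75 [(158,(Int.ofNat 1))] (.node 74 [(155,(Int.negSucc 0))] .nil .nil) .nil)))) (.node 128 [(202,(Int.ofNat 1))] (.node 108 [(187,(Int.ofNat 1))] (.node 102 [(177,(Int.ofNat 1))] (.node 87 [(168,(Int.negSucc 0))] (.node 84 [(165,(Int.ofNat 1))] .nil .nil) (.node 99 [(174,(Int.negSucc 0))] .nil .nil)) (.node 105 [(184,(Int.negSucc 0))] (.node 103 [(180,(Int.negSucc 0))] .nil .nil) .nil)) (.node 123 [(198,(Int.negSucc 0))] (.node 117 [(194,(Int.negSucc 0))] (.node 109 [(190,(Int.negSucc 0))] .nil .nil) (.node 119 [(195,(Int.negSucc 0))] .nil .nil)) (.node 127 [(201,(Int.ofNat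 1))] (.node 124 [(199,(Int.negSucc 0))] .nil .nil) .nil))) (.node 171 [(227,(Int.ofNat 1))] (.node 149 [(220,(Int.negSucc 0))] (.node 144 [(215,(Int.negSucc 0))] (.node 141 [(206,(Int.negSucc 0))] .nil .nil) (.node 145 [(216,(Int.negSucc 0))] .nil .nil)) (.node 159 [(224,(Int.negSucc 0))] (.node 150 [(221,(Int.negSucc 0))] .nil .nil) .nil)) (.node 207 [(235,(Int.negSucc 0))] (.node 181 [(231,(Int.ofNat 1))] (.node 172 [(228,(Int.ofNat 1))] .nil .nil) (.node 191 [(232,(Int.ofNat 1))] .nil .nil)) (.node 213 [(239,(Int.negSucc 0))] (.node 210 [(236,(Int.negSucc 0))] .nil .nil) .nil)))))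
noncomputable def ch197 : Tr (List (ℕ × ℤ)) := (.node 80 [(164,(Int.negSucc 0))] (.node 39 [(113,(Int.ofNat 1))] (.node 15 [(81,(Int.ofNat 1))] (.node 7 [(49,(Int.negSucc 0))] (.node 2 [(28,(Int.negSucc 0))] (.node 1 [(27,(Int.negSucc 0))] .nil .nil) (.node 4 [(33,(Int.ofNat 1))] .nil .nil)) (.node 10 [(66,(Int.ofNat 1))] (.node 8 [(59,(Int.negSucc 0))] .nil .nil) (.node 13 [(69,(Int.ofNat 1))] .nil .nil))) (.node 25 [(96,(Int.negSucc 0))] (.node 20 [(91,(Int.negSucc 0))] (.node 17 [(88,(Int.negSucc 0))] .nil .nil) (.node 22 [(93,(Int.negSucc 0))] .nil .nil)) (.node 36 [(110,(Int.ofNat 1))] (.node 32 [(98,(Int.ofNat 1))] .nil .nil) .nil))) (.node 54 [(133,(Int.ofNat 1))] (.node 45 [(124,(Int.negSucc 0))] (.node 41 [(119,(Int.ofNat 1))] (.node 40 [(117,(Int.negSucc 0))] .nil .nil) (.node 44 [(123,(Int.ofNat 1))]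 .nil .nil)) (.node 53 [(132,(Int.negSucc 0))] (.node 48 [(130,(Int.ofNat 1))] .nil .nil) .nil)) (.node 72 [(153,(Int.ofNat 1))] (.node 63 [(138,(Int.negSucc 0))] (.node 58 [(136,(Int.ofNat 1))] .nil .nil) (.node 64 [(139,(Int.ofNat 1))] .nil .nil)) (.node 75 [(159,(Int.ofNat 1))] (.node 73 [(154,(Int.negSucc 0))] .nil .nil) .nil)))) (.node 129 [(203,(Int.negSucc 0))] (.node 107 [(186,(Int.ofNat 1))] (.node 101 [(176,(Int.ofNat 1))] (.node 86 [(167,(Int.negSucc 0))] (.node 85 [(166,(Int.ofNat 1))] .nil .nil) (.node 100 [(175,(Int.negSucc 0))] .nil .nil)) (.node 106 [(185,(Int.negSucc 0))] (.node 103 [(181,(Int.negSucc 0))] .nil .nil) .nil)) (.node 120 [(198,(Int.negSucc 0))] (.node 115 [(194,(Int.ofNat 1))] (.node 109 [(191,(Int.negSucc 0))] .nil .nil) (.node 116 [(195,(Int.negSucc 0))] .nil .nil)) (.node 126 [(200,(Int.negSucc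 0))] (.node 122 [(199,(Int.ofNat 1))] .nil .nil) .nil))) (.node 170 [(226,(Int.negSucc 0))] (.node 148 [(219,(Int.ofNat 1))] (.node 143 [(214,(Int.ofNat 1))] (.node 141 [(207,(Int.negSucc 0))] .nil .nil) (.node 146 [(217,(Int.ofNat 1))] .nil .nil)) (.node 158 [(224,(Int.negSucc 0))] (.node 151 [(222,(Int.ofNat 1))] .nil .nil) .nil)) (.node 206 [(235,(Int.negSucc 0))] (.node 180 [(231,(Int.ofNat 1))] (.node 173 [(229,(Int.negSucc 0))] .nil .nil) (.node 190 [(232,(Int.ofNat 1))] .nil .nil)) (.node 212 [(238,(Int.ofNat 1))] (.node 211 [(237,(Int.ofNat 1))] .nil .nil) .nil)))))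
noncomputable def ch198 : Tr (List (ℕ × ℤ)) := (.node 79 [(164,(Int.negSucc 0))] (.node 38 [(113,(Int.ofNat 1))] (.node 15 [(82,(Int.negSucc 0))] (.node 7 [(50,(Int.ofNat 1))] (.node 2 [(29,(Int.ofNat 1))] (.node 0 [(27,(Int.negSucc 0))] .nil .nil) (.node 4 [(34,(Int.negSucc 0))] .nil .nil)) (.node 10 [(67,(Int.negSucc 0))] (.node 8 [(60,(Int.ofNat 1))] .nil .nil) (.node 12 [(69,(Int.ofNat 1))] .nil .nil))) (.node 24 [(96,(Int.negSucc 0))] (.node 19 [(91,(Int.negSucc 0))] (.node 17 [(89,(Int.ofNat 1))] .nil .nil) (.node 22 [(94,(Int.ofNat 1))] .nil .nil)) (.node 36 [(111,(Int.negSucc 0))] (.node 31 [(98,(Int.ofNat 1))] .nil .nil) .nil))) (.node 54 [(134,(Int.ofNat 1))] (.node 45 [(125,(Int.negSucc 0))] (.node 42 [(120,(Int.ofNat 1))] (.node 40 [(118,(Int.ofNat 1))] .nil .nil) (.node 43 [(123,(Int.ofNat 1))] .nil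 .nil)) (.node 52 [(132,(Int.negSucc 0))] (.node 47 [(130,(Int.ofNat 1))] .nil .nil) .nil)) (.node 71 [(153,(Int.ofNat 1))] (.node 62 [(138,(Int.negSucc 0))] (.node 57 [(136,(Int.ofNat 1))] .nil .nil) (.node 64 [(140,(Int.ofNat 1))] .nil .nil)) (.node 75 [(160,(Int.ofNat 1))] (.node 73 [(155,(Int.negSucc 0))] .nil .nil) .nil)))) (.node 128 [(203,(Int.ofNat 1))] (.node 107 [(187,(Int.ofNat 1))] (.node 101 [(177,(Int.ofNat 1))] (.node 86 [(168,(Int.negSucc 0))] (.node 84 [(166,(Int.ofNat 1))] .nil .nil) (.node 99 [(175,(Int.negSucc 0))] .nil .nil)) (.node 105 [(185,(Int.negSucc 0))] (.node 103 [(182,(Int.negSucc 0))] .nil .nil) .nil)) (.node 119 [(197,(Int.negSucc 0))] (.node 114 [(194,(Int.ofNat 1))] (.node 109 [(192,(Int.negSucc 0))] .nil .nil) (.node 116 [(196,(Int.negSucc 0))] .nil .nil)) (.node 126 [(201,(Int.negSucc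 0))] (.node 121 [(199,(Int.negSucc 0))] .nil .nil) .nil))) (.node 170 [(227,(Int.negSucc 0))] (.node 148 [(220,(Int.ofNat 1))] (.node 143 [(215,(Int.ofNat 1))] (.node 141 [(208,(Int.negSucc 0))] .nil .nil) (.node 145 [(217,(Int.negSucc 0))] .nil .nil)) (.node 157 [(224,(Int.ofNat 1))] (.node 150 [(222,(Int.negSucc 0))] .nil .nil) .nil)) (.node 205 [(235,(Int.ofNat 1))] (.node 179 [(231,(Int.negSucc 0))] (.node 172 [(229,(Int.ofNat 1))] .nil .nil) (.node 189 [(232,(Int.negSucc 0))] .nil .nil)) (.node 212 [(239,(Int.ofNat 1))] (.node 210 [(237,(Int.negSucc 0))] .nil .nil) .nil)))))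
noncomputable def ch199 : Tr (List (ℕ × ℤ)) := (.node 78 [(164,(Int.negSucc 0))] (.node 37 [(113,(Int.ofNat 1))] (.node 15 [(83,(Int.ofNat 1))] (.node 7 [(51,(Int.negSucc 0))] (.node 1 [(29,(Int.ofNat 1))] (.node 0 [(28,(Int.ofNat 1))] .nil .nil) (.node 4 [(35,(Int.ofNat 1))] .nil .nil)) (.node 10 [(68,(Int.ofNat 1))] (.node 8 [(61,(Int.negSucc 0))] .nil .nil) (.node 11 [(69,(Int.ofNat 1))] .nil .nil))) (.node 23 [(96,(Int.negSucc 0))] (.node 18 [(91,(Int.negSucc 0))] (.node 17 [(90,(Int.negSucc 0))] .nil .nil) (.node 22 [(95,(Int.negSucc 0))] .nil .nil)) (.node 36 [(112,(Int.ofNat 1))] (.node 30 [(98,(Int.ofNat 1))] .nil .nil) .nil))) (.node 53 [(134,(Int.ofNat 1))] (.node 44 [(125,(Int.negSucc 0))] (.node 42 [(122,(Int.negSucc 0))] (.node 41 [(121,(Int.ofNat 1))] .nil .nil) (.node 43 [(124,(Int.ofNat 1))] .nil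 .nil)) (.node 52 [(133,(Int.negSucc 0))] (.node 46 [(130,(Int.ofNat 1))] .nil .nil) .nil)) (.node 71 [(154,(Int.ofNat 1))] (.node 62 [(139,(Int.negSucc 0))] (.node 56 [(136,(Int.ofNat 1))] .nil .nil) (.node 63 [(140,(Int.ofNat 1))] .nil .nil)) (.node 75 [(161,(Int.ofNat 1))] (.node 72 [(155,(Int.negSucc 0))] .nil .nil) .nil)))) (.node 127 [(203,(Int.negSucc 0))] (.node 106 [(187,(Int.ofNat 1))] (.node 100 [(177,(Int.ofNat 1))] (.node 85 [(168,(Int.negSucc 0))] (.node 84 [(167,(Int.ofNat 1))] .nil .nil) (.node 99 [(176,(Int.negSucc 0))] .nil .nil)) (.node 105 [(186,(Int.negSucc 0))] (.node 103 [(183,(Int.negSucc 0))] .nil .nil) .nil)) (.node 117 [(197,(Int.ofNat 1))] (.node 114 [(195,(Int.ofNat 1))] (.node 109 [(193,(Int.negSucc 0))] .nil .nil) (.node 115 [(196,(Int.negSucc 0))] .nil .nil)) (.node 126 [(202,(Int.negSucc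 0))] (.node 118 [(198,(Int.negSucc 0))] .nil .nil) .nil))) (.node 170 [(228,(Int.negSucc 0))] (.node 148 [(221,(Int.ofNat 1))] (.node 143 [(216,(Int.ofNat 1))] (.node 141 [(209,(Int.negSucc 0))] .nil .nil) (.node 144 [(217,(Int.ofNat 1))] .nil .nil)) (.node 156 [(224,(Int.negSucc 0))] (.node 149 [(222,(Int.ofNat 1))] .nil .nil) .nil)) (.node 204 [(235,(Int.negSucc 0))] (.node 178 [(231,(Int.ofNat 1))] (.node 171 [(229,(Int.negSucc 0))] .nil .nil) (.node 188 [(232,(Int.ofNat 1))] .nil .nil)) (.node 211 [(239,(Int.negSucc 0))] (.node 210 [(238,(Int.negSucc 0))] .nil .nil) .nil)))))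
noncomputable def ch200 : Tr (List (ℕ × ℤ)) := (.node 80 [(165,(Int.negSucc 0))] (.node 37 [(117,(Int.negSucc 0))] (.node 15 [(84,(Int.negSucc 0))] (.node 7 [(52,(Int.ofNat 1))] (.node 2 [(31,(Int.ofNat 1))] (.node 1 [(30,(Int.ofNat 1))] .nil .nil) (.node 3 [(33,(Int.ofNat 1))] .nil .nil)) (.node 9 [(66,(Int.ofNat 1))] (.node 8 [(62,(Int.ofNat 1))] .nil .nil) (.node 13 [(70,(Int.negSucc 0))] .nil .nil))) (.node 25 [(97,(Int.ofNat 1))] (.node 20 [(92,(Int.ofNat 1))] (.node 16 [(88,(Int.negSucc 0))] .nil .nil) (.node 21 [(93,(Int.negSucc 0))] .nil .nil)) (.node 36 [(114,(Int.ofNat 1))] (.node 29 [(98,(Int.ofNat 1))] .nil .nil) .nil))) (.node 51 [(133,(Int.ofNat 1))] (.node 45 [(128,(Int.ofNat 1))] (.node 42 [(126,(Int.ofNat 1))] (.node 38 [(119,(Int.ofNat 1))] .nil .nil) (.node 44 [(127,(Int.negSucc 0))] .nil .nil))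 (.node 50 [(132,(Int.negSucc 0))] (.node 48 [(131,(Int.ofNat 1))] .nil .nil) .nil)) (.node 72 [(156,(Int.ofNat 1))] (.node 60 [(138,(Int.negSucc 0))] (.node 58 [(137,(Int.ofNat 1))] .nil .nil) (.node 61 [(139,(Int.ofNat 1))] .nil .nil)) (.node 74 [(159,(Int.ofNat 1))] (.node 73 [(157,(Int.negSucc 0))] .nil .nil) .nil)))) (.node 125 [(203,(Int.negSucc 0))] (.node 107 [(189,(Int.ofNat 1))] (.node 101 [(179,(Int.ofNat 1))] (.node 83 [(167,(Int.negSucc 0))] (.node 82 [(166,(Int.ofNat 1))] .nil .nil) (.node 100 [(178,(Int.negSucc 0))] .nil .nil)) (.node 106 [(188,(Int.negSucc 0))] (.node 102 [(181,(Int.negSucc 0))] .nil .nil) .nil)) (.node 113 [(197,(Int.negSucc 0))] (.node 111 [(194,(Int.negSucc 0))] (.node 108 [(191,(Int.negSucc 0))] .nil .nil) (.node 112 [(195,(Int.ofNat 1))] .nil .nil)) (.node 122 [(202,(Int.ofNat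 1))] (.node 120 [(201,(Int.negSucc 0))] .nil .nil) .nil))) (.node 169 [(226,(Int.ofNat 1))] (.node 147 [(219,(Int.negSucc 0))] (.node 142 [(214,(Int.negSucc 0))] (.node 141 [(210,(Int.negSucc 0))] .nil .nil) (.node 146 [(218,(Int.ofNat 1))] .nil .nil)) (.node 155 [(224,(Int.ofNat 1))] (.node 151 [(223,(Int.ofNat 1))] .nil .nil) .nil)) (.node 206 [(236,(Int.negSucc 0))] (.node 177 [(231,(Int.negSucc 0))] (.node 173 [(230,(Int.negSucc 0))] .nil .nil) (.node 187 [(232,(Int.negSucc 0))] .nil .nil)) (.node 209 [(238,(Int.negSucc 0))] (.node 208 [(237,(Int.negSucc 0))] .nil .nil) .nil)))))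
noncomputable def ch201 : Tr (List (ℕ × ℤ)) := (.node 79 [(165,(Int.negSucc 0))] (.node 37 [(118,(Int.ofNat 1))] (.node 15 [(85,(Int.ofNat 1))] (.node 7 [(53,(Int.negSucc 0))] (.node 2 [(32,(Int.negSucc 0))] (.node 0 [(30,(Int.ofNat 1))] .nil .nil) (.node 3 [(34,(Int.negSucc 0))] .nil .nil)) (.node 9 [(67,(Int.negSucc 0))] (.node 8 [(63,(Int.negSucc 0))] .nil .nil) (.node 12 [(70,(Int.negSucc 0))] .nil .nil))) (.node 24 [(97,(Int.ofNat 1))] (.node 19 [(92,(Int.ofNat 1))] (.node 16 [(89,(Int.ofNat 1))] .nil .nil) (.node 21 [(94,(Int.ofNat 1))] .nil .nil)) (.node 36 [(115,(Int.negSucc 0))] (.node 28 [(98,(Int.ofNat 1))] .nil .nil) .nil))) (.node 51 [(134,(Int.ofNat 1))] (.node 45 [(129,(Int.ofNat 1))] (.node 41 [(126,(Int.ofNat 1))] (.node 39 [(120,(Int.ofNat 1))] .nil .nil) (.node 43 [(127,(Int.negSucc 0))] .nil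 .nil)) (.node 49 [(132,(Int.negSucc 0))] (.node 47 [(131,(Int.ofNat 1))] .nil .nil) .nil)) (.node 71 [(156,(Int.ofNat 1))] (.node 59 [(138,(Int.negSucc 0))] (.node 57 [(137,(Int.ofNat 1))] .nil .nil) (.node 61 [(140,(Int.ofNat 1))] .nil .nil)) (.node 74 [(160,(Int.ofNat 1))] (.node 73 [(158,(Int.negSucc 0))] .nil .nil) .nil)))) (.node 124 [(203,(Int.ofNat 1))] (.node 107 [(190,(Int.ofNat 1))] (.node 101 [(180,(Int.ofNat 1))] (.node 83 [(168,(Int.negSucc 0))] (.node 81 [(166,(Int.ofNat 1))] .nil .nil) (.node 99 [(178,(Int.negSucc 0))] .nil .nil)) (.node 105 [(188,(Int.negSucc 0))] (.node 102 [(182,(Int.negSucc 0))] .nil .nil) .nil)) (.node 113 [(198,(Int.negSucc 0))] (.node 110 [(194,(Int.negSucc 0))] (.node 108 [(192,(Int.negSucc 0))] .nil .nil) (.node 112 [(196,(Int.ofNat 1))] .nil .nil)) (.node 121 [(202,(Int.negSucc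 0))] (.node 119 [(200,(Int.negSucc 0))] .nil .nil) .nil))) (.node 169 [(227,(Int.ofNat 1))] (.node 147 [(220,(Int.negSucc 0))] (.node 142 [(215,(Int.negSucc 0))] (.node 141 [(211,(Int.negSucc 0))] .nil .nil) (.node 145 [(218,(Int.negSucc 0))] .nil .nil)) (.node 154 [(224,(Int.negSucc 0))] (.node 150 [(223,(Int.negSucc 0))] .nil .nil) .nil)) (.node 205 [(236,(Int.ofNat 1))] (.node 176 [(231,(Int.ofNat 1))] (.node 172 [(230,(Int.ofNat 1))] .nil .nil) (.node 186 [(232,(Int.ofNat 1))] .nil .nil)) (.node 209 [(239,(Int.negSucc 0))] (.node 207 [(237,(Int.ofNat 1))] .nil .nil) .nil)))))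
noncomputable def ch202 : Tr (List (ℕ × ℤ)) := (.node 78 [(165,(Int.negSucc 0))] (.node 38 [(121,(Int.ofNat 1))] (.node 15 [(86,(Int.negSucc 0))] (.node 7 [(54,(Int.ofNat 1))] (.node 1 [(32,(Int.negSucc 0))] (.node 0 [(31,(Int.negSucc 0))] .nil .nil) (.node 3 [(35,(Int.ofNat 1))] .nil .nil)) (.node 9 [(68,(Int.ofNat 1))] (.node 8 [(64,(Int.ofNat 1))] .nil .nil) (.node 11 [(70,(Int.negSucc 0))] .nil .nil))) (.node 23 [(97,(Int.ofNat 1))] (.node 18 [(92,(Int.ofNat 1))] (.node 16 [(90,(Int.negSucc 0))] .nil .nil) (.node 21 [(95,(Int.negSucc 0))] .nil .nil)) (.node 36 [(116,(Int.ofNat 1))] (.node 27 [(98,(Int.ofNat 1))] .nil .nil) .nil))) (.node 50 [(134,(Int.ofNat 1))] (.node 44 [(129,(Int.ofNat 1))] (.node 40 [(126,(Int.ofNat 1))] (.node 39 [(122,(Int.negSucc 0))] .nil .nil) (.node 43 [(128,(Int.negSucc 0))] .nil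 .nil)) (.node 49 [(133,(Int.negSucc 0))] (.node 46 [(131,(Int.ofNat 1))] .nil .nil) .nil)) (.node 71 [(157,(Int.ofNat 1))] (.node 59 [(139,(Int.negSucc 0))] (.node 56 [(137,(Int.ofNat 1))] .nil .nil) (.node 60 [(140,(Int.ofNat 1))] .nil .nil)) (.node 74 [(161,(Int.ofNat 1))] (.node 72 [(158,(Int.negSucc 0))] .nil .nil) .nil)))) (.node 123 [(203,(Int.negSucc 0))] (.node 106 [(190,(Int.ofNat 1))] (.node 100 [(180,(Int.ofNat 1))] (.node 82 [(168,(Int.negSucc 0))] (.node 81 [(167,(Int.ofNat 1))] .nil .nil) (.node 99 [(179,(Int.negSucc 0))] .nil .nil)) (.node 105 [(189,(Int.negSucc 0))] (.node 102 [(183,(Int.negSucc 0))] .nil .nil) .nil)) (.node 113 [(199,(Int.negSucc 0))] (.node 110 [(195,(Int.negSucc 0))] (.node 108 [(193,(Int.negSucc 0))] .nil .nil) (.node 111 [(196,(Int.ofNat 1))] .nil .nil)) (.node 118 [(201,(Int.negSucc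 0))] (.node 117 [(200,(Int.ofNat 1))] .nil .nil) .nil))) (.node 169 [(228,(Int.ofNat 1))] (.node 147 [(221,(Int.negSucc 0))] (.node 142 [(216,(Int.negSucc 0))] (.node 141 [(212,(Int.negSucc 0))] .nil .nil) (.node 144 [(218,(Int.ofNat 1))] .nil .nil)) (.node 153 [(224,(Int.ofNat 1))] (.node 149 [(223,(Int.ofNat 1))] .nil .nil) .nil)) (.node 204 [(236,(Int.negSucc 0))] (.node 175 [(231,(Int.negSucc 0))] (.node 171 [(230,(Int.negSucc 0))] .nil .nil) (.node 185 [(232,(Int.negSucc 0))] .nil .nil)) (.node 208 [(239,(Int.ofNat 1))] (.node 207 [(238,(Int.ofNat 1))] .nil .nil) .nil)))))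
noncomputable def ch203 : Tr (List (ℕ × ℤ)) := (.node 78 [(166,(Int.negSucc 0))] (.node 38 [(124,(Int.negSucc 0))] (.node 15 [(87,(Int.ofNat 1))] (.node 7 [(55,(Int.negSucc 0))] (.node 1 [(34,(Int.ofNat 1))] (.node 0 [(33,(Int.ofNat 1))] .nil .nil) (.node 2 [(35,(Int.ofNat 1))] .nil .nil)) (.node 9 [(69,(Int.negSucc 0))] (.node 8 [(65,(Int.negSucc 0))] .nil .nil) (.node 10 [(70,(Int.negSucc 0))] .nil .nil))) (.node 22 [(97,(Int.ofNat 1))] (.node 17 [(92,(Int.ofNat 1))] (.node 16 [(91,(Int.ofNat 1))] .nil .nil) (.node 21 [(96,(Int.ofNat 1))] .nil .nil)) (.node 37 [(123,(Int.ofNat 1))] (.node 26 [(98,(Int.ofNat 1))] .nil .nil) .nil))) (.node 48 [(134,(Int.ofNat 1))] (.node 42 [(129,(Int.ofNat 1))] (.node 40 [(127,(Int.ofNat 1))] (.node 39 [(125,(Int.ofNat 1))] .nil .nil) (.node 41 [(128,(Int.negSucc 0))] .nil .nil))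 (.node 47 [(133,(Int.negSucc 0))] (.node 46 [(132,(Int.ofNat 1))] .nil .nil) .nil)) (.node 71 [(159,(Int.ofNat 1))] (.node 57 [(139,(Int.negSucc 0))] (.node 56 [(138,(Int.ofNat 1))] .nil .nil) (.node 58 [(140,(Int.ofNat 1))] .nil .nil)) (.node 73 [(161,(Int.ofNat 1))] (.node 72 [(160,(Int.negSucc 0))] .nil .nil) .nil)))) (.node 116 [(202,(Int.negSucc 0))] (.node 106 [(192,(Int.ofNat 1))] (.node 100 [(182,(Int.ofNat 1))] (.node 80 [(168,(Int.negSucc 0))] (.node 79 [(167,(Int.ofNat 1))] .nil .nil) (.node 99 [(181,(Int.negSucc 0))] .nil .nil)) (.node 105 [(191,(Int.negSucc 0))] (.node 101 [(183,(Int.negSucc 0))] .nil .nil) .nil)) (.node 112 [(199,(Int.negSucc 0))] (.node 110 [(197,(Int.negSucc 0))] (.node 107 [(193,(Int.negSucc 0))] .nil .nil) (.node 111 [(198,(Int.ofNat 1))] .nil .nil)) (.node 115 [(201,(Int.ofNat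 1))] (.node 114 [(200,(Int.negSucc 0))] .nil .nil) .nil))) (.node 169 [(229,(Int.ofNat 1))] (.node 147 [(222,(Int.negSucc 0))] (.node 142 [(217,(Int.negSucc 0))] (.node 141 [(213,(Int.negSucc 0))] .nil .nil) (.node 143 [(218,(Int.negSucc 0))] .nil .nil)) (.node 152 [(224,(Int.negSucc 0))] (.node 148 [(223,(Int.negSucc 0))] .nil .nil) .nil)) (.node 204 [(237,(Int.negSucc 0))] (.node 174 [(231,(Int.ofNat 1))] (.node 170 [(230,(Int.ofNat 1))] .nil .nil) (.node 184 [(232,(Int.ofNat 1))] .nil .nil)) (.node 206 [(239,(Int.negSucc 0))] (.node 205 [(238,(Int.negSucc 0))] .nil .nil) .nil)))))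
noncomputable def ch204 : Tr (List (ℕ × ℤ)) := (.node 83 [(169,(Int.negSucc 0))] (.node 31 [(114,(Int.negSucc 0))] (.node 14 [(78,(Int.ofNat 1))] (.node 5 [(46,(Int.negSucc 0))] (.node 3 [(37,(Int.negSucc 0))] (.node 2 [(36,(Int.negSucc 0))] .nil .nil) (.node 4 [(40,(Int.negSucc 0))] .nil .nil)) (.node 12 [(71,(Int.negSucc 0))] (.node 6 [(56,(Int.negSucc 0))] .nil .nil) (.node 13 [(72,(Int.negSucc 0))] .nil .nil))) (.node 25 [(106,(Int.negSucc 0))] (.node 20 [(100,(Int.ofNat 1))] (.node 19 [(99,(Int.ofNat 1))] .nil .nil) (.node 24 [(105,(Int.negSucc 0))] .nil .nil)) (.node 29 [(111,(Int.ofNat 1))] (.node 28 [(110,(Int.ofNat 1))] .nil .nil) .nil))) (.node 55 [(144,(Int.negSucc 0))] (.node 45 [(141,(Int.ofNat 1))] (.node 33 [(117,(Int.ofNat 1))] (.node 32 [(115,(Int.negSucc 0))] .nil .nil) (.node 34 [(118,(Int.ofNat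 1))] .nil .nil)) (.node 54 [(143,(Int.ofNat 1))] (.node 51 [(142,(Int.negSucc 0))] .nil .nil) .nil)) (.node 68 [(152,(Int.ofNat 1))] (.node 64 [(148,(Int.negSucc 0))] (.node 61 [(147,(Int.ofNat 1))] .nil .nil) (.node 65 [(149,(Int.ofNat 1))] .nil .nil)) (.node 70 [(156,(Int.ofNat 1))] (.node 69 [(153,(Int.negSucc 0))] .nil .nil) .nil)))) (.node 128 [(210,(Int.negSucc 0))] (.node 96 [(185,(Int.negSucc 0))] (.node 91 [(175,(Int.ofNat 1))] (.node 87 [(171,(Int.negSucc 0))] (.node 86 [(170,(Int.ofNat 1))] .nil .nil) (.node 90 [(174,(Int.negSucc 0))] .nil .nil)) (.node 95 [(184,(Int.ofNat 1))] (.node 92 [(178,(Int.negSucc 0))] .nil .nil) .nil)) (.node 122 [(206,(Int.negSucc 0))] (.node 98 [(194,(Int.negSucc 0))] (.node 97 [(188,(Int.ofNat 1))] .nil .nil) (.node 121 [(205,(Int.negSucc 0))] .nil .nil)) (.node 125 [(208,(Int.ofNat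 1))] (.node 124 [(207,(Int.ofNat 1))] .nil .nil) .nil))) (.node 167 [(226,(Int.ofNat 1))] (.node 139 [(219,(Int.negSucc 0))] (.node 133 [(214,(Int.ofNat 1))] (.node 129 [(211,(Int.negSucc 0))] .nil .nil) (.node 134 [(215,(Int.ofNat 1))] .nil .nil)) (.node 161 [(225,(Int.negSucc 0))] (.node 140 [(220,(Int.negSucc 0))] .nil .nil) .nil)) (.node 199 [(235,(Int.ofNat 1))] (.node 183 [(233,(Int.ofNat 1))] (.node 168 [(227,(Int.ofNat 1))] .nil .nil) (.node 193 [(234,(Int.ofNat 1))] .nil .nil)) (.node 203 [(237,(Int.ofNat 1))] (.node 202 [(236,(Int.ofNat 1))] .nil .nil) .nil)))))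
noncomputable def ch205 : Tr (List (ℕ × ℤ)) := (.node 82 [(169,(Int.negSucc 0))] (.node 30 [(114,(Int.negSucc 0))] (.node 14 [(79,(Int.negSucc 0))] (.node 5 [(47,(Int.ofNat 1))] (.node 3 [(38,(Int.ofNat 1))] (.node 1 [(36,(Int.negSucc 0))] .nil .nil) (.node 4 [(41,(Int.ofNat 1))] .nil .nil)) (.node 11 [(71,(Int.negSucc 0))] (.node 6 [(57,(Int.ofNat 1))] .nil .nil) (.node 13 [(73,(Int.ofNat 1))] .nil .nil))) (.node 25 [(107,(Int.ofNat 1))] (.node 20 [(101,(Int.negSucc 0))] (.node 18 [(99,(Int.ofNat 1))] .nil .nil) (.node 23 [(105,(Int.negSucc 0))] .nil .nil)) (.node 29 [(112,(Int.negSucc 0))] (.node 27 [(110,(Int.ofNat 1))] .nil .nil) .nil))) (.node 55 [(145,(Int.negSucc 0))] (.node 44 [(141,(Int.ofNat 1))] (.node 33 [(119,(Int.ofNat 1))] (.node 32 [(116,(Int.ofNat 1))] .nil .nil) (.node 35 [(121,(Int.ofNat 1))]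 .nil .nil)) (.node 53 [(143,(Int.ofNat 1))] (.node 50 [(142,(Int.negSucc 0))] .nil .nil) .nil)) (.node 67 [(152,(Int.ofNat 1))] (.node 63 [(148,(Int.negSucc 0))] (.node 60 [(147,(Int.ofNat 1))] .nil .nil) (.node 65 [(150,(Int.ofNat 1))] .nil .nil)) (.node 70 [(157,(Int.ofNat 1))] (.node 69 [(154,(Int.negSucc 0))] .nil .nil) .nil)))) (.node 127 [(210,(Int.ofNat 1))] (.node 96 [(186,(Int.negSucc 0))] (.node 91 [(176,(Int.ofNat 1))] (.node 87 [(172,(Int.negSucc 0))] (.node 85 [(170,(Int.ofNat 1))] .nil .nil) (.node 89 [(174,(Int.negSucc 0))] .nil .nil)) (.node 94 [(184,(Int.ofNat 1))] (.node 92 [(179,(Int.negSucc 0))] .nil .nil) .nil)) (.node 120 [(206,(Int.negSucc 0))] (.node 98 [(195,(Int.negSucc 0))] (.node 97 [(189,(Int.ofNat 1))] .nil .nil) (.node 118 [(204,(Int.negSucc 0))] .nil .nil)) (.node 125 [(209,(Int.ofNat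 1))] (.node 123 [(207,(Int.negSucc 0))] .nil .nil) .nil))) (.node 166 [(226,(Int.negSucc 0))] (.node 138 [(219,(Int.ofNat 1))] (.node 132 [(214,(Int.negSucc 0))] (.node 129 [(212,(Int.negSucc 0))] .nil .nil) (.node 134 [(216,(Int.ofNat 1))] .nil .nil)) (.node 160 [(225,(Int.ofNat 1))] (.node 140 [(221,(Int.negSucc 0))] .nil .nil) .nil)) (.node 198 [(235,(Int.negSucc 0))] (.node 182 [(233,(Int.negSucc 0))] (.node 168 [(228,(Int.ofNat 1))] .nil .nil) (.node 192 [(234,(Int.negSucc 0))] .nil .nil)) (.node 203 [(238,(Int.ofNat 1))] (.node 201 [(236,(Int.negSucc 0))] .nil .nil) .nil)))))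
noncomputable def ch206 : Tr (List (ℕ × ℤ)) := (.node 81 [(169,(Int.negSucc 0))] (.node 30 [(115,(Int.ofNat 1))] (.node 14 [(80,(Int.ofNat 1))] (.node 5 [(48,(Int.negSucc 0))] (.node 3 [(39,(Int.negSucc 0))] (.node 0 [(36,(Int.negSucc 0))] .nil .nil) (.node 4 [(42,(Int.negSucc 0))] .nil .nil)) (.node 11 [(72,(Int.ofNat 1))] (.node 6 [(58,(Int.negSucc 0))] .nil .nil) (.node 12 [(73,(Int.ofNat 1))] .nil .nil))) (.node 24 [(107,(Int.ofNat 1))] (.node 19 [(101,(Int.negSucc 0))] (.node 18 [(100,(Int.negSucc 0))] .nil .nil) (.node 23 [(106,(Int.ofNat 1))] .nil .nil)) (.node 28 [(112,(Int.negSucc 0))] (.node 27 [(111,(Int.negSucc 0))] .nil .nil) .nil))) (.node 55 [(146,(Int.negSucc 0))] (.node 43 [(141,(Int.ofNat 1))] (.node 34 [(120,(Int.ofNat 1))] (.node 31 [(116,(Int.ofNat 1))] .nil .nil) (.node 35 [(122,(Int.ofNat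 1))] .nil .nil)) (.node 52 [(143,(Int.ofNat 1))] (.node 49 [(142,(Int.negSucc 0))] .nil .nil) .nil)) (.node 66 [(152,(Int.ofNat 1))] (.node 62 [(148,(Int.negSucc 0))] (.node 59 [(147,(Int.ofNat 1))] .nil .nil) (.node 65 [(151,(Int.ofNat 1))] .nil .nil)) (.node 70 [(158,(Int.ofNat 1))] (.node 69 [(155,(Int.negSucc 0))] .nil .nil) .nil)))) (.node 127 [(211,(Int.ofNat 1))] (.node 96 [(187,(Int.negSucc 0))] (.node 91 [(177,(Int.ofNat 1))] (.node 87 [(173,(Int.negSucc 0))] (.node 84 [(170,(Int.ofNat 1))] .nil .nil) (.node 88 [(174,(Int.negSucc 0))] .nil .nil)) (.node 93 [(184,(Int.ofNat 1))] (.node 92 [(180,(Int.negSucc 0))] .nil .nil) .nil)) (.node 119 [(205,(Int.negSucc 0))] (.node 98 [(196,(Int.negSucc 0))] (.node 97 [(190,(Int.ofNat 1))] .nil .nil) (.node 117 [(204,(Int.negSucc 0))] .nil .nil)) (.node 124 [(209,(Int.negSucc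 0))] (.node 123 [(208,(Int.negSucc 0))] .nil .nil) .nil))) (.node 166 [(227,(Int.negSucc 0))] (.node 138 [(220,(Int.ofNat 1))] (.node 132 [(215,(Int.negSucc 0))] (.node 128 [(212,(Int.ofNat 1))] .nil .nil) (.node 133 [(216,(Int.negSucc 0))] .nil .nil)) (.node 159 [(225,(Int.negSucc 0))] (.node 139 [(221,(Int.ofNat 1))] .nil .nil) .nil)) (.node 197 [(235,(Int.ofNat 1))] (.node 181 [(233,(Int.ofNat 1))] (.node 167 [(228,(Int.negSucc 0))] .nil .nil) (.node 191 [(234,(Int.ofNat 1))] .nil .nil)) (.node 203 [(239,(Int.ofNat 1))] (.node 200 [(236,(Int.ofNat 1))] .nil .nil) .nil)))))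
noncomputable def ch207 : Tr (List (ℕ × ℤ)) := (.node 80 [(169,(Int.negSucc 0))] (.node 30 [(117,(Int.negSucc 0))] (.node 14 [(81,(Int.ofNat 1))] (.node 5 [(49,(Int.negSucc 0))] (.node 2 [(38,(Int.ofNat 1))] (.node 1 [(37,(Int.ofNat 1))] .nil .nil) (.node 4 [(43,(Int.negSucc 0))] .nil .nil)) (.node 10 [(71,(Int.negSucc 0))] (.node 6 [(59,(Int.negSucc 0))] .nil .nil) (.node 13 [(74,(Int.negSucc 0))] .nil .nil))) (.node 25 [(108,(Int.negSucc 0))] (.node 20 [(102,(Int.ofNat 1))] (.node 17 [(99,(Int.ofNat 1))] .nil .nil) (.node 22 [(105,(Int.negSucc 0))] .nil .nil)) (.node 29 [(113,(Int.ofNat 1))] (.node 26 [(110,(Int.ofNat 1))] .nil .nil) .nil))) (.node 54 [(145,(Int.negSucc 0))] (.node 42 [(141,(Int.ofNat 1))] (.node 34 [(123,(Int.ofNat 1))] (.node 31 [(119,(Int.ofNat 1))] .nil .nil) (.node 35 [(124,(Int.negSucc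 0))] .nil .nil)) (.node 53 [(144,(Int.ofNat 1))] (.node 48 [(142,(Int.negSucc 0))] .nil .nil) .nil)) (.node 67 [(153,(Int.ofNat 1))] (.node 63 [(149,(Int.negSucc 0))] (.node 58 [(147,(Int.ofNat 1))] .nil .nil) (.node 64 [(150,(Int.ofNat 1))] .nil .nil)) (.node 70 [(159,(Int.ofNat 1))] (.node 68 [(154,(Int.negSucc 0))] .nil .nil) .nil)))) (.node 126 [(210,(Int.negSucc 0))] (.node 95 [(186,(Int.negSucc 0))] (.node 90 [(176,(Int.ofNat 1))] (.node 86 [(172,(Int.negSucc 0))] (.node 85 [(171,(Int.ofNat 1))] .nil .nil) (.node 89 [(175,(Int.negSucc 0))] .nil .nil)) (.node 94 [(185,(Int.ofNat 1))] (.node 92 [(181,(Int.negSucc 0))] .nil .nil) .nil)) (.node 116 [(205,(Int.negSucc 0))] (.node 98 [(197,(Int.negSucc 0))] (.node 97 [(191,(Int.ofNat 1))] .nil .nil) (.node 115 [(204,(Int.ofNat 1))] .nil .nil)) (.node 122 [(209,(Int.ofNat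 1))] (.node 120 [(208,(Int.negSucc 0))] .nil .nil) .nil))) (.node 165 [(226,(Int.ofNat 1))] (.node 137 [(219,(Int.negSucc 0))] (.node 131 [(214,(Int.ofNat 1))] (.node 129 [(213,(Int.negSucc 0))] .nil .nil) (.node 134 [(217,(Int.ofNat 1))] .nil .nil)) (.node 158 [(225,(Int.negSucc 0))] (.node 140 [(222,(Int.negSucc 0))] .nil .nil) .nil)) (.node 196 [(235,(Int.ofNat 1))] (.node 180 [(233,(Int.ofNat 1))] (.node 168 [(229,(Int.ofNat 1))] .nil .nil) (.node 190 [(234,(Int.ofNat 1))] .nil .nil)) (.node 202 [(238,(Int.negSucc 0))] (.node 201 [(237,(Int.negSucc 0))] .nil .nil) .nil)))))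
noncomputable def ch208 : Tr (List (ℕ × ℤ)) := (.node 79 [(169,(Int.negSucc 0))] (.node 30 [(118,(Int.ofNat 1))] (.node 14 [(82,(Int.negSucc 0))] (.node 5 [(50,(Int.ofNat 1))] (.node 2 [(39,(Int.negSucc 0))] (.node 0 [(37,(Int.ofNat 1))] .nil .nil) (.node 4 [(44,(Int.ofNat 1))] .nil .nil)) (.node 10 [(72,(Int.ofNat 1))] (.node 6 [(60,(Int.ofNat 1))] .nil .nil) (.node 12 [(74,(Int.negSucc 0))] .nil .nil))) (.node 24 [(108,(Int.negSucc 0))] (.node 19 [(102,(Int.ofNat 1))] (.node 17 [(100,(Int.negSucc 0))] .nil .nil) (.node 22 [(106,(Int.ofNat 1))] .nil .nil)) (.node 28 [(113,(Int.ofNat 1))] (.node 26 [(111,(Int.negSucc 0))] .nil .nil) .nil))) (.node 54 [(146,(Int.negSucc 0))] (.node 41 [(141,(Int.ofNat 1))] (.node 33 [(123,(Int.ofNat 1))] (.node 32 [(120,(Int.ofNat 1))] .nil .nil) (.node 35 [(125,(Int.negSucc 0))]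 .nil .nil)) (.node 52 [(144,(Int.ofNat 1))] (.node 47 [(142,(Int.negSucc 0))] .nil .nil) .nil)) (.node 66 [(153,(Int.ofNat 1))] (.node 62 [(149,(Int.negSucc 0))] (.node 57 [(147,(Int.ofNat 1))] .nil .nil) (.node 64 [(151,(Int.ofNat 1))] .nil .nil)) (.node 70 [(160,(Int.ofNat 1))] (.node 68 [(155,(Int.negSucc 0))] .nil .nil) .nil)))) (.node 126 [(211,(Int.negSucc 0))] (.node 95 [(187,(Int.negSucc 0))] (.node 90 [(177,(Int.ofNat 1))] (.node 86 [(173,(Int.negSucc 0))] (.node 84 [(171,(Int.ofNat 1))] .nil .nil) (.node 88 [(175,(Int.negSucc 0))] .nil .nil)) (.node 93 [(185,(Int.ofNat 1))] (.node 92 [(182,(Int.negSucc 0))] .nil .nil) .nil)) (.node 116 [(206,(Int.negSucc 0))] (.node 98 [(198,(Int.negSucc 0))] (.node 97 [(192,(Int.ofNat 1))] .nil .nil) (.node 114 [(204,(Int.ofNat 1))] .nil .nil)) (.node 121 [(209,(Int.negSucc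 0))] (.node 119 [(207,(Int.negSucc 0))] .nil .nil) .nil))) (.node 165 [(227,(Int.ofNat 1))] (.node 137 [(220,(Int.negSucc 0))] (.node 131 [(215,(Int.ofNat 1))] (.node 128 [(213,(Int.ofNat 1))] .nil .nil) (.node 133 [(217,(Int.negSucc 0))] .nil .nil)) (.node 157 [(225,(Int.ofNat 1))] (.node 139 [(222,(Int.ofNat 1))] .nil .nil) .nil)) (.node 195 [(235,(Int.negSucc 0))] (.node 179 [(233,(Int.negSucc 0))] (.node 167 [(229,(Int.negSucc 0))] .nil .nil) (.node 189 [(234,(Int.negSucc 0))] .nil .nil)) (.node 202 [(239,(Int.negSucc 0))] (.node 200 [(237,(Int.ofNat 1))] .nil .nil) .nil)))))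
noncomputable def ch209 : Tr (List (ℕ × ℤ)) := (.node 78 [(169,(Int.negSucc 0))] (.node 31 [(121,(Int.ofNat 1))] (.node 14 [(83,(Int.ofNat 1))] (.node 5 [(51,(Int.negSucc 0))] (.node 1 [(39,(Int.negSucc 0))] (.node 0 [(38,(Int.negSucc 0))] .nil .nil) (.node 4 [(45,(Int.negSucc 0))] .nil .nil)) (.node 10 [(73,(Int.negSucc 0))] (.node 6 [(61,(Int.negSucc 0))] .nil .nil) (.node 11 [(74,(Int.negSucc 0))] .nil .nil))) (.node 23 [(108,(Int.negSucc 0))] (.node 18 [(102,(Int.ofNat 1))] (.node 17 [(101,(Int.ofNat 1))] .nil .nil) (.node 22 [(107,(Int.negSucc 0))] .nil .nil)) (.node 27 [(113,(Int.ofNat 1))] (.node 26 [(112,(Int.ofNat 1))] .nil .nil) .nil))) (.node 53 [(146,(Int.negSucc 0))] (.node 40 [(141,(Int.ofNat 1))] (.node 33 [(124,(Int.ofNat 1))] (.node 32 [(122,(Int.negSucc 0))] .nil .nil) (.node 34 [(125,(Int.negSucc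 0))] .nil .nil)) (.node 52 [(145,(Int.ofNat 1))] (.node 46 [(142,(Int.negSucc 0))] .nil .nil) .nil)) (.node 66 [(154,(Int.ofNat 1))] (.node 62 [(150,(Int.negSucc 0))] (.node 56 [(147,(Int.ofNat 1))] .nil .nil) (.node 63 [(151,(Int.ofNat 1))] .nil .nil)) (.node 70 [(161,(Int.ofNat 1))] (.node 67 [(155,(Int.negSucc 0))] .nil .nil) .nil)))) (.node 126 [(212,(Int.negSucc 0))] (.node 94 [(187,(Int.negSucc 0))] (.node 89 [(177,(Int.ofNat 1))] (.node 85 [(173,(Int.negSucc 0))] (.node 84 [(172,(Int.ofNat 1))] .nil .nil) (.node 88 [(176,(Int.negSucc 0))] .nil .nil)) (.node 93 [(186,(Int.ofNat 1))] (.node 92 [(183,(Int.negSucc 0))] .nil .nil) .nil)) (.node 115 [(206,(Int.negSucc 0))] (.node 98 [(199,(Int.negSucc 0))] (.node 97 [(193,(Int.ofNat 1))] .nil .nil) (.node 114 [(205,(Int.ofNat 1))] .nil .nil)) (.node 118 [(208,(Int.negSucc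 0))] (.node 117 [(207,(Int.ofNat 1))] .nil .nil) .nil))) (.node 165 [(228,(Int.ofNat 1))] (.node 137 [(221,(Int.negSucc 0))] (.node 131 [(216,(Int.ofNat 1))] (.node 127 [(213,(Int.negSucc 0))] .nil .nil) (.node 132 [(217,(Int.ofNat 1))] .nil .nil)) (.node 156 [(225,(Int.negSucc 0))] (.node 138 [(222,(Int.negSucc 0))] .nil .nil) .nil)) (.node 194 [(235,(Int.ofNat 1))] (.node 178 [(233,(Int.ofNat 1))] (.node 166 [(229,(Int.ofNat 1))] .nil .nil) (.node 188 [(234,(Int.ofNat 1))] .nil .nil)) (.node 201 [(239,(Int.ofNat 1))] (.node 200 [(238,(Int.ofNat 1))] .nil .nil) .nil)))))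
noncomputable def ch210 : Tr (List (ℕ × ℤ)) := (.node 80 [(170,(Int.negSucc 0))] (.node 28 [(119,(Int.ofNat 1))] (.node 14 [(84,(Int.negSucc 0))] (.node 5 [(52,(Int.ofNat 1))] (.node 2 [(41,(Int.negSucc 0))] (.node 1 [(40,(Int.negSucc 0))] .nil .nil) (.node 3 [(43,(Int.negSucc 0))] .nil .nil)) (.node 9 [(71,(Int.negSucc 0))] (.node 6 [(62,(Int.ofNat 1))] .nil .nil) (.node 13 [(75,(Int.ofNat 1))] .nil .nil))) (.node 25 [(109,(Int.ofNat 1))] (.node 20 [(103,(Int.negSucc 0))] (.node 16 [(99,(Int.ofNat 1))] .nil .nil) (.node 21 [(105,(Int.negSucc 0))] .nil .nil)) (.node 27 [(117,(Int.negSucc 0))] (.node 26 [(114,(Int.ofNat 1))] .nil .nil) .nil))) (.node 51 [(145,(Int.negSucc 0))] (.node 39 [(141,(Int.ofNat 1))] (.node 34 [(127,(Int.negSucc 0))] (.node 32 [(126,(Int.ofNat 1))] .nil .nil) (.node 35 [(128,(Int.ofNat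 1))] .nil .nil)) (.node 50 [(144,(Int.ofNat 1))] (.node 48 [(143,(Int.negSucc 0))] .nil .nil) .nil)) (.node 67 [(156,(Int.ofNat 1))] (.node 60 [(149,(Int.negSucc 0))] (.node 58 [(148,(Int.ofNat 1))] .nil .nil) (.node 61 [(150,(Int.ofNat 1))] .nil .nil)) (.node 69 [(159,(Int.ofNat 1))] (.node 68 [(157,(Int.negSucc 0))] .nil .nil) .nil)))) (.node 122 [(212,(Int.ofNat 1))] (.node 95 [(189,(Int.negSucc 0))] (.node 90 [(179,(Int.ofNat 1))] (.node 83 [(172,(Int.negSucc 0))] (.node 82 [(171,(Int.ofNat 1))] .nil .nil) (.node 89 [(178,(Int.negSucc 0))] .nil .nil)) (.node 94 [(188,(Int.ofNat 1))] (.node 91 [(181,(Int.negSucc 0))] .nil .nil) .nil)) (.node 112 [(205,(Int.ofNat 1))] (.node 98 [(200,(Int.negSucc 0))] (.node 96 [(191,(Int.ofNat 1))] .nil .nil) (.node 111 [(204,(Int.negSucc 0))] .nil .nil)) (.node 120 [(211,(Int.negSucc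 0))] (.node 113 [(207,(Int.negSucc 0))] .nil .nil) .nil))) (.node 164 [(226,(Int.negSucc 0))] (.node 136 [(219,(Int.ofNat 1))] (.node 130 [(214,(Int.negSucc 0))] (.node 125 [(213,(Int.negSucc 0))] .nil .nil) (.node 134 [(218,(Int.ofNat 1))] .nil .nil)) (.node 155 [(225,(Int.ofNat 1))] (.node 140 [(223,(Int.negSucc 0))] .nil .nil) .nil)) (.node 196 [(236,(Int.ofNat 1))] (.node 177 [(233,(Int.negSucc 0))] (.node 168 [(230,(Int.ofNat 1))] .nil .nil) (.node 187 [(234,(Int.negSucc 0))] .nil .nil)) (.node 199 [(238,(Int.ofNat 1))] (.node 198 [(237,(Int.ofNat 1))] .nil .nil) .nil)))))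
noncomputable def ch211 : Tr (List (ℕ × ℤ)) := (.node 79 [(170,(Int.negSucc 0))] (.node 29 [(120,(Int.ofNat 1))] (.node 14 [(85,(Int.ofNat 1))] (.node 5 [(53,(Int.negSucc 0))] (.node 2 [(42,(Int.ofNat 1))] (.node 0 [(40,(Int.negSucc 0))] .nil .nil) (.node 3 [(44,(Int.ofNat 1))] .nil .nil)) (.node 9 [(72,(Int.ofNat 1))] (.node 6 [(63,(Int.negSucc 0))] .nil .nil) (.node 12 [(75,(Int.ofNat 1))] .nil .nil))) (.node 24 [(109,(Int.ofNat 1))] (.node 19 [(103,(Int.negSucc 0))] (.node 16 [(100,(Int.negSucc 0))] .nil .nil) (.node 21 [(106,(Int.ofNat 1))] .nil .nil)) (.node 27 [(118,(Int.ofNat 1))] (.node 26 [(115,(Int.negSucc 0))] .nil .nil) .nil))) (.node 51 [(146,(Int.negSucc 0))] (.node 38 [(141,(Int.ofNat 1))] (.node 33 [(127,(Int.negSucc 0))] (.node 31 [(126,(Int.ofNat 1))] .nil .nil) (.node 35 [(129,(Int.ofNat 1))]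 .nil .nil)) (.node 49 [(144,(Int.ofNat 1))] (.node 47 [(143,(Int.negSucc 0))] .nil .nil) .nil)) (.node 66 [(156,(Int.ofNat 1))] (.node 59 [(149,(Int.negSucc 0))] (.node 57 [(148,(Int.ofNat 1))] .nil .nil) (.node 61 [(151,(Int.ofNat 1))] .nil .nil)) (.node 69 [(160,(Int.ofNat 1))] (.node 68 [(158,(Int.negSucc 0))] .nil .nil) .nil)))) (.node 121 [(212,(Int.negSucc 0))] (.node 95 [(190,(Int.negSucc 0))] (.node 90 [(180,(Int.ofNat 1))] (.node 83 [(173,(Int.negSucc 0))] (.node 81 [(171,(Int.ofNat 1))] .nil .nil) (.node 88 [(178,(Int.negSucc 0))] .nil .nil)) (.node 93 [(188,(Int.ofNat 1))] (.node 91 [(182,(Int.negSucc 0))] .nil .nil) .nil)) (.node 112 [(206,(Int.ofNat 1))] (.node 98 [(201,(Int.negSucc 0))] (.node 96 [(192,(Int.ofNat 1))] .nil .nil) (.node 110 [(204,(Int.negSucc 0))] .nil .nil)) (.node 119 [(210,(Int.negSucc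 0))] (.node 113 [(208,(Int.negSucc 0))] .nil .nil) .nil))) (.node 164 [(227,(Int.negSucc 0))] (.node 136 [(220,(Int.ofNat 1))] (.node 130 [(215,(Int.negSucc 0))] (.node 124 [(213,(Int.ofNat 1))] .nil .nil) (.node 133 [(218,(Int.negSucc 0))] .nil .nil)) (.node 154 [(225,(Int.negSucc 0))] (.node 139 [(223,(Int.ofNat 1))] .nil .nil) .nil)) (.node 195 [(236,(Int.negSucc 0))] (.node 176 [(233,(Int.ofNat 1))] (.node 167 [(230,(Int.negSucc 0))] .nil .nil) (.node 186 [(234,(Int.ofNat 1))] .nil .nil)) (.node 199 [(239,(Int.ofNat 1))] (.node 197 [(237,(Int.negSucc 0))] .nil .nil) .nil)))))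
noncomputable def ch212 : Tr (List (ℕ × ℤ)) := (.node 78 [(170,(Int.negSucc 0))] (.node 29 [(122,(Int.negSucc 0))] (.node 14 [(86,(Int.negSucc 0))] (.node 5 [(54,(Int.ofNat 1))] (.node 1 [(42,(Int.ofNat 1))] (.node 0 [(41,(Int.ofNat 1))] .nil .nil) (.node 3 [(45,(Int.negSucc 0))] .nil .nil)) (.node 9 [(73,(Int.negSucc 0))] (.node 6 [(64,(Int.ofNat 1))] .nil .nil) (.node 11 [(75,(Int.ofNat 1))] .nil .nil))) (.node 23 [(109,(Int.ofNat 1))] (.node 18 [(103,(Int.negSucc 0))] (.node 16 [(101,(Int.ofNat 1))] .nil .nil) (.node 21 [(107,(Int.negSucc 0))] .nil .nil)) (.node 28 [(121,(Int.ofNat 1))] (.node 26 [(116,(Int.ofNat 1))] .nil .nil) .nil))) (.node 50 [(146,(Int.negSucc 0))] (.node 37 [(141,(Int.ofNat 1))] (.node 33 [(128,(Int.negSucc 0))] (.node 30 [(126,(Int.ofNat 1))] .nil .nil) (.node 34 [(129,(Int.ofNat 1))]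 .nil .nil)) (.node 49 [(145,(Int.ofNat 1))] (.node 46 [(143,(Int.negSucc 0))] .nil .nil) .nil)) (.node 66 [(157,(Int.ofNat 1))] (.node 59 [(150,(Int.negSucc 0))] (.node 56 [(148,(Int.ofNat 1))] .nil .nil) (.node 60 [(151,(Int.ofNat 1))] .nil .nil)) (.node 69 [(161,(Int.ofNat 1))] (.node 67 [(158,(Int.negSucc 0))] .nil .nil) .nil)))) (.node 118 [(211,(Int.negSucc 0))] (.node 94 [(190,(Int.negSucc 0))] (.node 89 [(180,(Int.ofNat 1))] (.node 82 [(173,(Int.negSucc 0))] (.node 81 [(172,(Int.ofNat 1))] .nil .nil) (.node 88 [(179,(Int.negSucc 0))] .nil .nil)) (.node 93 [(189,(Int.ofNat 1))] (.node 91 [(183,(Int.negSucc 0))] .nil .nil) .nil)) (.node 111 [(206,(Int.ofNat 1))] (.node 98 [(202,(Int.negSucc 0))] (.node 96 [(193,(Int.ofNat 1))] .nil .nil) (.node 110 [(205,(Int.negSucc 0))] .nil .nil)) (.node 117 [(210,(Int.ofNat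 1))] (.node 113 [(209,(Int.negSucc 0))] .nil .nil) .nil))) (.node 164 [(228,(Int.negSucc 0))] (.node 136 [(221,(Int.ofNat 1))] (.node 130 [(216,(Int.negSucc 0))] (.node 123 [(213,(Int.negSucc 0))] .nil .nil) (.node 132 [(218,(Int.ofNat 1))] .nil .nil)) (.node 153 [(225,(Int.ofNat 1))] (.node 138 [(223,(Int.negSucc 0))] .nil .nil) .nil)) (.node 194 [(236,(Int.ofNat 1))] (.node 175 [(233,(Int.negSucc 0))] (.node 166 [(230,(Int.ofNat 1))] .nil .nil) (.node 185 [(234,(Int.negSucc 0))] .nil .nil)) (.node 198 [(239,(Int.negSucc 0))] (.node 197 [(238,(Int.negSucc 0))] .nil .nil) .nil)))))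
noncomputable def ch213 : Tr (List (ℕ × ℤ)) := (.node 78 [(171,(Int.negSucc 0))] (.node 29 [(125,(Int.ofNat 1))] (.node 14 [(87,(Int.ofNat 1))] (.node 5 [(55,(Int.negSucc 0))] (.node 1 [(44,(Int.negSucc 0))] (.node 0 [(43,(Int.negSucc 0))] .nil .nil) (.node 2 [(45,(Int.negSucc 0))] .nil .nil)) (.node 9 [(74,(Int.ofNat 1))] (.node 6 [(65,(Int.negSucc 0))] .nil .nil) (.node 10 [(75,(Int.ofNat 1))] .nil .nil))) (.node 22 [(109,(Int.ofNat 1))] (.node 17 [(103,(Int.negSucc 0))] (.node 16 [(102,(Int.negSucc 0))] .nil .nil) (.node 21 [(108,(Int.ofNat 1))] .nil .nil)) (.node 28 [(124,(Int.negSucc 0))] (.node 27 [(123,(Int.ofNat 1))] .nil .nil) .nil))) (.node 48 [(146,(Int.negSucc 0))] (.node 36 [(141,(Int.ofNat 1))] (.node 31 [(128,(Int.negSucc 0))] (.node 30 [(127,(Int.ofNat 1))] .nil .nil) (.node 32 [(129,(Int.ofNat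 1))] .nil .nil)) (.node 47 [(145,(Int.ofNat 1))] (.node 46 [(144,(Int.negSucc 0))] .nil .nil) .nil)) (.node 66 [(159,(Int.ofNat 1))] (.node 57 [(150,(Int.negSucc 0))] (.node 56 [(149,(Int.ofNat 1))] .nil .nil) (.node 58 [(151,(Int.ofNat 1))] .nil .nil)) (.node 68 [(161,(Int.ofNat 1))] (.node 67 [(160,(Int.negSucc 0))] .nil .nil) .nil)))) (.node 115 [(211,(Int.ofNat 1))] (.node 94 [(192,(Int.negSucc 0))] (.node 89 [(182,(Int.ofNat 1))] (.node 80 [(173,(Int.negSucc 0))] (.node 79 [(172,(Int.ofNat 1))] .nil .nil) (.node 88 [(181,(Int.negSucc 0))] .nil .nil)) (.node 93 [(191,(Int.ofNat 1))] (.node 90 [(183,(Int.negSucc 0))] .nil .nil) .nil)) (.node 111 [(208,(Int.ofNat 1))] (.node 98 [(203,(Int.negSucc 0))] (.node 95 [(193,(Int.ofNat 1))] .nil .nil) (.node 110 [(207,(Int.negSucc 0))] .nil .nil)) (.node 114 [(210,(Int.negSucc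 0))] (.node 112 [(209,(Int.negSucc 0))] .nil .nil) .nil))) (.node 164 [(229,(Int.negSucc 0))] (.node 136 [(222,(Int.ofNat 1))] (.node 130 [(217,(Int.negSucc 0))] (.node 116 [(212,(Int.negSucc 0))] .nil .nil) (.node 131 [(218,(Int.negSucc 0))] .nil .nil)) (.node 152 [(225,(Int.negSucc 0))] (.node 137 [(223,(Int.ofNat 1))] .nil .nil) .nil)) (.node 194 [(237,(Int.ofNat 1))] (.node 174 [(233,(Int.ofNat 1))] (.node 165 [(230,(Int.negSucc 0))] .nil .nil) (.node 184 [(234,(Int.ofNat 1))] .nil .nil)) (.node 196 [(239,(Int.ofNat 1))] (.node 195 [(238,(Int.ofNat 1))] .nil .nil) .nil)))))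
noncomputable def ch214 : Tr (List (ℕ × ℤ)) := (.node 80 [(174,(Int.negSucc 0))] (.node 29 [(130,(Int.ofNat 1))] (.node 14 [(88,(Int.ofNat 1))] (.node 4 [(52,(Int.ofNat 1))] (.node 2 [(47,(Int.ofNat 1))] (.node 1 [(46,(Int.ofNat 1))] .nil .nil) (.node 3 [(49,(Int.ofNat 1))] .nil .nil)) (.node 8 [(71,(Int.negSucc 0))] (.node 6 [(66,(Int.negSucc 0))] .nil .nil) (.node 13 [(76,(Int.negSucc 0))] .nil .nil))) (.node 22 [(114,(Int.ofNat 1))] (.node 20 [(104,(Int.ofNat 1))] (.node 15 [(99,(Int.ofNat 1))] .nil .nil) (.node 21 [(110,(Int.negSucc 0))] .nil .nil)) (.node 24 [(119,(Int.ofNat 1))] (.node 23 [(117,(Int.negSucc 0))] .nil .nil) .nil))) (.node 45 [(145,(Int.negSucc 0))] (.node 39 [(142,(Int.ofNat 1))] (.node 34 [(132,(Int.ofNat 1))] (.node 32 [(131,(Int.negSucc 0))] .nil .nil) (.node 35 [(133,(Int.negSucc 0))]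 .nil .nil)) (.node 44 [(144,(Int.ofNat 1))] (.node 42 [(143,(Int.negSucc 0))] .nil .nil) .nil)) (.node 63 [(156,(Int.ofNat 1))] (.node 60 [(153,(Int.negSucc 0))] (.node 58 [(152,(Int.ofNat 1))] .nil .nil) (.node 61 [(154,(Int.ofNat 1))] .nil .nil)) (.node 65 [(159,(Int.ofNat 1))] (.node 64 [(157,(Int.negSucc 0))] .nil .nil) .nil)))) (.node 120 [(215,(Int.negSucc 0))] (.node 95 [(195,(Int.negSucc 0))] (.node 86 [(179,(Int.ofNat 1))] (.node 83 [(176,(Int.negSucc 0))] (.node 82 [(175,(Int.ofNat 1))] .nil .nil) (.node 85 [(178,(Int.negSucc 0))] .nil .nil)) (.node 94 [(194,(Int.ofNat 1))] (.node 87 [(181,(Int.negSucc 0))] .nil .nil) .nil)) (.node 107 [(205,(Int.negSucc 0))] (.node 97 [(200,(Int.negSucc 0))] (.node 96 [(197,(Int.ofNat 1))] .nil .nil) (.node 106 [(204,(Int.ofNat 1))] .nil .nil)) (.node 109 [(210,(Int.negSucc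 0))] (.node 108 [(207,(Int.ofNat 1))] .nil .nil) .nil))) (.node 163 [(226,(Int.ofNat 1))] (.node 135 [(219,(Int.negSucc 0))] (.node 125 [(217,(Int.negSucc 0))] (.node 122 [(216,(Int.ofNat 1))] .nil .nil) (.node 129 [(218,(Int.ofNat 1))] .nil .nil)) (.node 151 [(225,(Int.negSucc 0))] (.node 140 [(224,(Int.negSucc 0))] .nil .nil) .nil)) (.node 190 [(236,(Int.negSucc 0))] (.node 173 [(233,(Int.ofNat 1))] (.node 168 [(231,(Int.ofNat 1))] .nil .nil) (.node 187 [(235,(Int.negSucc 0))] .nil .nil)) (.node 193 [(238,(Int.negSucc 0))] (.node 192 [(237,(Int.negSucc 0))] .nil .nil) .nil)))))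
noncomputable def ch215 : Tr (List (ℕ × ℤ)) := (.node 79 [(174,(Int.negSucc 0))] (.node 28 [(130,(Int.ofNat 1))] (.node 14 [(89,(Int.negSucc 0))] (.node 4 [(53,(Int.negSucc 0))] (.node 2 [(48,(Int.negSucc 0))] (.node 0 [(46,(Int.ofNat 1))] .nil .nil) (.node 3 [(50,(Int.negSucc 0))] .nil .nil)) (.node 8 [(72,(Int.ofNat 1))] (.node 6 [(67,(Int.ofNat 1))] .nil .nil) (.node 12 [(76,(Int.negSucc 0))] .nil .nil))) (.node 22 [(115,(Int.negSucc 0))] (.node 19 [(104,(Int.ofNat 1))] (.node 15 [(100,(Int.negSucc 0))] .nil .nil) (.node 21 [(111,(Int.ofNat 1))] .nil .nil)) (.node 25 [(120,(Int.ofNat 1))] (.node 23 [(118,(Int.ofNat 1))] .nil .nil) .nil))) (.node 45 [(146,(Int.negSucc 0))] (.node 38 [(142,(Int.ofNat 1))] (.node 33 [(132,(Int.ofNat 1))] (.node 31 [(131,(Int.negSucc 0))] .nil .nil) (.node 35 [(134,(Int.negSucc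 0))] .nil .nil)) (.node 43 [(144,(Int.ofNat 1))] (.node 41 [(143,(Int.negSucc 0))] .nil .nil) .nil)) (.node 62 [(156,(Int.ofNat 1))] (.node 59 [(153,(Int.negSucc 0))] (.node 57 [(152,(Int.ofNat 1))] .nil .nil) (.node 61 [(155,(Int.ofNat 1))] .nil .nil)) (.node 65 [(160,(Int.ofNat 1))] (.node 64 [(158,(Int.negSucc 0))] .nil .nil) .nil)))) (.node 119 [(214,(Int.negSucc 0))] (.node 95 [(196,(Int.negSucc 0))] (.node 86 [(180,(Int.ofNat 1))] (.node 83 [(177,(Int.negSucc 0))] (.node 81 [(175,(Int.ofNat 1))] .nil .nil) (.node 84 [(178,(Int.negSucc 0))] .nil .nil)) (.node 93 [(194,(Int.ofNat 1))] (.node 87 [(182,(Int.negSucc 0))] .nil .nil) .nil)) (.node 107 [(206,(Int.negSucc 0))] (.node 97 [(201,(Int.negSucc 0))] (.node 96 [(198,(Int.ofNat 1))] .nil .nil) (.node 105 [(204,(Int.ofNat 1))] .nil .nil)) (.node 109 [(211,(Int.negSucc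 0))] (.node 108 [(208,(Int.ofNat 1))] .nil .nil) .nil))) (.node 163 [(227,(Int.ofNat 1))] (.node 135 [(220,(Int.negSucc 0))] (.node 124 [(217,(Int.ofNat 1))] (.node 121 [(216,(Int.negSucc 0))] .nil .nil) (.node 128 [(218,(Int.negSucc 0))] .nil .nil)) (.node 150 [(225,(Int.ofNat 1))] (.node 139 [(224,(Int.ofNat 1))] .nil .nil) .nil)) (.node 189 [(236,(Int.ofNat 1))] (.node 172 [(233,(Int.negSucc 0))] (.node 167 [(231,(Int.negSucc 0))] .nil .nil) (.node 186 [(235,(Int.ofNat 1))] .nil .nil)) (.node 193 [(239,(Int.negSucc 0))] (.node 191 [(237,(Int.ofNat 1))] .nil .nil) .nil)))))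
noncomputable def ch216 : Tr (List (ℕ × ℤ)) := (.node 78 [(174,(Int.negSucc 0))] (.node 27 [(130,(Int.ofNat 1))] (.node 14 [(90,(Int.ofNat 1))] (.node 4 [(54,(Int.ofNat 1))] (.node 1 [(48,(Int.negSucc 0))] (.node 0 [(47,(Int.negSucc 0))] .nil .nil) (.node 3 [(51,(Int.ofNat 1))] .nil .nil)) (.node 8 [(73,(Int.negSucc 0))] (.node 6 [(68,(Int.negSucc 0))] .nil .nil) (.node 11 [(76,(Int.negSucc 0))] .nil .nil))) (.node 22 [(116,(Int.ofNat 1))] (.node 18 [(104,(Int.ofNat 1))] (.node 15 [(101,(Int.ofNat 1))] .nil .nil) (.node 21 [(112,(Int.negSucc 0))] .nil .nil)) (.node 25 [(122,(Int.negSucc 0))] (.node 24 [(121,(Int.ofNat 1))] .nil .nil) .nil))) (.node 44 [(146,(Int.negSucc 0))] (.node 37 [(142,(Int.ofNat 1))] (.node 33 [(133,(Int.ofNat 1))] (.node 30 [(131,(Int.negSucc 0))] .nil .nil) (.node 34 [(134,(Int.negSucc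 0))] .nil .nil)) (.node 43 [(145,(Int.ofNat 1))] (.node 40 [(143,(Int.negSucc 0))] .nil .nil) .nil)) (.node 62 [(157,(Int.ofNat 1))] (.node 59 [(154,(Int.negSucc 0))] (.node 56 [(152,(Int.ofNat 1))] .nil .nil) (.node 60 [(155,(Int.ofNat 1))] .nil .nil)) (.node 65 [(161,(Int.ofNat 1))] (.node 63 [(158,(Int.negSucc 0))] .nil .nil) .nil)))) (.node 117 [(214,(Int.ofNat 1))] (.node 94 [(196,(Int.negSucc 0))] (.node 85 [(180,(Int.ofNat 1))] (.node 82 [(177,(Int.negSucc 0))] (.node 81 [(176,(Int.ofNat 1))] .nil .nil) (.node 84 [(179,(Int.negSucc 0))] .nil .nil)) (.node 93 [(195,(Int.ofNat 1))] (.node 87 [(183,(Int.negSucc 0))] .nil .nil) .nil)) (.node 106 [(206,(Int.negSucc 0))] (.node 97 [(202,(Int.negSucc 0))] (.node 96 [(199,(Int.ofNat 1))] .nil .nil) (.node 105 [(205,(Int.ofNat 1))] .nil .nil)) (.node 109 [(212,(Int.negSucc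 0))] (.node 108 [(209,(Int.ofNat 1))] .nil .nil) .nil))) (.node 163 [(228,(Int.ofNat 1))] (.node 135 [(221,(Int.negSucc 0))] (.node 123 [(217,(Int.negSucc 0))] (.node 118 [(215,(Int.negSucc 0))] .nil .nil) (.node 127 [(218,(Int.ofNat 1))] .nil .nil)) (.node 149 [(225,(Int.negSucc 0))] (.node 138 [(224,(Int.negSucc 0))] .nil .nil) .nil)) (.node 188 [(236,(Int.negSucc 0))] (.node 171 [(233,(Int.ofNat 1))] (.node 166 [(231,(Int.ofNat 1))] .nil .nil) (.node 185 [(235,(Int.negSucc 0))] .nil .nil)) (.node 192 [(239,(Int.ofNat 1))] (.node 191 [(238,(Int.ofNat 1))] .nil .nil) .nil)))))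
noncomputable def ch217 : Tr (List (ℕ × ℤ)) := (.node 78 [(175,(Int.negSucc 0))] (.node 26 [(130,(Int.ofNat 1))] (.node 14 [(91,(Int.negSucc 0))] (.node 4 [(55,(Int.negSucc 0))] (.node 1 [(50,(Int.ofNat 1))] (.node 0 [(49,(Int.ofNat 1))] .nil .nil) (.node 2 [(51,(Int.ofNat 1))] .nil .nil)) (.node 8 [(74,(Int.ofNat 1))] (.node 6 [(69,(Int.ofNat 1))] .nil .nil) (.node 10 [(76,(Int.negSucc 0))] .nil .nil))) (.node 23 [(123,(Int.ofNat 1))] (.node 17 [(104,(Int.ofNat 1))] (.node 15 [(102,(Int.negSucc 0))] .nil .nil) (.node 21 [(113,(Int.ofNat 1))] .nil .nil)) (.node 25 [(125,(Int.ofNat 1))] (.node 24 [(124,(Int.negSucc 0))] .nil .nil) .nil))) (.node 42 [(146,(Int.negSucc 0))] (.node 36 [(142,(Int.ofNat 1))] (.node 31 [(133,(Int.ofNat 1))] (.node 30 [(132,(Int.negSucc 0))] .nil .nil) (.node 32 [(134,(Int.negSucc 0))]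 .nil .nil)) (.node 41 [(145,(Int.ofNat 1))] (.node 40 [(144,(Int.negSucc 0))] .nil .nil) .nil)) (.node 62 [(159,(Int.ofNat 1))] (.node 57 [(154,(Int.negSucc 0))] (.node 56 [(153,(Int.ofNat 1))] .nil .nil) (.node 58 [(155,(Int.ofNat 1))] .nil .nil)) (.node 64 [(161,(Int.ofNat 1))] (.node 63 [(160,(Int.negSucc 0))] .nil .nil) .nil)))) (.node 114 [(214,(Int.negSucc 0))] (.node 94 [(198,(Int.negSucc 0))] (.node 85 [(182,(Int.ofNat 1))] (.node 80 [(177,(Int.negSucc 0))] (.node 79 [(176,(Int.ofNat 1))] .nil .nil) (.node 84 [(181,(Int.negSucc 0))] .nil .nil)) (.node 93 [(197,(Int.ofNat 1))] (.node 86 [(183,(Int.negSucc 0))] .nil .nil) .nil)) (.node 106 [(208,(Int.negSucc 0))] (.node 97 [(203,(Int.negSucc 0))] (.node 95 [(199,(Int.ofNat 1))] .nil .nil) (.node 105 [(207,(Int.ofNat 1))] .nil .nil)) (.node 109 [(213,(Int.negSucc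 0))] (.node 107 [(209,(Int.ofNat 1))] .nil .nil) .nil))) (.node 163 [(229,(Int.ofNat 1))] (.node 135 [(222,(Int.negSucc 0))] (.node 116 [(216,(Int.negSucc 0))] (.node 115 [(215,(Int.ofNat 1))] .nil .nil) (.node 126 [(218,(Int.negSucc 0))] .nil .nil)) (.node 148 [(225,(Int.ofNat 1))] (.node 137 [(224,(Int.ofNat 1))] .nil .nil) .nil)) (.node 188 [(237,(Int.negSucc 0))] (.node 170 [(233,(Int.negSucc 0))] (.node 165 [(231,(Int.negSucc 0))] .nil .nil) (.node 184 [(235,(Int.ofNat 1))] .nil .nil)) (.node 190 [(239,(Int.negSucc 0))] (.node 189 [(238,(Int.negSucc 0))] .nil .nil) .nil)))))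
noncomputable def ch218 : Tr (List (ℕ × ℤ)) := (.node 78 [(178,(Int.negSucc 0))] (.node 26 [(131,(Int.ofNat 1))] (.node 14 [(92,(Int.ofNat 1))] (.node 3 [(55,(Int.negSucc 0))] (.node 1 [(53,(Int.negSucc 0))] (.node 0 [(52,(Int.negSucc 0))] .nil .nil) (.node 2 [(54,(Int.negSucc 0))] .nil .nil)) (.node 8 [(75,(Int.negSucc 0))] (.node 6 [(70,(Int.negSucc 0))] .nil .nil) (.node 9 [(76,(Int.negSucc 0))] .nil .nil))) (.node 23 [(127,(Int.negSucc 0))] (.node 16 [(104,(Int.ofNat 1))] (.node 15 [(103,(Int.ofNat 1))] .nil .nil) (.node 22 [(126,(Int.ofNat 1))] .nil .nil)) (.node 25 [(129,(Int.negSucc 0))] (.node 24 [(128,(Int.ofNat 1))] .nil .nil) .nil))) (.node 39 [(146,(Int.negSucc 0))] (.node 36 [(143,(Int.ofNat 1))] (.node 28 [(133,(Int.ofNat 1))] (.node 27 [(132,(Int.negSucc 0))] .nil .nil) (.node 29 [(134,(Int.negSucc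 0))] .nil .nil)) (.node 38 [(145,(Int.ofNat 1))] (.node 37 [(144,(Int.negSucc 0))] .nil .nil) .nil)) (.node 59 [(159,(Int.ofNat 1))] (.node 57 [(157,(Int.negSucc 0))] (.node 56 [(156,(Int.ofNat 1))] .nil .nil) (.node 58 [(158,(Int.ofNat 1))] .nil .nil)) (.node 61 [(161,(Int.ofNat 1))] (.node 60 [(160,(Int.negSucc 0))] .nil .nil) .nil)))) (.node 110 [(214,(Int.ofNat 1))] (.node 94 [(201,(Int.negSucc 0))] (.node 82 [(182,(Int.ofNat 1))] (.node 80 [(180,(Int.negSucc 0))] (.node 79 [(179,(Int.ofNat 1))] .nil .nil) (.node 81 [(181,(Int.negSucc 0))] .nil .nil)) (.node 93 [(200,(Int.ofNat 1))] (.node 83 [(183,(Int.negSucc 0))] .nil .nil) .nil)) (.node 106 [(211,(Int.negSucc 0))] (.node 96 [(203,(Int.negSucc 0))] (.node 95 [(202,(Int.ofNat 1))] .nil .nil) (.node 105 [(210,(Int.ofNat 1))] .nil .nil)) (.node 108 [(213,(Int.negSucc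 0))] (.node 107 [(212,(Int.ofNat 1))] .nil .nil) .nil))) (.node 163 [(230,(Int.ofNat 1))] (.node 135 [(223,(Int.negSucc 0))] (.node 112 [(216,(Int.ofNat 1))] (.node 111 [(215,(Int.negSucc 0))] .nil .nil) (.node 113 [(217,(Int.negSucc 0))] .nil .nil)) (.node 147 [(225,(Int.negSucc 0))] (.node 136 [(224,(Int.negSucc 0))] .nil .nil) .nil)) (.node 185 [(237,(Int.ofNat 1))] (.node 169 [(233,(Int.ofNat 1))] (.node 164 [(231,(Int.ofNat 1))] .nil .nil) (.node 184 [(236,(Int.ofNat 1))] .nil .nil)) (.node 187 [(239,(Int.ofNat 1))] (.node 186 [(238,(Int.ofNat 1))] .nil .nil) .nil)))))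
noncomputable def ch219 : Tr (List (ℕ × ℤ)) := (.node 80 [(184,(Int.negSucc 0))] (.node 29 [(136,(Int.negSucc 0))] (.node 14 [(93,(Int.negSucc 0))] (.node 4 [(62,(Int.negSucc 0))] (.node 2 [(57,(Int.negSucc 0))] (.node 1 [(56,(Int.negSucc 0))] .nil .nil) (.node 3 [(59,(Int.negSucc 0))] .nil .nil)) (.node 7 [(71,(Int.negSucc 0))] (.node 5 [(66,(Int.negSucc 0))] .nil .nil) (.node 13 [(77,(Int.ofNat 1))] .nil .nil))) (.node 18 [(117,(Int.negSucc 0))] (.node 16 [(110,(Int.negSucc 0))] (.node 15 [(105,(Int.ofNat 1))] .nil .nil) (.node 17 [(114,(Int.ofNat 1))] .nil .nil)) (.node 25 [(135,(Int.ofNat 1))] (.node 19 [(119,(Int.ofNat 1))] .nil .nil) .nil))) (.node 45 [(150,(Int.negSucc 0))] (.node 39 [(147,(Int.ofNat 1))] (.node 34 [(138,(Int.negSucc 0))] (.node 32 [(137,(Int.ofNat 1))] .nil .nil) (.node 35 [(139,(Int.ofNat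 1))] .nil .nil)) (.node 44 [(149,(Int.ofNat 1))] (.node 42 [(148,(Int.negSucc 0))] .nil .nil) .nil)) (.node 53 [(156,(Int.ofNat 1))] (.node 50 [(153,(Int.negSucc 0))] (.node 48 [(152,(Int.ofNat 1))] .nil .nil) (.node 51 [(154,(Int.ofNat 1))] .nil .nil)) (.node 55 [(159,(Int.ofNat 1))] (.node 54 [(157,(Int.negSucc 0))] .nil .nil) .nil)))) (.node 104 [(214,(Int.negSucc 0))] (.node 90 [(195,(Int.negSucc 0))] (.node 86 [(189,(Int.ofNat 1))] (.node 83 [(186,(Int.negSucc 0))] (.node 82 [(185,(Int.ofNat 1))] .nil .nil) (.node 85 [(188,(Int.negSucc 0))] .nil .nil)) (.node 89 [(194,(Int.ofNat 1))] (.node 87 [(191,(Int.negSucc 0))] .nil .nil) .nil)) (.node 101 [(205,(Int.ofNat 1))] (.node 92 [(200,(Int.negSucc 0))] (.node 91 [(197,(Int.ofNat 1))] .nil .nil) (.node 100 [(204,(Int.negSucc 0))] .nil .nil)) (.node 103 [(210,(Int.ofNat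 1))] (.node 102 [(207,(Int.negSucc 0))] .nil .nil) .nil))) (.node 162 [(226,(Int.negSucc 0))] (.node 129 [(223,(Int.ofNat 1))] (.node 122 [(221,(Int.ofNat 1))] (.node 120 [(220,(Int.negSucc 0))] .nil .nil) (.node 125 [(222,(Int.negSucc 0))] .nil .nil)) (.node 146 [(225,(Int.ofNat 1))] (.node 134 [(224,(Int.negSucc 0))] .nil .nil) .nil)) (.node 180 [(236,(Int.ofNat 1))] (.node 173 [(234,(Int.ofNat 1))] (.node 168 [(232,(Int.ofNat 1))] .nil .nil) (.node 177 [(235,(Int.ofNat 1))] .nil .nil)) (.node 183 [(238,(Int.ofNat 1))] (.node 182 [(237,(Int.ofNat 1))] .nil .nil) .nil)))))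
noncomputable def ch220 : Tr (List (ℕ × ℤ)) := (.node 79 [(184,(Int.negSucc 0))] (.node 28 [(136,(Int.negSucc 0))] (.node 14 [(94,(Int.ofNat 1))] (.node 4 [(63,(Int.ofNat 1))] (.node 2 [(58,(Int.ofNat 1))] (.node 0 [(56,(Int.negSucc 0))] .nil .nil) (.node 3 [(60,(Int.ofNat 1))] .nil .nil)) (.node 7 [(72,(Int.ofNat 1))] (.node 5 [(67,(Int.ofNat 1))] .nil .nil) (.node 12 [(77,(Int.ofNat 1))] .nil .nil))) (.node 18 [(118,(Int.ofNat 1))] (.node 16 [(111,(Int.ofNat 1))] (.node 15 [(106,(Int.negSucc 0))] .nil .nil) (.node 17 [(115,(Int.negSucc 0))] .nil .nil)) (.node 24 [(135,(Int.ofNat 1))] (.node 20 [(120,(Int.ofNat 1))] .nil .nil) .nil))) (.node 45 [(151,(Int.negSucc 0))] (.node 38 [(147,(Int.ofNat 1))] (.node 33 [(138,(Int.negSucc 0))] (.node 31 [(137,(Int.ofNat 1))] .nil .nil) (.node 35 [(140,(Int.ofNat 1))] .nil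 .nil)) (.node 43 [(149,(Int.ofNat 1))] (.node 41 [(148,(Int.negSucc 0))] .nil .nil) .nil)) (.node 52 [(156,(Int.ofNat 1))] (.node 49 [(153,(Int.negSucc 0))] (.node 47 [(152,(Int.ofNat 1))] .nil .nil) (.node 51 [(155,(Int.ofNat 1))] .nil .nil)) (.node 55 [(160,(Int.ofNat 1))] (.node 54 [(158,(Int.negSucc 0))] .nil .nil) .nil)))) (.node 104 [(215,(Int.negSucc 0))] (.node 90 [(196,(Int.negSucc 0))] (.node 86 [(190,(Int.ofNat 1))] (.node 83 [(187,(Int.negSucc 0))] (.node 81 [(185,(Int.ofNat 1))] .nil .nil) (.node 84 [(188,(Int.negSucc 0))] .nil .nil)) (.node 88 [(194,(Int.ofNat 1))] (.node 87 [(192,(Int.negSucc 0))] .nil .nil) .nil)) (.node 101 [(206,(Int.ofNat 1))] (.node 92 [(201,(Int.negSucc 0))] (.node 91 [(198,(Int.ofNat 1))] .nil .nil) (.node 99 [(204,(Int.negSucc 0))] .nil .nil)) (.node 103 [(211,(Int.ofNat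 1))] (.node 102 [(208,(Int.negSucc 0))] .nil .nil) .nil))) (.node 162 [(227,(Int.negSucc 0))] (.node 128 [(223,(Int.negSucc 0))] (.node 121 [(221,(Int.negSucc 0))] (.node 119 [(219,(Int.negSucc 0))] .nil .nil) (.node 124 [(222,(Int.ofNat 1))] .nil .nil)) (.node 145 [(225,(Int.negSucc 0))] (.node 133 [(224,(Int.ofNat 1))] .nil .nil) .nil)) (.node 179 [(236,(Int.negSucc 0))] (.node 172 [(234,(Int.negSucc 0))] (.node 167 [(232,(Int.negSucc 0))] .nil .nil) (.node 176 [(235,(Int.negSucc 0))] .nil .nil)) (.node 183 [(239,(Int.ofNat 1))] (.node 181 [(237,(Int.negSucc 0))] .nil .nil) .nil)))))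
noncomputable def ch221 : Tr (List (ℕ × ℤ)) := (.node 78 [(184,(Int.negSucc 0))] (.node 27 [(136,(Int.negSucc 0))] (.node 14 [(95,(Int.negSucc 0))] (.node 4 [(64,(Int.negSucc 0))] (.node 1 [(58,(Int.ofNat 1))] (.node 0 [(57,(Int.ofNat 1))] .nil .nil) (.node 3 [(61,(Int.negSucc 0))] .nil .nil)) (.node 7 [(73,(Int.negSucc 0))] (.node 5 [(68,(Int.negSucc 0))] .nil .nil) (.node 11 [(77,(Int.ofNat 1))] .nil .nil))) (.node 19 [(121,(Int.ofNat 1))] (.node 16 [(112,(Int.negSucc 0))] (.node 15 [(107,(Int.ofNat 1))] .nil .nil) (.node 17 [(116,(Int.ofNat 1))] .nil .nil)) (.node 23 [(135,(Int.ofNat 1))] (.node 20 [(122,(Int.negSucc 0))] .nil .nil) .nil))) (.node 44 [(151,(Int.negSucc 0))] (.node 37 [(147,(Int.ofNat 1))] (.node 33 [(139,(Int.negSucc 0))] (.node 30 [(137,(Int.ofNat 1))] .nil .nil) (.node 34 [(140,(Int.ofNat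 1))] .nil .nil)) (.node 43 [(150,(Int.ofNat 1))] (.node 40 [(148,(Int.negSucc 0))] .nil .nil) .nil)) (.node 52 [(157,(Int.ofNat 1))] (.node 49 [(154,(Int.negSucc 0))] (.node 46 [(152,(Int.ofNat 1))] .nil .nil) (.node 50 [(155,(Int.ofNat 1))] .nil .nil)) (.node 55 [(161,(Int.ofNat 1))] (.node 53 [(158,(Int.negSucc 0))] .nil .nil) .nil)))) (.node 104 [(216,(Int.negSucc 0))] (.node 89 [(196,(Int.negSucc 0))] (.node 85 [(190,(Int.ofNat 1))] (.node 82 [(187,(Int.negSucc 0))] (.node 81 [(186,(Int.ofNat 1))] .nil .nil) (.node 84 [(189,(Int.negSucc 0))] .nil .nil)) (.node 88 [(195,(Int.ofNat 1))] (.node 87 [(193,(Int.negSucc 0))] .nil .nil) .nil)) (.node 100 [(206,(Int.ofNat 1))] (.node 92 [(202,(Int.negSucc 0))] (.node 91 [(199,(Int.ofNat 1))] .nil .nil) (.node 99 [(205,(Int.negSucc 0))] .nil .nil)) (.node 103 [(212,(Int.ofNat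 1))] (.node 102 [(209,(Int.negSucc 0))] .nil .nil) .nil))) (.node 162 [(228,(Int.negSucc 0))] (.node 127 [(223,(Int.ofNat 1))] (.node 118 [(220,(Int.negSucc 0))] (.node 117 [(219,(Int.ofNat 1))] .nil .nil) (.node 123 [(222,(Int.negSucc 0))] .nil .nil)) (.node 144 [(225,(Int.ofNat 1))] (.node 132 [(224,(Int.negSucc 0))] .nil .nil) .nil)) (.node 178 [(236,(Int.ofNat 1))] (.node 171 [(234,(Int.ofNat 1))] (.node 166 [(232,(Int.ofNat 1))] .nil .nil) (.node 175 [(235,(Int.ofNat 1))] .nil .nil)) (.node 182 [(239,(Int.negSucc 0))] (.node 181 [(238,(Int.negSucc 0))] .nil .nil) .nil)))))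
noncomputable def ch222 : Tr (List (ℕ × ℤ)) := (.node 78 [(185,(Int.negSucc 0))] (.node 26 [(136,(Int.negSucc 0))] (.node 14 [(96,(Int.ofNat 1))] (.node 4 [(65,(Int.ofNat 1))] (.node 1 [(60,(Int.negSucc 0))] (.node 0 [(59,(Int.negSucc 0))] .nil .nil) (.node 2 [(61,(Int.negSucc 0))] .nil .nil)) (.node 7 [(74,(Int.ofNat 1))] (.node 5 [(69,(Int.ofNat 1))] .nil .nil) (.node 10 [(77,(Int.ofNat 1))] .nil .nil))) (.node 19 [(124,(Int.negSucc 0))] (.node 16 [(113,(Int.ofNat 1))] (.node 15 [(108,(Int.negSucc 0))] .nil .nil) (.node 18 [(123,(Int.ofNat 1))] .nil .nil)) (.node 22 [(135,(Int.ofNat 1))] (.node 20 [(125,(Int.ofNat 1))] .nil .nil) .nil))) (.node 42 [(151,(Int.negSucc 0))] (.node 36 [(147,(Int.ofNat 1))] (.node 31 [(139,(Int.negSucc 0))] (.node 30 [(138,(Int.ofNat 1))] .nil .nil) (.node 32 [(140,(Int.ofNat 1))]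 .nil .nil)) (.node 41 [(150,(Int.ofNat 1))] (.node 40 [(149,(Int.negSucc 0))] .nil .nil) .nil)) (.node 52 [(159,(Int.ofNat 1))] (.node 47 [(154,(Int.negSucc 0))] (.node 46 [(153,(Int.ofNat 1))] .nil .nil) (.node 48 [(155,(Int.ofNat 1))] .nil .nil)) (.node 54 [(161,(Int.ofNat 1))] (.node 53 [(160,(Int.negSucc 0))] .nil .nil) .nil)))) (.node 104 [(217,(Int.negSucc 0))] (.node 89 [(198,(Int.negSucc 0))] (.node 85 [(192,(Int.ofNat 1))] (.node 80 [(187,(Int.negSucc 0))] (.node 79 [(186,(Int.ofNat 1))] .nil .nil) (.node 84 [(191,(Int.negSucc 0))] .nil .nil)) (.node 88 [(197,(Int.ofNat 1))] (.node 86 [(193,(Int.negSucc 0))] .nil .nil) .nil)) (.node 100 [(208,(Int.ofNat 1))] (.node 92 [(203,(Int.negSucc 0))] (.node 90 [(199,(Int.ofNat 1))] .nil .nil) (.node 99 [(207,(Int.negSucc 0))] .nil .nil)) (.node 103 [(213,(Int.ofNat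 1))] (.node 101 [(209,(Int.negSucc 0))] .nil .nil) .nil))) (.node 162 [(229,(Int.negSucc 0))] (.node 126 [(223,(Int.negSucc 0))] (.node 115 [(220,(Int.ofNat 1))] (.node 114 [(219,(Int.negSucc 0))] .nil .nil) (.node 116 [(221,(Int.negSucc 0))] .nil .nil)) (.node 143 [(225,(Int.negSucc 0))] (.node 131 [(224,(Int.ofNat 1))] .nil .nil) .nil)) (.node 178 [(237,(Int.ofNat 1))] (.node 170 [(234,(Int.negSucc 0))] (.node 165 [(232,(Int.negSucc 0))] .nil .nil) (.node 174 [(235,(Int.negSucc 0))] .nil .nil)) (.node 180 [(239,(Int.ofNat 1))] (.node 179 [(238,(Int.ofNat 1))] .nil .nil) .nil)))))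
noncomputable def ch223 : Tr (List (ℕ × ℤ)) := (.node 78 [(188,(Int.negSucc 0))] (.node 26 [(137,(Int.negSucc 0))] (.node 14 [(97,(Int.negSucc 0))] (.node 3 [(65,(Int.ofNat 1))] (.node 1 [(63,(Int.ofNat 1))] (.node 0 [(62,(Int.ofNat 1))] .nil .nil) (.node 2 [(64,(Int.ofNat 1))] .nil .nil)) (.node 7 [(75,(Int.negSucc 0))] (.node 5 [(70,(Int.negSucc 0))] .nil .nil) (.node 9 [(77,(Int.ofNat 1))] .nil .nil))) (.node 19 [(128,(Int.ofNat 1))] (.node 17 [(126,(Int.ofNat 1))] (.node 15 [(109,(Int.ofNat 1))] .nil .nil) (.node 18 [(127,(Int.negSucc 0))] .nil .nil)) (.node 21 [(135,(Int.ofNat 1))] (.node 20 [(129,(Int.negSucc 0))] .nil .nil) .nil))) (.node 39 [(151,(Int.negSucc 0))] (.node 36 [(148,(Int.ofNat 1))] (.node 28 [(139,(Int.negSucc 0))] (.node 27 [(138,(Int.ofNat 1))] .nil .nil) (.node 29 [(140,(Int.ofNat 1))]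 .nil .nil)) (.node 38 [(150,(Int.ofNat 1))] (.node 37 [(149,(Int.negSucc 0))] .nil .nil) .nil)) (.node 49 [(159,(Int.ofNat 1))] (.node 47 [(157,(Int.negSucc 0))] (.node 46 [(156,(Int.ofNat 1))] .nil .nil) (.node 48 [(158,(Int.ofNat 1))] .nil .nil)) (.node 51 [(161,(Int.ofNat 1))] (.node 50 [(160,(Int.negSucc 0))] .nil .nil) .nil)))) (.node 104 [(218,(Int.negSucc 0))] (.node 89 [(201,(Int.negSucc 0))] (.node 82 [(192,(Int.ofNat 1))] (.node 80 [(190,(Int.negSucc 0))] (.node 79 [(189,(Int.ofNat 1))] .nil .nil) (.node 81 [(191,(Int.negSucc 0))] .nil .nil)) (.node 88 [(200,(Int.ofNat 1))] (.node 83 [(193,(Int.negSucc 0))] .nil .nil) .nil)) (.node 100 [(211,(Int.ofNat 1))] (.node 91 [(203,(Int.negSucc 0))] (.node 90 [(202,(Int.ofNat 1))] .nil .nil) (.node 99 [(210,(Int.negSucc 0))] .nil .nil)) (.node 102 [(213,(Int.ofNat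 1))] (.node 101 [(212,(Int.negSucc 0))] .nil .nil) .nil))) (.node 162 [(230,(Int.negSucc 0))] (.node 113 [(222,(Int.negSucc 0))] (.node 111 [(220,(Int.negSucc 0))] (.node 110 [(219,(Int.ofNat 1))] .nil .nil) (.node 112 [(221,(Int.ofNat 1))] .nil .nil)) (.node 142 [(225,(Int.ofNat 1))] (.node 130 [(224,(Int.negSucc 0))] .nil .nil) .nil)) (.node 175 [(237,(Int.negSucc 0))] (.node 169 [(234,(Int.ofNat 1))] (.node 164 [(232,(Int.ofNat 1))] .nil .nil) (.node 174 [(236,(Int.negSucc 0))] .nil .nil)) (.node 177 [(239,(Int.negSucc 0))] (.node 176 [(238,(Int.negSucc 0))] .nil .nil) .nil)))))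
noncomputable def ch224 : Tr (List (ℕ × ℤ)) := (.node 78 [(194,(Int.negSucc 0))] (.node 22 [(137,(Int.negSucc 0))] (.node 14 [(98,(Int.ofNat 1))] (.node 3 [(69,(Int.negSucc 0))] (.node 1 [(67,(Int.negSucc 0))] (.node 0 [(66,(Int.negSucc 0))] .nil .nil) (.node 2 [(68,(Int.negSucc 0))] .nil .nil)) (.node 7 [(76,(Int.ofNat 1))] (.node 4 [(70,(Int.negSucc 0))] .nil .nil) (.node 8 [(77,(Int.ofNat 1))] .nil .nil))) (.node 19 [(133,(Int.negSucc 0))] (.node 17 [(131,(Int.negSucc 0))] (.node 16 [(130,(Int.ofNat 1))] .nil .nil) (.node 18 [(132,(Int.ofNat 1))] .nil .nil)) (.node 21 [(136,(Int.ofNat 1))] (.node 20 [(134,(Int.ofNat 1))] .nil .nil) .nil))) (.node 39 [(155,(Int.negSucc 0))] (.node 36 [(152,(Int.ofNat 1))] (.node 24 [(139,(Int.negSucc 0))] (.node 23 [(138,(Int.ofNat 1))] .nil .nil) (.node 25 [(140,(Int.ofNat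 1))] .nil .nil)) (.node 38 [(154,(Int.ofNat 1))] (.node 37 [(153,(Int.negSucc 0))] .nil .nil) .nil)) (.node 43 [(159,(Int.ofNat 1))] (.node 41 [(157,(Int.negSucc 0))] (.node 40 [(156,(Int.ofNat 1))] .nil .nil) (.node 42 [(158,(Int.ofNat 1))] .nil .nil)) (.node 45 [(161,(Int.ofNat 1))] (.node 44 [(160,(Int.negSucc 0))] .nil .nil) .nil)))) (.node 103 [(218,(Int.negSucc 0))] (.node 85 [(201,(Int.negSucc 0))] (.node 82 [(198,(Int.ofNat 1))] (.node 80 [(196,(Int.negSucc 0))] (.node 79 [(195,(Int.ofNat 1))] .nil .nil) (.node 81 [(197,(Int.negSucc 0))] .nil .nil)) (.node 84 [(200,(Int.ofNat 1))] (.node 83 [(199,(Int.negSucc 0))] .nil .nil) .nil)) (.node 100 [(215,(Int.ofNat 1))] (.node 87 [(203,(Int.negSucc 0))] (.node 86 [(202,(Int.ofNat 1))] .nil .nil) (.node 99 [(214,(Int.negSucc 0))] .nil .nil)) (.node 102 [(217,(Int.ofNat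 1))] (.node 101 [(216,(Int.negSucc 0))] .nil .nil) .nil))) (.node 162 [(231,(Int.negSucc 0))] (.node 108 [(222,(Int.ofNat 1))] (.node 106 [(220,(Int.ofNat 1))] (.node 105 [(219,(Int.negSucc 0))] .nil .nil) (.node 107 [(221,(Int.negSucc 0))] .nil .nil)) (.node 141 [(225,(Int.negSucc 0))] (.node 109 [(223,(Int.negSucc 0))] .nil .nil) .nil)) (.node 171 [(237,(Int.ofNat 1))] (.node 169 [(235,(Int.ofNat 1))] (.node 163 [(232,(Int.negSucc 0))] .nil .nil) (.node 170 [(236,(Int.ofNat 1))] .nil .nil)) (.node 173 [(239,(Int.ofNat 1))] (.node 172 [(238,(Int.ofNat 1))] .nil .nil) .nil)))))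
noncomputable def ch225 : Tr (List (ℕ × ℤ)) := (.node 78 [(204,(Int.negSucc 0))] (.node 22 [(148,(Int.negSucc 0))] (.node 15 [(141,(Int.ofNat 1))] (.node 3 [(74,(Int.ofNat 1))] (.node 1 [(72,(Int.ofNat 1))] (.node 0 [(71,(Int.ofNat 1))] .nil .nil) (.node 2 [(73,(Int.ofNat 1))] .nil .nil)) (.node 5 [(76,(Int.ofNat 1))] (.node 4 [(75,(Int.ofNat 1))] .nil .nil) (.node 6 [(77,(Int.ofNat 1))] .nil .nil))) (.node 19 [(145,(Int.ofNat 1))] (.node 17 [(143,(Int.ofNat 1))] (.node 16 [(142,(Int.negSucc 0))] .nil .nil) (.node 18 [(144,(Int.negSucc 0))] .nil .nil)) (.node 21 [(147,(Int.ofNat 1))] (.node 20 [(146,(Int.negSucc 0))] .nil .nil) .nil))) (.node 29 [(155,(Int.negSucc 0))] (.node 26 [(152,(Int.ofNat 1))] (.node 24 [(150,(Int.negSucc 0))] (.node 23 [(149,(Int.ofNat 1))] .nil .nil) (.node 25 [(151,(Int.ofNat 1))] .nil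 .nil)) (.node 28 [(154,(Int.ofNat 1))] (.node 27 [(153,(Int.negSucc 0))] .nil .nil) .nil)) (.node 33 [(159,(Int.ofNat 1))] (.node 31 [(157,(Int.negSucc 0))] (.node 30 [(156,(Int.ofNat 1))] .nil .nil) (.node 32 [(158,(Int.ofNat 1))] .nil .nil)) (.node 35 [(161,(Int.ofNat 1))] (.node 34 [(160,(Int.negSucc 0))] .nil .nil) .nil)))) (.node 92 [(218,(Int.negSucc 0))] (.node 85 [(211,(Int.negSucc 0))] (.node 82 [(208,(Int.ofNat 1))] (.node 80 [(206,(Int.negSucc 0))] (.node 79 [(205,(Int.ofNat 1))] .nil .nil) (.node 81 [(207,(Int.negSucc 0))] .nil .nil)) (.node 84 [(210,(Int.ofNat 1))] (.node 83 [(209,(Int.negSucc 0))] .nil .nil) .nil)) (.node 89 [(215,(Int.ofNat 1))] (.node 87 [(213,(Int.negSucc 0))] (.node 86 [(212,(Int.ofNat 1))] .nil .nil) (.node 88 [(214,(Int.negSucc 0))] .nil .nil)) (.node 91 [(217,(Int.ofNat 1))]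 (.node 90 [(216,(Int.negSucc 0))] .nil .nil) .nil))) (.node 162 [(233,(Int.negSucc 0))] (.node 96 [(222,(Int.negSucc 0))] (.node 94 [(220,(Int.negSucc 0))] (.node 93 [(219,(Int.ofNat 1))] .nil .nil) (.node 95 [(221,(Int.ofNat 1))] .nil .nil)) (.node 98 [(224,(Int.negSucc 0))] (.node 97 [(223,(Int.ofNat 1))] .nil .nil) .nil)) (.node 166 [(237,(Int.negSucc 0))] (.node 164 [(235,(Int.negSucc 0))] (.node 163 [(234,(Int.negSucc 0))] .nil .nil) (.node 165 [(236,(Int.negSucc 0))] .nil .nil)) (.node 168 [(239,(Int.negSucc 0))] (.node 167 [(238,(Int.negSucc 0))] .nil .nil) .nil)))))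
noncomputable def ch226 : Tr (List (ℕ × ℤ)) := (.node 58 [(184,(Int.ofNat 1))] (.node 29 [(164,(Int.ofNat 1))] (.node 8 [(105,(Int.ofNat 1))] (.node 4 [(84,(Int.negSucc 0))] (.node 2 [(79,(Int.negSucc 0))] (.node 1 [(78,(Int.negSucc 0))] .nil .nil) (.node 3 [(81,(Int.negSucc 0))] .nil .nil)) (.node 6 [(93,(Int.negSucc 0))] (.node 5 [(88,(Int.negSucc 0))] .nil .nil) (.node 7 [(99,(Int.negSucc 0))] .nil .nil))) (.node 12 [(119,(Int.ofNat 1))] (.node 10 [(114,(Int.ofNat 1))] (.node 9 [(110,(Int.negSucc 0))] .nil .nil) (.node 11 [(117,(Int.negSucc 0))] .nil .nil)) (.node 25 [(163,(Int.negSucc 0))] (.node 20 [(162,(Int.ofNat 1))] .nil .nil) .nil))) (.node 45 [(172,(Int.ofNat 1))] (.node 39 [(169,(Int.negSucc 0))] (.node 34 [(166,(Int.ofNat 1))] (.node 32 [(165,(Int.negSucc 0))] .nil .nil) (.node 35 [(167,(Int.negSucc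 0))] .nil .nil)) (.node 44 [(171,(Int.negSucc 0))] (.node 42 [(170,(Int.ofNat 1))] .nil .nil) .nil)) (.node 53 [(178,(Int.negSucc 0))] (.node 50 [(175,(Int.ofNat 1))] (.node 48 [(174,(Int.negSucc 0))] .nil .nil) (.node 51 [(176,(Int.negSucc 0))] .nil .nil)) (.node 55 [(181,(Int.negSucc 0))] (.node 54 [(179,(Int.ofNat 1))] .nil .nil) .nil)))) (.node 76 [(214,(Int.ofNat 1))] (.node 68 [(195,(Int.ofNat 1))] (.node 64 [(189,(Int.negSucc 0))] (.node 61 [(186,(Int.ofNat 1))] (.node 60 [(185,(Int.negSucc 0))] .nil .nil) (.node 63 [(188,(Int.ofNat 1))] .nil .nil)) (.node 67 [(194,(Int.negSucc 0))] (.node 65 [(191,(Int.ofNat 1))] .nil .nil) .nil)) (.node 73 [(205,(Int.negSucc 0))] (.node 70 [(200,(Int.ofNat 1))] (.node 69 [(197,(Int.negSucc 0))] .nil .nil) (.node 72 [(204,(Int.ofNat 1))] .nil .nil)) (.node 75 [(210,(Int.negSucc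 0))] (.node 74 [(207,(Int.ofNat 1))] .nil .nil) .nil))) (.node 140 [(232,(Int.ofNat 1))] (.node 125 [(229,(Int.negSucc 0))] (.node 120 [(227,(Int.negSucc 0))] (.node 77 [(219,(Int.negSucc 0))] .nil .nil) (.node 122 [(228,(Int.ofNat 1))] .nil .nil)) (.node 134 [(231,(Int.negSucc 0))] (.node 129 [(230,(Int.ofNat 1))] .nil .nil) .nil)) (.node 158 [(236,(Int.ofNat 1))] (.node 151 [(234,(Int.ofNat 1))] (.node 146 [(233,(Int.ofNat 1))] .nil .nil) (.node 155 [(235,(Int.ofNat 1))] .nil .nil)) (.node 161 [(238,(Int.ofNat 1))] (.node 160 [(237,(Int.ofNat 1))] .nil .nil) .nil)))))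
noncomputable def ch227 : Tr (List (ℕ × ℤ)) := (.node 57 [(184,(Int.ofNat 1))] (.node 28 [(164,(Int.ofNat 1))] (.node 8 [(106,(Int.negSucc 0))] (.node 4 [(85,(Int.ofNat 1))] (.node 2 [(80,(Int.ofNat 1))] (.node 0 [(78,(Int.negSucc 0))] .nil .nil) (.node 3 [(82,(Int.ofNat 1))] .nil .nil)) (.node 6 [(94,(Int.ofNat 1))] (.node 5 [(89,(Int.ofNat 1))] .nil .nil) (.node 7 [(100,(Int.ofNat 1))] .nil .nil))) (.node 13 [(120,(Int.ofNat 1))] (.node 10 [(115,(Int.negSucc 0))] (.node 9 [(111,(Int.ofNat 1))] .nil .nil) (.node 11 [(118,(Int.ofNat 1))] .nil .nil)) (.node 24 [(163,(Int.negSucc 0))] (.node 19 [(162,(Int.ofNat 1))] .nil .nil) .nil))) (.node 45 [(173,(Int.ofNat 1))] (.node 38 [(169,(Int.negSucc 0))] (.node 33 [(166,(Int.ofNat 1))] (.node 31 [(165,(Int.negSucc 0))] .nil .nil) (.node 35 [(168,(Int.negSucc 0))] .nil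 .nil)) (.node 43 [(171,(Int.negSucc 0))] (.node 41 [(170,(Int.ofNat 1))] .nil .nil) .nil)) (.node 52 [(178,(Int.negSucc 0))] (.node 49 [(175,(Int.ofNat 1))] (.node 47 [(174,(Int.negSucc 0))] .nil .nil) (.node 51 [(177,(Int.negSucc 0))] .nil .nil)) (.node 55 [(182,(Int.negSucc 0))] (.node 54 [(180,(Int.ofNat 1))] .nil .nil) .nil)))) (.node 76 [(215,(Int.ofNat 1))] (.node 68 [(196,(Int.ofNat 1))] (.node 64 [(190,(Int.negSucc 0))] (.node 61 [(187,(Int.ofNat 1))] (.node 59 [(185,(Int.negSucc 0))] .nil .nil) (.node 62 [(188,(Int.ofNat 1))] .nil .nil)) (.node 66 [(194,(Int.negSucc 0))] (.node 65 [(192,(Int.ofNat 1))] .nil .nil) .nil)) (.node 73 [(206,(Int.negSucc 0))] (.node 70 [(201,(Int.ofNat 1))] (.node 69 [(198,(Int.negSucc 0))] .nil .nil) (.node 71 [(204,(Int.ofNat 1))] .nil .nil)) (.node 75 [(211,(Int.negSucc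 0))] (.node 74 [(208,(Int.ofNat 1))] .nil .nil) .nil))) (.node 139 [(232,(Int.negSucc 0))] (.node 124 [(229,(Int.ofNat 1))] (.node 119 [(226,(Int.negSucc 0))] (.node 77 [(220,(Int.negSucc 0))] .nil .nil) (.node 121 [(228,(Int.negSucc 0))] .nil .nil)) (.node 133 [(231,(Int.ofNat 1))] (.node 128 [(230,(Int.negSucc 0))] .nil .nil) .nil)) (.node 157 [(236,(Int.negSucc 0))] (.node 150 [(234,(Int.negSucc 0))] (.node 145 [(233,(Int.negSucc 0))] .nil .nil) (.node 154 [(235,(Int.negSucc 0))] .nil .nil)) (.node 161 [(239,(Int.ofNat 1))] (.node 159 [(237,(Int.negSucc 0))] .nil .nil) .nil)))))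
noncomputable def ch228 : Tr (List (ℕ × ℤ)) := (.node 56 [(184,(Int.ofNat 1))] (.node 27 [(164,(Int.ofNat 1))] (.node 8 [(107,(Int.ofNat 1))] (.node 4 [(86,(Int.negSucc 0))] (.node 1 [(80,(Int.ofNat 1))] (.node 0 [(79,(Int.ofNat 1))] .nil .nil) (.node 3 [(83,(Int.negSucc 0))] .nil .nil)) (.node 6 [(95,(Int.negSucc 0))] (.node 5 [(90,(Int.negSucc 0))] .nil .nil) (.node 7 [(101,(Int.negSucc 0))] .nil .nil))) (.node 13 [(122,(Int.negSucc 0))] (.node 10 [(116,(Int.ofNat 1))] (.node 9 [(112,(Int.negSucc 0))] .nil .nil) (.node 12 [(121,(Int.ofNat 1))] .nil .nil)) (.node 23 [(163,(Int.negSucc 0))] (.node 18 [(162,(Int.ofNat 1))] .nil .nil) .nil))) (.node 44 [(173,(Int.ofNat 1))] (.node 37 [(169,(Int.negSucc 0))] (.node 33 [(167,(Int.ofNat 1))] (.node 30 [(165,(Int.negSucc 0))] .nil .nil) (.node 34 [(168,(Int.negSucc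 0))] .nil .nil)) (.node 43 [(172,(Int.negSucc 0))] (.node 40 [(170,(Int.ofNat 1))] .nil .nil) .nil)) (.node 52 [(179,(Int.negSucc 0))] (.node 49 [(176,(Int.ofNat 1))] (.node 46 [(174,(Int.negSucc 0))] .nil .nil) (.node 50 [(177,(Int.negSucc 0))] .nil .nil)) (.node 55 [(183,(Int.negSucc 0))] (.node 53 [(180,(Int.ofNat 1))] .nil .nil) .nil)))) (.node 76 [(216,(Int.ofNat 1))] (.node 67 [(196,(Int.ofNat 1))] (.node 63 [(190,(Int.negSucc 0))] (.node 60 [(187,(Int.ofNat 1))] (.node 59 [(186,(Int.negSucc 0))] .nil .nil) (.node 62 [(189,(Int.ofNat 1))] .nil .nil)) (.node 66 [(195,(Int.negSucc 0))] (.node 65 [(193,(Int.ofNat 1))] .nil .nil) .nil)) (.node 72 [(206,(Int.negSucc 0))] (.node 70 [(202,(Int.ofNat 1))] (.node 69 [(199,(Int.negSucc 0))] .nil .nil) (.node 71 [(205,(Int.ofNat 1))] .nil .nil)) (.node 75 [(212,(Int.negSucc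 0))] (.node 74 [(209,(Int.ofNat 1))] .nil .nil) .nil))) (.node 138 [(232,(Int.ofNat 1))] (.node 123 [(229,(Int.negSucc 0))] (.node 117 [(226,(Int.ofNat 1))] (.node 77 [(221,(Int.negSucc 0))] .nil .nil) (.node 118 [(227,(Int.negSucc 0))] .nil .nil)) (.node 132 [(231,(Int.negSucc 0))] (.node 127 [(230,(Int.ofNat 1))] .nil .nil) .nil)) (.node 156 [(236,(Int.ofNat 1))] (.node 149 [(234,(Int.ofNat 1))] (.node 144 [(233,(Int.ofNat 1))] .nil .nil) (.node 153 [(235,(Int.ofNat 1))] .nil .nil)) (.node 160 [(239,(Int.negSucc 0))] (.node 159 [(238,(Int.negSucc 0))] .nil .nil) .nil)))))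
noncomputable def ch229 : Tr (List (ℕ × ℤ)) := (.node 56 [(185,(Int.ofNat 1))] (.node 26 [(164,(Int.ofNat 1))] (.node 8 [(108,(Int.negSucc 0))] (.node 4 [(87,(Int.ofNat 1))] (.node 1 [(82,(Int.negSucc 0))] (.node 0 [(81,(Int.negSucc 0))] .nil .nil) (.node 2 [(83,(Int.negSucc 0))] .nil .nil)) (.node 6 [(96,(Int.ofNat 1))] (.node 5 [(91,(Int.ofNat 1))] .nil .nil) (.node 7 [(102,(Int.ofNat 1))] .nil .nil))) (.node 13 [(125,(Int.ofNat 1))] (.node 11 [(123,(Int.ofNat 1))] (.node 9 [(113,(Int.ofNat 1))] .nil .nil) (.node 12 [(124,(Int.negSucc 0))] .nil .nil)) (.node 22 [(163,(Int.negSucc 0))] (.node 17 [(162,(Int.ofNat 1))] .nil .nil) .nil))) (.node 42 [(173,(Int.ofNat 1))] (.node 36 [(169,(Int.negSucc 0))] (.node 31 [(167,(Int.ofNat 1))] (.node 30 [(166,(Int.negSucc 0))] .nil .nil) (.node 32 [(168,(Int.negSucc 0))]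 .nil .nil)) (.node 41 [(172,(Int.negSucc 0))] (.node 40 [(171,(Int.ofNat 1))] .nil .nil) .nil)) (.node 52 [(181,(Int.negSucc 0))] (.node 47 [(176,(Int.ofNat 1))] (.node 46 [(175,(Int.negSucc 0))] .nil .nil) (.node 48 [(177,(Int.negSucc 0))] .nil .nil)) (.node 54 [(183,(Int.negSucc 0))] (.node 53 [(182,(Int.ofNat 1))] .nil .nil) .nil)))) (.node 76 [(217,(Int.ofNat 1))] (.node 67 [(198,(Int.ofNat 1))] (.node 63 [(192,(Int.negSucc 0))] (.node 58 [(187,(Int.ofNat 1))] (.node 57 [(186,(Int.negSucc 0))] .nil .nil) (.node 62 [(191,(Int.ofNat 1))] .nil .nil)) (.node 66 [(197,(Int.negSucc 0))] (.node 64 [(193,(Int.ofNat 1))] .nil .nil) .nil)) (.node 72 [(208,(Int.negSucc 0))] (.node 70 [(203,(Int.ofNat 1))] (.node 68 [(199,(Int.negSucc 0))] .nil .nil) (.node 71 [(207,(Int.ofNat 1))] .nil .nil)) (.node 75 [(213,(Int.negSucc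 0))] (.node 73 [(209,(Int.ofNat 1))] .nil .nil) .nil))) (.node 137 [(232,(Int.negSucc 0))] (.node 116 [(228,(Int.negSucc 0))] (.node 114 [(226,(Int.negSucc 0))] (.node 77 [(222,(Int.negSucc 0))] .nil .nil) (.node 115 [(227,(Int.ofNat 1))] .nil .nil)) (.node 131 [(231,(Int.ofNat 1))] (.node 126 [(230,(Int.negSucc 0))] .nil .nil) .nil)) (.node 156 [(237,(Int.ofNat 1))] (.node 148 [(234,(Int.negSucc 0))] (.node 143 [(233,(Int.negSucc 0))] .nil .nil) (.node 152 [(235,(Int.negSucc 0))] .nil .nil)) (.node 158 [(239,(Int.ofNat 1))] (.node 157 [(238,(Int.ofNat 1))] .nil .nil) .nil)))))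
noncomputable def ch230 : Tr (List (ℕ × ℤ)) := (.node 56 [(188,(Int.ofNat 1))] (.node 26 [(165,(Int.ofNat 1))] (.node 8 [(109,(Int.ofNat 1))] (.node 3 [(87,(Int.ofNat 1))] (.node 1 [(85,(Int.ofNat 1))] (.node 0 [(84,(Int.ofNat 1))] .nil .nil) (.node 2 [(86,(Int.ofNat 1))] .nil .nil)) (.node 6 [(97,(Int.negSucc 0))] (.node 5 [(92,(Int.negSucc 0))] .nil .nil) (.node 7 [(103,(Int.negSucc 0))] .nil .nil))) (.node 13 [(129,(Int.negSucc 0))] (.node 11 [(127,(Int.negSucc 0))] (.node 10 [(126,(Int.ofNat 1))] .nil .nil) (.node 12 [(128,(Int.ofNat 1))] .nil .nil)) (.node 21 [(163,(Int.negSucc 0))] (.node 16 [(162,(Int.ofNat 1))] .nil .nil) .nil))) (.node 39 [(173,(Int.ofNat 1))] (.node 36 [(170,(Int.negSucc 0))] (.node 28 [(167,(Int.ofNat 1))] (.node 27 [(166,(Int.negSucc 0))] .nil .nil) (.node 29 [(168,(Int.negSucc 0))]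 .nil .nil)) (.node 38 [(172,(Int.negSucc 0))] (.node 37 [(171,(Int.ofNat 1))] .nil .nil) .nil)) (.node 49 [(181,(Int.negSucc 0))] (.node 47 [(179,(Int.ofNat 1))] (.node 46 [(178,(Int.negSucc 0))] .nil .nil) (.node 48 [(180,(Int.negSucc 0))] .nil .nil)) (.node 51 [(183,(Int.negSucc 0))] (.node 50 [(182,(Int.ofNat 1))] .nil .nil) .nil)))) (.node 76 [(218,(Int.ofNat 1))] (.node 67 [(201,(Int.ofNat 1))] (.node 60 [(192,(Int.negSucc 0))] (.node 58 [(190,(Int.ofNat 1))] (.node 57 [(189,(Int.negSucc 0))] .nil .nil) (.node 59 [(191,(Int.ofNat 1))] .nil .nil)) (.node 66 [(200,(Int.negSucc 0))] (.node 61 [(193,(Int.ofNat 1))] .nil .nil) .nil)) (.node 72 [(211,(Int.negSucc 0))] (.node 69 [(203,(Int.ofNat 1))] (.node 68 [(202,(Int.negSucc 0))] .nil .nil) (.node 71 [(210,(Int.ofNat 1))] .nil .nil)) (.node 74 [(213,(Int.negSucc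 0))] (.node 73 [(212,(Int.ofNat 1))] .nil .nil) .nil))) (.node 136 [(232,(Int.ofNat 1))] (.node 112 [(228,(Int.ofNat 1))] (.node 110 [(226,(Int.ofNat 1))] (.node 77 [(223,(Int.negSucc 0))] .nil .nil) (.node 111 [(227,(Int.negSucc 0))] .nil .nil)) (.node 130 [(231,(Int.negSucc 0))] (.node 113 [(229,(Int.negSucc 0))] .nil .nil) .nil)) (.node 153 [(237,(Int.negSucc 0))] (.node 147 [(234,(Int.ofNat 1))] (.node 142 [(233,(Int.ofNat 1))] .nil .nil) (.node 152 [(236,(Int.negSucc 0))] .nil .nil)) (.node 155 [(239,(Int.negSucc 0))] (.node 154 [(238,(Int.negSucc 0))] .nil .nil) .nil)))))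
noncomputable def ch231 : Tr (List (ℕ × ℤ)) := (.node 56 [(194,(Int.ofNat 1))] (.node 22 [(165,(Int.ofNat 1))] (.node 9 [(130,(Int.ofNat 1))] (.node 3 [(91,(Int.negSucc 0))] (.node 1 [(89,(Int.negSucc 0))] (.node 0 [(88,(Int.negSucc 0))] .nil .nil) (.node 2 [(90,(Int.negSucc 0))] .nil .nil)) (.node 6 [(98,(Int.ofNat 1))] (.node 4 [(92,(Int.negSucc 0))] .nil .nil) (.node 7 [(104,(Int.ofNat 1))] .nil .nil))) (.node 13 [(134,(Int.ofNat 1))] (.node 11 [(132,(Int.ofNat 1))] (.node 10 [(131,(Int.negSucc 0))] .nil .nil) (.node 12 [(133,(Int.negSucc 0))] .nil .nil)) (.node 21 [(164,(Int.negSucc 0))] (.node 15 [(162,(Int.ofNat 1))] .nil .nil) .nil))) (.node 39 [(177,(Int.ofNat 1))] (.node 36 [(174,(Int.negSucc 0))] (.node 24 [(167,(Int.ofNat 1))] (.node 23 [(166,(Int.negSucc 0))] .nil .nil) (.node 25 [(168,(Int.negSucc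 0))] .nil .nil)) (.node 38 [(176,(Int.negSucc 0))] (.node 37 [(175,(Int.ofNat 1))] .nil .nil) .nil)) (.node 43 [(181,(Int.negSucc 0))] (.node 41 [(179,(Int.ofNat 1))] (.node 40 [(178,(Int.negSucc 0))] .nil .nil) (.node 42 [(180,(Int.negSucc 0))] .nil .nil)) (.node 45 [(183,(Int.negSucc 0))] (.node 44 [(182,(Int.ofNat 1))] .nil .nil) .nil)))) (.node 75 [(218,(Int.ofNat 1))] (.node 63 [(201,(Int.ofNat 1))] (.node 60 [(198,(Int.negSucc 0))] (.node 58 [(196,(Int.ofNat 1))] (.node 57 [(195,(Int.negSucc 0))] .nil .nil) (.node 59 [(197,(Int.ofNat 1))] .nil .nil)) (.node 62 [(200,(Int.negSucc 0))] (.node 61 [(199,(Int.ofNat 1))] .nil .nil) .nil)) (.node 72 [(215,(Int.negSucc 0))] (.node 65 [(203,(Int.ofNat 1))] (.node 64 [(202,(Int.negSucc 0))] .nil .nil) (.node 71 [(214,(Int.ofNat 1))] .nil .nil)) (.node 74 [(217,(Int.negSucc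 0))] (.node 73 [(216,(Int.ofNat 1))] .nil .nil) .nil))) (.node 135 [(232,(Int.negSucc 0))] (.node 107 [(228,(Int.negSucc 0))] (.node 105 [(226,(Int.negSucc 0))] (.node 77 [(224,(Int.negSucc 0))] .nil .nil) (.node 106 [(227,(Int.ofNat 1))] .nil .nil)) (.node 109 [(230,(Int.negSucc 0))] (.node 108 [(229,(Int.ofNat 1))] .nil .nil) .nil)) (.node 149 [(237,(Int.ofNat 1))] (.node 147 [(235,(Int.ofNat 1))] (.node 141 [(233,(Int.negSucc 0))] .nil .nil) (.node 148 [(236,(Int.ofNat 1))] .nil .nil)) (.node 151 [(239,(Int.ofNat 1))] (.node 150 [(238,(Int.ofNat 1))] .nil .nil) .nil)))))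
noncomputable def ch232 : Tr (List (ℕ × ℤ)) := (.node 46 [(194,(Int.ofNat 1))] (.node 17 [(165,(Int.ofNat 1))] (.node 9 [(136,(Int.negSucc 0))] (.node 3 [(96,(Int.ofNat 1))] (.node 1 [(94,(Int.ofNat 1))] (.node 0 [(93,(Int.ofNat 1))] .nil .nil) (.node 2 [(95,(Int.ofNat 1))] .nil .nil)) (.node 5 [(98,(Int.ofNat 1))] (.node 4 [(97,(Int.ofNat 1))] .nil .nil) (.node 8 [(135,(Int.ofNat 1))] .nil .nil))) (.node 13 [(140,(Int.negSucc 0))] (.node 11 [(138,(Int.negSucc 0))] (.node 10 [(137,(Int.ofNat 1))] .nil .nil) (.node 12 [(139,(Int.ofNat 1))] .nil .nil)) (.node 16 [(164,(Int.negSucc 0))] (.node 15 [(163,(Int.ofNat 1))] .nil .nil) .nil))) (.node 39 [(187,(Int.ofNat 1))] (.node 36 [(184,(Int.negSucc 0))] (.node 19 [(167,(Int.ofNat 1))] (.node 18 [(166,(Int.negSucc 0))] .nil .nil) (.node 20 [(168,(Int.negSucc 0))] .nil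 .nil)) (.node 38 [(186,(Int.negSucc 0))] (.node 37 [(185,(Int.ofNat 1))] .nil .nil) .nil)) (.node 43 [(191,(Int.negSucc 0))] (.node 41 [(189,(Int.ofNat 1))] (.node 40 [(188,(Int.negSucc 0))] .nil .nil) (.node 42 [(190,(Int.negSucc 0))] .nil .nil)) (.node 45 [(193,(Int.negSucc 0))] (.node 44 [(192,(Int.ofNat 1))] .nil .nil) .nil)))) (.node 75 [(223,(Int.ofNat 1))] (.node 53 [(201,(Int.ofNat 1))] (.node 50 [(198,(Int.negSucc 0))] (.node 48 [(196,(Int.ofNat 1))] (.node 47 [(195,(Int.negSucc 0))] .nil .nil) (.node 49 [(197,(Int.ofNat 1))] .nil .nil)) (.node 52 [(200,(Int.negSucc 0))] (.node 51 [(199,(Int.ofNat 1))] .nil .nil) .nil)) (.node 72 [(220,(Int.negSucc 0))] (.node 55 [(203,(Int.ofNat 1))] (.node 54 [(202,(Int.negSucc 0))] .nil .nil) (.node 71 [(219,(Int.ofNat 1))] .nil .nil)) (.node 74 [(222,(Int.negSucc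 0))] (.node 73 [(221,(Int.ofNat 1))] .nil .nil) .nil))) (.node 104 [(231,(Int.negSucc 0))] (.node 101 [(228,(Int.ofNat 1))] (.node 99 [(226,(Int.ofNat 1))] (.node 76 [(224,(Int.negSucc 0))] .nil .nil) (.node 100 [(227,(Int.negSucc 0))] .nil .nil)) (.node 103 [(230,(Int.ofNat 1))] (.node 102 [(229,(Int.negSucc 0))] .nil .nil) .nil)) (.node 144 [(237,(Int.negSucc 0))] (.node 142 [(235,(Int.negSucc 0))] (.node 141 [(234,(Int.negSucc 0))] .nil .nil) (.node 143 [(236,(Int.negSucc 0))] .nil .nil)) (.node 146 [(239,(Int.negSucc 0))] (.node 145 [(238,(Int.negSucc 0))] .nil .nil) .nil)))))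
noncomputable def ch233 : Tr (List (ℕ × ℤ)) := (.node 56 [(204,(Int.ofNat 1))] (.node 22 [(170,(Int.ofNat 1))] (.node 9 [(142,(Int.negSucc 0))] (.node 3 [(102,(Int.ofNat 1))] (.node 1 [(100,(Int.ofNat 1))] (.node 0 [(99,(Int.ofNat 1))] .nil .nil) (.node 2 [(101,(Int.ofNat 1))] .nil .nil)) (.node 5 [(104,(Int.ofNat 1))] (.node 4 [(103,(Int.ofNat 1))] .nil .nil) (.node 8 [(141,(Int.ofNat 1))] .nil .nil))) (.node 13 [(146,(Int.negSucc 0))] (.node 11 [(144,(Int.negSucc 0))] (.node 10 [(143,(Int.ofNat 1))] .nil .nil) (.node 12 [(145,(Int.ofNat 1))] .nil .nil)) (.node 21 [(169,(Int.negSucc 0))] (.node 14 [(162,(Int.ofNat 1))] .nil .nil) .nil))) (.node 29 [(177,(Int.ofNat 1))] (.node 26 [(174,(Int.negSucc 0))] (.node 24 [(172,(Int.ofNat 1))] (.node 23 [(171,(Int.negSucc 0))] .nil .nil) (.node 25 [(173,(Int.negSucc 0))]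 .nil .nil)) (.node 28 [(176,(Int.negSucc 0))] (.node 27 [(175,(Int.ofNat 1))] .nil .nil) .nil)) (.node 33 [(181,(Int.negSucc 0))] (.node 31 [(179,(Int.ofNat 1))] (.node 30 [(178,(Int.negSucc 0))] .nil .nil) (.node 32 [(180,(Int.negSucc 0))] .nil .nil)) (.node 35 [(183,(Int.negSucc 0))] (.node 34 [(182,(Int.ofNat 1))] .nil .nil) .nil)))) (.node 70 [(218,(Int.ofNat 1))] (.node 63 [(211,(Int.ofNat 1))] (.node 60 [(208,(Int.negSucc 0))] (.node 58 [(206,(Int.ofNat 1))] (.node 57 [(205,(Int.negSucc 0))] .nil .nil) (.node 59 [(207,(Int.ofNat 1))] .nil .nil)) (.node 62 [(210,(Int.negSucc 0))] (.node 61 [(209,(Int.ofNat 1))] .nil .nil) .nil)) (.node 67 [(215,(Int.negSucc 0))] (.node 65 [(213,(Int.ofNat 1))] (.node 64 [(212,(Int.negSucc 0))] .nil .nil) (.node 66 [(214,(Int.ofNat 1))] .nil .nil)) (.node 69 [(217,(Int.negSucc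 0))] (.node 68 [(216,(Int.ofNat 1))] .nil .nil) .nil))) (.node 98 [(231,(Int.negSucc 0))] (.node 95 [(228,(Int.ofNat 1))] (.node 93 [(226,(Int.ofNat 1))] (.node 77 [(225,(Int.negSucc 0))] .nil .nil) (.node 94 [(227,(Int.negSucc 0))] .nil .nil)) (.node 97 [(230,(Int.ofNat 1))] (.node 96 [(229,(Int.negSucc 0))] .nil .nil) .nil)) (.node 138 [(237,(Int.negSucc 0))] (.node 136 [(235,(Int.negSucc 0))] (.node 135 [(234,(Int.negSucc 0))] .nil .nil) (.node 137 [(236,(Int.negSucc 0))] .nil .nil)) (.node 140 [(239,(Int.negSucc 0))] (.node 139 [(238,(Int.negSucc 0))] .nil .nil) .nil)))))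
noncomputable def ch234 : Tr (List (ℕ × ℤ)) := (.node 46 [(204,(Int.ofNat 1))] (.node 17 [(170,(Int.ofNat 1))] (.node 9 [(147,(Int.negSucc 0))] (.node 3 [(108,(Int.ofNat 1))] (.node 1 [(106,(Int.ofNat 1))] (.node 0 [(105,(Int.ofNat 1))] .nil .nil) (.node 2 [(107,(Int.ofNat 1))] .nil .nil)) (.node 6 [(135,(Int.ofNat 1))] (.node 4 [(109,(Int.ofNat 1))] .nil .nil) (.node 7 [(141,(Int.ofNat 1))] .nil .nil))) (.node 13 [(151,(Int.negSucc 0))] (.node 11 [(149,(Int.negSucc 0))] (.node 10 [(148,(Int.ofNat 1))] .nil .nil) (.node 12 [(150,(Int.ofNat 1))] .nil .nil)) (.node 16 [(169,(Int.negSucc 0))] (.node 14 [(163,(Int.ofNat 1))] .nil .nil) .nil))) (.node 29 [(187,(Int.ofNat 1))] (.node 26 [(184,(Int.negSucc 0))] (.node 19 [(172,(Int.ofNat 1))] (.node 18 [(171,(Int.negSucc 0))] .nil .nil) (.node 20 [(173,(Int.negSucc 0))]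 .nil .nil)) (.node 28 [(186,(Int.negSucc 0))] (.node 27 [(185,(Int.ofNat 1))] .nil .nil) .nil)) (.node 33 [(191,(Int.negSucc 0))] (.node 31 [(189,(Int.ofNat 1))] (.node 30 [(188,(Int.negSucc 0))] .nil .nil) (.node 32 [(190,(Int.negSucc 0))] .nil .nil)) (.node 35 [(193,(Int.negSucc 0))] (.node 34 [(192,(Int.ofNat 1))] .nil .nil) .nil)))) (.node 70 [(223,(Int.ofNat 1))] (.node 53 [(211,(Int.ofNat 1))] (.node 50 [(208,(Int.negSucc 0))] (.node 48 [(206,(Int.ofNat 1))] (.node 47 [(205,(Int.negSucc 0))] .nil .nil) (.node 49 [(207,(Int.ofNat 1))] .nil .nil)) (.node 52 [(210,(Int.negSucc 0))] (.node 51 [(209,(Int.ofNat 1))] .nil .nil) .nil)) (.node 67 [(220,(Int.negSucc 0))] (.node 55 [(213,(Int.ofNat 1))] (.node 54 [(212,(Int.negSucc 0))] .nil .nil) (.node 66 [(219,(Int.ofNat 1))] .nil .nil)) (.node 69 [(222,(Int.negSucc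 0))] (.node 68 [(221,(Int.ofNat 1))] .nil .nil) .nil))) (.node 98 [(232,(Int.negSucc 0))] (.node 90 [(228,(Int.ofNat 1))] (.node 88 [(226,(Int.ofNat 1))] (.node 76 [(225,(Int.negSucc 0))] .nil .nil) (.node 89 [(227,(Int.negSucc 0))] .nil .nil)) (.node 92 [(230,(Int.ofNat 1))] (.node 91 [(229,(Int.negSucc 0))] .nil .nil) .nil)) (.node 132 [(237,(Int.negSucc 0))] (.node 130 [(235,(Int.negSucc 0))] (.node 104 [(233,(Int.negSucc 0))] .nil .nil) (.node 131 [(236,(Int.negSucc 0))] .nil .nil)) (.node 134 [(239,(Int.negSucc 0))] (.node 133 [(238,(Int.negSucc 0))] .nil .nil) .nil)))))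
noncomputable def ch235 : Tr (List (ℕ × ℤ)) := (.node 40 [(204,(Int.ofNat 1))] (.node 17 [(174,(Int.ofNat 1))] (.node 8 [(147,(Int.negSucc 0))] (.node 3 [(113,(Int.ofNat 1))] (.node 1 [(111,(Int.ofNat 1))] (.node 0 [(110,(Int.ofNat 1))] .nil .nil) (.node 2 [(112,(Int.ofNat 1))] .nil .nil)) (.node 6 [(136,(Int.ofNat 1))] (.node 5 [(130,(Int.ofNat 1))] .nil .nil) (.node 7 [(142,(Int.ofNat 1))] .nil .nil))) (.node 13 [(155,(Int.negSucc 0))] (.node 11 [(153,(Int.negSucc 0))] (.node 10 [(152,(Int.ofNat 1))] .nil .nil) (.node 12 [(154,(Int.ofNat 1))] .nil .nil)) (.node 15 [(169,(Int.negSucc 0))] (.node 14 [(164,(Int.ofNat 1))] .nil .nil) .nil))) (.node 25 [(187,(Int.ofNat 1))] (.node 22 [(184,(Int.negSucc 0))] (.node 19 [(176,(Int.ofNat 1))] (.node 18 [(175,(Int.negSucc 0))] .nil .nil) (.node 20 [(177,(Int.negSucc 0))]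 .nil .nil)) (.node 24 [(186,(Int.negSucc 0))] (.node 23 [(185,(Int.ofNat 1))] .nil .nil) .nil)) (.node 33 [(197,(Int.negSucc 0))] (.node 31 [(195,(Int.ofNat 1))] (.node 30 [(194,(Int.negSucc 0))] .nil .nil) (.node 32 [(196,(Int.negSucc 0))] .nil .nil)) (.node 35 [(199,(Int.negSucc 0))] (.node 34 [(198,(Int.ofNat 1))] .nil .nil) .nil)))) (.node 70 [(224,(Int.ofNat 1))] (.node 53 [(215,(Int.ofNat 1))] (.node 44 [(208,(Int.negSucc 0))] (.node 42 [(206,(Int.ofNat 1))] (.node 41 [(205,(Int.negSucc 0))] .nil .nil) (.node 43 [(207,(Int.ofNat 1))] .nil .nil)) (.node 52 [(214,(Int.negSucc 0))] (.node 45 [(209,(Int.ofNat 1))] .nil .nil) .nil)) (.node 63 [(220,(Int.negSucc 0))] (.node 55 [(217,(Int.ofNat 1))] (.node 54 [(216,(Int.negSucc 0))] .nil .nil) (.node 62 [(219,(Int.ofNat 1))] .nil .nil)) (.node 65 [(222,(Int.negSucc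 0))] (.node 64 [(221,(Int.ofNat 1))] .nil .nil) .nil))) (.node 97 [(232,(Int.negSucc 0))] (.node 86 [(228,(Int.ofNat 1))] (.node 84 [(226,(Int.ofNat 1))] (.node 75 [(225,(Int.negSucc 0))] .nil .nil) (.node 85 [(227,(Int.negSucc 0))] .nil .nil)) (.node 92 [(231,(Int.ofNat 1))] (.node 87 [(229,(Int.negSucc 0))] .nil .nil) .nil)) (.node 127 [(237,(Int.negSucc 0))] (.node 109 [(234,(Int.negSucc 0))] (.node 103 [(233,(Int.negSucc 0))] .nil .nil) (.node 126 [(236,(Int.negSucc 0))] .nil .nil)) (.node 129 [(239,(Int.negSucc 0))] (.node 128 [(238,(Int.negSucc 0))] .nil .nil) .nil)))))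
noncomputable def ch236 : Tr (List (ℕ × ℤ)) := (.node 37 [(204,(Int.ofNat 1))] (.node 16 [(174,(Int.ofNat 1))] (.node 8 [(148,(Int.negSucc 0))] (.node 4 [(126,(Int.ofNat 1))] (.node 1 [(115,(Int.ofNat 1))] (.node 0 [(114,(Int.ofNat 1))] .nil .nil) (.node 2 [(116,(Int.ofNat 1))] .nil .nil)) (.node 6 [(137,(Int.ofNat 1))] (.node 5 [(131,(Int.ofNat 1))] .nil .nil) (.node 7 [(143,(Int.ofNat 1))] .nil .nil))) (.node 13 [(158,(Int.negSucc 0))] (.node 11 [(156,(Int.negSucc 0))] (.node 9 [(152,(Int.ofNat 1))] .nil .nil) (.node 12 [(157,(Int.ofNat 1))] .nil .nil)) (.node 15 [(170,(Int.negSucc 0))] (.node 14 [(165,(Int.ofNat 1))] .nil .nil) .nil))) (.node 25 [(190,(Int.ofNat 1))] (.node 21 [(184,(Int.negSucc 0))] (.node 19 [(179,(Int.ofNat 1))] (.node 18 [(178,(Int.negSucc 0))] .nil .nil) (.node 20 [(180,(Int.negSucc 0))]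 .nil .nil)) (.node 24 [(189,(Int.negSucc 0))] (.node 23 [(188,(Int.ofNat 1))] .nil .nil) .nil)) (.node 33 [(200,(Int.negSucc 0))] (.node 28 [(195,(Int.ofNat 1))] (.node 27 [(194,(Int.negSucc 0))] .nil .nil) (.node 29 [(196,(Int.negSucc 0))] .nil .nil)) (.node 35 [(202,(Int.negSucc 0))] (.node 34 [(201,(Int.ofNat 1))] .nil .nil) .nil)))) (.node 69 [(224,(Int.ofNat 1))] (.node 50 [(215,(Int.ofNat 1))] (.node 44 [(211,(Int.negSucc 0))] (.node 39 [(206,(Int.ofNat 1))] (.node 38 [(205,(Int.negSucc 0))] .nil .nil) (.node 43 [(210,(Int.ofNat 1))] .nil .nil)) (.node 49 [(214,(Int.negSucc 0))] (.node 45 [(212,(Int.ofNat 1))] .nil .nil) .nil)) (.node 60 [(220,(Int.negSucc 0))] (.node 55 [(218,(Int.ofNat 1))] (.node 51 [(216,(Int.negSucc 0))] .nil .nil) (.node 59 [(219,(Int.ofNat 1))] .nil .nil)) (.node 65 [(223,(Int.negSucc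 0))] (.node 61 [(221,(Int.ofNat 1))] .nil .nil) .nil))) (.node 96 [(232,(Int.negSucc 0))] (.node 83 [(228,(Int.ofNat 1))] (.node 81 [(226,(Int.ofNat 1))] (.node 74 [(225,(Int.negSucc 0))] .nil .nil) (.node 82 [(227,(Int.negSucc 0))] .nil .nil)) (.node 91 [(231,(Int.ofNat 1))] (.node 87 [(230,(Int.negSucc 0))] .nil .nil) .nil)) (.node 123 [(237,(Int.negSucc 0))] (.node 108 [(234,(Int.negSucc 0))] (.node 102 [(233,(Int.negSucc 0))] .nil .nil) (.node 113 [(235,(Int.negSucc 0))] .nil .nil)) (.node 125 [(239,(Int.negSucc 0))] (.node 124 [(238,(Int.negSucc 0))] .nil .nil) .nil)))))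
noncomputable def ch237 : Tr (List (ℕ × ℤ)) := (.node 36 [(204,(Int.ofNat 1))] (.node 16 [(175,(Int.ofNat 1))] (.node 8 [(149,(Int.negSucc 0))] (.node 4 [(127,(Int.ofNat 1))] (.node 1 [(118,(Int.ofNat 1))] (.node 0 [(117,(Int.ofNat 1))] .nil .nil) (.node 3 [(123,(Int.ofNat 1))] .nil .nil)) (.node 6 [(138,(Int.ofNat 1))] (.node 5 [(132,(Int.ofNat 1))] .nil .nil) (.node 7 [(144,(Int.ofNat 1))] .nil .nil))) (.node 13 [(160,(Int.negSucc 0))] (.node 10 [(156,(Int.negSucc 0))] (.node 9 [(153,(Int.ofNat 1))] .nil .nil) (.node 12 [(159,(Int.ofNat 1))] .nil .nil)) (.node 15 [(171,(Int.negSucc 0))] (.node 14 [(166,(Int.ofNat 1))] .nil .nil) .nil))) (.node 25 [(192,(Int.ofNat 1))] (.node 21 [(185,(Int.negSucc 0))] (.node 19 [(181,(Int.ofNat 1))] (.node 17 [(178,(Int.negSucc 0))] .nil .nil) (.node 20 [(182,(Int.negSucc 0))]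 .nil .nil)) (.node 24 [(191,(Int.negSucc 0))] (.node 22 [(188,(Int.ofNat 1))] .nil .nil) .nil)) (.node 31 [(200,(Int.negSucc 0))] (.node 28 [(197,(Int.ofNat 1))] (.node 26 [(194,(Int.negSucc 0))] .nil .nil) (.node 29 [(198,(Int.negSucc 0))] .nil .nil)) (.node 35 [(203,(Int.negSucc 0))] (.node 32 [(201,(Int.ofNat 1))] .nil .nil) .nil)))) (.node 68 [(224,(Int.ofNat 1))] (.node 48 [(215,(Int.ofNat 1))] (.node 42 [(211,(Int.negSucc 0))] (.node 39 [(208,(Int.ofNat 1))] (.node 38 [(207,(Int.negSucc 0))] .nil .nil) (.node 41 [(210,(Int.ofNat 1))] .nil .nil)) (.node 47 [(214,(Int.negSucc 0))] (.node 45 [(213,(Int.ofNat 1))] .nil .nil) .nil)) (.node 58 [(220,(Int.negSucc 0))] (.node 54 [(218,(Int.ofNat 1))] (.node 51 [(217,(Int.negSucc 0))] .nil .nil) (.node 57 [(219,(Int.ofNat 1))] .nil .nil)) (.node 64 [(223,(Int.negSucc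 0))] (.node 61 [(222,(Int.ofNat 1))] .nil .nil) .nil))) (.node 95 [(232,(Int.negSucc 0))] (.node 83 [(229,(Int.ofNat 1))] (.node 79 [(226,(Int.ofNat 1))] (.node 73 [(225,(Int.negSucc 0))] .nil .nil) (.node 80 [(227,(Int.negSucc 0))] .nil .nil)) (.node 90 [(231,(Int.ofNat 1))] (.node 86 [(230,(Int.negSucc 0))] .nil .nil) .nil)) (.node 116 [(236,(Int.negSucc 0))] (.node 107 [(234,(Int.negSucc 0))] (.node 101 [(233,(Int.negSucc 0))] .nil .nil) (.node 112 [(235,(Int.negSucc 0))] .nil .nil)) (.node 122 [(239,(Int.negSucc 0))] (.node 121 [(238,(Int.negSucc 0))] .nil .nil) .nil)))))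
noncomputable def ch238 : Tr (List (ℕ × ℤ)) := (.node 36 [(205,(Int.ofNat 1))] (.node 16 [(176,(Int.ofNat 1))] (.node 8 [(150,(Int.negSucc 0))] (.node 4 [(128,(Int.ofNat 1))] (.node 2 [(121,(Int.ofNat 1))] (.node 0 [(119,(Int.ofNat 1))] .nil .nil) (.node 3 [(124,(Int.ofNat 1))] .nil .nil)) (.node 6 [(139,(Int.ofNat 1))] (.node 5 [(133,(Int.ofNat 1))] .nil .nil) (.node 7 [(145,(Int.ofNat 1))] .nil .nil))) (.node 13 [(161,(Int.negSucc 0))] (.node 10 [(157,(Int.negSucc 0))] (.node 9 [(154,(Int.ofNat 1))] .nil .nil) (.node 11 [(159,(Int.ofNat 1))] .nil .nil)) (.node 15 [(172,(Int.negSucc 0))] (.node 14 [(167,(Int.ofNat 1))] .nil .nil) .nil))) (.node 25 [(193,(Int.ofNat 1))] (.node 21 [(186,(Int.negSucc 0))] (.node 18 [(181,(Int.ofNat 1))] (.node 17 [(179,(Int.negSucc 0))] .nil .nil) (.node 20 [(183,(Int.negSucc 0))]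 .nil .nil)) (.node 23 [(191,(Int.negSucc 0))] (.node 22 [(189,(Int.ofNat 1))] .nil .nil) .nil)) (.node 30 [(200,(Int.negSucc 0))] (.node 27 [(197,(Int.ofNat 1))] (.node 26 [(195,(Int.negSucc 0))] .nil .nil) (.node 29 [(199,(Int.negSucc 0))] .nil .nil)) (.node 34 [(203,(Int.negSucc 0))] (.node 32 [(202,(Int.ofNat 1))] .nil .nil) .nil)))) (.node 67 [(224,(Int.ofNat 1))] (.node 48 [(216,(Int.ofNat 1))] (.node 42 [(212,(Int.negSucc 0))] (.node 39 [(209,(Int.ofNat 1))] (.node 37 [(207,(Int.negSucc 0))] .nil .nil) (.node 40 [(210,(Int.ofNat 1))] .nil .nil)) (.node 46 [(214,(Int.negSucc 0))] (.node 44 [(213,(Int.ofNat 1))] .nil .nil) .nil)) (.node 58 [(221,(Int.negSucc 0))] (.node 53 [(218,(Int.ofNat 1))] (.node 50 [(217,(Int.negSucc 0))] .nil .nil) (.node 56 [(219,(Int.ofNat 1))] .nil .nil)) (.node 63 [(223,(Int.negSucc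 0))] (.node 60 [(222,(Int.ofNat 1))] .nil .nil) .nil))) (.node 94 [(232,(Int.negSucc 0))] (.node 82 [(229,(Int.ofNat 1))] (.node 78 [(226,(Int.ofNat 1))] (.node 72 [(225,(Int.negSucc 0))] .nil .nil) (.node 80 [(228,(Int.negSucc 0))] .nil .nil)) (.node 89 [(231,(Int.ofNat 1))] (.node 85 [(230,(Int.negSucc 0))] .nil .nil) .nil)) (.node 115 [(236,(Int.negSucc 0))] (.node 106 [(234,(Int.negSucc 0))] (.node 100 [(233,(Int.negSucc 0))] .nil .nil) (.node 111 [(235,(Int.negSucc 0))] .nil .nil)) (.node 120 [(239,(Int.negSucc 0))] (.node 118 [(237,(Int.negSucc 0))] .nil .nil) .nil)))))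
noncomputable def ch239 : Tr (List (ℕ × ℤ)) := (.node 36 [(206,(Int.ofNat 1))] (.node 16 [(177,(Int.ofNat 1))] (.node 8 [(151,(Int.negSucc 0))] (.node 4 [(129,(Int.ofNat 1))] (.node 2 [(122,(Int.ofNat 1))] (.node 1 [(120,(Int.ofNat 1))] .nil .nil) (.node 3 [(125,(Int.ofNat 1))] .nil .nil)) (.node 6 [(140,(Int.ofNat 1))] (.node 5 [(134,(Int.ofNat 1))] .nil .nil) (.node 7 [(146,(Int.ofNat 1))] .nil .nil))) (.node 12 [(161,(Int.negSucc 0))] (.node 10 [(158,(Int.negSucc 0))] (.node 9 [(155,(Int.ofNat 1))] .nil .nil) (.node 11 [(160,(Int.ofNat 1))] .nil .nil)) (.node 15 [(173,(Int.negSucc 0))] (.node 14 [(168,(Int.ofNat 1))] .nil .nil) .nil))) (.node 24 [(193,(Int.ofNat 1))] (.node 21 [(187,(Int.negSucc 0))] (.node 18 [(182,(Int.ofNat 1))] (.node 17 [(180,(Int.negSucc 0))] .nil .nil) (.node 19 [(183,(Int.negSucc 0))]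 .nil .nil)) (.node 23 [(192,(Int.negSucc 0))] (.node 22 [(190,(Int.ofNat 1))] .nil .nil) .nil)) (.node 30 [(201,(Int.negSucc 0))] (.node 27 [(198,(Int.ofNat 1))] (.node 26 [(196,(Int.negSucc 0))] .nil .nil) (.node 28 [(199,(Int.negSucc 0))] .nil .nil)) (.node 33 [(203,(Int.negSucc 0))] (.node 31 [(202,(Int.ofNat 1))] .nil .nil) .nil)))) (.node 66 [(224,(Int.ofNat 1))] (.node 47 [(216,(Int.ofNat 1))] (.node 41 [(212,(Int.negSucc 0))] (.node 38 [(209,(Int.ofNat 1))] (.node 37 [(208,(Int.negSucc 0))] .nil .nil) (.node 40 [(211,(Int.ofNat 1))] .nil .nil)) (.node 46 [(215,(Int.negSucc 0))] (.node 43 [(213,(Int.ofNat 1))] .nil .nil) .nil)) (.node 57 [(221,(Int.negSucc 0))] (.node 52 [(218,(Int.ofNat 1))] (.node 49 [(217,(Int.negSucc 0))] .nil .nil) (.node 56 [(220,(Int.ofNat 1))] .nil .nil)) (.node 62 [(223,(Int.negSucc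 0))] (.node 59 [(222,(Int.ofNat 1))] .nil .nil) .nil))) (.node 93 [(232,(Int.negSucc 0))] (.node 81 [(229,(Int.ofNat 1))] (.node 78 [(227,(Int.ofNat 1))] (.node 71 [(225,(Int.negSucc 0))] .nil .nil) (.node 79 [(228,(Int.negSucc 0))] .nil .nil)) (.node 88 [(231,(Int.ofNat 1))] (.node 84 [(230,(Int.negSucc 0))] .nil .nil) .nil)) (.node 114 [(236,(Int.negSucc 0))] (.node 105 [(234,(Int.negSucc 0))] (.node 99 [(233,(Int.negSucc 0))] .nil .nil) (.node 110 [(235,(Int.negSucc 0))] .nil .nil)) (.node 119 [(238,(Int.negSucc 0))] (.node 117 [(237,(Int.negSucc 0))] .nil .nil) .nil)))))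
noncomputable def chainT : Tr (Tr (List (ℕ × ℤ))) := (.node 120 ch120 (.node 60 ch60 (.node 30 ch30 (.node 15 ch15 (.node 7 ch7 (.node 3 ch3 (.node 1 ch1 (.node 0 ch0 .nil .nil) (.node 2 ch2 .nil .nil)) (.node 5 ch5 (.node 4 ch4 .nil .nil) (.node 6 ch6 .nil .nil))) (.node 11 ch11 (.node 9 ch9 (.node 8 ch8 .nil .nil) (.node 10 ch10 .nil .nil)) (.node 13 ch13 (.node 12 ch12 .nil .nil) (.node 14 ch14 .nil .nil)))) (.node 23 ch23 (.node 19 ch19 (.node 17 ch17 (.node 16 ch16 .nil .nil) (.node 18 ch18 .nil .nil)) (.node 21 ch21 (.node 20 ch20 .nil .nil) (.node 22 ch22 .nil .nil))) (.node 27 ch27 (.node 25 ch25 (.node 24 ch24 .nil .nil) (.node 26 ch26 .nil .nil)) (.node 29 ch29 (.node 28 ch28 .nil .nil) .nil)))) (.node 45 ch45 (.node 38 ch38 (.node 34 ch34 (.node 32 ch32 (.node 31 ch31 .nil .nil) (.node 33 ch33 .nil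 .nil)) (.node 36 ch36 (.node 35 ch35 .nil .nil) (.node 37 ch37 .nil .nil))) (.node 42 ch42 (.node 40 ch40 (.node 39 ch39 .nil .nil) (.node 41 ch41 .nil .nil)) (.node 44 ch44 (.node 43 ch43 .nil .nil) .nil))) (.node 53 ch53 (.node 49 ch49 (.node 47 ch47 (.node 46 ch46 .nil .nil) (.node 48 ch48 .nil .nil)) (.node 51 ch51 (.node 50 ch50 .nil .nil) (.node 52 ch52 .nil .nil))) (.node 57 ch57 (.node 55 ch55 (.node 54 ch54 .nil .nil) (.node 56 ch56 .nil .nil)) (.node 59 ch59 (.node 58 ch58 .nil .nil) .nil))))) (.node 90 ch90 (.node 75 ch75 (.node 68 ch68 (.node 64 ch64 (.node 62 ch62 (.node 61 ch61 .nil .nil) (.node 63 ch63 .nil .nil)) (.node 66 ch66 (.node 65 ch65 .nil .nil) (.node 67 ch67 .nil .nil))) (.node 72 ch72 (.node 70 ch70 (.node 69 ch69 .nil .nil) (.node 71 ch71 .nil .nil)) (.node 74 ch74 (.node 73 ch73 .nil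 .nil) .nil))) (.node 83 ch83 (.node 79 ch79 (.node 77 ch77 (.node 76 ch76 .nil .nil) (.node 78 ch78 .nil .nil)) (.node 81 ch81 (.node 80 ch80 .nil .nil) (.node 82 ch82 .nil .nil))) (.node 87 ch87 (.node 85 ch85 (.node 84 ch84 .nil .nil) (.node 86 ch86 .nil .nil)) (.node 89 ch89 (.node 88 ch88 .nil .nil) .nil)))) (.node 105 ch105 (.node 98 ch98 (.node 94 ch94 (.node 92 ch92 (.node 91 ch91 .nil .nil) (.node 93 ch93 .nil .nil)) (.node 96 ch96 (.node 95 ch95 .nil .nil) (.node 97 ch97 .nil .nil))) (.node 102 ch102 (.node 100 ch100 (.node 99 ch99 .nil .nil) (.node 101 ch101 .nil .nil)) (.node 104 ch104 (.node 103 ch103 .nil .nil) .nil))) (.node 113 ch113 (.node 109 ch109 (.node 107 ch107 (.node 106 ch106 .nil .nil) (.node 108 ch108 .nil .nil)) (.node 111 ch111 (.node 110 ch110 .nil .nil) (.node 112 ch112 .nil .nil)))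 (.node 117 ch117 (.node 115 ch115 (.node 114 ch114 .nil .nil) (.node 116 ch116 .nil .nil)) (.node 119 ch119 (.node 118 ch118 .nil .nil) .nil)))))) (.node 180 ch180 (.node 150 ch150 (.node 135 ch135 (.node 128 ch128 (.node 124 ch124 (.node 122 ch122 (.node 121 ch121 .nil .nil) (.node 123 ch123 .nil .nil)) (.node 126 ch126 (.node 125 ch125 .nil .nil) (.node 127 ch127 .nil .nil))) (.node 132 ch132 (.node 130 ch130 (.node 129 ch129 .nil .nil) (.node 131 ch131 .nil .nil)) (.node 134 ch134 (.node 133 ch133 .nil .nil) .nil))) (.node 143 ch143 (.node 139 ch139 (.node 137 ch137 (.node 136 ch136 .nil .nil) (.node 138 ch138 .nil .nil)) (.node 141 ch141 (.node 140 ch140 .nil .nil) (.node 142 ch142 .nil .nil))) (.node 147 ch147 (.node 145 ch145 (.node 144 ch144 .nil .nil) (.node 146 ch146 .nil .nil)) (.node 149 ch149 (.node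 148 ch148 .nil .nil) .nil)))) (.node 165 ch165 (.node 158 ch158 (.node 154 ch154 (.node 152 ch152 (.node 151 ch151 .nil .nil) (.node 153 ch153 .nil .nil)) (.node 156 ch156 (.node 155 ch155 .nil .nil) (.node 157 ch157 .nil .nil))) (.node 162 ch162 (.node 160 ch160 (.node 159 ch159 .nil .nil) (.node 161 ch161 .nil .nil)) (.node 164 ch164 (.node 163 ch163 .nil .nil) .nil))) (.node 173 ch173 (.node 169 ch169 (.node 167 ch167 (.node 166 ch166 .nil .nil) (.node 168 ch168 .nil .nil)) (.node 171 ch171 (.node 170 ch170 .nil .nil) (.node 172 ch172 .nil .nil))) (.node 177 ch177 (.node 175 ch175 (.node 174 ch174 .nil .nil) (.node 176 ch176 .nil .nil)) (.node 179 ch179 (.node 178 ch178 .nil .nil) .nil))))) (.node 210 ch210 (.node 195 ch195 (.node 188 ch188 (.node 184 ch184 (.node 182 ch182 (.node 181 ch181 .nil .nil) (.node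 183 ch183 .nil .nil)) (.node 186 ch186 (.node 185 ch185 .nil .nil) (.node 187 ch187 .nil .nil))) (.node 192 ch192 (.node 190 ch190 (.node 189 ch189 .nil .nil) (.node 191 ch191 .nil .nil)) (.node 194 ch194 (.node 193 ch193 .nil .nil) .nil))) (.node 203 ch203 (.node 199 ch199 (.node 197 ch197 (.node 196 ch196 .nil .nil) (.node 198 ch198 .nil .nil)) (.node 201 ch201 (.node 200 ch200 .nil .nil) (.node 202 ch202 .nil .nil))) (.node 207 ch207 (.node 205 ch205 (.node 204 ch204 .nil .nil) (.node 206 ch206 .nil .nil)) (.node 209 ch209 (.node 208 ch208 .nil .nil) .nil)))) (.node 225 ch225 (.node 218 ch218 (.node 214 ch214 (.node 212 ch212 (.node 211 ch211 .nil .nil) (.node 213 ch213 .nil .nil)) (.node 216 ch216 (.node 215 ch215 .nil .nil) (.node 217 ch217 .nil .nil))) (.node 222 ch222 (.node 220 ch220 (.node 219 ch219 .nil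 .nil) (.node 221 ch221 .nil .nil)) (.node 224 ch224 (.node 223 ch223 .nil .nil) .nil))) (.node 233 ch233 (.node 229 ch229 (.node 227 ch227 (.node 226 ch226 .nil .nil) (.node 228 ch228 .nil .nil)) (.node 231 ch231 (.node 230 ch230 .nil .nil) (.node 232 ch232 .nil .nil))) (.node 237 ch237 (.node 235 ch235 (.node 234 ch234 .nil .nil) (.node 236 ch236 .nil .nil)) (.node 239 ch239 (.node 238 ch238 .nil .nil) .nil)))))))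
noncomputable def negT : Tr ℕ := (.node 120 119 (.node 60 179 (.node 30 209 (.node 15 224 (.node 7 232 (.node 3 236 (.node 1 238 (.node 0 239 .nil .nil) (.node 2 237 .nil .nil)) (.node 5 234 (.node 4 235 .nil .nil) (.node 6 233 .nil .nil))) (.node 11 228 (.node 9 230 (.node 8 231 .nil .nil) (.node 10 229 .nil .nil)) (.node 13 226 (.node 12 227 .nil .nil) (.node 14 225 .nil .nil)))) (.node 23 216 (.node 19 220 (.node 17 222 (.node 16 223 .nil .nil) (.node 18 221 .nil .nil)) (.node 21 218 (.node 20 219 .nil .nil) (.node 22 217 .nil .nil))) (.node 27 212 (.node 25 214 (.node 24 215 .nil .nil) (.node 26 213 .nil .nil)) (.node 29 210 (.node 28 211 .nil .nil) .nil)))) (.node 45 194 (.node 38 201 (.node 34 205 (.node 32 207 (.node 31 208 .nil .nil) (.node 33 206 .nil .nil)) (.node 36 203 (.node 35 204 .nil .nil) (.node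 37 202 .nil .nil))) (.node 42 197 (.node 40 199 (.node 39 200 .nil .nil) (.node 41 198 .nil .nil)) (.node 44 195 (.node 43 196 .nil .nil) .nil))) (.node 53 186 (.node 49 190 (.node 47 192 (.node 46 193 .nil .nil) (.node 48 191 .nil .nil)) (.node 51 188 (.node 50 189 .nil .nil) (.node 52 187 .nil .nil))) (.node 57 182 (.node 55 184 (.node 54 185 .nil .nil) (.node 56 183 .nil .nil)) (.node 59 180 (.node 58 181 .nil .nil) .nil))))) (.node 90 149 (.node 75 164 (.node 68 171 (.node 64 175 (.node 62 177 (.node 61 178 .nil .nil) (.node 63 176 .nil .nil)) (.node 66 173 (.node 65 174 .nil .nil) (.node 67 172 .nil .nil))) (.node 72 167 (.node 70 169 (.node 69 170 .nil .nil) (.node 71 168 .nil .nil)) (.node 74 165 (.node 73 166 .nil .nil) .nil))) (.node 83 156 (.node 79 160 (.node 77 162 (.node 76 163 .nil .nil) (.node 78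 161 .nil .nil)) (.node 81 158 (.node 80 159 .nil .nil) (.node 82 157 .nil .nil))) (.node 87 152 (.node 85 154 (.node 84 155 .nil .nil) (.node 86 153 .nil .nil)) (.node 89 150 (.node 88 151 .nil .nil) .nil)))) (.node 105 134 (.node 98 141 (.node 94 145 (.node 92 147 (.node 91 148 .nil .nil) (.node 93 146 .nil .nil)) (.node 96 143 (.node 95 144 .nil .nil) (.node 97 142 .nil .nil))) (.node 102 137 (.node 100 139 (.node 99 140 .nil .nil) (.node 101 138 .nil .nil)) (.node 104 135 (.node 103 136 .nil .nil) .nil))) (.node 113 126 (.node 109 130 (.node 107 132 (.node 106 133 .nil .nil) (.node 108 131 .nil .nil)) (.node 111 128 (.node 110 129 .nil .nil) (.node 112 127 .nil .nil))) (.node 117 122 (.node 115 124 (.node 114 125 .nil .nil) (.node 116 123 .nil .nil)) (.node 119 120 (.node 118 121 .nil .nil) .nil)))))) (.node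 180 59 (.node 150 89 (.node 135 104 (.node 128 111 (.node 124 115 (.node 122 117 (.node 121 118 .nil .nil) (.node 123 116 .nil .nil)) (.node 126 113 (.node 125 114 .nil .nil) (.node 127 112 .nil .nil))) (.node 132 107 (.node 130 109 (.node 129 110 .nil .nil) (.node 131 108 .nil .nil)) (.node 134 105 (.node 133 106 .nil .nil) .nil))) (.node 143 96 (.node 139 100 (.node 137 102 (.node 136 103 .nil .nil) (.node 138 101 .nil .nil)) (.node 141 98 (.node 140 99 .nil .nil) (.node 142 97 .nil .nil))) (.node 147 92 (.node 145 94 (.node 144 95 .nil .nil) (.node 146 93 .nil .nil)) (.node 149 90 (.node 148 91 .nil .nil) .nil)))) (.node 165 74 (.node 158 81 (.node 154 85 (.node 152 87 (.node 151 88 .nil .nil) (.node 153 86 .nil .nil)) (.node 156 83 (.node 155 84 .nil .nil) (.node 157 82 .nil .nil))) (.node 162 77 (.node 160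 79 (.node 159 80 .nil .nil) (.node 161 78 .nil .nil)) (.node 164 75 (.node 163 76 .nil .nil) .nil))) (.node 173 66 (.node 169 70 (.node 167 72 (.node 166 73 .nil .nil) (.node 168 71 .nil .nil)) (.node 171 68 (.node 170 69 .nil .nil) (.node 172 67 .nil .nil))) (.node 177 62 (.node 175 64 (.node 174 65 .nil .nil) (.node 176 63 .nil .nil)) (.node 179 60 (.node 178 61 .nil .nil) .nil))))) (.node 210 29 (.node 195 44 (.node 188 51 (.node 184 55 (.node 182 57 (.node 181 58 .nil .nil) (.node 183 56 .nil .nil)) (.node 186 53 (.node 185 54 .nil .nil) (.node 187 52 .nil .nil))) (.node 192 47 (.node 190 49 (.node 189 50 .nil .nil) (.node 191 48 .nil .nil)) (.node 194 45 (.node 193 46 .nil .nil) .nil))) (.node 203 36 (.node 199 40 (.node 197 42 (.node 196 43 .nil .nil) (.node 198 41 .nil .nil)) (.node 201 38 (.node 200 39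 .nil .nil) (.node 202 37 .nil .nil))) (.node 207 32 (.node 205 34 (.node 204 35 .nil .nil) (.node 206 33 .nil .nil)) (.node 209 30 (.node 208 31 .nil .nil) .nil)))) (.node 225 14 (.node 218 21 (.node 214 25 (.node 212 27 (.node 211 28 .nil .nil) (.node 213 26 .nil .nil)) (.node 216 23 (.node 215 24 .nil .nil) (.node 217 22 .nil .nil))) (.node 222 17 (.node 220 19 (.node 219 20 .nil .nil) (.node 221 18 .nil .nil)) (.node 224 15 (.node 223 16 .nil .nil) .nil))) (.node 233 6 (.node 229 10 (.node 227 12 (.node 226 13 .nil .nil) (.node 228 11 .nil .nil)) (.node 231 8 (.node 230 9 .nil .nil) (.node 232 7 .nil .nil))) (.node 237 2 (.node 235 4 (.node 234 5 .nil .nil) (.node 236 3 .nil .nil)) (.node 239 0 (.node 238 1 .nil .nil) .nil)))))))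
noncomputable def nc0 : Tr Vc := (.node 124 [⟨124,(Int.ofNat 1),0,0⟩] (.node 62 [⟨62,(Int.ofNat 1),0,0⟩] (.node 31 [⟨31,(Int.ofNat 1),0,0⟩] (.node 15 [⟨15,(Int.ofNat 1),0,0⟩] (.node 7 [⟨7,(Int.ofNat 1),0,0⟩] (.node 3 [⟨3,(Int.ofNat 1),0,0⟩] (.node 1 [⟨1,(Int.ofNat 1),0,0⟩] (.node 0 [⟨0,(Int.negSucc 0),0,0⟩] .nil .nil) (.node 2 [⟨0,(Int.ofNat 1),0,0⟩, ⟨2,(Int.ofNat 1),0,0⟩] .nil .nil)) (.node 5 [⟨5,(Int.ofNat 1),0,0⟩] (.node 4 [⟨4,(Int.ofNat 1),0,0⟩] .nil .nil) (.node 6 [⟨6,(Int.ofNat 1),0,0⟩] .nil .nil))) (.node 11 [⟨11,(Int.ofNat 1),0,0⟩] (.node 9 [⟨9,(Int.ofNat 1),0,0⟩] (.node 8 [⟨8,(Int.ofNat 1),0,0⟩] .nil .nil) (.node 10 [⟨10,(Int.ofNat 1),0,0⟩] .nil .nil)) (.node 13 [⟨13,(Int.ofNat 1),0,0⟩] (.node 12 [⟨12,(Int.ofNat 1),0,0⟩] .nil .nil) (.node 14 [⟨22,(Int.negSucc 0),0,0⟩] .nil .nil)))) (.node 23 [⟨16,(Int.ofNat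 1),0,0⟩] (.node 19 [⟨26,(Int.negSucc 0),0,0⟩] (.node 17 [⟨24,(Int.negSucc 0),0,0⟩] (.node 16 [⟨23,(Int.negSucc 0),0,0⟩] .nil .nil) (.node 18 [⟨25,(Int.negSucc 0),0,0⟩] .nil .nil)) (.node 21 [⟨28,(Int.negSucc 0),0,0⟩] (.node 20 [⟨27,(Int.negSucc 0),0,0⟩] .nil .nil) (.node 22 [⟨14,(Int.ofNat 1),0,0⟩] .nil .nil))) (.node 27 [⟨20,(Int.ofNat 1),0,0⟩] (.node 25 [⟨18,(Int.ofNat 1),0,0⟩] (.node 24 [⟨17,(Int.ofNat 1),0,0⟩] .nil .nil) (.node 26 [⟨19,(Int.ofNat 1),0,0⟩] .nil .nil)) (.node 29 [⟨29,(Int.ofNat 1),0,0⟩] (.node 28 [⟨21,(Int.ofNat 1),0,0⟩] .nil .nil) (.node 30 [⟨30,(Int.ofNat 1),0,0⟩] .nil .nil))))) (.node 47 [⟨47,(Int.ofNat 1),0,0⟩] (.node 39 [⟨39,(Int.ofNat 1),0,0⟩] (.node 35 [⟨35,(Int.ofNat 1),0,0⟩] (.node 33 [⟨33,(Int.ofNat 1),0,0⟩] (.node 32 [⟨32,(Int.ofNat 1),0,0⟩] .nil .nil) (.node 34 [⟨34,(Int.ofNat 1),0,0⟩]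 .nil .nil)) (.node 37 [⟨37,(Int.ofNat 1),0,0⟩] (.node 36 [⟨36,(Int.ofNat 1),0,0⟩] .nil .nil) (.node 38 [⟨38,(Int.ofNat 1),0,0⟩] .nil .nil))) (.node 43 [⟨43,(Int.ofNat 1),0,0⟩] (.node 41 [⟨41,(Int.ofNat 1),0,0⟩] (.node 40 [⟨40,(Int.ofNat 1),0,0⟩] .nil .nil) (.node 42 [⟨42,(Int.ofNat 1),0,0⟩] .nil .nil)) (.node 45 [⟨45,(Int.ofNat 1),0,0⟩] (.node 44 [⟨44,(Int.ofNat 1),0,0⟩] .nil .nil) (.node 46 [⟨46,(Int.ofNat 1),0,0⟩] .nil .nil)))) (.node 55 [⟨55,(Int.ofNat 1),0,0⟩] (.node 51 [⟨51,(Int.ofNat 1),0,0⟩] (.node 49 [⟨49,(Int.ofNat 1),0,0⟩] (.node 48 [⟨48,(Int.ofNat 1),0,0⟩] .nil .nil) (.node 50 [⟨50,(Int.ofNat 1),0,0⟩] .nil .nil)) (.node 53 [⟨53,(Int.ofNat 1),0,0⟩] (.node 52 [⟨52,(Int.ofNat 1),0,0⟩] .nil .nil) (.node 54 [⟨54,(Int.ofNat 1),0,0⟩] .nil .nil))) (.node 59 [⟨59,(Int.ofNat 1),0,0⟩] (.node 57 [⟨57,(Int.ofNat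 1),0,0⟩] (.node 56 [⟨56,(Int.ofNat 1),0,0⟩] .nil .nil) (.node 58 [⟨58,(Int.ofNat 1),0,0⟩] .nil .nil)) (.node 61 [⟨61,(Int.ofNat 1),0,0⟩] (.node 60 [⟨60,(Int.ofNat 1),0,0⟩] .nil .nil) .nil))))) (.node 93 [⟨71,(Int.negSucc 0),0,0⟩] (.node 78 [⟨100,(Int.ofNat 1),0,0⟩] (.node 70 [⟨92,(Int.ofNat 1),0,0⟩] (.node 66 [⟨88,(Int.ofNat 1),0,0⟩] (.node 64 [⟨86,(Int.ofNat 1),0,0⟩] (.node 63 [⟨63,(Int.ofNat 1),0,0⟩] .nil .nil) (.node 65 [⟨87,(Int.ofNat 1),0,0⟩] .nil .nil)) (.node 68 [⟨90,(Int.ofNat 1),0,0⟩] (.node 67 [⟨89,(Int.ofNat 1),0,0⟩] .nil .nil) (.node 69 [⟨91,(Int.ofNat 1),0,0⟩] .nil .nil))) (.node 74 [⟨96,(Int.ofNat 1),0,0⟩] (.node 72 [⟨94,(Int.ofNat 1),0,0⟩] (.node 71 [⟨93,(Int.ofNat 1),0,0⟩] .nil .nil) (.node 73 [⟨95,(Int.ofNat 1),0,0⟩] .nil .nil)) (.node 76 [⟨98,(Int.ofNat 1),0,0⟩] (.node 75 [⟨97,(Int.ofNat 1),0,0⟩]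 .nil .nil) (.node 77 [⟨99,(Int.ofNat 1),0,0⟩] .nil .nil)))) (.node 86 [⟨64,(Int.negSucc 0),0,0⟩] (.node 82 [⟨110,(Int.ofNat 1),0,0⟩] (.node 80 [⟨108,(Int.ofNat 1),0,0⟩] (.node 79 [⟨107,(Int.ofNat 1),0,0⟩] .nil .nil) (.node 81 [⟨109,(Int.ofNat 1),0,0⟩] .nil .nil)) (.node 84 [⟨112,(Int.ofNat 1),0,0⟩] (.node 83 [⟨111,(Int.ofNat 1),0,0⟩] .nil .nil) (.node 85 [⟨170,(Int.negSucc 0),0,0⟩] .nil .nil))) (.node 90 [⟨68,(Int.negSucc 0),0,0⟩] (.node 88 [⟨66,(Int.negSucc 0),0,0⟩] (.node 87 [⟨65,(Int.negSucc 0),0,0⟩] .nil .nil) (.node 89 [⟨67,(Int.negSucc 0),0,0⟩] .nil .nil)) (.node 92 [⟨70,(Int.negSucc 0),0,0⟩] (.node 91 [⟨69,(Int.negSucc 0),0,0⟩] .nil .nil) .nil)))) (.node 109 [⟨81,(Int.negSucc 0),0,0⟩] (.node 101 [⟨101,(Int.ofNat 1),0,0⟩] (.node 97 [⟨75,(Int.negSucc 0),0,0⟩] (.node 95 [⟨73,(Int.negSucc 0),0,0⟩] (.node 94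 [⟨72,(Int.negSucc 0),0,0⟩] .nil .nil) (.node 96 [⟨74,(Int.negSucc 0),0,0⟩] .nil .nil)) (.node 99 [⟨77,(Int.negSucc 0),0,0⟩] (.node 98 [⟨76,(Int.negSucc 0),0,0⟩] .nil .nil) (.node 100 [⟨78,(Int.negSucc 0),0,0⟩] .nil .nil))) (.node 105 [⟨105,(Int.ofNat 1),0,0⟩] (.node 103 [⟨103,(Int.ofNat 1),0,0⟩] (.node 102 [⟨102,(Int.ofNat 1),0,0⟩] .nil .nil) (.node 104 [⟨104,(Int.ofNat 1),0,0⟩] .nil .nil)) (.node 107 [⟨79,(Int.negSucc 0),0,0⟩] (.node 106 [⟨106,(Int.ofNat 1),0,0⟩] .nil .nil) (.node 108 [⟨80,(Int.negSucc 0),0,0⟩] .nil .nil)))) (.node 117 [⟨117,(Int.ofNat 1),0,0⟩] (.node 113 [⟨113,(Int.ofNat 1),0,0⟩] (.node 111 [⟨83,(Int.negSucc 0),0,0⟩] (.node 110 [⟨82,(Int.negSucc 0),0,0⟩] .nil .nil) (.node 112 [⟨84,(Int.negSucc 0),0,0⟩] .nil .nil)) (.node 115 [⟨115,(Int.ofNat 1),0,0⟩] (.node 114 [⟨114,(Int.ofNat 1),0,0⟩] .nil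 .nil) (.node 116 [⟨116,(Int.ofNat 1),0,0⟩] .nil .nil))) (.node 121 [⟨121,(Int.ofNat 1),0,0⟩] (.node 119 [⟨119,(Int.ofNat 1),0,0⟩] (.node 118 [⟨118,(Int.ofNat 1),0,0⟩] .nil .nil) (.node 120 [⟨120,(Int.ofNat 1),0,0⟩] .nil .nil)) (.node 123 [⟨123,(Int.ofNat 1),0,0⟩] (.node 122 [⟨122,(Int.ofNat 1),0,0⟩] .nil .nil) .nil)))))) (.node 186 [⟨164,(Int.ofNat 1),0,0⟩] (.node 155 [⟨177,(Int.negSucc 0),0,0⟩] (.node 140 [⟨140,(Int.ofNat 1),0,0⟩] (.node 132 [⟨132,(Int.ofNat 1),0,0⟩] (.node 128 [⟨128,(Int.ofNat 1),0,0⟩] (.node 126 [⟨126,(Int.ofNat 1),0,0⟩] (.node 125 [⟨125,(Int.ofNat 1),0,0⟩] .nil .nil) (.node 127 [⟨127,(Int.ofNat 1),0,0⟩] .nil .nil)) (.node 130 [⟨130,(Int.ofNat 1),0,0⟩] (.node 129 [⟨129,(Int.ofNat 1),0,0⟩] .nil .nil) (.node 131 [⟨131,(Int.ofNat 1),0,0⟩] .nil .nil))) (.node 136 [⟨136,(Int.ofNat 1),0,0⟩] (.node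 134 [⟨134,(Int.ofNat 1),0,0⟩] (.node 133 [⟨133,(Int.ofNat 1),0,0⟩] .nil .nil) (.node 135 [⟨135,(Int.ofNat 1),0,0⟩] .nil .nil)) (.node 138 [⟨138,(Int.ofNat 1),0,0⟩] (.node 137 [⟨137,(Int.ofNat 1),0,0⟩] .nil .nil) (.node 139 [⟨139,(Int.ofNat 1),0,0⟩] .nil .nil)))) (.node 148 [⟨176,(Int.negSucc 0),0,0⟩] (.node 144 [⟨172,(Int.negSucc 0),0,0⟩] (.node 142 [⟨142,(Int.ofNat 1),0,0⟩] (.node 141 [⟨141,(Int.ofNat 1),0,0⟩] .nil .nil) (.node 143 [⟨171,(Int.negSucc 0),0,0⟩] .nil .nil)) (.node 146 [⟨174,(Int.negSucc 0),0,0⟩] (.node 145 [⟨173,(Int.negSucc 0),0,0⟩] .nil .nil) (.node 147 [⟨175,(Int.negSucc 0),0,0⟩] .nil .nil))) (.node 152 [⟨152,(Int.ofNat 1),0,0⟩] (.node 150 [⟨150,(Int.ofNat 1),0,0⟩] (.node 149 [⟨149,(Int.ofNat 1),0,0⟩] .nil .nil) (.node 151 [⟨151,(Int.ofNat 1),0,0⟩] .nil .nil)) (.node 154 [⟨154,(Int.ofNat 1),0,0⟩]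 (.node 153 [⟨153,(Int.ofNat 1),0,0⟩] .nil .nil) .nil)))) (.node 171 [⟨143,(Int.ofNat 1),0,0⟩] (.node 163 [⟨185,(Int.negSucc 0),0,0⟩] (.node 159 [⟨181,(Int.negSucc 0),0,0⟩] (.node 157 [⟨179,(Int.negSucc 0),0,0⟩] (.node 156 [⟨178,(Int.negSucc 0),0,0⟩] .nil .nil) (.node 158 [⟨180,(Int.negSucc 0),0,0⟩] .nil .nil)) (.node 161 [⟨183,(Int.negSucc 0),0,0⟩] (.node 160 [⟨182,(Int.negSucc 0),0,0⟩] .nil .nil) (.node 162 [⟨184,(Int.negSucc 0),0,0⟩] .nil .nil))) (.node 167 [⟨189,(Int.negSucc 0),0,0⟩] (.node 165 [⟨187,(Int.negSucc 0),0,0⟩] (.node 164 [⟨186,(Int.negSucc 0),0,0⟩] .nil .nil) (.node 166 [⟨188,(Int.negSucc 0),0,0⟩] .nil .nil)) (.node 169 [⟨191,(Int.negSucc 0),0,0⟩] (.node 168 [⟨190,(Int.negSucc 0),0,0⟩] .nil .nil) (.node 170 [⟨85,(Int.negSucc 0),0,0⟩] .nil .nil)))) (.node 179 [⟨157,(Int.ofNat 1),0,0⟩] (.node 175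 [⟨147,(Int.ofNat 1),0,0⟩] (.node 173 [⟨145,(Int.ofNat 1),0,0⟩] (.node 172 [⟨144,(Int.ofNat 1),0,0⟩] .nil .nil) (.node 174 [⟨146,(Int.ofNat 1),0,0⟩] .nil .nil)) (.node 177 [⟨155,(Int.ofNat 1),0,0⟩] (.node 176 [⟨148,(Int.ofNat 1),0,0⟩] .nil .nil) (.node 178 [⟨156,(Int.ofNat 1),0,0⟩] .nil .nil))) (.node 183 [⟨161,(Int.ofNat 1),0,0⟩] (.node 181 [⟨159,(Int.ofNat 1),0,0⟩] (.node 180 [⟨158,(Int.ofNat 1),0,0⟩] .nil .nil) (.node 182 [⟨160,(Int.ofNat 1),0,0⟩] .nil .nil)) (.node 185 [⟨163,(Int.ofNat 1),0,0⟩] (.node 184 [⟨162,(Int.ofNat 1),0,0⟩] .nil .nil) .nil))))) (.node 217 [⟨217,(Int.ofNat 1),0,0⟩] (.node 202 [⟨202,(Int.ofNat 1),0,0⟩] (.node 194 [⟨194,(Int.ofNat 1),0,0⟩] (.node 190 [⟨168,(Int.ofNat 1),0,0⟩] (.node 188 [⟨166,(Int.ofNat 1),0,0⟩] (.node 187 [⟨165,(Int.ofNat 1),0,0⟩] .nil .nil) (.node 189 [⟨167,(Int.ofNat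 1),0,0⟩] .nil .nil)) (.node 192 [⟨192,(Int.ofNat 1),0,0⟩] (.node 191 [⟨169,(Int.ofNat 1),0,0⟩] .nil .nil) (.node 193 [⟨193,(Int.ofNat 1),0,0⟩] .nil .nil))) (.node 198 [⟨198,(Int.ofNat 1),0,0⟩] (.node 196 [⟨196,(Int.ofNat 1),0,0⟩] (.node 195 [⟨195,(Int.ofNat 1),0,0⟩] .nil .nil) (.node 197 [⟨197,(Int.ofNat 1),0,0⟩] .nil .nil)) (.node 200 [⟨200,(Int.ofNat 1),0,0⟩] (.node 199 [⟨199,(Int.ofNat 1),0,0⟩] .nil .nil) (.node 201 [⟨201,(Int.ofNat 1),0,0⟩] .nil .nil)))) (.node 210 [⟨210,(Int.ofNat 1),0,0⟩] (.node 206 [⟨206,(Int.ofNat 1),0,0⟩] (.node 204 [⟨204,(Int.ofNat 1),0,0⟩] (.node 203 [⟨203,(Int.ofNat 1),0,0⟩] .nil .nil) (.node 205 [⟨205,(Int.ofNat 1),0,0⟩] .nil .nil)) (.node 208 [⟨208,(Int.ofNat 1),0,0⟩] (.node 207 [⟨207,(Int.ofNat 1),0,0⟩] .nil .nil) (.node 209 [⟨209,(Int.ofNat 1),0,0⟩] .nil .nil))) (.node 214 [⟨214,(Int.ofNat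 1),0,0⟩] (.node 212 [⟨212,(Int.ofNat 1),0,0⟩] (.node 211 [⟨211,(Int.ofNat 1),0,0⟩] .nil .nil) (.node 213 [⟨213,(Int.ofNat 1),0,0⟩] .nil .nil)) (.node 216 [⟨216,(Int.ofNat 1),0,0⟩] (.node 215 [⟨215,(Int.ofNat 1),0,0⟩] .nil .nil) .nil)))) (.node 233 [⟨241,(Int.ofNat 1),0,0⟩] (.node 225 [⟨225,(Int.ofNat 1),0,0⟩] (.node 221 [⟨221,(Int.ofNat 1),0,0⟩] (.node 219 [⟨219,(Int.ofNat 1),0,0⟩] (.node 218 [⟨218,(Int.ofNat 1),0,0⟩] .nil .nil) (.node 220 [⟨220,(Int.ofNat 1),0,0⟩] .nil .nil)) (.node 223 [⟨223,(Int.ofNat 1),0,0⟩] (.node 222 [⟨222,(Int.ofNat 1),0,0⟩] .nil .nil) (.node 224 [⟨224,(Int.ofNat 1),0,0⟩] .nil .nil))) (.node 229 [⟨236,(Int.ofNat 1),0,0⟩] (.node 227 [⟨234,(Int.ofNat 1),0,0⟩] (.node 226 [⟨226,(Int.ofNat 1),0,0⟩] .nil .nil) (.node 228 [⟨235,(Int.ofNat 1),0,0⟩] .nil .nil)) (.node 231 [⟨238,(Int.ofNat 1),0,0⟩]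 (.node 230 [⟨237,(Int.ofNat 1),0,0⟩] .nil .nil) (.node 232 [⟨239,(Int.ofNat 1),0,0⟩] .nil .nil)))) (.node 241 [⟨233,(Int.negSucc 0),0,0⟩] (.node 237 [⟨230,(Int.negSucc 0),0,0⟩] (.node 235 [⟨228,(Int.negSucc 0),0,0⟩] (.node 234 [⟨227,(Int.negSucc 0),0,0⟩] .nil .nil) (.node 236 [⟨229,(Int.negSucc 0),0,0⟩] .nil .nil)) (.node 239 [⟨232,(Int.negSucc 0),0,0⟩] (.node 238 [⟨231,(Int.negSucc 0),0,0⟩] .nil .nil) (.node 240 [⟨240,(Int.ofNat 1),0,0⟩] .nil .nil))) (.node 245 [⟨245,(Int.ofNat 1),0,0⟩] (.node 243 [⟨243,(Int.ofNat 1),0,0⟩] (.node 242 [⟨242,(Int.ofNat 1),0,0⟩] .nil .nil) (.node 244 [⟨244,(Int.ofNat 1),0,0⟩] .nil .nil)) (.node 247 [⟨247,(Int.ofNat 1),0,0⟩] (.node 246 [⟨246,(Int.ofNat 1),0,0⟩] .nil .nil) .nil)))))))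
noncomputable def nc1 : Tr Vc := (.node 124 [⟨124,(Int.ofNat 1),0,0⟩] (.node 62 [⟨62,(Int.ofNat 1),0,0⟩] (.node 31 [⟨31,(Int.ofNat 1),0,0⟩] (.node 15 [⟨13,(Int.ofNat 1),0,0⟩] (.node 7 [⟨7,(Int.ofNat 1),0,0⟩] (.node 3 [⟨1,(Int.ofNat 1),0,0⟩, ⟨3,(Int.ofNat 1),0,0⟩] (.node 1 [⟨1,(Int.negSucc 0),0,0⟩] (.node 0 [⟨0,(Int.ofNat 1),0,0⟩] .nil .nil) (.node 2 [⟨2,(Int.ofNat 1),0,0⟩] .nil .nil)) (.node 5 [⟨5,(Int.ofNat 1),0,0⟩] (.node 4 [⟨4,(Int.ofNat 1),0,0⟩] .nil .nil) (.node 6 [⟨6,(Int.ofNat 1),0,0⟩] .nil .nil))) (.node 11 [⟨11,(Int.ofNat 1),0,0⟩] (.node 9 [⟨9,(Int.ofNat 1),0,0⟩] (.node 8 [⟨8,(Int.ofNat 1),0,0⟩] .nil .nil) (.node 10 [⟨10,(Int.ofNat 1),0,0⟩] .nil .nil)) (.node 13 [⟨15,(Int.negSucc 0),0,0⟩] (.node 12 [⟨12,(Int.ofNat 1),0,0⟩] .nil .nil) (.node 14 [⟨16,(Int.negSucc 0),0,0⟩] .nil .nil)))) (.node 23 [⟨22,(Int.ofNat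 1),0,0⟩] (.node 19 [⟨19,(Int.ofNat 1),0,0⟩] (.node 17 [⟨17,(Int.ofNat 1),0,0⟩] (.node 16 [⟨14,(Int.ofNat 1),0,0⟩] .nil .nil) (.node 18 [⟨18,(Int.ofNat 1),0,0⟩] .nil .nil)) (.node 21 [⟨21,(Int.ofNat 1),0,0⟩] (.node 20 [⟨20,(Int.ofNat 1),0,0⟩] .nil .nil) (.node 22 [⟨23,(Int.negSucc 0),0,0⟩] .nil .nil))) (.node 27 [⟨27,(Int.ofNat 1),0,0⟩] (.node 25 [⟨25,(Int.ofNat 1),0,0⟩] (.node 24 [⟨24,(Int.ofNat 1),0,0⟩] .nil .nil) (.node 26 [⟨26,(Int.ofNat 1),0,0⟩] .nil .nil)) (.node 29 [⟨29,(Int.ofNat 1),0,0⟩] (.node 28 [⟨28,(Int.ofNat 1),0,0⟩] .nil .nil) (.node 30 [⟨30,(Int.ofNat 1),0,0⟩] .nil .nil))))) (.node 47 [⟨37,(Int.ofNat 1),0,0⟩] (.node 39 [⟨49,(Int.negSucc 0),0,0⟩] (.node 35 [⟨45,(Int.negSucc 0),0,0⟩] (.node 33 [⟨33,(Int.ofNat 1),0,0⟩] (.node 32 [⟨32,(Int.ofNat 1),0,0⟩] .nil .nil) (.node 34 [⟨44,(Int.negSucc 0),0,0⟩]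 .nil .nil)) (.node 37 [⟨47,(Int.negSucc 0),0,0⟩] (.node 36 [⟨46,(Int.negSucc 0),0,0⟩] .nil .nil) (.node 38 [⟨48,(Int.negSucc 0),0,0⟩] .nil .nil))) (.node 43 [⟨53,(Int.negSucc 0),0,0⟩] (.node 41 [⟨51,(Int.negSucc 0),0,0⟩] (.node 40 [⟨50,(Int.negSucc 0),0,0⟩] .nil .nil) (.node 42 [⟨52,(Int.negSucc 0),0,0⟩] .nil .nil)) (.node 45 [⟨35,(Int.ofNat 1),0,0⟩] (.node 44 [⟨34,(Int.ofNat 1),0,0⟩] .nil .nil) (.node 46 [⟨36,(Int.ofNat 1),0,0⟩] .nil .nil)))) (.node 55 [⟨55,(Int.ofNat 1),0,0⟩] (.node 51 [⟨41,(Int.ofNat 1),0,0⟩] (.node 49 [⟨39,(Int.ofNat 1),0,0⟩] (.node 48 [⟨38,(Int.ofNat 1),0,0⟩] .nil .nil) (.node 50 [⟨40,(Int.ofNat 1),0,0⟩] .nil .nil)) (.node 53 [⟨43,(Int.ofNat 1),0,0⟩] (.node 52 [⟨42,(Int.ofNat 1),0,0⟩] .nil .nil) (.node 54 [⟨54,(Int.ofNat 1),0,0⟩] .nil .nil))) (.node 59 [⟨59,(Int.ofNat 1),0,0⟩] (.node 57 [⟨57,(Int.ofNat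 1),0,0⟩] (.node 56 [⟨56,(Int.ofNat 1),0,0⟩] .nil .nil) (.node 58 [⟨58,(Int.ofNat 1),0,0⟩] .nil .nil)) (.node 61 [⟨61,(Int.ofNat 1),0,0⟩] (.node 60 [⟨60,(Int.ofNat 1),0,0⟩] .nil .nil) .nil))))) (.node 93 [⟨93,(Int.ofNat 1),0,0⟩] (.node 78 [⟨83,(Int.negSucc 0),0,0⟩] (.node 70 [⟨70,(Int.ofNat 1),0,0⟩] (.node 66 [⟨66,(Int.ofNat 1),0,0⟩] (.node 64 [⟨64,(Int.ofNat 1),0,0⟩] (.node 63 [⟨63,(Int.ofNat 1),0,0⟩] .nil .nil) (.node 65 [⟨65,(Int.ofNat 1),0,0⟩] .nil .nil)) (.node 68 [⟨68,(Int.ofNat 1),0,0⟩] (.node 67 [⟨67,(Int.ofNat 1),0,0⟩] .nil .nil) (.node 69 [⟨69,(Int.ofNat 1),0,0⟩] .nil .nil))) (.node 74 [⟨79,(Int.negSucc 0),0,0⟩] (.node 72 [⟨72,(Int.ofNat 1),0,0⟩] (.node 71 [⟨71,(Int.ofNat 1),0,0⟩] .nil .nil) (.node 73 [⟨73,(Int.ofNat 1),0,0⟩] .nil .nil)) (.node 76 [⟨81,(Int.negSucc 0),0,0⟩] (.node 75 [⟨80,(Int.negSucc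 0),0,0⟩] .nil .nil) (.node 77 [⟨82,(Int.negSucc 0),0,0⟩] .nil .nil)))) (.node 86 [⟨86,(Int.ofNat 1),0,0⟩] (.node 82 [⟨77,(Int.ofNat 1),0,0⟩] (.node 80 [⟨75,(Int.ofNat 1),0,0⟩] (.node 79 [⟨74,(Int.ofNat 1),0,0⟩] .nil .nil) (.node 81 [⟨76,(Int.ofNat 1),0,0⟩] .nil .nil)) (.node 84 [⟨84,(Int.ofNat 1),0,0⟩] (.node 83 [⟨78,(Int.ofNat 1),0,0⟩] .nil .nil) (.node 85 [⟨85,(Int.ofNat 1),0,0⟩] .nil .nil))) (.node 90 [⟨90,(Int.ofNat 1),0,0⟩] (.node 88 [⟨88,(Int.ofNat 1),0,0⟩] (.node 87 [⟨87,(Int.ofNat 1),0,0⟩] .nil .nil) (.node 89 [⟨89,(Int.ofNat 1),0,0⟩] .nil .nil)) (.node 92 [⟨92,(Int.ofNat 1),0,0⟩] (.node 91 [⟨91,(Int.ofNat 1),0,0⟩] .nil .nil) .nil)))) (.node 109 [⟨98,(Int.ofNat 1),0,0⟩] (.node 101 [⟨113,(Int.ofNat 1),0,0⟩] (.node 97 [⟨108,(Int.negSucc 0),0,0⟩] (.node 95 [⟨95,(Int.ofNat 1),0,0⟩] (.node 94 [⟨94,(Int.ofNat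 1),0,0⟩] .nil .nil) (.node 96 [⟨107,(Int.negSucc 0),0,0⟩] .nil .nil)) (.node 99 [⟨110,(Int.negSucc 0),0,0⟩] (.node 98 [⟨109,(Int.negSucc 0),0,0⟩] .nil .nil) (.node 100 [⟨111,(Int.negSucc 0),0,0⟩] .nil .nil))) (.node 105 [⟨117,(Int.ofNat 1),0,0⟩] (.node 103 [⟨115,(Int.ofNat 1),0,0⟩] (.node 102 [⟨114,(Int.ofNat 1),0,0⟩] .nil .nil) (.node 104 [⟨116,(Int.ofNat 1),0,0⟩] .nil .nil)) (.node 107 [⟨96,(Int.ofNat 1),0,0⟩] (.node 106 [⟨149,(Int.negSucc 0),0,0⟩] .nil .nil) (.node 108 [⟨97,(Int.ofNat 1),0,0⟩] .nil .nil)))) (.node 117 [⟨105,(Int.negSucc 0),0,0⟩] (.node 113 [⟨101,(Int.negSucc 0),0,0⟩] (.node 111 [⟨100,(Int.ofNat 1),0,0⟩] (.node 110 [⟨99,(Int.ofNat 1),0,0⟩] .nil .nil) (.node 112 [⟨112,(Int.ofNat 1),0,0⟩] .nil .nil)) (.node 115 [⟨103,(Int.negSucc 0),0,0⟩] (.node 114 [⟨102,(Int.negSucc 0),0,0⟩] .nil .nil) (.node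 116 [⟨104,(Int.negSucc 0),0,0⟩] .nil .nil))) (.node 121 [⟨121,(Int.ofNat 1),0,0⟩] (.node 119 [⟨119,(Int.ofNat 1),0,0⟩] (.node 118 [⟨118,(Int.ofNat 1),0,0⟩] .nil .nil) (.node 120 [⟨120,(Int.ofNat 1),0,0⟩] .nil .nil)) (.node 123 [⟨123,(Int.ofNat 1),0,0⟩] (.node 122 [⟨122,(Int.ofNat 1),0,0⟩] .nil .nil) .nil)))))) (.node 186 [⟨186,(Int.ofNat 1),0,0⟩] (.node 155 [⟨144,(Int.negSucc 0),0,0⟩] (.node 140 [⟨152,(Int.negSucc 0),0,0⟩] (.node 132 [⟨132,(Int.ofNat 1),0,0⟩] (.node 128 [⟨128,(Int.ofNat 1),0,0⟩] (.node 126 [⟨126,(Int.ofNat 1),0,0⟩] (.node 125 [⟨125,(Int.ofNat 1),0,0⟩] .nil .nil) (.node 127 [⟨127,(Int.ofNat 1),0,0⟩] .nil .nil)) (.node 130 [⟨130,(Int.ofNat 1),0,0⟩] (.node 129 [⟨129,(Int.ofNat 1),0,0⟩] .nil .nil) (.node 131 [⟨131,(Int.ofNat 1),0,0⟩] .nil .nil))) (.node 136 [⟨136,(Int.ofNat 1),0,0⟩] (.node 134 [⟨134,(Int.ofNat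 1),0,0⟩] (.node 133 [⟨133,(Int.ofNat 1),0,0⟩] .nil .nil) (.node 135 [⟨135,(Int.ofNat 1),0,0⟩] .nil .nil)) (.node 138 [⟨150,(Int.negSucc 0),0,0⟩] (.node 137 [⟨137,(Int.ofNat 1),0,0⟩] .nil .nil) (.node 139 [⟨151,(Int.negSucc 0),0,0⟩] .nil .nil)))) (.node 148 [⟨159,(Int.ofNat 1),0,0⟩] (.node 144 [⟨155,(Int.ofNat 1),0,0⟩] (.node 142 [⟨154,(Int.negSucc 0),0,0⟩] (.node 141 [⟨153,(Int.negSucc 0),0,0⟩] .nil .nil) (.node 143 [⟨143,(Int.ofNat 1),0,0⟩] .nil .nil)) (.node 146 [⟨157,(Int.ofNat 1),0,0⟩] (.node 145 [⟨156,(Int.ofNat 1),0,0⟩] .nil .nil) (.node 147 [⟨158,(Int.ofNat 1),0,0⟩] .nil .nil))) (.node 152 [⟨140,(Int.ofNat 1),0,0⟩] (.node 150 [⟨138,(Int.ofNat 1),0,0⟩] (.node 149 [⟨106,(Int.negSucc 0),0,0⟩] .nil .nil) (.node 151 [⟨139,(Int.ofNat 1),0,0⟩] .nil .nil)) (.node 154 [⟨142,(Int.ofNat 1),0,0⟩] (.node 153 [⟨141,(Int.ofNat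 1),0,0⟩] .nil .nil) .nil)))) (.node 171 [⟨171,(Int.ofNat 1),0,0⟩] (.node 163 [⟨163,(Int.ofNat 1),0,0⟩] (.node 159 [⟨148,(Int.negSucc 0),0,0⟩] (.node 157 [⟨146,(Int.negSucc 0),0,0⟩] (.node 156 [⟨145,(Int.negSucc 0),0,0⟩] .nil .nil) (.node 158 [⟨147,(Int.negSucc 0),0,0⟩] .nil .nil)) (.node 161 [⟨161,(Int.ofNat 1),0,0⟩] (.node 160 [⟨160,(Int.ofNat 1),0,0⟩] .nil .nil) (.node 162 [⟨162,(Int.ofNat 1),0,0⟩] .nil .nil))) (.node 167 [⟨167,(Int.ofNat 1),0,0⟩] (.node 165 [⟨165,(Int.ofNat 1),0,0⟩] (.node 164 [⟨164,(Int.ofNat 1),0,0⟩] .nil .nil) (.node 166 [⟨166,(Int.ofNat 1),0,0⟩] .nil .nil)) (.node 169 [⟨169,(Int.ofNat 1),0,0⟩] (.node 168 [⟨168,(Int.ofNat 1),0,0⟩] .nil .nil) (.node 170 [⟨170,(Int.ofNat 1),0,0⟩] .nil .nil)))) (.node 179 [⟨174,(Int.negSucc 0),0,0⟩] (.node 175 [⟨180,(Int.ofNat 1),0,0⟩] (.node 173 [⟨178,(Int.ofNat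 1),0,0⟩] (.node 172 [⟨177,(Int.ofNat 1),0,0⟩] .nil .nil) (.node 174 [⟨179,(Int.ofNat 1),0,0⟩] .nil .nil)) (.node 177 [⟨172,(Int.negSucc 0),0,0⟩] (.node 176 [⟨181,(Int.ofNat 1),0,0⟩] .nil .nil) (.node 178 [⟨173,(Int.negSucc 0),0,0⟩] .nil .nil))) (.node 183 [⟨183,(Int.ofNat 1),0,0⟩] (.node 181 [⟨176,(Int.negSucc 0),0,0⟩] (.node 180 [⟨175,(Int.negSucc 0),0,0⟩] .nil .nil) (.node 182 [⟨182,(Int.ofNat 1),0,0⟩] .nil .nil)) (.node 185 [⟨185,(Int.ofNat 1),0,0⟩] (.node 184 [⟨184,(Int.ofNat 1),0,0⟩] .nil .nil) .nil))))) (.node 217 [⟨207,(Int.negSucc 0),0,0⟩] (.node 202 [⟨212,(Int.ofNat 1),0,0⟩] (.node 194 [⟨194,(Int.ofNat 1),0,0⟩] (.node 190 [⟨190,(Int.ofNat 1),0,0⟩] (.node 188 [⟨188,(Int.ofNat 1),0,0⟩] (.node 187 [⟨187,(Int.ofNat 1),0,0⟩] .nil .nil) (.node 189 [⟨189,(Int.ofNat 1),0,0⟩] .nil .nil)) (.node 192 [⟨192,(Int.ofNat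 1),0,0⟩] (.node 191 [⟨191,(Int.ofNat 1),0,0⟩] .nil .nil) (.node 193 [⟨193,(Int.ofNat 1),0,0⟩] .nil .nil))) (.node 198 [⟨198,(Int.ofNat 1),0,0⟩] (.node 196 [⟨196,(Int.ofNat 1),0,0⟩] (.node 195 [⟨195,(Int.ofNat 1),0,0⟩] .nil .nil) (.node 197 [⟨197,(Int.ofNat 1),0,0⟩] .nil .nil)) (.node 200 [⟨200,(Int.ofNat 1),0,0⟩] (.node 199 [⟨199,(Int.ofNat 1),0,0⟩] .nil .nil) (.node 201 [⟨201,(Int.ofNat 1),0,0⟩] .nil .nil)))) (.node 210 [⟨220,(Int.ofNat 1),0,0⟩] (.node 206 [⟨216,(Int.ofNat 1),0,0⟩] (.node 204 [⟨214,(Int.ofNat 1),0,0⟩] (.node 203 [⟨213,(Int.ofNat 1),0,0⟩] .nil .nil) (.node 205 [⟨215,(Int.ofNat 1),0,0⟩] .nil .nil)) (.node 208 [⟨218,(Int.ofNat 1),0,0⟩] (.node 207 [⟨217,(Int.ofNat 1),0,0⟩] .nil .nil) (.node 209 [⟨219,(Int.ofNat 1),0,0⟩] .nil .nil))) (.node 214 [⟨204,(Int.negSucc 0),0,0⟩] (.node 212 [⟨202,(Int.negSucc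 0),0,0⟩] (.node 211 [⟨221,(Int.ofNat 1),0,0⟩] .nil .nil) (.node 213 [⟨203,(Int.negSucc 0),0,0⟩] .nil .nil)) (.node 216 [⟨206,(Int.negSucc 0),0,0⟩] (.node 215 [⟨205,(Int.negSucc 0),0,0⟩] .nil .nil) .nil)))) (.node 233 [⟨232,(Int.negSucc 0),0,0⟩] (.node 225 [⟨225,(Int.ofNat 1),0,0⟩] (.node 221 [⟨211,(Int.negSucc 0),0,0⟩] (.node 219 [⟨209,(Int.negSucc 0),0,0⟩] (.node 218 [⟨208,(Int.negSucc 0),0,0⟩] .nil .nil) (.node 220 [⟨210,(Int.negSucc 0),0,0⟩] .nil .nil)) (.node 223 [⟨223,(Int.ofNat 1),0,0⟩] (.node 222 [⟨222,(Int.ofNat 1),0,0⟩] .nil .nil) (.node 224 [⟨224,(Int.ofNat 1),0,0⟩] .nil .nil))) (.node 229 [⟨229,(Int.ofNat 1),0,0⟩] (.node 227 [⟨227,(Int.ofNat 1),0,0⟩] (.node 226 [⟨226,(Int.ofNat 1),0,0⟩] .nil .nil) (.node 228 [⟨228,(Int.ofNat 1),0,0⟩] .nil .nil)) (.node 231 [⟨231,(Int.ofNat 1),0,0⟩] (.node 230 [⟨230,(Int.ofNat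 1),0,0⟩] .nil .nil) (.node 232 [⟨233,(Int.ofNat 1),0,0⟩] .nil .nil)))) (.node 241 [⟨239,(Int.negSucc 0),0,0⟩] (.node 237 [⟨237,(Int.ofNat 1),0,0⟩] (.node 235 [⟨235,(Int.ofNat 1),0,0⟩] (.node 234 [⟨234,(Int.ofNat 1),0,0⟩] .nil .nil) (.node 236 [⟨236,(Int.ofNat 1),0,0⟩] .nil .nil)) (.node 239 [⟨241,(Int.ofNat 1),0,0⟩] (.node 238 [⟨238,(Int.ofNat 1),0,0⟩] .nil .nil) (.node 240 [⟨242,(Int.ofNat 1),0,0⟩] .nil .nil))) (.node 245 [⟨245,(Int.ofNat 1),0,0⟩] (.node 243 [⟨243,(Int.ofNat 1),0,0⟩] (.node 242 [⟨240,(Int.negSucc 0),0,0⟩] .nil .nil) (.node 244 [⟨244,(Int.ofNat 1),0,0⟩] .nil .nil)) (.node 247 [⟨247,(Int.ofNat 1),0,0⟩] (.node 246 [⟨246,(Int.ofNat 1),0,0⟩] .nil .nil) .nil)))))))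
noncomputable def nc2 : Tr Vc := (.node 124 [⟨124,(Int.ofNat 1),0,0⟩] (.node 62 [⟨72,(Int.negSucc 0),0,0⟩] (.node 31 [⟨26,(Int.ofNat 1),0,0⟩] (.node 15 [⟨16,(Int.negSucc 0),0,0⟩] (.node 7 [⟨7,(Int.ofNat 1),0,0⟩] (.node 3 [⟨2,(Int.ofNat 1),0,0⟩, ⟨3,(Int.ofNat 1),0,0⟩] (.node 1 [⟨1,(Int.ofNat 1),0,0⟩] (.node 0 [⟨0,(Int.ofNat 1),0,0⟩, ⟨2,(Int.ofNat 1),0,0⟩] .nil .nil) (.node 2 [⟨2,(Int.negSucc 0),0,0⟩] .nil .nil)) (.node 5 [⟨5,(Int.ofNat 1),0,0⟩] (.node 4 [⟨4,(Int.ofNat 1),0,0⟩] .nil .nil) (.node 6 [⟨6,(Int.ofNat 1),0,0⟩] .nil .nil))) (.node 11 [⟨11,(Int.ofNat 1),0,0⟩] (.node 9 [⟨9,(Int.ofNat 1),0,0⟩] (.node 8 [⟨8,(Int.ofNat 1),0,0⟩] .nil .nil) (.node 10 [⟨10,(Int.ofNat 1),0,0⟩] .nil .nil)) (.node 13 [⟨14,(Int.negSucc 0),0,0⟩] (.node 12 [⟨12,(Int.ofNat 1),0,0⟩] .nil .nil) (.node 14 [⟨13,(Int.ofNat 1),0,0⟩] .nil .nil))))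 (.node 23 [⟨23,(Int.ofNat 1),0,0⟩] (.node 19 [⟨19,(Int.ofNat 1),0,0⟩] (.node 17 [⟨17,(Int.ofNat 1),0,0⟩] (.node 16 [⟨15,(Int.ofNat 1),0,0⟩] .nil .nil) (.node 18 [⟨18,(Int.ofNat 1),0,0⟩] .nil .nil)) (.node 21 [⟨21,(Int.ofNat 1),0,0⟩] (.node 20 [⟨20,(Int.ofNat 1),0,0⟩] .nil .nil) (.node 22 [⟨22,(Int.ofNat 1),0,0⟩] .nil .nil))) (.node 27 [⟨32,(Int.negSucc 0),0,0⟩] (.node 25 [⟨30,(Int.negSucc 0),0,0⟩] (.node 24 [⟨29,(Int.negSucc 0),0,0⟩] .nil .nil) (.node 26 [⟨31,(Int.negSucc 0),0,0⟩] .nil .nil)) (.node 29 [⟨24,(Int.ofNat 1),0,0⟩] (.node 28 [⟨33,(Int.negSucc 0),0,0⟩] .nil .nil) (.node 30 [⟨25,(Int.ofNat 1),0,0⟩] .nil .nil))))) (.node 47 [⟨47,(Int.ofNat 1),0,0⟩] (.node 39 [⟨39,(Int.ofNat 1),0,0⟩] (.node 35 [⟨35,(Int.ofNat 1),0,0⟩] (.node 33 [⟨28,(Int.ofNat 1),0,0⟩] (.node 32 [⟨27,(Int.ofNat 1),0,0⟩] .nil .nil) (.node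 34 [⟨34,(Int.ofNat 1),0,0⟩] .nil .nil)) (.node 37 [⟨37,(Int.ofNat 1),0,0⟩] (.node 36 [⟨36,(Int.ofNat 1),0,0⟩] .nil .nil) (.node 38 [⟨38,(Int.ofNat 1),0,0⟩] .nil .nil))) (.node 43 [⟨43,(Int.ofNat 1),0,0⟩] (.node 41 [⟨41,(Int.ofNat 1),0,0⟩] (.node 40 [⟨40,(Int.ofNat 1),0,0⟩] .nil .nil) (.node 42 [⟨42,(Int.ofNat 1),0,0⟩] .nil .nil)) (.node 45 [⟨45,(Int.ofNat 1),0,0⟩] (.node 44 [⟨44,(Int.ofNat 1),0,0⟩] .nil .nil) (.node 46 [⟨46,(Int.ofNat 1),0,0⟩] .nil .nil)))) (.node 55 [⟨65,(Int.negSucc 0),0,0⟩] (.node 51 [⟨51,(Int.ofNat 1),0,0⟩] (.node 49 [⟨49,(Int.ofNat 1),0,0⟩] (.node 48 [⟨48,(Int.ofNat 1),0,0⟩] .nil .nil) (.node 50 [⟨50,(Int.ofNat 1),0,0⟩] .nil .nil)) (.node 53 [⟨53,(Int.ofNat 1),0,0⟩] (.node 52 [⟨52,(Int.ofNat 1),0,0⟩] .nil .nil) (.node 54 [⟨64,(Int.negSucc 0),0,0⟩] .nil .nil))) (.node 59 [⟨69,(Int.negSucc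 0),0,0⟩] (.node 57 [⟨67,(Int.negSucc 0),0,0⟩] (.node 56 [⟨66,(Int.negSucc 0),0,0⟩] .nil .nil) (.node 58 [⟨68,(Int.negSucc 0),0,0⟩] .nil .nil)) (.node 61 [⟨71,(Int.negSucc 0),0,0⟩] (.node 60 [⟨70,(Int.negSucc 0),0,0⟩] .nil .nil) .nil))))) (.node 93 [⟨93,(Int.ofNat 1),0,0⟩] (.node 78 [⟨78,(Int.ofNat 1),0,0⟩] (.node 70 [⟨60,(Int.ofNat 1),0,0⟩] (.node 66 [⟨56,(Int.ofNat 1),0,0⟩] (.node 64 [⟨54,(Int.ofNat 1),0,0⟩] (.node 63 [⟨73,(Int.negSucc 0),0,0⟩] .nil .nil) (.node 65 [⟨55,(Int.ofNat 1),0,0⟩] .nil .nil)) (.node 68 [⟨58,(Int.ofNat 1),0,0⟩] (.node 67 [⟨57,(Int.ofNat 1),0,0⟩] .nil .nil) (.node 69 [⟨59,(Int.ofNat 1),0,0⟩] .nil .nil))) (.node 74 [⟨74,(Int.ofNat 1),0,0⟩] (.node 72 [⟨62,(Int.ofNat 1),0,0⟩] (.node 71 [⟨61,(Int.ofNat 1),0,0⟩] .nil .nil) (.node 73 [⟨63,(Int.ofNat 1),0,0⟩] .nil .nil)) (.node 76 [⟨76,(Int.ofNat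 1),0,0⟩] (.node 75 [⟨75,(Int.ofNat 1),0,0⟩] .nil .nil) (.node 77 [⟨77,(Int.ofNat 1),0,0⟩] .nil .nil)))) (.node 86 [⟨86,(Int.ofNat 1),0,0⟩] (.node 82 [⟨82,(Int.ofNat 1),0,0⟩] (.node 80 [⟨80,(Int.ofNat 1),0,0⟩] (.node 79 [⟨79,(Int.ofNat 1),0,0⟩] .nil .nil) (.node 81 [⟨81,(Int.ofNat 1),0,0⟩] .nil .nil)) (.node 84 [⟨85,(Int.negSucc 0),0,0⟩] (.node 83 [⟨83,(Int.ofNat 1),0,0⟩] .nil .nil) (.node 85 [⟨84,(Int.ofNat 1),0,0⟩] .nil .nil))) (.node 90 [⟨90,(Int.ofNat 1),0,0⟩] (.node 88 [⟨88,(Int.ofNat 1),0,0⟩] (.node 87 [⟨87,(Int.ofNat 1),0,0⟩] .nil .nil) (.node 89 [⟨89,(Int.ofNat 1),0,0⟩] .nil .nil)) (.node 92 [⟨92,(Int.ofNat 1),0,0⟩] (.node 91 [⟨91,(Int.ofNat 1),0,0⟩] .nil .nil) .nil)))) (.node 109 [⟨115,(Int.ofNat 1),0,0⟩] (.node 101 [⟨96,(Int.ofNat 1),0,0⟩] (.node 97 [⟨102,(Int.negSucc 0),0,0⟩] (.node 95 [⟨95,(Int.ofNat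 1),0,0⟩] (.node 94 [⟨94,(Int.ofNat 1),0,0⟩] .nil .nil) (.node 96 [⟨101,(Int.negSucc 0),0,0⟩] .nil .nil)) (.node 99 [⟨104,(Int.negSucc 0),0,0⟩] (.node 98 [⟨103,(Int.negSucc 0),0,0⟩] .nil .nil) (.node 100 [⟨105,(Int.negSucc 0),0,0⟩] .nil .nil))) (.node 105 [⟨100,(Int.ofNat 1),0,0⟩] (.node 103 [⟨98,(Int.ofNat 1),0,0⟩] (.node 102 [⟨97,(Int.ofNat 1),0,0⟩] .nil .nil) (.node 104 [⟨99,(Int.ofNat 1),0,0⟩] .nil .nil)) (.node 107 [⟨113,(Int.ofNat 1),0,0⟩] (.node 106 [⟨106,(Int.ofNat 1),0,0⟩] .nil .nil) (.node 108 [⟨114,(Int.ofNat 1),0,0⟩] .nil .nil)))) (.node 117 [⟨111,(Int.negSucc 0),0,0⟩] (.node 113 [⟨107,(Int.negSucc 0),0,0⟩] (.node 111 [⟨117,(Int.ofNat 1),0,0⟩] (.node 110 [⟨116,(Int.ofNat 1),0,0⟩] .nil .nil) (.node 112 [⟨143,(Int.negSucc 0),0,0⟩] .nil .nil)) (.node 115 [⟨109,(Int.negSucc 0),0,0⟩] (.node 114 [⟨108,(Int.negSucc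 0),0,0⟩] .nil .nil) (.node 116 [⟨110,(Int.negSucc 0),0,0⟩] .nil .nil))) (.node 121 [⟨121,(Int.ofNat 1),0,0⟩] (.node 119 [⟨119,(Int.ofNat 1),0,0⟩] (.node 118 [⟨118,(Int.ofNat 1),0,0⟩] .nil .nil) (.node 120 [⟨120,(Int.ofNat 1),0,0⟩] .nil .nil)) (.node 123 [⟨123,(Int.ofNat 1),0,0⟩] (.node 122 [⟨122,(Int.ofNat 1),0,0⟩] .nil .nil) .nil)))))) (.node 186 [⟨196,(Int.ofNat 1),0,0⟩] (.node 155 [⟨150,(Int.negSucc 0),0,0⟩] (.node 140 [⟨146,(Int.negSucc 0),0,0⟩] (.node 132 [⟨132,(Int.ofNat 1),0,0⟩] (.node 128 [⟨128,(Int.ofNat 1),0,0⟩] (.node 126 [⟨126,(Int.ofNat 1),0,0⟩] (.node 125 [⟨125,(Int.ofNat 1),0,0⟩] .nil .nil) (.node 127 [⟨127,(Int.ofNat 1),0,0⟩] .nil .nil)) (.node 130 [⟨130,(Int.ofNat 1),0,0⟩] (.node 129 [⟨129,(Int.ofNat 1),0,0⟩] .nil .nil) (.node 131 [⟨131,(Int.ofNat 1),0,0⟩] .nil .nil))) (.node 136 [⟨136,(Int.ofNat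 1),0,0⟩] (.node 134 [⟨134,(Int.ofNat 1),0,0⟩] (.node 133 [⟨133,(Int.ofNat 1),0,0⟩] .nil .nil) (.node 135 [⟨135,(Int.ofNat 1),0,0⟩] .nil .nil)) (.node 138 [⟨144,(Int.negSucc 0),0,0⟩] (.node 137 [⟨137,(Int.ofNat 1),0,0⟩] .nil .nil) (.node 139 [⟨145,(Int.negSucc 0),0,0⟩] .nil .nil)))) (.node 148 [⟨142,(Int.ofNat 1),0,0⟩] (.node 144 [⟨138,(Int.ofNat 1),0,0⟩] (.node 142 [⟨148,(Int.negSucc 0),0,0⟩] (.node 141 [⟨147,(Int.negSucc 0),0,0⟩] .nil .nil) (.node 143 [⟨112,(Int.negSucc 0),0,0⟩] .nil .nil)) (.node 146 [⟨140,(Int.ofNat 1),0,0⟩] (.node 145 [⟨139,(Int.ofNat 1),0,0⟩] .nil .nil) (.node 147 [⟨141,(Int.ofNat 1),0,0⟩] .nil .nil))) (.node 152 [⟨157,(Int.ofNat 1),0,0⟩] (.node 150 [⟨155,(Int.ofNat 1),0,0⟩] (.node 149 [⟨149,(Int.ofNat 1),0,0⟩] .nil .nil) (.node 151 [⟨156,(Int.ofNat 1),0,0⟩] .nil .nil)) (.node 154 [⟨159,(Int.ofNat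 1),0,0⟩] (.node 153 [⟨158,(Int.ofNat 1),0,0⟩] .nil .nil) .nil)))) (.node 171 [⟨170,(Int.negSucc 0),0,0⟩] (.node 163 [⟨163,(Int.ofNat 1),0,0⟩] (.node 159 [⟨154,(Int.negSucc 0),0,0⟩] (.node 157 [⟨152,(Int.negSucc 0),0,0⟩] (.node 156 [⟨151,(Int.negSucc 0),0,0⟩] .nil .nil) (.node 158 [⟨153,(Int.negSucc 0),0,0⟩] .nil .nil)) (.node 161 [⟨161,(Int.ofNat 1),0,0⟩] (.node 160 [⟨160,(Int.ofNat 1),0,0⟩] .nil .nil) (.node 162 [⟨162,(Int.ofNat 1),0,0⟩] .nil .nil))) (.node 167 [⟨167,(Int.ofNat 1),0,0⟩] (.node 165 [⟨165,(Int.ofNat 1),0,0⟩] (.node 164 [⟨164,(Int.ofNat 1),0,0⟩] .nil .nil) (.node 166 [⟨166,(Int.ofNat 1),0,0⟩] .nil .nil)) (.node 169 [⟨169,(Int.ofNat 1),0,0⟩] (.node 168 [⟨168,(Int.ofNat 1),0,0⟩] .nil .nil) (.node 170 [⟨171,(Int.ofNat 1),0,0⟩] .nil .nil)))) (.node 179 [⟨179,(Int.ofNat 1),0,0⟩] (.node 175 [⟨175,(Int.ofNat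 1),0,0⟩] (.node 173 [⟨173,(Int.ofNat 1),0,0⟩] (.node 172 [⟨172,(Int.ofNat 1),0,0⟩] .nil .nil) (.node 174 [⟨174,(Int.ofNat 1),0,0⟩] .nil .nil)) (.node 177 [⟨177,(Int.ofNat 1),0,0⟩] (.node 176 [⟨176,(Int.ofNat 1),0,0⟩] .nil .nil) (.node 178 [⟨178,(Int.ofNat 1),0,0⟩] .nil .nil))) (.node 183 [⟨193,(Int.ofNat 1),0,0⟩] (.node 181 [⟨181,(Int.ofNat 1),0,0⟩] (.node 180 [⟨180,(Int.ofNat 1),0,0⟩] .nil .nil) (.node 182 [⟨192,(Int.ofNat 1),0,0⟩] .nil .nil)) (.node 185 [⟨195,(Int.ofNat 1),0,0⟩] (.node 184 [⟨194,(Int.ofNat 1),0,0⟩] .nil .nil) .nil))))) (.node 217 [⟨217,(Int.ofNat 1),0,0⟩] (.node 202 [⟨202,(Int.ofNat 1),0,0⟩] (.node 194 [⟨184,(Int.negSucc 0),0,0⟩] (.node 190 [⟨200,(Int.ofNat 1),0,0⟩] (.node 188 [⟨198,(Int.ofNat 1),0,0⟩] (.node 187 [⟨197,(Int.ofNat 1),0,0⟩] .nil .nil) (.node 189 [⟨199,(Int.ofNat 1),0,0⟩] .nil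 .nil)) (.node 192 [⟨182,(Int.negSucc 0),0,0⟩] (.node 191 [⟨201,(Int.ofNat 1),0,0⟩] .nil .nil) (.node 193 [⟨183,(Int.negSucc 0),0,0⟩] .nil .nil))) (.node 198 [⟨188,(Int.negSucc 0),0,0⟩] (.node 196 [⟨186,(Int.negSucc 0),0,0⟩] (.node 195 [⟨185,(Int.negSucc 0),0,0⟩] .nil .nil) (.node 197 [⟨187,(Int.negSucc 0),0,0⟩] .nil .nil)) (.node 200 [⟨190,(Int.negSucc 0),0,0⟩] (.node 199 [⟨189,(Int.negSucc 0),0,0⟩] .nil .nil) (.node 201 [⟨191,(Int.negSucc 0),0,0⟩] .nil .nil)))) (.node 210 [⟨210,(Int.ofNat 1),0,0⟩] (.node 206 [⟨206,(Int.ofNat 1),0,0⟩] (.node 204 [⟨204,(Int.ofNat 1),0,0⟩] (.node 203 [⟨203,(Int.ofNat 1),0,0⟩] .nil .nil) (.node 205 [⟨205,(Int.ofNat 1),0,0⟩] .nil .nil)) (.node 208 [⟨208,(Int.ofNat 1),0,0⟩] (.node 207 [⟨207,(Int.ofNat 1),0,0⟩] .nil .nil) (.node 209 [⟨209,(Int.ofNat 1),0,0⟩] .nil .nil))) (.node 214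 [⟨214,(Int.ofNat 1),0,0⟩] (.node 212 [⟨212,(Int.ofNat 1),0,0⟩] (.node 211 [⟨211,(Int.ofNat 1),0,0⟩] .nil .nil) (.node 213 [⟨213,(Int.ofNat 1),0,0⟩] .nil .nil)) (.node 216 [⟨216,(Int.ofNat 1),0,0⟩] (.node 215 [⟨215,(Int.ofNat 1),0,0⟩] .nil .nil) .nil)))) (.node 233 [⟨233,(Int.ofNat 1),0,0⟩] (.node 225 [⟨230,(Int.ofNat 1),0,0⟩] (.node 221 [⟨221,(Int.ofNat 1),0,0⟩] (.node 219 [⟨219,(Int.ofNat 1),0,0⟩] (.node 218 [⟨218,(Int.ofNat 1),0,0⟩] .nil .nil) (.node 220 [⟨220,(Int.ofNat 1),0,0⟩] .nil .nil)) (.node 223 [⟨228,(Int.ofNat 1),0,0⟩] (.node 222 [⟨227,(Int.ofNat 1),0,0⟩] .nil .nil) (.node 224 [⟨229,(Int.ofNat 1),0,0⟩] .nil .nil))) (.node 229 [⟨224,(Int.negSucc 0),0,0⟩] (.node 227 [⟨222,(Int.negSucc 0),0,0⟩] (.node 226 [⟨231,(Int.ofNat 1),0,0⟩] .nil .nil) (.node 228 [⟨223,(Int.negSucc 0),0,0⟩] .nil .nil)) (.node 231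 [⟨226,(Int.negSucc 0),0,0⟩] (.node 230 [⟨225,(Int.negSucc 0),0,0⟩] .nil .nil) (.node 232 [⟨232,(Int.ofNat 1),0,0⟩] .nil .nil)))) (.node 241 [⟨242,(Int.ofNat 1),0,0⟩] (.node 237 [⟨237,(Int.ofNat 1),0,0⟩] (.node 235 [⟨235,(Int.ofNat 1),0,0⟩] (.node 234 [⟨234,(Int.ofNat 1),0,0⟩] .nil .nil) (.node 236 [⟨236,(Int.ofNat 1),0,0⟩] .nil .nil)) (.node 239 [⟨240,(Int.ofNat 1),0,0⟩] (.node 238 [⟨238,(Int.ofNat 1),0,0⟩] .nil .nil) (.node 240 [⟨239,(Int.negSucc 0),0,0⟩] .nil .nil))) (.node 245 [⟨245,(Int.ofNat 1),0,0⟩] (.node 243 [⟨243,(Int.ofNat 1),0,0⟩] (.node 242 [⟨241,(Int.negSucc 0),0,0⟩] .nil .nil) (.node 244 [⟨244,(Int.ofNat 1),0,0⟩] .nil .nil)) (.node 247 [⟨247,(Int.ofNat 1),0,0⟩] (.node 246 [⟨246,(Int.ofNat 1),0,0⟩] .nil .nil) .nil)))))))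
noncomputable def nc3 : Tr Vc := (.node 124 [⟨124,(Int.ofNat 1),0,0⟩] (.node 62 [⟨62,(Int.ofNat 1),0,0⟩] (.node 31 [⟨35,(Int.negSucc 0),0,0⟩] (.node 15 [⟨15,(Int.ofNat 1),0,0⟩] (.node 7 [⟨7,(Int.ofNat 1),0,0⟩] (.node 3 [⟨3,(Int.negSucc 0),0,0⟩] (.node 1 [⟨1,(Int.ofNat 1),0,0⟩, ⟨3,(Int.ofNat 1),0,0⟩] (.node 0 [⟨0,(Int.ofNat 1),0,0⟩] .nil .nil) (.node 2 [⟨2,(Int.ofNat 1),0,0⟩, ⟨3,(Int.ofNat 1),0,0⟩] .nil .nil)) (.node 5 [⟨5,(Int.ofNat 1),0,0⟩] (.node 4 [⟨3,(Int.ofNat 1),0,0⟩, ⟨4,(Int.ofNat 1),0,0⟩] .nil .nil) (.node 6 [⟨6,(Int.ofNat 1),0,0⟩] .nil .nil))) (.node 11 [⟨11,(Int.ofNat 1),0,0⟩] (.node 9 [⟨9,(Int.ofNat 1),0,0⟩] (.node 8 [⟨8,(Int.ofNat 1),0,0⟩] .nil .nil) (.node 10 [⟨10,(Int.ofNat 1),0,0⟩] .nil .nil)) (.node 13 [⟨12,(Int.ofNat 1),0,0⟩] (.node 12 [⟨13,(Int.negSucc 0),0,0⟩] .nil .nil) (.node 14 [⟨14,(Int.ofNat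 1),0,0⟩] .nil .nil)))) (.node 23 [⟨24,(Int.negSucc 0),0,0⟩] (.node 19 [⟨19,(Int.ofNat 1),0,0⟩] (.node 17 [⟨16,(Int.ofNat 1),0,0⟩] (.node 16 [⟨17,(Int.negSucc 0),0,0⟩] .nil .nil) (.node 18 [⟨18,(Int.ofNat 1),0,0⟩] .nil .nil)) (.node 21 [⟨21,(Int.ofNat 1),0,0⟩] (.node 20 [⟨20,(Int.ofNat 1),0,0⟩] .nil .nil) (.node 22 [⟨22,(Int.ofNat 1),0,0⟩] .nil .nil))) (.node 27 [⟨27,(Int.ofNat 1),0,0⟩] (.node 25 [⟨25,(Int.ofNat 1),0,0⟩] (.node 24 [⟨23,(Int.ofNat 1),0,0⟩] .nil .nil) (.node 26 [⟨26,(Int.ofNat 1),0,0⟩] .nil .nil)) (.node 29 [⟨29,(Int.ofNat 1),0,0⟩] (.node 28 [⟨28,(Int.ofNat 1),0,0⟩] .nil .nil) (.node 30 [⟨34,(Int.negSucc 0),0,0⟩] .nil .nil))))) (.node 47 [⟨47,(Int.ofNat 1),0,0⟩] (.node 39 [⟨39,(Int.ofNat 1),0,0⟩] (.node 35 [⟨31,(Int.ofNat 1),0,0⟩] (.node 33 [⟨37,(Int.negSucc 0),0,0⟩] (.node 32 [⟨36,(Int.negSucc 0),0,0⟩]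 .nil .nil) (.node 34 [⟨30,(Int.ofNat 1),0,0⟩] .nil .nil)) (.node 37 [⟨33,(Int.ofNat 1),0,0⟩] (.node 36 [⟨32,(Int.ofNat 1),0,0⟩] .nil .nil) (.node 38 [⟨38,(Int.ofNat 1),0,0⟩] .nil .nil))) (.node 43 [⟨43,(Int.ofNat 1),0,0⟩] (.node 41 [⟨41,(Int.ofNat 1),0,0⟩] (.node 40 [⟨40,(Int.ofNat 1),0,0⟩] .nil .nil) (.node 42 [⟨42,(Int.ofNat 1),0,0⟩] .nil .nil)) (.node 45 [⟨45,(Int.ofNat 1),0,0⟩] (.node 44 [⟨44,(Int.ofNat 1),0,0⟩] .nil .nil) (.node 46 [⟨46,(Int.ofNat 1),0,0⟩] .nil .nil)))) (.node 55 [⟨49,(Int.ofNat 1),0,0⟩] (.node 51 [⟨57,(Int.negSucc 0),0,0⟩] (.node 49 [⟨55,(Int.negSucc 0),0,0⟩] (.node 48 [⟨54,(Int.negSucc 0),0,0⟩] .nil .nil) (.node 50 [⟨56,(Int.negSucc 0),0,0⟩] .nil .nil)) (.node 53 [⟨59,(Int.negSucc 0),0,0⟩] (.node 52 [⟨58,(Int.negSucc 0),0,0⟩] .nil .nil) (.node 54 [⟨48,(Int.ofNat 1),0,0⟩] .nil .nil))) (.node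 59 [⟨53,(Int.ofNat 1),0,0⟩] (.node 57 [⟨51,(Int.ofNat 1),0,0⟩] (.node 56 [⟨50,(Int.ofNat 1),0,0⟩] .nil .nil) (.node 58 [⟨52,(Int.ofNat 1),0,0⟩] .nil .nil)) (.node 61 [⟨61,(Int.ofNat 1),0,0⟩] (.node 60 [⟨60,(Int.ofNat 1),0,0⟩] .nil .nil) .nil))))) (.node 93 [⟨97,(Int.negSucc 0),0,0⟩] (.node 78 [⟨78,(Int.ofNat 1),0,0⟩] (.node 70 [⟨74,(Int.negSucc 0),0,0⟩] (.node 66 [⟨66,(Int.ofNat 1),0,0⟩] (.node 64 [⟨64,(Int.ofNat 1),0,0⟩] (.node 63 [⟨63,(Int.ofNat 1),0,0⟩] .nil .nil) (.node 65 [⟨65,(Int.ofNat 1),0,0⟩] .nil .nil)) (.node 68 [⟨68,(Int.ofNat 1),0,0⟩] (.node 67 [⟨67,(Int.ofNat 1),0,0⟩] .nil .nil) (.node 69 [⟨69,(Int.ofNat 1),0,0⟩] .nil .nil))) (.node 74 [⟨70,(Int.ofNat 1),0,0⟩] (.node 72 [⟨76,(Int.negSucc 0),0,0⟩] (.node 71 [⟨75,(Int.negSucc 0),0,0⟩] .nil .nil) (.node 73 [⟨77,(Int.negSucc 0),0,0⟩] .nil .nil)) (.node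 76 [⟨72,(Int.ofNat 1),0,0⟩] (.node 75 [⟨71,(Int.ofNat 1),0,0⟩] .nil .nil) (.node 77 [⟨73,(Int.ofNat 1),0,0⟩] .nil .nil)))) (.node 86 [⟨86,(Int.ofNat 1),0,0⟩] (.node 82 [⟨82,(Int.ofNat 1),0,0⟩] (.node 80 [⟨80,(Int.ofNat 1),0,0⟩] (.node 79 [⟨79,(Int.ofNat 1),0,0⟩] .nil .nil) (.node 81 [⟨81,(Int.ofNat 1),0,0⟩] .nil .nil)) (.node 84 [⟨83,(Int.ofNat 1),0,0⟩] (.node 83 [⟨84,(Int.negSucc 0),0,0⟩] .nil .nil) (.node 85 [⟨85,(Int.ofNat 1),0,0⟩] .nil .nil))) (.node 90 [⟨90,(Int.ofNat 1),0,0⟩] (.node 88 [⟨88,(Int.ofNat 1),0,0⟩] (.node 87 [⟨87,(Int.ofNat 1),0,0⟩] .nil .nil) (.node 89 [⟨89,(Int.ofNat 1),0,0⟩] .nil .nil)) (.node 92 [⟨96,(Int.negSucc 0),0,0⟩] (.node 91 [⟨91,(Int.ofNat 1),0,0⟩] .nil .nil) .nil)))) (.node 109 [⟨109,(Int.ofNat 1),0,0⟩] (.node 101 [⟨101,(Int.ofNat 1),0,0⟩] (.node 97 [⟨93,(Int.ofNat 1),0,0⟩] (.node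 95 [⟨99,(Int.negSucc 0),0,0⟩] (.node 94 [⟨98,(Int.negSucc 0),0,0⟩] .nil .nil) (.node 96 [⟨92,(Int.ofNat 1),0,0⟩] .nil .nil)) (.node 99 [⟨95,(Int.ofNat 1),0,0⟩] (.node 98 [⟨94,(Int.ofNat 1),0,0⟩] .nil .nil) (.node 100 [⟨100,(Int.ofNat 1),0,0⟩] .nil .nil))) (.node 105 [⟨106,(Int.negSucc 0),0,0⟩] (.node 103 [⟨103,(Int.ofNat 1),0,0⟩] (.node 102 [⟨102,(Int.ofNat 1),0,0⟩] .nil .nil) (.node 104 [⟨104,(Int.ofNat 1),0,0⟩] .nil .nil)) (.node 107 [⟨107,(Int.ofNat 1),0,0⟩] (.node 106 [⟨105,(Int.ofNat 1),0,0⟩] .nil .nil) (.node 108 [⟨108,(Int.ofNat 1),0,0⟩] .nil .nil)))) (.node 117 [⟨138,(Int.negSucc 0),0,0⟩] (.node 113 [⟨118,(Int.ofNat 1),0,0⟩] (.node 111 [⟨112,(Int.negSucc 0),0,0⟩] (.node 110 [⟨110,(Int.ofNat 1),0,0⟩] .nil .nil) (.node 112 [⟨111,(Int.ofNat 1),0,0⟩] .nil .nil)) (.node 115 [⟨120,(Int.ofNat 1),0,0⟩] (.node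 114 [⟨119,(Int.ofNat 1),0,0⟩] .nil .nil) (.node 116 [⟨121,(Int.ofNat 1),0,0⟩] .nil .nil))) (.node 121 [⟨116,(Int.negSucc 0),0,0⟩] (.node 119 [⟨114,(Int.negSucc 0),0,0⟩] (.node 118 [⟨113,(Int.negSucc 0),0,0⟩] .nil .nil) (.node 120 [⟨115,(Int.negSucc 0),0,0⟩] .nil .nil)) (.node 123 [⟨123,(Int.ofNat 1),0,0⟩] (.node 122 [⟨122,(Int.ofNat 1),0,0⟩] .nil .nil) .nil)))))) (.node 186 [⟨186,(Int.ofNat 1),0,0⟩] (.node 155 [⟨155,(Int.ofNat 1),0,0⟩] (.node 140 [⟨135,(Int.ofNat 1),0,0⟩] (.node 132 [⟨132,(Int.ofNat 1),0,0⟩] (.node 128 [⟨128,(Int.ofNat 1),0,0⟩] (.node 126 [⟨126,(Int.ofNat 1),0,0⟩] (.node 125 [⟨125,(Int.ofNat 1),0,0⟩] .nil .nil) (.node 127 [⟨127,(Int.ofNat 1),0,0⟩] .nil .nil)) (.node 130 [⟨130,(Int.ofNat 1),0,0⟩] (.node 129 [⟨129,(Int.ofNat 1),0,0⟩] .nil .nil) (.node 131 [⟨131,(Int.ofNat 1),0,0⟩] .nil .nil))) (.node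 136 [⟨141,(Int.negSucc 0),0,0⟩] (.node 134 [⟨139,(Int.negSucc 0),0,0⟩] (.node 133 [⟨133,(Int.ofNat 1),0,0⟩] .nil .nil) (.node 135 [⟨140,(Int.negSucc 0),0,0⟩] .nil .nil)) (.node 138 [⟨117,(Int.negSucc 0),0,0⟩] (.node 137 [⟨142,(Int.negSucc 0),0,0⟩] .nil .nil) (.node 139 [⟨134,(Int.ofNat 1),0,0⟩] .nil .nil)))) (.node 148 [⟨148,(Int.ofNat 1),0,0⟩] (.node 144 [⟨143,(Int.negSucc 0),0,0⟩] (.node 142 [⟨137,(Int.ofNat 1),0,0⟩] (.node 141 [⟨136,(Int.ofNat 1),0,0⟩] .nil .nil) (.node 143 [⟨144,(Int.ofNat 1),0,0⟩] .nil .nil)) (.node 146 [⟨146,(Int.ofNat 1),0,0⟩] (.node 145 [⟨145,(Int.ofNat 1),0,0⟩] .nil .nil) (.node 147 [⟨147,(Int.ofNat 1),0,0⟩] .nil .nil))) (.node 152 [⟨152,(Int.ofNat 1),0,0⟩] (.node 150 [⟨149,(Int.negSucc 0),0,0⟩] (.node 149 [⟨150,(Int.ofNat 1),0,0⟩] .nil .nil) (.node 151 [⟨151,(Int.ofNat 1),0,0⟩] .nil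 .nil)) (.node 154 [⟨154,(Int.ofNat 1),0,0⟩] (.node 153 [⟨153,(Int.ofNat 1),0,0⟩] .nil .nil) .nil)))) (.node 171 [⟨172,(Int.ofNat 1),0,0⟩] (.node 163 [⟨159,(Int.negSucc 0),0,0⟩] (.node 159 [⟨163,(Int.ofNat 1),0,0⟩] (.node 157 [⟨161,(Int.ofNat 1),0,0⟩] (.node 156 [⟨160,(Int.ofNat 1),0,0⟩] .nil .nil) (.node 158 [⟨162,(Int.ofNat 1),0,0⟩] .nil .nil)) (.node 161 [⟨157,(Int.negSucc 0),0,0⟩] (.node 160 [⟨156,(Int.negSucc 0),0,0⟩] .nil .nil) (.node 162 [⟨158,(Int.negSucc 0),0,0⟩] .nil .nil))) (.node 167 [⟨167,(Int.ofNat 1),0,0⟩] (.node 165 [⟨165,(Int.ofNat 1),0,0⟩] (.node 164 [⟨164,(Int.ofNat 1),0,0⟩] .nil .nil) (.node 166 [⟨166,(Int.ofNat 1),0,0⟩] .nil .nil)) (.node 169 [⟨169,(Int.ofNat 1),0,0⟩] (.node 168 [⟨168,(Int.ofNat 1),0,0⟩] .nil .nil) (.node 170 [⟨170,(Int.ofNat 1),0,0⟩] .nil .nil)))) (.node 179 [⟨183,(Int.ofNat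 1),0,0⟩] (.node 175 [⟨175,(Int.ofNat 1),0,0⟩] (.node 173 [⟨173,(Int.ofNat 1),0,0⟩] (.node 172 [⟨171,(Int.negSucc 0),0,0⟩] .nil .nil) (.node 174 [⟨174,(Int.ofNat 1),0,0⟩] .nil .nil)) (.node 177 [⟨177,(Int.ofNat 1),0,0⟩] (.node 176 [⟨176,(Int.ofNat 1),0,0⟩] .nil .nil) (.node 178 [⟨182,(Int.ofNat 1),0,0⟩] .nil .nil))) (.node 183 [⟨179,(Int.negSucc 0),0,0⟩] (.node 181 [⟨185,(Int.ofNat 1),0,0⟩] (.node 180 [⟨184,(Int.ofNat 1),0,0⟩] .nil .nil) (.node 182 [⟨178,(Int.negSucc 0),0,0⟩] .nil .nil)) (.node 185 [⟨181,(Int.negSucc 0),0,0⟩] (.node 184 [⟨180,(Int.negSucc 0),0,0⟩] .nil .nil) .nil))))) (.node 217 [⟨217,(Int.ofNat 1),0,0⟩] (.node 202 [⟨196,(Int.negSucc 0),0,0⟩] (.node 194 [⟨194,(Int.ofNat 1),0,0⟩] (.node 190 [⟨190,(Int.ofNat 1),0,0⟩] (.node 188 [⟨188,(Int.ofNat 1),0,0⟩] (.node 187 [⟨187,(Int.ofNat 1),0,0⟩] .nil .nil)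 (.node 189 [⟨189,(Int.ofNat 1),0,0⟩] .nil .nil)) (.node 192 [⟨192,(Int.ofNat 1),0,0⟩] (.node 191 [⟨191,(Int.ofNat 1),0,0⟩] .nil .nil) (.node 193 [⟨193,(Int.ofNat 1),0,0⟩] .nil .nil))) (.node 198 [⟨204,(Int.ofNat 1),0,0⟩] (.node 196 [⟨202,(Int.ofNat 1),0,0⟩] (.node 195 [⟨195,(Int.ofNat 1),0,0⟩] .nil .nil) (.node 197 [⟨203,(Int.ofNat 1),0,0⟩] .nil .nil)) (.node 200 [⟨206,(Int.ofNat 1),0,0⟩] (.node 199 [⟨205,(Int.ofNat 1),0,0⟩] .nil .nil) (.node 201 [⟨207,(Int.ofNat 1),0,0⟩] .nil .nil)))) (.node 210 [⟨210,(Int.ofNat 1),0,0⟩] (.node 206 [⟨200,(Int.negSucc 0),0,0⟩] (.node 204 [⟨198,(Int.negSucc 0),0,0⟩] (.node 203 [⟨197,(Int.negSucc 0),0,0⟩] .nil .nil) (.node 205 [⟨199,(Int.negSucc 0),0,0⟩] .nil .nil)) (.node 208 [⟨208,(Int.ofNat 1),0,0⟩] (.node 207 [⟨201,(Int.negSucc 0),0,0⟩] .nil .nil) (.node 209 [⟨209,(Int.ofNat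 1),0,0⟩] .nil .nil))) (.node 214 [⟨214,(Int.ofNat 1),0,0⟩] (.node 212 [⟨212,(Int.ofNat 1),0,0⟩] (.node 211 [⟨211,(Int.ofNat 1),0,0⟩] .nil .nil) (.node 213 [⟨213,(Int.ofNat 1),0,0⟩] .nil .nil)) (.node 216 [⟨216,(Int.ofNat 1),0,0⟩] (.node 215 [⟨215,(Int.ofNat 1),0,0⟩] .nil .nil) .nil)))) (.node 233 [⟨233,(Int.ofNat 1),0,0⟩] (.node 225 [⟨221,(Int.negSucc 0),0,0⟩] (.node 221 [⟨225,(Int.ofNat 1),0,0⟩] (.node 219 [⟨223,(Int.ofNat 1),0,0⟩] (.node 218 [⟨222,(Int.ofNat 1),0,0⟩] .nil .nil) (.node 220 [⟨224,(Int.ofNat 1),0,0⟩] .nil .nil)) (.node 223 [⟨219,(Int.negSucc 0),0,0⟩] (.node 222 [⟨218,(Int.negSucc 0),0,0⟩] .nil .nil) (.node 224 [⟨220,(Int.negSucc 0),0,0⟩] .nil .nil))) (.node 229 [⟨229,(Int.ofNat 1),0,0⟩] (.node 227 [⟨227,(Int.ofNat 1),0,0⟩] (.node 226 [⟨226,(Int.ofNat 1),0,0⟩] .nil .nil) (.node 228 [⟨228,(Int.ofNat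 1),0,0⟩] .nil .nil)) (.node 231 [⟨232,(Int.ofNat 1),0,0⟩] (.node 230 [⟨230,(Int.ofNat 1),0,0⟩] .nil .nil) (.node 232 [⟨231,(Int.negSucc 0),0,0⟩] .nil .nil)))) (.node 241 [⟨241,(Int.ofNat 1),0,0⟩] (.node 237 [⟨237,(Int.ofNat 1),0,0⟩] (.node 235 [⟨235,(Int.ofNat 1),0,0⟩] (.node 234 [⟨234,(Int.ofNat 1),0,0⟩] .nil .nil) (.node 236 [⟨236,(Int.ofNat 1),0,0⟩] .nil .nil)) (.node 239 [⟨238,(Int.negSucc 0),0,0⟩] (.node 238 [⟨239,(Int.ofNat 1),0,0⟩] .nil .nil) (.node 240 [⟨240,(Int.ofNat 1),0,0⟩] .nil .nil))) (.node 245 [⟨245,(Int.ofNat 1),0,0⟩] (.node 243 [⟨242,(Int.negSucc 0),0,0⟩] (.node 242 [⟨243,(Int.ofNat 1),0,0⟩] .nil .nil) (.node 244 [⟨244,(Int.ofNat 1),0,0⟩] .nil .nil)) (.node 247 [⟨247,(Int.ofNat 1),0,0⟩] (.node 246 [⟨246,(Int.ofNat 1),0,0⟩] .nil .nil) .nil)))))))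
noncomputable def nc4 : Tr Vc := (.node 124 [⟨120,(Int.negSucc 0),0,0⟩] (.node 62 [⟨59,(Int.ofNat 1),0,0⟩] (.node 31 [⟨31,(Int.ofNat 1),0,0⟩] (.node 15 [⟨15,(Int.ofNat 1),0,0⟩] (.node 7 [⟨7,(Int.ofNat 1),0,0⟩] (.node 3 [⟨3,(Int.ofNat 1),0,0⟩, ⟨4,(Int.ofNat 1),0,0⟩] (.node 1 [⟨1,(Int.ofNat 1),0,0⟩] (.node 0 [⟨0,(Int.ofNat 1),0,0⟩] .nil .nil) (.node 2 [⟨2,(Int.ofNat 1),0,0⟩] .nil .nil)) (.node 5 [⟨4,(Int.ofNat 1),0,0⟩, ⟨5,(Int.ofNat 1),0,0⟩] (.node 4 [⟨4,(Int.negSucc 0),0,0⟩] .nil .nil) (.node 6 [⟨6,(Int.ofNat 1),0,0⟩] .nil .nil))) (.node 11 [⟨12,(Int.negSucc 0),0,0⟩] (.node 9 [⟨9,(Int.ofNat 1),0,0⟩] (.node 8 [⟨8,(Int.ofNat 1),0,0⟩] .nil .nil) (.node 10 [⟨10,(Int.ofNat 1),0,0⟩] .nil .nil)) (.node 13 [⟨13,(Int.ofNat 1),0,0⟩] (.node 12 [⟨11,(Int.ofNat 1),0,0⟩] .nil .nil) (.node 14 [⟨14,(Int.ofNat 1),0,0⟩] .nil .nil))))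 (.node 23 [⟨23,(Int.ofNat 1),0,0⟩] (.node 19 [⟨19,(Int.ofNat 1),0,0⟩] (.node 17 [⟨18,(Int.negSucc 0),0,0⟩] (.node 16 [⟨16,(Int.ofNat 1),0,0⟩] .nil .nil) (.node 18 [⟨17,(Int.ofNat 1),0,0⟩] .nil .nil)) (.node 21 [⟨21,(Int.ofNat 1),0,0⟩] (.node 20 [⟨20,(Int.ofNat 1),0,0⟩] .nil .nil) (.node 22 [⟨22,(Int.ofNat 1),0,0⟩] .nil .nil))) (.node 27 [⟨27,(Int.ofNat 1),0,0⟩] (.node 25 [⟨24,(Int.ofNat 1),0,0⟩] (.node 24 [⟨25,(Int.negSucc 0),0,0⟩] .nil .nil) (.node 26 [⟨26,(Int.ofNat 1),0,0⟩] .nil .nil)) (.node 29 [⟨30,(Int.negSucc 0),0,0⟩] (.node 28 [⟨28,(Int.ofNat 1),0,0⟩] .nil .nil) (.node 30 [⟨29,(Int.ofNat 1),0,0⟩] .nil .nil))))) (.node 47 [⟨50,(Int.negSucc 0),0,0⟩] (.node 39 [⟨36,(Int.ofNat 1),0,0⟩] (.node 35 [⟨38,(Int.negSucc 0),0,0⟩] (.node 33 [⟨33,(Int.ofNat 1),0,0⟩] (.node 32 [⟨32,(Int.ofNat 1),0,0⟩] .nil .nil) (.node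 34 [⟨34,(Int.ofNat 1),0,0⟩] .nil .nil)) (.node 37 [⟨40,(Int.negSucc 0),0,0⟩] (.node 36 [⟨39,(Int.negSucc 0),0,0⟩] .nil .nil) (.node 38 [⟨35,(Int.ofNat 1),0,0⟩] .nil .nil))) (.node 43 [⟨43,(Int.ofNat 1),0,0⟩] (.node 41 [⟨41,(Int.ofNat 1),0,0⟩] (.node 40 [⟨37,(Int.ofNat 1),0,0⟩] .nil .nil) (.node 42 [⟨42,(Int.ofNat 1),0,0⟩] .nil .nil)) (.node 45 [⟨48,(Int.negSucc 0),0,0⟩] (.node 44 [⟨44,(Int.ofNat 1),0,0⟩] .nil .nil) (.node 46 [⟨49,(Int.negSucc 0),0,0⟩] .nil .nil)))) (.node 55 [⟨55,(Int.ofNat 1),0,0⟩] (.node 51 [⟨51,(Int.ofNat 1),0,0⟩] (.node 49 [⟨46,(Int.ofNat 1),0,0⟩] (.node 48 [⟨45,(Int.ofNat 1),0,0⟩] .nil .nil) (.node 50 [⟨47,(Int.ofNat 1),0,0⟩] .nil .nil)) (.node 53 [⟨53,(Int.ofNat 1),0,0⟩] (.node 52 [⟨52,(Int.ofNat 1),0,0⟩] .nil .nil) (.node 54 [⟨54,(Int.ofNat 1),0,0⟩] .nil .nil))) (.node 59 [⟨62,(Int.negSucc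 0),0,0⟩] (.node 57 [⟨60,(Int.negSucc 0),0,0⟩] (.node 56 [⟨56,(Int.ofNat 1),0,0⟩] .nil .nil) (.node 58 [⟨61,(Int.negSucc 0),0,0⟩] .nil .nil)) (.node 61 [⟨58,(Int.ofNat 1),0,0⟩] (.node 60 [⟨57,(Int.ofNat 1),0,0⟩] .nil .nil) .nil))))) (.node 93 [⟨90,(Int.ofNat 1),0,0⟩] (.node 78 [⟨77,(Int.ofNat 1),0,0⟩] (.node 70 [⟨67,(Int.ofNat 1),0,0⟩] (.node 66 [⟨66,(Int.ofNat 1),0,0⟩] (.node 64 [⟨64,(Int.ofNat 1),0,0⟩] (.node 63 [⟨63,(Int.ofNat 1),0,0⟩] .nil .nil) (.node 65 [⟨65,(Int.ofNat 1),0,0⟩] .nil .nil)) (.node 68 [⟨71,(Int.negSucc 0),0,0⟩] (.node 67 [⟨70,(Int.negSucc 0),0,0⟩] .nil .nil) (.node 69 [⟨72,(Int.negSucc 0),0,0⟩] .nil .nil))) (.node 74 [⟨74,(Int.ofNat 1),0,0⟩] (.node 72 [⟨69,(Int.ofNat 1),0,0⟩] (.node 71 [⟨68,(Int.ofNat 1),0,0⟩] .nil .nil) (.node 73 [⟨73,(Int.ofNat 1),0,0⟩] .nil .nil)) (.node 76 [⟨76,(Int.ofNat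 1),0,0⟩] (.node 75 [⟨75,(Int.ofNat 1),0,0⟩] .nil .nil) (.node 77 [⟨78,(Int.negSucc 0),0,0⟩] .nil .nil)))) (.node 86 [⟨86,(Int.ofNat 1),0,0⟩] (.node 82 [⟨83,(Int.negSucc 0),0,0⟩] (.node 80 [⟨80,(Int.ofNat 1),0,0⟩] (.node 79 [⟨79,(Int.ofNat 1),0,0⟩] .nil .nil) (.node 81 [⟨81,(Int.ofNat 1),0,0⟩] .nil .nil)) (.node 84 [⟨84,(Int.ofNat 1),0,0⟩] (.node 83 [⟨82,(Int.ofNat 1),0,0⟩] .nil .nil) (.node 85 [⟨85,(Int.ofNat 1),0,0⟩] .nil .nil))) (.node 90 [⟨93,(Int.negSucc 0),0,0⟩] (.node 88 [⟨88,(Int.ofNat 1),0,0⟩] (.node 87 [⟨87,(Int.ofNat 1),0,0⟩] .nil .nil) (.node 89 [⟨92,(Int.negSucc 0),0,0⟩] .nil .nil)) (.node 92 [⟨89,(Int.ofNat 1),0,0⟩] (.node 91 [⟨94,(Int.negSucc 0),0,0⟩] .nil .nil) .nil)))) (.node 109 [⟨109,(Int.ofNat 1),0,0⟩] (.node 101 [⟨101,(Int.ofNat 1),0,0⟩] (.node 97 [⟨97,(Int.ofNat 1),0,0⟩] (.node 95 [⟨95,(Int.ofNat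 1),0,0⟩] (.node 94 [⟨91,(Int.ofNat 1),0,0⟩] .nil .nil) (.node 96 [⟨96,(Int.ofNat 1),0,0⟩] .nil .nil)) (.node 99 [⟨100,(Int.negSucc 0),0,0⟩] (.node 98 [⟨98,(Int.ofNat 1),0,0⟩] .nil .nil) (.node 100 [⟨99,(Int.ofNat 1),0,0⟩] .nil .nil))) (.node 105 [⟨104,(Int.ofNat 1),0,0⟩] (.node 103 [⟨103,(Int.ofNat 1),0,0⟩] (.node 102 [⟨102,(Int.ofNat 1),0,0⟩] .nil .nil) (.node 104 [⟨105,(Int.negSucc 0),0,0⟩] .nil .nil)) (.node 107 [⟨107,(Int.ofNat 1),0,0⟩] (.node 106 [⟨106,(Int.ofNat 1),0,0⟩] .nil .nil) (.node 108 [⟨108,(Int.ofNat 1),0,0⟩] .nil .nil)))) (.node 117 [⟨116,(Int.ofNat 1),0,0⟩] (.node 113 [⟨113,(Int.ofNat 1),0,0⟩] (.node 111 [⟨110,(Int.ofNat 1),0,0⟩] (.node 110 [⟨111,(Int.negSucc 0),0,0⟩] .nil .nil) (.node 112 [⟨112,(Int.ofNat 1),0,0⟩] .nil .nil)) (.node 115 [⟨115,(Int.ofNat 1),0,0⟩] (.node 114 [⟨114,(Int.ofNat 1),0,0⟩]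 .nil .nil) (.node 116 [⟨117,(Int.negSucc 0),0,0⟩] .nil .nil))) (.node 121 [⟨134,(Int.negSucc 0),0,0⟩] (.node 119 [⟨123,(Int.ofNat 1),0,0⟩] (.node 118 [⟨122,(Int.ofNat 1),0,0⟩] .nil .nil) (.node 120 [⟨124,(Int.ofNat 1),0,0⟩] .nil .nil)) (.node 123 [⟨119,(Int.negSucc 0),0,0⟩] (.node 122 [⟨118,(Int.negSucc 0),0,0⟩] .nil .nil) .nil)))))) (.node 186 [⟨183,(Int.negSucc 0),0,0⟩] (.node 155 [⟨156,(Int.ofNat 1),0,0⟩] (.node 140 [⟨140,(Int.ofNat 1),0,0⟩] (.node 132 [⟨136,(Int.negSucc 0),0,0⟩] (.node 128 [⟨128,(Int.ofNat 1),0,0⟩] (.node 126 [⟨126,(Int.ofNat 1),0,0⟩] (.node 125 [⟨125,(Int.ofNat 1),0,0⟩] .nil .nil) (.node 127 [⟨127,(Int.ofNat 1),0,0⟩] .nil .nil)) (.node 130 [⟨130,(Int.ofNat 1),0,0⟩] (.node 129 [⟨129,(Int.ofNat 1),0,0⟩] .nil .nil) (.node 131 [⟨135,(Int.negSucc 0),0,0⟩] .nil .nil))) (.node 136 [⟨132,(Int.ofNat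 1),0,0⟩] (.node 134 [⟨121,(Int.negSucc 0),0,0⟩] (.node 133 [⟨137,(Int.negSucc 0),0,0⟩] .nil .nil) (.node 135 [⟨131,(Int.ofNat 1),0,0⟩] .nil .nil)) (.node 138 [⟨139,(Int.ofNat 1),0,0⟩] (.node 137 [⟨133,(Int.ofNat 1),0,0⟩] .nil .nil) (.node 139 [⟨138,(Int.negSucc 0),0,0⟩] .nil .nil)))) (.node 148 [⟨148,(Int.ofNat 1),0,0⟩] (.node 144 [⟨145,(Int.ofNat 1),0,0⟩] (.node 142 [⟨142,(Int.ofNat 1),0,0⟩] (.node 141 [⟨141,(Int.ofNat 1),0,0⟩] .nil .nil) (.node 143 [⟨143,(Int.ofNat 1),0,0⟩] .nil .nil)) (.node 146 [⟨146,(Int.ofNat 1),0,0⟩] (.node 145 [⟨144,(Int.negSucc 0),0,0⟩] .nil .nil) (.node 147 [⟨147,(Int.ofNat 1),0,0⟩] .nil .nil))) (.node 152 [⟨152,(Int.ofNat 1),0,0⟩] (.node 150 [⟨151,(Int.ofNat 1),0,0⟩] (.node 149 [⟨149,(Int.ofNat 1),0,0⟩] .nil .nil) (.node 151 [⟨150,(Int.negSucc 0),0,0⟩] .nil .nil)) (.node 154 [⟨154,(Int.ofNat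 1),0,0⟩] (.node 153 [⟨153,(Int.ofNat 1),0,0⟩] .nil .nil) .nil)))) (.node 171 [⟨171,(Int.ofNat 1),0,0⟩] (.node 163 [⟨166,(Int.ofNat 1),0,0⟩] (.node 159 [⟨159,(Int.ofNat 1),0,0⟩] (.node 157 [⟨157,(Int.ofNat 1),0,0⟩] (.node 156 [⟨155,(Int.negSucc 0),0,0⟩] .nil .nil) (.node 158 [⟨158,(Int.ofNat 1),0,0⟩] .nil .nil)) (.node 161 [⟨164,(Int.ofNat 1),0,0⟩] (.node 160 [⟨160,(Int.ofNat 1),0,0⟩] .nil .nil) (.node 162 [⟨165,(Int.ofNat 1),0,0⟩] .nil .nil))) (.node 167 [⟨167,(Int.ofNat 1),0,0⟩] (.node 165 [⟨162,(Int.negSucc 0),0,0⟩] (.node 164 [⟨161,(Int.negSucc 0),0,0⟩] .nil .nil) (.node 166 [⟨163,(Int.negSucc 0),0,0⟩] .nil .nil)) (.node 169 [⟨169,(Int.ofNat 1),0,0⟩] (.node 168 [⟨168,(Int.ofNat 1),0,0⟩] .nil .nil) (.node 170 [⟨170,(Int.ofNat 1),0,0⟩] .nil .nil)))) (.node 179 [⟨179,(Int.ofNat 1),0,0⟩] (.node 175 [⟨175,(Int.ofNat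 1),0,0⟩] (.node 173 [⟨172,(Int.negSucc 0),0,0⟩] (.node 172 [⟨173,(Int.ofNat 1),0,0⟩] .nil .nil) (.node 174 [⟨174,(Int.ofNat 1),0,0⟩] .nil .nil)) (.node 177 [⟨178,(Int.ofNat 1),0,0⟩] (.node 176 [⟨176,(Int.ofNat 1),0,0⟩] .nil .nil) (.node 178 [⟨177,(Int.negSucc 0),0,0⟩] .nil .nil))) (.node 183 [⟨186,(Int.ofNat 1),0,0⟩] (.node 181 [⟨181,(Int.ofNat 1),0,0⟩] (.node 180 [⟨180,(Int.ofNat 1),0,0⟩] .nil .nil) (.node 182 [⟨182,(Int.ofNat 1),0,0⟩] .nil .nil)) (.node 185 [⟨188,(Int.ofNat 1),0,0⟩] (.node 184 [⟨187,(Int.ofNat 1),0,0⟩] .nil .nil) .nil))))) (.node 217 [⟨220,(Int.ofNat 1),0,0⟩] (.node 202 [⟨202,(Int.ofNat 1),0,0⟩] (.node 194 [⟨197,(Int.ofNat 1),0,0⟩] (.node 190 [⟨190,(Int.ofNat 1),0,0⟩] (.node 188 [⟨185,(Int.negSucc 0),0,0⟩] (.node 187 [⟨184,(Int.negSucc 0),0,0⟩] .nil .nil) (.node 189 [⟨189,(Int.ofNat 1),0,0⟩]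 .nil .nil)) (.node 192 [⟨192,(Int.ofNat 1),0,0⟩] (.node 191 [⟨191,(Int.ofNat 1),0,0⟩] .nil .nil) (.node 193 [⟨196,(Int.ofNat 1),0,0⟩] .nil .nil))) (.node 198 [⟨195,(Int.negSucc 0),0,0⟩] (.node 196 [⟨193,(Int.negSucc 0),0,0⟩] (.node 195 [⟨198,(Int.ofNat 1),0,0⟩] .nil .nil) (.node 197 [⟨194,(Int.negSucc 0),0,0⟩] .nil .nil)) (.node 200 [⟨200,(Int.ofNat 1),0,0⟩] (.node 199 [⟨199,(Int.ofNat 1),0,0⟩] .nil .nil) (.node 201 [⟨201,(Int.ofNat 1),0,0⟩] .nil .nil)))) (.node 210 [⟨207,(Int.negSucc 0),0,0⟩] (.node 206 [⟨209,(Int.ofNat 1),0,0⟩] (.node 204 [⟨204,(Int.ofNat 1),0,0⟩] (.node 203 [⟨203,(Int.ofNat 1),0,0⟩] .nil .nil) (.node 205 [⟨208,(Int.ofNat 1),0,0⟩] .nil .nil)) (.node 208 [⟨205,(Int.negSucc 0),0,0⟩] (.node 207 [⟨210,(Int.ofNat 1),0,0⟩] .nil .nil) (.node 209 [⟨206,(Int.negSucc 0),0,0⟩] .nil .nil))) (.node 214 [⟨214,(Int.ofNat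 1),0,0⟩] (.node 212 [⟨212,(Int.ofNat 1),0,0⟩] (.node 211 [⟨211,(Int.ofNat 1),0,0⟩] .nil .nil) (.node 213 [⟨213,(Int.ofNat 1),0,0⟩] .nil .nil)) (.node 216 [⟨219,(Int.ofNat 1),0,0⟩] (.node 215 [⟨218,(Int.ofNat 1),0,0⟩] .nil .nil) .nil)))) (.node 233 [⟨233,(Int.ofNat 1),0,0⟩] (.node 225 [⟨226,(Int.ofNat 1),0,0⟩] (.node 221 [⟨221,(Int.ofNat 1),0,0⟩] (.node 219 [⟨216,(Int.negSucc 0),0,0⟩] (.node 218 [⟨215,(Int.negSucc 0),0,0⟩] .nil .nil) (.node 220 [⟨217,(Int.negSucc 0),0,0⟩] .nil .nil)) (.node 223 [⟨223,(Int.ofNat 1),0,0⟩] (.node 222 [⟨222,(Int.ofNat 1),0,0⟩] .nil .nil) (.node 224 [⟨224,(Int.ofNat 1),0,0⟩] .nil .nil))) (.node 229 [⟨229,(Int.ofNat 1),0,0⟩] (.node 227 [⟨227,(Int.ofNat 1),0,0⟩] (.node 226 [⟨225,(Int.negSucc 0),0,0⟩] .nil .nil) (.node 228 [⟨228,(Int.ofNat 1),0,0⟩] .nil .nil)) (.node 231 [⟨230,(Int.negSucc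 0),0,0⟩] (.node 230 [⟨231,(Int.ofNat 1),0,0⟩] .nil .nil) (.node 232 [⟨232,(Int.ofNat 1),0,0⟩] .nil .nil)))) (.node 241 [⟨241,(Int.ofNat 1),0,0⟩] (.node 237 [⟨238,(Int.ofNat 1),0,0⟩] (.node 235 [⟨235,(Int.ofNat 1),0,0⟩] (.node 234 [⟨234,(Int.ofNat 1),0,0⟩] .nil .nil) (.node 236 [⟨236,(Int.ofNat 1),0,0⟩] .nil .nil)) (.node 239 [⟨239,(Int.ofNat 1),0,0⟩] (.node 238 [⟨237,(Int.negSucc 0),0,0⟩] .nil .nil) (.node 240 [⟨240,(Int.ofNat 1),0,0⟩] .nil .nil))) (.node 245 [⟨245,(Int.ofNat 1),0,0⟩] (.node 243 [⟨244,(Int.ofNat 1),0,0⟩] (.node 242 [⟨242,(Int.ofNat 1),0,0⟩] .nil .nil) (.node 244 [⟨243,(Int.negSucc 0),0,0⟩] .nil .nil)) (.node 247 [⟨247,(Int.ofNat 1),0,0⟩] (.node 246 [⟨246,(Int.ofNat 1),0,0⟩] .nil .nil) .nil)))))))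
noncomputable def nc5 : Tr Vc := (.node 124 [⟨131,(Int.negSucc 0),0,0⟩] (.node 62 [⟨63,(Int.negSucc 0),0,0⟩] (.node 31 [⟨30,(Int.ofNat 1),0,0⟩] (.node 15 [⟨15,(Int.ofNat 1),0,0⟩] (.node 7 [⟨7,(Int.ofNat 1),0,0⟩] (.node 3 [⟨3,(Int.ofNat 1),0,0⟩] (.node 1 [⟨1,(Int.ofNat 1),0,0⟩] (.node 0 [⟨0,(Int.ofNat 1),0,0⟩] .nil .nil) (.node 2 [⟨2,(Int.ofNat 1),0,0⟩] .nil .nil)) (.node 5 [⟨5,(Int.negSucc 0),0,0⟩] (.node 4 [⟨4,(Int.ofNat 1),0,0⟩, ⟨5,(Int.ofNat 1),0,0⟩] .nil .nil) (.node 6 [⟨5,(Int.ofNat 1),0,0⟩, ⟨6,(Int.ofNat 1),0,0⟩] .nil .nil))) (.node 11 [⟨10,(Int.ofNat 1),0,0⟩] (.node 9 [⟨9,(Int.ofNat 1),0,0⟩] (.node 8 [⟨8,(Int.ofNat 1),0,0⟩] .nil .nil) (.node 10 [⟨11,(Int.negSucc 0),0,0⟩] .nil .nil)) (.node 13 [⟨13,(Int.ofNat 1),0,0⟩] (.node 12 [⟨12,(Int.ofNat 1),0,0⟩] .nil .nil) (.node 14 [⟨14,(Int.ofNat 1),0,0⟩] .nil .nil))))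 (.node 23 [⟨23,(Int.ofNat 1),0,0⟩] (.node 19 [⟨18,(Int.ofNat 1),0,0⟩] (.node 17 [⟨17,(Int.ofNat 1),0,0⟩] (.node 16 [⟨16,(Int.ofNat 1),0,0⟩] .nil .nil) (.node 18 [⟨19,(Int.negSucc 0),0,0⟩] .nil .nil)) (.node 21 [⟨21,(Int.ofNat 1),0,0⟩] (.node 20 [⟨20,(Int.ofNat 1),0,0⟩] .nil .nil) (.node 22 [⟨22,(Int.ofNat 1),0,0⟩] .nil .nil))) (.node 27 [⟨27,(Int.ofNat 1),0,0⟩] (.node 25 [⟨26,(Int.negSucc 0),0,0⟩] (.node 24 [⟨24,(Int.ofNat 1),0,0⟩] .nil .nil) (.node 26 [⟨25,(Int.ofNat 1),0,0⟩] .nil .nil)) (.node 29 [⟨29,(Int.ofNat 1),0,0⟩] (.node 28 [⟨28,(Int.ofNat 1),0,0⟩] .nil .nil) (.node 30 [⟨31,(Int.negSucc 0),0,0⟩] .nil .nil))))) (.node 47 [⟨47,(Int.ofNat 1),0,0⟩] (.node 39 [⟨41,(Int.negSucc 0),0,0⟩] (.node 35 [⟨34,(Int.ofNat 1),0,0⟩] (.node 33 [⟨33,(Int.ofNat 1),0,0⟩] (.node 32 [⟨32,(Int.ofNat 1),0,0⟩] .nil .nil) (.node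 34 [⟨35,(Int.negSucc 0),0,0⟩] .nil .nil)) (.node 37 [⟨37,(Int.ofNat 1),0,0⟩] (.node 36 [⟨36,(Int.ofNat 1),0,0⟩] .nil .nil) (.node 38 [⟨38,(Int.ofNat 1),0,0⟩] .nil .nil))) (.node 43 [⟨43,(Int.ofNat 1),0,0⟩] (.node 41 [⟨39,(Int.ofNat 1),0,0⟩] (.node 40 [⟨42,(Int.negSucc 0),0,0⟩] .nil .nil) (.node 42 [⟨40,(Int.ofNat 1),0,0⟩] .nil .nil)) (.node 45 [⟨44,(Int.ofNat 1),0,0⟩] (.node 44 [⟨45,(Int.negSucc 0),0,0⟩] .nil .nil) (.node 46 [⟨46,(Int.ofNat 1),0,0⟩] .nil .nil)))) (.node 55 [⟨57,(Int.negSucc 0),0,0⟩] (.node 51 [⟨49,(Int.ofNat 1),0,0⟩] (.node 49 [⟨51,(Int.negSucc 0),0,0⟩] (.node 48 [⟨48,(Int.ofNat 1),0,0⟩] .nil .nil) (.node 50 [⟨52,(Int.negSucc 0),0,0⟩] .nil .nil)) (.node 53 [⟨53,(Int.ofNat 1),0,0⟩] (.node 52 [⟨50,(Int.ofNat 1),0,0⟩] .nil .nil) (.node 54 [⟨54,(Int.ofNat 1),0,0⟩] .nil .nil))) (.node 59 [⟨59,(Int.ofNat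 1),0,0⟩] (.node 57 [⟨55,(Int.ofNat 1),0,0⟩] (.node 56 [⟨58,(Int.negSucc 0),0,0⟩] .nil .nil) (.node 58 [⟨56,(Int.ofNat 1),0,0⟩] .nil .nil)) (.node 61 [⟨61,(Int.ofNat 1),0,0⟩] (.node 60 [⟨60,(Int.ofNat 1),0,0⟩] .nil .nil) .nil))))) (.node 93 [⟨93,(Int.ofNat 1),0,0⟩] (.node 78 [⟨78,(Int.ofNat 1),0,0⟩] (.node 70 [⟨70,(Int.ofNat 1),0,0⟩] (.node 66 [⟨68,(Int.negSucc 0),0,0⟩] (.node 64 [⟨64,(Int.ofNat 1),0,0⟩] (.node 63 [⟨62,(Int.ofNat 1),0,0⟩] .nil .nil) (.node 65 [⟨67,(Int.negSucc 0),0,0⟩] .nil .nil)) (.node 68 [⟨66,(Int.ofNat 1),0,0⟩] (.node 67 [⟨65,(Int.ofNat 1),0,0⟩] .nil .nil) (.node 69 [⟨69,(Int.ofNat 1),0,0⟩] .nil .nil))) (.node 74 [⟨74,(Int.ofNat 1),0,0⟩] (.node 72 [⟨73,(Int.negSucc 0),0,0⟩] (.node 71 [⟨71,(Int.ofNat 1),0,0⟩] .nil .nil) (.node 73 [⟨72,(Int.ofNat 1),0,0⟩] .nil .nil)) (.node 76 [⟨77,(Int.negSucc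 0),0,0⟩] (.node 75 [⟨75,(Int.ofNat 1),0,0⟩] .nil .nil) (.node 77 [⟨76,(Int.ofNat 1),0,0⟩] .nil .nil)))) (.node 86 [⟨86,(Int.ofNat 1),0,0⟩] (.node 82 [⟨81,(Int.ofNat 1),0,0⟩] (.node 80 [⟨80,(Int.ofNat 1),0,0⟩] (.node 79 [⟨79,(Int.ofNat 1),0,0⟩] .nil .nil) (.node 81 [⟨82,(Int.negSucc 0),0,0⟩] .nil .nil)) (.node 84 [⟨84,(Int.ofNat 1),0,0⟩] (.node 83 [⟨83,(Int.ofNat 1),0,0⟩] .nil .nil) (.node 85 [⟨85,(Int.ofNat 1),0,0⟩] .nil .nil))) (.node 90 [⟨88,(Int.ofNat 1),0,0⟩] (.node 88 [⟨90,(Int.negSucc 0),0,0⟩] (.node 87 [⟨89,(Int.negSucc 0),0,0⟩] .nil .nil) (.node 89 [⟨87,(Int.ofNat 1),0,0⟩] .nil .nil)) (.node 92 [⟨92,(Int.ofNat 1),0,0⟩] (.node 91 [⟨91,(Int.ofNat 1),0,0⟩] .nil .nil) .nil)))) (.node 109 [⟨110,(Int.negSucc 0),0,0⟩] (.node 101 [⟨101,(Int.ofNat 1),0,0⟩] (.node 97 [⟨97,(Int.ofNat 1),0,0⟩] (.node 95 [⟨94,(Int.ofNat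 1),0,0⟩] (.node 94 [⟨95,(Int.negSucc 0),0,0⟩] .nil .nil) (.node 96 [⟨96,(Int.ofNat 1),0,0⟩] .nil .nil)) (.node 99 [⟨98,(Int.ofNat 1),0,0⟩] (.node 98 [⟨99,(Int.negSucc 0),0,0⟩] .nil .nil) (.node 100 [⟨100,(Int.ofNat 1),0,0⟩] .nil .nil))) (.node 105 [⟨105,(Int.ofNat 1),0,0⟩] (.node 103 [⟨104,(Int.negSucc 0),0,0⟩] (.node 102 [⟨102,(Int.ofNat 1),0,0⟩] .nil .nil) (.node 104 [⟨103,(Int.ofNat 1),0,0⟩] .nil .nil)) (.node 107 [⟨107,(Int.ofNat 1),0,0⟩] (.node 106 [⟨106,(Int.ofNat 1),0,0⟩] .nil .nil) (.node 108 [⟨108,(Int.ofNat 1),0,0⟩] .nil .nil)))) (.node 117 [⟨117,(Int.ofNat 1),0,0⟩] (.node 113 [⟨113,(Int.ofNat 1),0,0⟩] (.node 111 [⟨111,(Int.ofNat 1),0,0⟩] (.node 110 [⟨109,(Int.ofNat 1),0,0⟩] .nil .nil) (.node 112 [⟨112,(Int.ofNat 1),0,0⟩] .nil .nil)) (.node 115 [⟨116,(Int.negSucc 0),0,0⟩] (.node 114 [⟨114,(Int.ofNat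 1),0,0⟩] .nil .nil) (.node 116 [⟨115,(Int.ofNat 1),0,0⟩] .nil .nil))) (.node 121 [⟨120,(Int.ofNat 1),0,0⟩] (.node 119 [⟨119,(Int.ofNat 1),0,0⟩] (.node 118 [⟨118,(Int.ofNat 1),0,0⟩] .nil .nil) (.node 120 [⟨121,(Int.negSucc 0),0,0⟩] .nil .nil)) (.node 123 [⟨126,(Int.ofNat 1),0,0⟩] (.node 122 [⟨125,(Int.ofNat 1),0,0⟩] .nil .nil) .nil)))))) (.node 186 [⟨186,(Int.ofNat 1),0,0⟩] (.node 155 [⟨155,(Int.ofNat 1),0,0⟩] (.node 140 [⟨139,(Int.negSucc 0),0,0⟩] (.node 132 [⟨129,(Int.ofNat 1),0,0⟩] (.node 128 [⟨128,(Int.ofNat 1),0,0⟩] (.node 126 [⟨123,(Int.negSucc 0),0,0⟩] (.node 125 [⟨122,(Int.negSucc 0),0,0⟩] .nil .nil) (.node 127 [⟨127,(Int.ofNat 1),0,0⟩] .nil .nil)) (.node 130 [⟨133,(Int.negSucc 0),0,0⟩] (.node 129 [⟨132,(Int.negSucc 0),0,0⟩] .nil .nil) (.node 131 [⟨124,(Int.negSucc 0),0,0⟩] .nil .nil))) (.node 136 [⟨136,(Int.ofNat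 1),0,0⟩] (.node 134 [⟨135,(Int.ofNat 1),0,0⟩] (.node 133 [⟨130,(Int.ofNat 1),0,0⟩] .nil .nil) (.node 135 [⟨134,(Int.negSucc 0),0,0⟩] .nil .nil)) (.node 138 [⟨138,(Int.ofNat 1),0,0⟩] (.node 137 [⟨137,(Int.ofNat 1),0,0⟩] .nil .nil) (.node 139 [⟨140,(Int.ofNat 1),0,0⟩] .nil .nil)))) (.node 148 [⟨148,(Int.ofNat 1),0,0⟩] (.node 144 [⟨144,(Int.ofNat 1),0,0⟩] (.node 142 [⟨142,(Int.ofNat 1),0,0⟩] (.node 141 [⟨141,(Int.ofNat 1),0,0⟩] .nil .nil) (.node 143 [⟨143,(Int.ofNat 1),0,0⟩] .nil .nil)) (.node 146 [⟨145,(Int.negSucc 0),0,0⟩] (.node 145 [⟨146,(Int.ofNat 1),0,0⟩] .nil .nil) (.node 147 [⟨147,(Int.ofNat 1),0,0⟩] .nil .nil))) (.node 152 [⟨151,(Int.negSucc 0),0,0⟩] (.node 150 [⟨150,(Int.ofNat 1),0,0⟩] (.node 149 [⟨149,(Int.ofNat 1),0,0⟩] .nil .nil) (.node 151 [⟨152,(Int.ofNat 1),0,0⟩] .nil .nil)) (.node 154 [⟨154,(Int.ofNat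 1),0,0⟩] (.node 153 [⟨153,(Int.ofNat 1),0,0⟩] .nil .nil) .nil)))) (.node 171 [⟨171,(Int.ofNat 1),0,0⟩] (.node 163 [⟨163,(Int.ofNat 1),0,0⟩] (.node 159 [⟨159,(Int.ofNat 1),0,0⟩] (.node 157 [⟨156,(Int.negSucc 0),0,0⟩] (.node 156 [⟨157,(Int.ofNat 1),0,0⟩] .nil .nil) (.node 158 [⟨158,(Int.ofNat 1),0,0⟩] .nil .nil)) (.node 161 [⟨160,(Int.negSucc 0),0,0⟩] (.node 160 [⟨161,(Int.ofNat 1),0,0⟩] .nil .nil) (.node 162 [⟨162,(Int.ofNat 1),0,0⟩] .nil .nil))) (.node 167 [⟨165,(Int.negSucc 0),0,0⟩] (.node 165 [⟨167,(Int.ofNat 1),0,0⟩] (.node 164 [⟨164,(Int.ofNat 1),0,0⟩] .nil .nil) (.node 166 [⟨168,(Int.ofNat 1),0,0⟩] .nil .nil)) (.node 169 [⟨169,(Int.ofNat 1),0,0⟩] (.node 168 [⟨166,(Int.negSucc 0),0,0⟩] .nil .nil) (.node 170 [⟨170,(Int.ofNat 1),0,0⟩] .nil .nil)))) (.node 179 [⟨178,(Int.negSucc 0),0,0⟩] (.node 175 [⟨175,(Int.ofNat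 1),0,0⟩] (.node 173 [⟨174,(Int.ofNat 1),0,0⟩] (.node 172 [⟨172,(Int.ofNat 1),0,0⟩] .nil .nil) (.node 174 [⟨173,(Int.negSucc 0),0,0⟩] .nil .nil)) (.node 177 [⟨177,(Int.ofNat 1),0,0⟩] (.node 176 [⟨176,(Int.ofNat 1),0,0⟩] .nil .nil) (.node 178 [⟨179,(Int.ofNat 1),0,0⟩] .nil .nil))) (.node 183 [⟨182,(Int.negSucc 0),0,0⟩] (.node 181 [⟨181,(Int.ofNat 1),0,0⟩] (.node 180 [⟨180,(Int.ofNat 1),0,0⟩] .nil .nil) (.node 182 [⟨183,(Int.ofNat 1),0,0⟩] .nil .nil)) (.node 185 [⟨185,(Int.ofNat 1),0,0⟩] (.node 184 [⟨184,(Int.ofNat 1),0,0⟩] .nil .nil) .nil))))) (.node 217 [⟨217,(Int.ofNat 1),0,0⟩] (.node 202 [⟨202,(Int.ofNat 1),0,0⟩] (.node 194 [⟨194,(Int.ofNat 1),0,0⟩] (.node 190 [⟨188,(Int.negSucc 0),0,0⟩] (.node 188 [⟨190,(Int.ofNat 1),0,0⟩] (.node 187 [⟨189,(Int.ofNat 1),0,0⟩] .nil .nil) (.node 189 [⟨187,(Int.negSucc 0),0,0⟩]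 .nil .nil)) (.node 192 [⟨193,(Int.ofNat 1),0,0⟩] (.node 191 [⟨191,(Int.ofNat 1),0,0⟩] .nil .nil) (.node 193 [⟨192,(Int.negSucc 0),0,0⟩] .nil .nil))) (.node 198 [⟨200,(Int.ofNat 1),0,0⟩] (.node 196 [⟨196,(Int.ofNat 1),0,0⟩] (.node 195 [⟨195,(Int.ofNat 1),0,0⟩] .nil .nil) (.node 197 [⟨199,(Int.ofNat 1),0,0⟩] .nil .nil)) (.node 200 [⟨198,(Int.negSucc 0),0,0⟩] (.node 199 [⟨197,(Int.negSucc 0),0,0⟩] .nil .nil) (.node 201 [⟨201,(Int.ofNat 1),0,0⟩] .nil .nil)))) (.node 210 [⟨211,(Int.ofNat 1),0,0⟩] (.node 206 [⟨204,(Int.negSucc 0),0,0⟩] (.node 204 [⟨206,(Int.ofNat 1),0,0⟩] (.node 203 [⟨205,(Int.ofNat 1),0,0⟩] .nil .nil) (.node 205 [⟨203,(Int.negSucc 0),0,0⟩] .nil .nil)) (.node 208 [⟨208,(Int.ofNat 1),0,0⟩] (.node 207 [⟨207,(Int.ofNat 1),0,0⟩] .nil .nil) (.node 209 [⟨209,(Int.ofNat 1),0,0⟩] .nil .nil))) (.node 214 [⟨216,(Int.ofNat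 1),0,0⟩] (.node 212 [⟨212,(Int.ofNat 1),0,0⟩] (.node 211 [⟨210,(Int.negSucc 0),0,0⟩] .nil .nil) (.node 213 [⟨215,(Int.ofNat 1),0,0⟩] .nil .nil)) (.node 216 [⟨214,(Int.negSucc 0),0,0⟩] (.node 215 [⟨213,(Int.negSucc 0),0,0⟩] .nil .nil) .nil)))) (.node 233 [⟨233,(Int.ofNat 1),0,0⟩] (.node 225 [⟨224,(Int.negSucc 0),0,0⟩] (.node 221 [⟨220,(Int.negSucc 0),0,0⟩] (.node 219 [⟨219,(Int.ofNat 1),0,0⟩] (.node 218 [⟨218,(Int.ofNat 1),0,0⟩] .nil .nil) (.node 220 [⟨221,(Int.ofNat 1),0,0⟩] .nil .nil)) (.node 223 [⟨223,(Int.ofNat 1),0,0⟩] (.node 222 [⟨222,(Int.ofNat 1),0,0⟩] .nil .nil) (.node 224 [⟨225,(Int.ofNat 1),0,0⟩] .nil .nil))) (.node 229 [⟨230,(Int.ofNat 1),0,0⟩] (.node 227 [⟨227,(Int.ofNat 1),0,0⟩] (.node 226 [⟨226,(Int.ofNat 1),0,0⟩] .nil .nil) (.node 228 [⟨228,(Int.ofNat 1),0,0⟩] .nil .nil)) (.node 231 [⟨231,(Int.ofNat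 1),0,0⟩] (.node 230 [⟨229,(Int.negSucc 0),0,0⟩] .nil .nil) (.node 232 [⟨232,(Int.ofNat 1),0,0⟩] .nil .nil)))) (.node 241 [⟨241,(Int.ofNat 1),0,0⟩] (.node 237 [⟨236,(Int.negSucc 0),0,0⟩] (.node 235 [⟨235,(Int.ofNat 1),0,0⟩] (.node 234 [⟨234,(Int.ofNat 1),0,0⟩] .nil .nil) (.node 236 [⟨237,(Int.ofNat 1),0,0⟩] .nil .nil)) (.node 239 [⟨239,(Int.ofNat 1),0,0⟩] (.node 238 [⟨238,(Int.ofNat 1),0,0⟩] .nil .nil) (.node 240 [⟨240,(Int.ofNat 1),0,0⟩] .nil .nil))) (.node 245 [⟨244,(Int.negSucc 0),0,0⟩] (.node 243 [⟨243,(Int.ofNat 1),0,0⟩] (.node 242 [⟨242,(Int.ofNat 1),0,0⟩] .nil .nil) (.node 244 [⟨245,(Int.ofNat 1),0,0⟩] .nil .nil)) (.node 247 [⟨247,(Int.ofNat 1),0,0⟩] (.node 246 [⟨246,(Int.ofNat 1),0,0⟩] .nil .nil) .nil)))))))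
noncomputable def nc6 : Tr Vc := (.node 124 [⟨123,(Int.ofNat 1),0,0⟩] (.node 62 [⟨61,(Int.ofNat 1),0,0⟩] (.node 31 [⟨32,(Int.negSucc 0),0,0⟩] (.node 15 [⟨15,(Int.ofNat 1),0,0⟩] (.node 7 [⟨6,(Int.ofNat 1),0,0⟩, ⟨7,(Int.ofNat 1),0,0⟩] (.node 3 [⟨3,(Int.ofNat 1),0,0⟩] (.node 1 [⟨1,(Int.ofNat 1),0,0⟩] (.node 0 [⟨0,(Int.ofNat 1),0,0⟩] .nil .nil) (.node 2 [⟨2,(Int.ofNat 1),0,0⟩] .nil .nil)) (.node 5 [⟨5,(Int.ofNat 1),0,0⟩, ⟨6,(Int.ofNat 1),0,0⟩] (.node 4 [⟨4,(Int.ofNat 1),0,0⟩] .nil .nil) (.node 6 [⟨6,(Int.negSucc 0),0,0⟩] .nil .nil))) (.node 11 [⟨11,(Int.ofNat 1),0,0⟩] (.node 9 [⟨10,(Int.negSucc 0),0,0⟩] (.node 8 [⟨8,(Int.ofNat 1),0,0⟩] .nil .nil) (.node 10 [⟨9,(Int.ofNat 1),0,0⟩] .nil .nil)) (.node 13 [⟨13,(Int.ofNat 1),0,0⟩] (.node 12 [⟨12,(Int.ofNat 1),0,0⟩] .nil .nil) (.node 14 [⟨14,(Int.ofNat 1),0,0⟩] .nil .nil))))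 (.node 23 [⟨23,(Int.ofNat 1),0,0⟩] (.node 19 [⟨20,(Int.negSucc 0),0,0⟩] (.node 17 [⟨17,(Int.ofNat 1),0,0⟩] (.node 16 [⟨16,(Int.ofNat 1),0,0⟩] .nil .nil) (.node 18 [⟨18,(Int.ofNat 1),0,0⟩] .nil .nil)) (.node 21 [⟨21,(Int.ofNat 1),0,0⟩] (.node 20 [⟨19,(Int.ofNat 1),0,0⟩] .nil .nil) (.node 22 [⟨22,(Int.ofNat 1),0,0⟩] .nil .nil))) (.node 27 [⟨26,(Int.ofNat 1),0,0⟩] (.node 25 [⟨25,(Int.ofNat 1),0,0⟩] (.node 24 [⟨24,(Int.ofNat 1),0,0⟩] .nil .nil) (.node 26 [⟨27,(Int.negSucc 0),0,0⟩] .nil .nil)) (.node 29 [⟨29,(Int.ofNat 1),0,0⟩] (.node 28 [⟨28,(Int.ofNat 1),0,0⟩] .nil .nil) (.node 30 [⟨30,(Int.ofNat 1),0,0⟩] .nil .nil))))) (.node 47 [⟨47,(Int.ofNat 1),0,0⟩] (.node 39 [⟨38,(Int.ofNat 1),0,0⟩] (.node 35 [⟨36,(Int.negSucc 0),0,0⟩] (.node 33 [⟨33,(Int.ofNat 1),0,0⟩] (.node 32 [⟨31,(Int.ofNat 1),0,0⟩] .nil .nil) (.node 34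 [⟨34,(Int.ofNat 1),0,0⟩] .nil .nil)) (.node 37 [⟨37,(Int.ofNat 1),0,0⟩] (.node 36 [⟨35,(Int.ofNat 1),0,0⟩] .nil .nil) (.node 38 [⟨39,(Int.negSucc 0),0,0⟩] .nil .nil))) (.node 43 [⟨42,(Int.ofNat 1),0,0⟩] (.node 41 [⟨41,(Int.ofNat 1),0,0⟩] (.node 40 [⟨40,(Int.ofNat 1),0,0⟩] .nil .nil) (.node 42 [⟨43,(Int.negSucc 0),0,0⟩] .nil .nil)) (.node 45 [⟨46,(Int.negSucc 0),0,0⟩] (.node 44 [⟨44,(Int.ofNat 1),0,0⟩] .nil .nil) (.node 46 [⟨45,(Int.ofNat 1),0,0⟩] .nil .nil)))) (.node 55 [⟨54,(Int.ofNat 1),0,0⟩] (.node 51 [⟨51,(Int.ofNat 1),0,0⟩] (.node 49 [⟨48,(Int.ofNat 1),0,0⟩] (.node 48 [⟨49,(Int.negSucc 0),0,0⟩] .nil .nil) (.node 50 [⟨50,(Int.ofNat 1),0,0⟩] .nil .nil)) (.node 53 [⟨52,(Int.ofNat 1),0,0⟩] (.node 52 [⟨53,(Int.negSucc 0),0,0⟩] .nil .nil) (.node 54 [⟨55,(Int.negSucc 0),0,0⟩] .nil .nil))) (.node 59 [⟨58,(Int.ofNat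 1),0,0⟩] (.node 57 [⟨57,(Int.ofNat 1),0,0⟩] (.node 56 [⟨56,(Int.ofNat 1),0,0⟩] .nil .nil) (.node 58 [⟨59,(Int.negSucc 0),0,0⟩] .nil .nil)) (.node 61 [⟨62,(Int.negSucc 0),0,0⟩] (.node 60 [⟨60,(Int.ofNat 1),0,0⟩] .nil .nil) .nil))))) (.node 93 [⟨94,(Int.negSucc 0),0,0⟩] (.node 78 [⟨78,(Int.ofNat 1),0,0⟩] (.node 70 [⟨70,(Int.ofNat 1),0,0⟩] (.node 66 [⟨66,(Int.ofNat 1),0,0⟩] (.node 64 [⟨65,(Int.negSucc 0),0,0⟩] (.node 63 [⟨63,(Int.ofNat 1),0,0⟩] .nil .nil) (.node 65 [⟨64,(Int.ofNat 1),0,0⟩] .nil .nil)) (.node 68 [⟨69,(Int.negSucc 0),0,0⟩] (.node 67 [⟨67,(Int.ofNat 1),0,0⟩] .nil .nil) (.node 69 [⟨68,(Int.ofNat 1),0,0⟩] .nil .nil))) (.node 74 [⟨74,(Int.ofNat 1),0,0⟩] (.node 72 [⟨71,(Int.ofNat 1),0,0⟩] (.node 71 [⟨72,(Int.negSucc 0),0,0⟩] .nil .nil) (.node 73 [⟨73,(Int.ofNat 1),0,0⟩] .nil .nil)) (.node 76 [⟨75,(Int.ofNat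 1),0,0⟩] (.node 75 [⟨76,(Int.negSucc 0),0,0⟩] .nil .nil) (.node 77 [⟨77,(Int.ofNat 1),0,0⟩] .nil .nil)))) (.node 86 [⟨87,(Int.negSucc 0),0,0⟩] (.node 82 [⟨82,(Int.ofNat 1),0,0⟩] (.node 80 [⟨81,(Int.negSucc 0),0,0⟩] (.node 79 [⟨79,(Int.ofNat 1),0,0⟩] .nil .nil) (.node 81 [⟨80,(Int.ofNat 1),0,0⟩] .nil .nil)) (.node 84 [⟨84,(Int.ofNat 1),0,0⟩] (.node 83 [⟨83,(Int.ofNat 1),0,0⟩] .nil .nil) (.node 85 [⟨85,(Int.ofNat 1),0,0⟩] .nil .nil))) (.node 90 [⟨91,(Int.negSucc 0),0,0⟩] (.node 88 [⟨88,(Int.ofNat 1),0,0⟩] (.node 87 [⟨86,(Int.ofNat 1),0,0⟩] .nil .nil) (.node 89 [⟨89,(Int.ofNat 1),0,0⟩] .nil .nil)) (.node 92 [⟨92,(Int.ofNat 1),0,0⟩] (.node 91 [⟨90,(Int.ofNat 1),0,0⟩] .nil .nil) .nil)))) (.node 109 [⟨108,(Int.ofNat 1),0,0⟩] (.node 101 [⟨101,(Int.ofNat 1),0,0⟩] (.node 97 [⟨98,(Int.negSucc 0),0,0⟩] (.node 95 [⟨95,(Int.ofNat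 1),0,0⟩] (.node 94 [⟨93,(Int.ofNat 1),0,0⟩] .nil .nil) (.node 96 [⟨96,(Int.ofNat 1),0,0⟩] .nil .nil)) (.node 99 [⟨99,(Int.ofNat 1),0,0⟩] (.node 98 [⟨97,(Int.ofNat 1),0,0⟩] .nil .nil) (.node 100 [⟨100,(Int.ofNat 1),0,0⟩] .nil .nil))) (.node 105 [⟨105,(Int.ofNat 1),0,0⟩] (.node 103 [⟨102,(Int.ofNat 1),0,0⟩] (.node 102 [⟨103,(Int.negSucc 0),0,0⟩] .nil .nil) (.node 104 [⟨104,(Int.ofNat 1),0,0⟩] .nil .nil)) (.node 107 [⟨107,(Int.ofNat 1),0,0⟩] (.node 106 [⟨106,(Int.ofNat 1),0,0⟩] .nil .nil) (.node 108 [⟨109,(Int.negSucc 0),0,0⟩] .nil .nil)))) (.node 117 [⟨117,(Int.ofNat 1),0,0⟩] (.node 113 [⟨113,(Int.ofNat 1),0,0⟩] (.node 111 [⟨111,(Int.ofNat 1),0,0⟩] (.node 110 [⟨110,(Int.ofNat 1),0,0⟩] .nil .nil) (.node 112 [⟨112,(Int.ofNat 1),0,0⟩] .nil .nil)) (.node 115 [⟨114,(Int.ofNat 1),0,0⟩] (.node 114 [⟨115,(Int.negSucc 0),0,0⟩]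 .nil .nil) (.node 116 [⟨116,(Int.ofNat 1),0,0⟩] .nil .nil))) (.node 121 [⟨121,(Int.ofNat 1),0,0⟩] (.node 119 [⟨120,(Int.negSucc 0),0,0⟩] (.node 118 [⟨118,(Int.ofNat 1),0,0⟩] .nil .nil) (.node 120 [⟨119,(Int.ofNat 1),0,0⟩] .nil .nil)) (.node 123 [⟨124,(Int.negSucc 0),0,0⟩] (.node 122 [⟨122,(Int.ofNat 1),0,0⟩] .nil .nil) .nil)))))) (.node 186 [⟨187,(Int.ofNat 1),0,0⟩] (.node 155 [⟨155,(Int.ofNat 1),0,0⟩] (.node 140 [⟨141,(Int.ofNat 1),0,0⟩] (.node 132 [⟨131,(Int.negSucc 0),0,0⟩] (.node 128 [⟨130,(Int.negSucc 0),0,0⟩] (.node 126 [⟨129,(Int.negSucc 0),0,0⟩] (.node 125 [⟨127,(Int.ofNat 1),0,0⟩] .nil .nil) (.node 127 [⟨125,(Int.negSucc 0),0,0⟩] .nil .nil)) (.node 130 [⟨128,(Int.ofNat 1),0,0⟩] (.node 129 [⟨126,(Int.negSucc 0),0,0⟩] .nil .nil) (.node 131 [⟨132,(Int.ofNat 1),0,0⟩] .nil .nil))) (.node 136 [⟨135,(Int.negSucc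 0),0,0⟩] (.node 134 [⟨134,(Int.ofNat 1),0,0⟩] (.node 133 [⟨133,(Int.ofNat 1),0,0⟩] .nil .nil) (.node 135 [⟨136,(Int.ofNat 1),0,0⟩] .nil .nil)) (.node 138 [⟨138,(Int.ofNat 1),0,0⟩] (.node 137 [⟨137,(Int.ofNat 1),0,0⟩] .nil .nil) (.node 139 [⟨139,(Int.ofNat 1),0,0⟩] .nil .nil)))) (.node 148 [⟨148,(Int.ofNat 1),0,0⟩] (.node 144 [⟨144,(Int.ofNat 1),0,0⟩] (.node 142 [⟨142,(Int.ofNat 1),0,0⟩] (.node 141 [⟨140,(Int.negSucc 0),0,0⟩] .nil .nil) (.node 143 [⟨143,(Int.ofNat 1),0,0⟩] .nil .nil)) (.node 146 [⟨147,(Int.ofNat 1),0,0⟩] (.node 145 [⟨145,(Int.ofNat 1),0,0⟩] .nil .nil) (.node 147 [⟨146,(Int.negSucc 0),0,0⟩] .nil .nil))) (.node 152 [⟨153,(Int.ofNat 1),0,0⟩] (.node 150 [⟨150,(Int.ofNat 1),0,0⟩] (.node 149 [⟨149,(Int.ofNat 1),0,0⟩] .nil .nil) (.node 151 [⟨151,(Int.ofNat 1),0,0⟩] .nil .nil)) (.node 154 [⟨154,(Int.ofNat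 1),0,0⟩] (.node 153 [⟨152,(Int.negSucc 0),0,0⟩] .nil .nil) .nil)))) (.node 171 [⟨171,(Int.ofNat 1),0,0⟩] (.node 163 [⟨163,(Int.ofNat 1),0,0⟩] (.node 159 [⟨159,(Int.ofNat 1),0,0⟩] (.node 157 [⟨158,(Int.ofNat 1),0,0⟩] (.node 156 [⟨156,(Int.ofNat 1),0,0⟩] .nil .nil) (.node 158 [⟨157,(Int.negSucc 0),0,0⟩] .nil .nil)) (.node 161 [⟨162,(Int.ofNat 1),0,0⟩] (.node 160 [⟨160,(Int.ofNat 1),0,0⟩] .nil .nil) (.node 162 [⟨161,(Int.negSucc 0),0,0⟩] .nil .nil))) (.node 167 [⟨167,(Int.ofNat 1),0,0⟩] (.node 165 [⟨164,(Int.negSucc 0),0,0⟩] (.node 164 [⟨165,(Int.ofNat 1),0,0⟩] .nil .nil) (.node 166 [⟨166,(Int.ofNat 1),0,0⟩] .nil .nil)) (.node 169 [⟨168,(Int.negSucc 0),0,0⟩] (.node 168 [⟨169,(Int.ofNat 1),0,0⟩] .nil .nil) (.node 170 [⟨170,(Int.ofNat 1),0,0⟩] .nil .nil)))) (.node 179 [⟨180,(Int.ofNat 1),0,0⟩] (.node 175 [⟨174,(Int.negSucc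 0),0,0⟩] (.node 173 [⟨173,(Int.ofNat 1),0,0⟩] (.node 172 [⟨172,(Int.ofNat 1),0,0⟩] .nil .nil) (.node 174 [⟨175,(Int.ofNat 1),0,0⟩] .nil .nil)) (.node 177 [⟨177,(Int.ofNat 1),0,0⟩] (.node 176 [⟨176,(Int.ofNat 1),0,0⟩] .nil .nil) (.node 178 [⟨178,(Int.ofNat 1),0,0⟩] .nil .nil))) (.node 183 [⟨184,(Int.ofNat 1),0,0⟩] (.node 181 [⟨181,(Int.ofNat 1),0,0⟩] (.node 180 [⟨179,(Int.negSucc 0),0,0⟩] .nil .nil) (.node 182 [⟨182,(Int.ofNat 1),0,0⟩] .nil .nil)) (.node 185 [⟨185,(Int.ofNat 1),0,0⟩] (.node 184 [⟨183,(Int.negSucc 0),0,0⟩] .nil .nil) .nil))))) (.node 217 [⟨216,(Int.negSucc 0),0,0⟩] (.node 202 [⟨203,(Int.ofNat 1),0,0⟩] (.node 194 [⟨193,(Int.negSucc 0),0,0⟩] (.node 190 [⟨191,(Int.ofNat 1),0,0⟩] (.node 188 [⟨188,(Int.ofNat 1),0,0⟩] (.node 187 [⟨186,(Int.negSucc 0),0,0⟩] .nil .nil) (.node 189 [⟨189,(Int.ofNat 1),0,0⟩]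 .nil .nil)) (.node 192 [⟨192,(Int.ofNat 1),0,0⟩] (.node 191 [⟨190,(Int.negSucc 0),0,0⟩] .nil .nil) (.node 193 [⟨194,(Int.ofNat 1),0,0⟩] .nil .nil))) (.node 198 [⟨198,(Int.ofNat 1),0,0⟩] (.node 196 [⟨197,(Int.ofNat 1),0,0⟩] (.node 195 [⟨195,(Int.ofNat 1),0,0⟩] .nil .nil) (.node 197 [⟨196,(Int.negSucc 0),0,0⟩] .nil .nil)) (.node 200 [⟨201,(Int.ofNat 1),0,0⟩] (.node 199 [⟨199,(Int.ofNat 1),0,0⟩] .nil .nil) (.node 201 [⟨200,(Int.negSucc 0),0,0⟩] .nil .nil)))) (.node 210 [⟨209,(Int.negSucc 0),0,0⟩] (.node 206 [⟨207,(Int.ofNat 1),0,0⟩] (.node 204 [⟨204,(Int.ofNat 1),0,0⟩] (.node 203 [⟨202,(Int.negSucc 0),0,0⟩] .nil .nil) (.node 205 [⟨205,(Int.ofNat 1),0,0⟩] .nil .nil)) (.node 208 [⟨208,(Int.ofNat 1),0,0⟩] (.node 207 [⟨206,(Int.negSucc 0),0,0⟩] .nil .nil) (.node 209 [⟨210,(Int.ofNat 1),0,0⟩] .nil .nil))) (.node 214 [⟨214,(Int.ofNat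 1),0,0⟩] (.node 212 [⟨213,(Int.ofNat 1),0,0⟩] (.node 211 [⟨211,(Int.ofNat 1),0,0⟩] .nil .nil) (.node 213 [⟨212,(Int.negSucc 0),0,0⟩] .nil .nil)) (.node 216 [⟨217,(Int.ofNat 1),0,0⟩] (.node 215 [⟨215,(Int.ofNat 1),0,0⟩] .nil .nil) .nil)))) (.node 233 [⟨233,(Int.ofNat 1),0,0⟩] (.node 225 [⟨225,(Int.ofNat 1),0,0⟩] (.node 221 [⟨221,(Int.ofNat 1),0,0⟩] (.node 219 [⟨220,(Int.ofNat 1),0,0⟩] (.node 218 [⟨218,(Int.ofNat 1),0,0⟩] .nil .nil) (.node 220 [⟨219,(Int.negSucc 0),0,0⟩] .nil .nil)) (.node 223 [⟨224,(Int.ofNat 1),0,0⟩] (.node 222 [⟨222,(Int.ofNat 1),0,0⟩] .nil .nil) (.node 224 [⟨223,(Int.negSucc 0),0,0⟩] .nil .nil))) (.node 229 [⟨228,(Int.negSucc 0),0,0⟩] (.node 227 [⟨227,(Int.ofNat 1),0,0⟩] (.node 226 [⟨226,(Int.ofNat 1),0,0⟩] .nil .nil) (.node 228 [⟨229,(Int.ofNat 1),0,0⟩] .nil .nil)) (.node 231 [⟨231,(Int.ofNat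 1),0,0⟩] (.node 230 [⟨230,(Int.ofNat 1),0,0⟩] .nil .nil) (.node 232 [⟨232,(Int.ofNat 1),0,0⟩] .nil .nil)))) (.node 241 [⟨241,(Int.ofNat 1),0,0⟩] (.node 237 [⟨237,(Int.ofNat 1),0,0⟩] (.node 235 [⟨236,(Int.ofNat 1),0,0⟩] (.node 234 [⟨234,(Int.ofNat 1),0,0⟩] .nil .nil) (.node 236 [⟨235,(Int.negSucc 0),0,0⟩] .nil .nil)) (.node 239 [⟨239,(Int.ofNat 1),0,0⟩] (.node 238 [⟨238,(Int.ofNat 1),0,0⟩] .nil .nil) (.node 240 [⟨240,(Int.ofNat 1),0,0⟩] .nil .nil))) (.node 245 [⟨246,(Int.ofNat 1),0,0⟩] (.node 243 [⟨243,(Int.ofNat 1),0,0⟩] (.node 242 [⟨242,(Int.ofNat 1),0,0⟩] .nil .nil) (.node 244 [⟨244,(Int.ofNat 1),0,0⟩] .nil .nil)) (.node 247 [⟨247,(Int.ofNat 1),0,0⟩] (.node 246 [⟨245,(Int.negSucc 0),0,0⟩] .nil .nil) .nil)))))))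
noncomputable def nc7 : Tr Vc := (.node 124 [⟨124,(Int.ofNat 1),0,0⟩] (.node 62 [⟨62,(Int.ofNat 1),0,0⟩] (.node 31 [⟨31,(Int.ofNat 1),0,0⟩] (.node 15 [⟨15,(Int.ofNat 1),0,0⟩] (.node 7 [⟨7,(Int.negSucc 0),0,0⟩] (.node 3 [⟨3,(Int.ofNat 1),0,0⟩] (.node 1 [⟨1,(Int.ofNat 1),0,0⟩] (.node 0 [⟨0,(Int.ofNat 1),0,0⟩] .nil .nil) (.node 2 [⟨2,(Int.ofNat 1),0,0⟩] .nil .nil)) (.node 5 [⟨5,(Int.ofNat 1),0,0⟩] (.node 4 [⟨4,(Int.ofNat 1),0,0⟩] .nil .nil) (.node 6 [⟨6,(Int.ofNat 1),0,0⟩, ⟨7,(Int.ofNat 1),0,0⟩] .nil .nil))) (.node 11 [⟨11,(Int.ofNat 1),0,0⟩] (.node 9 [⟨8,(Int.ofNat 1),0,0⟩] (.node 8 [⟨9,(Int.negSucc 0),0,0⟩] .nil .nil) (.node 10 [⟨10,(Int.ofNat 1),0,0⟩] .nil .nil)) (.node 13 [⟨13,(Int.ofNat 1),0,0⟩] (.node 12 [⟨12,(Int.ofNat 1),0,0⟩] .nil .nil) (.node 14 [⟨14,(Int.ofNat 1),0,0⟩] .nil .nil)))) (.node 23 [⟨23,(Int.ofNat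 1),0,0⟩] (.node 19 [⟨19,(Int.ofNat 1),0,0⟩] (.node 17 [⟨17,(Int.ofNat 1),0,0⟩] (.node 16 [⟨16,(Int.ofNat 1),0,0⟩] .nil .nil) (.node 18 [⟨18,(Int.ofNat 1),0,0⟩] .nil .nil)) (.node 21 [⟨20,(Int.ofNat 1),0,0⟩] (.node 20 [⟨21,(Int.negSucc 0),0,0⟩] .nil .nil) (.node 22 [⟨22,(Int.ofNat 1),0,0⟩] .nil .nil))) (.node 27 [⟨28,(Int.negSucc 0),0,0⟩] (.node 25 [⟨25,(Int.ofNat 1),0,0⟩] (.node 24 [⟨24,(Int.ofNat 1),0,0⟩] .nil .nil) (.node 26 [⟨26,(Int.ofNat 1),0,0⟩] .nil .nil)) (.node 29 [⟨29,(Int.ofNat 1),0,0⟩] (.node 28 [⟨27,(Int.ofNat 1),0,0⟩] .nil .nil) (.node 30 [⟨30,(Int.ofNat 1),0,0⟩] .nil .nil))))) (.node 47 [⟨46,(Int.ofNat 1),0,0⟩] (.node 39 [⟨40,(Int.negSucc 0),0,0⟩] (.node 35 [⟨35,(Int.ofNat 1),0,0⟩] (.node 33 [⟨32,(Int.ofNat 1),0,0⟩] (.node 32 [⟨33,(Int.negSucc 0),0,0⟩] .nil .nil) (.node 34 [⟨34,(Int.ofNat 1),0,0⟩]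 .nil .nil)) (.node 37 [⟨36,(Int.ofNat 1),0,0⟩] (.node 36 [⟨37,(Int.negSucc 0),0,0⟩] .nil .nil) (.node 38 [⟨38,(Int.ofNat 1),0,0⟩] .nil .nil))) (.node 43 [⟨43,(Int.ofNat 1),0,0⟩] (.node 41 [⟨42,(Int.negSucc 0),0,0⟩] (.node 40 [⟨39,(Int.ofNat 1),0,0⟩] .nil .nil) (.node 42 [⟨41,(Int.ofNat 1),0,0⟩] .nil .nil)) (.node 45 [⟨45,(Int.ofNat 1),0,0⟩] (.node 44 [⟨44,(Int.ofNat 1),0,0⟩] .nil .nil) (.node 46 [⟨47,(Int.negSucc 0),0,0⟩] .nil .nil)))) (.node 55 [⟨56,(Int.negSucc 0),0,0⟩] (.node 51 [⟨52,(Int.negSucc 0),0,0⟩] (.node 49 [⟨50,(Int.negSucc 0),0,0⟩] (.node 48 [⟨48,(Int.ofNat 1),0,0⟩] .nil .nil) (.node 50 [⟨49,(Int.ofNat 1),0,0⟩] .nil .nil)) (.node 53 [⟨53,(Int.ofNat 1),0,0⟩] (.node 52 [⟨51,(Int.ofNat 1),0,0⟩] .nil .nil) (.node 54 [⟨54,(Int.ofNat 1),0,0⟩] .nil .nil))) (.node 59 [⟨59,(Int.ofNat 1),0,0⟩] (.node 57 [⟨58,(Int.negSucc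 0),0,0⟩] (.node 56 [⟨55,(Int.ofNat 1),0,0⟩] .nil .nil) (.node 58 [⟨57,(Int.ofNat 1),0,0⟩] .nil .nil)) (.node 61 [⟨60,(Int.ofNat 1),0,0⟩] (.node 60 [⟨61,(Int.negSucc 0),0,0⟩] .nil .nil) .nil))))) (.node 93 [⟨92,(Int.ofNat 1),0,0⟩] (.node 78 [⟨78,(Int.ofNat 1),0,0⟩] (.node 70 [⟨71,(Int.negSucc 0),0,0⟩] (.node 66 [⟨65,(Int.ofNat 1),0,0⟩] (.node 64 [⟨64,(Int.ofNat 1),0,0⟩] (.node 63 [⟨63,(Int.ofNat 1),0,0⟩] .nil .nil) (.node 65 [⟨66,(Int.negSucc 0),0,0⟩] .nil .nil)) (.node 68 [⟨67,(Int.ofNat 1),0,0⟩] (.node 67 [⟨68,(Int.negSucc 0),0,0⟩] .nil .nil) (.node 69 [⟨69,(Int.ofNat 1),0,0⟩] .nil .nil))) (.node 74 [⟨75,(Int.negSucc 0),0,0⟩] (.node 72 [⟨72,(Int.ofNat 1),0,0⟩] (.node 71 [⟨70,(Int.ofNat 1),0,0⟩] .nil .nil) (.node 73 [⟨73,(Int.ofNat 1),0,0⟩] .nil .nil)) (.node 76 [⟨76,(Int.ofNat 1),0,0⟩] (.node 75 [⟨74,(Int.ofNat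 1),0,0⟩] .nil .nil) (.node 77 [⟨77,(Int.ofNat 1),0,0⟩] .nil .nil)))) (.node 86 [⟨86,(Int.ofNat 1),0,0⟩] (.node 82 [⟨82,(Int.ofNat 1),0,0⟩] (.node 80 [⟨79,(Int.ofNat 1),0,0⟩] (.node 79 [⟨80,(Int.negSucc 0),0,0⟩] .nil .nil) (.node 81 [⟨81,(Int.ofNat 1),0,0⟩] .nil .nil)) (.node 84 [⟨84,(Int.ofNat 1),0,0⟩] (.node 83 [⟨83,(Int.ofNat 1),0,0⟩] .nil .nil) (.node 85 [⟨85,(Int.ofNat 1),0,0⟩] .nil .nil))) (.node 90 [⟨89,(Int.ofNat 1),0,0⟩] (.node 88 [⟨87,(Int.ofNat 1),0,0⟩] (.node 87 [⟨88,(Int.negSucc 0),0,0⟩] .nil .nil) (.node 89 [⟨90,(Int.negSucc 0),0,0⟩] .nil .nil)) (.node 92 [⟨93,(Int.negSucc 0),0,0⟩] (.node 91 [⟨91,(Int.ofNat 1),0,0⟩] .nil .nil) .nil)))) (.node 109 [⟨109,(Int.ofNat 1),0,0⟩] (.node 101 [⟨102,(Int.negSucc 0),0,0⟩] (.node 97 [⟨96,(Int.ofNat 1),0,0⟩] (.node 95 [⟨95,(Int.ofNat 1),0,0⟩] (.node 94 [⟨94,(Int.ofNat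 1),0,0⟩] .nil .nil) (.node 96 [⟨97,(Int.negSucc 0),0,0⟩] .nil .nil)) (.node 99 [⟨99,(Int.ofNat 1),0,0⟩] (.node 98 [⟨98,(Int.ofNat 1),0,0⟩] .nil .nil) (.node 100 [⟨100,(Int.ofNat 1),0,0⟩] .nil .nil))) (.node 105 [⟨105,(Int.ofNat 1),0,0⟩] (.node 103 [⟨103,(Int.ofNat 1),0,0⟩] (.node 102 [⟨101,(Int.ofNat 1),0,0⟩] .nil .nil) (.node 104 [⟨104,(Int.ofNat 1),0,0⟩] .nil .nil)) (.node 107 [⟨108,(Int.negSucc 0),0,0⟩] (.node 106 [⟨106,(Int.ofNat 1),0,0⟩] .nil .nil) (.node 108 [⟨107,(Int.ofNat 1),0,0⟩] .nil .nil)))) (.node 117 [⟨117,(Int.ofNat 1),0,0⟩] (.node 113 [⟨114,(Int.negSucc 0),0,0⟩] (.node 111 [⟨111,(Int.ofNat 1),0,0⟩] (.node 110 [⟨110,(Int.ofNat 1),0,0⟩] .nil .nil) (.node 112 [⟨112,(Int.ofNat 1),0,0⟩] .nil .nil)) (.node 115 [⟨115,(Int.ofNat 1),0,0⟩] (.node 114 [⟨113,(Int.ofNat 1),0,0⟩] .nil .nil) (.node 116 [⟨116,(Int.ofNat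 1),0,0⟩] .nil .nil))) (.node 121 [⟨121,(Int.ofNat 1),0,0⟩] (.node 119 [⟨118,(Int.ofNat 1),0,0⟩] (.node 118 [⟨119,(Int.negSucc 0),0,0⟩] .nil .nil) (.node 120 [⟨120,(Int.ofNat 1),0,0⟩] .nil .nil)) (.node 123 [⟨122,(Int.ofNat 1),0,0⟩] (.node 122 [⟨123,(Int.negSucc 0),0,0⟩] .nil .nil) .nil)))))) (.node 186 [⟨186,(Int.ofNat 1),0,0⟩] (.node 155 [⟨155,(Int.ofNat 1),0,0⟩] (.node 140 [⟨140,(Int.ofNat 1),0,0⟩] (.node 132 [⟨133,(Int.ofNat 1),0,0⟩] (.node 128 [⟨127,(Int.negSucc 0),0,0⟩] (.node 126 [⟨125,(Int.ofNat 1),0,0⟩] (.node 125 [⟨126,(Int.negSucc 0),0,0⟩] .nil .nil) (.node 127 [⟨128,(Int.negSucc 0),0,0⟩] .nil .nil)) (.node 130 [⟨129,(Int.negSucc 0),0,0⟩] (.node 129 [⟨130,(Int.ofNat 1),0,0⟩] .nil .nil) (.node 131 [⟨131,(Int.ofNat 1),0,0⟩] .nil .nil))) (.node 136 [⟨137,(Int.ofNat 1),0,0⟩] (.node 134 [⟨134,(Int.ofNat 1),0,0⟩]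 (.node 133 [⟨132,(Int.negSucc 0),0,0⟩] .nil .nil) (.node 135 [⟨135,(Int.ofNat 1),0,0⟩] .nil .nil)) (.node 138 [⟨138,(Int.ofNat 1),0,0⟩] (.node 137 [⟨136,(Int.negSucc 0),0,0⟩] .nil .nil) (.node 139 [⟨139,(Int.ofNat 1),0,0⟩] .nil .nil)))) (.node 148 [⟨147,(Int.negSucc 0),0,0⟩] (.node 144 [⟨144,(Int.ofNat 1),0,0⟩] (.node 142 [⟨141,(Int.negSucc 0),0,0⟩] (.node 141 [⟨142,(Int.ofNat 1),0,0⟩] .nil .nil) (.node 143 [⟨143,(Int.ofNat 1),0,0⟩] .nil .nil)) (.node 146 [⟨146,(Int.ofNat 1),0,0⟩] (.node 145 [⟨145,(Int.ofNat 1),0,0⟩] .nil .nil) (.node 147 [⟨148,(Int.ofNat 1),0,0⟩] .nil .nil))) (.node 152 [⟨152,(Int.ofNat 1),0,0⟩] (.node 150 [⟨150,(Int.ofNat 1),0,0⟩] (.node 149 [⟨149,(Int.ofNat 1),0,0⟩] .nil .nil) (.node 151 [⟨151,(Int.ofNat 1),0,0⟩] .nil .nil)) (.node 154 [⟨153,(Int.negSucc 0),0,0⟩] (.node 153 [⟨154,(Int.ofNat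 1),0,0⟩] .nil .nil) .nil)))) (.node 171 [⟨171,(Int.ofNat 1),0,0⟩] (.node 163 [⟨162,(Int.negSucc 0),0,0⟩] (.node 159 [⟨158,(Int.negSucc 0),0,0⟩] (.node 157 [⟨157,(Int.ofNat 1),0,0⟩] (.node 156 [⟨156,(Int.ofNat 1),0,0⟩] .nil .nil) (.node 158 [⟨159,(Int.ofNat 1),0,0⟩] .nil .nil)) (.node 161 [⟨161,(Int.ofNat 1),0,0⟩] (.node 160 [⟨160,(Int.ofNat 1),0,0⟩] .nil .nil) (.node 162 [⟨163,(Int.ofNat 1),0,0⟩] .nil .nil))) (.node 167 [⟨168,(Int.ofNat 1),0,0⟩] (.node 165 [⟨166,(Int.ofNat 1),0,0⟩] (.node 164 [⟨164,(Int.ofNat 1),0,0⟩] .nil .nil) (.node 166 [⟨165,(Int.negSucc 0),0,0⟩] .nil .nil)) (.node 169 [⟨169,(Int.ofNat 1),0,0⟩] (.node 168 [⟨167,(Int.negSucc 0),0,0⟩] .nil .nil) (.node 170 [⟨170,(Int.ofNat 1),0,0⟩] .nil .nil)))) (.node 179 [⟨179,(Int.ofNat 1),0,0⟩] (.node 175 [⟨176,(Int.ofNat 1),0,0⟩] (.node 173 [⟨173,(Int.ofNat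 1),0,0⟩] (.node 172 [⟨172,(Int.ofNat 1),0,0⟩] .nil .nil) (.node 174 [⟨174,(Int.ofNat 1),0,0⟩] .nil .nil)) (.node 177 [⟨177,(Int.ofNat 1),0,0⟩] (.node 176 [⟨175,(Int.negSucc 0),0,0⟩] .nil .nil) (.node 178 [⟨178,(Int.ofNat 1),0,0⟩] .nil .nil))) (.node 183 [⟨183,(Int.ofNat 1),0,0⟩] (.node 181 [⟨180,(Int.negSucc 0),0,0⟩] (.node 180 [⟨181,(Int.ofNat 1),0,0⟩] .nil .nil) (.node 182 [⟨182,(Int.ofNat 1),0,0⟩] .nil .nil)) (.node 185 [⟨184,(Int.negSucc 0),0,0⟩] (.node 184 [⟨185,(Int.ofNat 1),0,0⟩] .nil .nil) .nil))))) (.node 217 [⟨217,(Int.ofNat 1),0,0⟩] (.node 202 [⟨202,(Int.ofNat 1),0,0⟩] (.node 194 [⟨195,(Int.ofNat 1),0,0⟩] (.node 190 [⟨189,(Int.negSucc 0),0,0⟩] (.node 188 [⟨187,(Int.negSucc 0),0,0⟩] (.node 187 [⟨188,(Int.ofNat 1),0,0⟩] .nil .nil) (.node 189 [⟨190,(Int.ofNat 1),0,0⟩] .nil .nil)) (.node 192 [⟨192,(Int.ofNat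 1),0,0⟩] (.node 191 [⟨191,(Int.ofNat 1),0,0⟩] .nil .nil) (.node 193 [⟨193,(Int.ofNat 1),0,0⟩] .nil .nil))) (.node 198 [⟨197,(Int.negSucc 0),0,0⟩] (.node 196 [⟨196,(Int.ofNat 1),0,0⟩] (.node 195 [⟨194,(Int.negSucc 0),0,0⟩] .nil .nil) (.node 197 [⟨198,(Int.ofNat 1),0,0⟩] .nil .nil)) (.node 200 [⟨199,(Int.negSucc 0),0,0⟩] (.node 199 [⟨200,(Int.ofNat 1),0,0⟩] .nil .nil) (.node 201 [⟨201,(Int.ofNat 1),0,0⟩] .nil .nil)))) (.node 210 [⟨210,(Int.ofNat 1),0,0⟩] (.node 206 [⟨205,(Int.negSucc 0),0,0⟩] (.node 204 [⟨203,(Int.negSucc 0),0,0⟩] (.node 203 [⟨204,(Int.ofNat 1),0,0⟩] .nil .nil) (.node 205 [⟨206,(Int.ofNat 1),0,0⟩] .nil .nil)) (.node 208 [⟨209,(Int.ofNat 1),0,0⟩] (.node 207 [⟨207,(Int.ofNat 1),0,0⟩] .nil .nil) (.node 209 [⟨208,(Int.negSucc 0),0,0⟩] .nil .nil))) (.node 214 [⟨213,(Int.negSucc 0),0,0⟩] (.node 212 [⟨212,(Int.ofNat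 1),0,0⟩] (.node 211 [⟨211,(Int.ofNat 1),0,0⟩] .nil .nil) (.node 213 [⟨214,(Int.ofNat 1),0,0⟩] .nil .nil)) (.node 216 [⟨215,(Int.negSucc 0),0,0⟩] (.node 215 [⟨216,(Int.ofNat 1),0,0⟩] .nil .nil) .nil)))) (.node 233 [⟨233,(Int.ofNat 1),0,0⟩] (.node 225 [⟨225,(Int.ofNat 1),0,0⟩] (.node 221 [⟨221,(Int.ofNat 1),0,0⟩] (.node 219 [⟨218,(Int.negSucc 0),0,0⟩] (.node 218 [⟨219,(Int.ofNat 1),0,0⟩] .nil .nil) (.node 220 [⟨220,(Int.ofNat 1),0,0⟩] .nil .nil)) (.node 223 [⟨222,(Int.negSucc 0),0,0⟩] (.node 222 [⟨223,(Int.ofNat 1),0,0⟩] .nil .nil) (.node 224 [⟨224,(Int.ofNat 1),0,0⟩] .nil .nil))) (.node 229 [⟨229,(Int.ofNat 1),0,0⟩] (.node 227 [⟨228,(Int.ofNat 1),0,0⟩] (.node 226 [⟨226,(Int.ofNat 1),0,0⟩] .nil .nil) (.node 228 [⟨227,(Int.negSucc 0),0,0⟩] .nil .nil)) (.node 231 [⟨231,(Int.ofNat 1),0,0⟩] (.node 230 [⟨230,(Int.ofNat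 1),0,0⟩] .nil .nil) (.node 232 [⟨232,(Int.ofNat 1),0,0⟩] .nil .nil)))) (.node 241 [⟨241,(Int.ofNat 1),0,0⟩] (.node 237 [⟨237,(Int.ofNat 1),0,0⟩] (.node 235 [⟨234,(Int.negSucc 0),0,0⟩] (.node 234 [⟨235,(Int.ofNat 1),0,0⟩] .nil .nil) (.node 236 [⟨236,(Int.ofNat 1),0,0⟩] .nil .nil)) (.node 239 [⟨239,(Int.ofNat 1),0,0⟩] (.node 238 [⟨238,(Int.ofNat 1),0,0⟩] .nil .nil) (.node 240 [⟨240,(Int.ofNat 1),0,0⟩] .nil .nil))) (.node 245 [⟨245,(Int.ofNat 1),0,0⟩] (.node 243 [⟨243,(Int.ofNat 1),0,0⟩] (.node 242 [⟨242,(Int.ofNat 1),0,0⟩] .nil .nil) (.node 244 [⟨244,(Int.ofNat 1),0,0⟩] .nil .nil)) (.node 247 [⟨246,(Int.negSucc 0),0,0⟩] (.node 246 [⟨247,(Int.ofNat 1),0,0⟩] .nil .nil) .nil)))))))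
noncomputable def nT : Tr (Tr Vc) := (.node 4 nc4 (.node 2 nc2 (.node 1 nc1 (.node 0 nc0 .nil .nil) .nil) (.node 3 nc3 .nil .nil)) (.node 6 nc6 (.node 5 nc5 .nil .nil) (.node 7 nc7 .nil .nil)))
noncomputable def wc0 : Tr (ℕ × ℤ) := (.node 120 (120,(Int.ofNat 1)) (.node 60 (82,(Int.ofNat 1)) (.node 30 (30,(Int.ofNat 1)) (.node 15 (8,(Int.ofNat 1)) (.node 7 (7,(Int.ofNat 1)) (.node 3 (3,(Int.ofNat 1)) (.node 1 (1,(Int.ofNat 1)) (.node 0 (0,(Int.ofNat 1)) .nil .nil) (.node 2 (2,(Int.ofNat 1)) .nil .nil)) (.node 5 (5,(Int.ofNat 1)) (.node 4 (4,(Int.ofNat 1)) .nil .nil) (.node 6 (14,(Int.negSucc 0)) .nil .nil))) (.node 11 (18,(Int.negSucc 0)) (.node 9 (16,(Int.negSucc 0)) (.node 8 (15,(Int.negSucc 0)) .nil .nil) (.node 10 (17,(Int.negSucc 0)) .nil .nil)) (.node 13 (20,(Int.negSucc 0)) (.node 12 (19,(Int.negSucc 0))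 .nil .nil) (.node 14 (6,(Int.ofNat 1)) .nil .nil)))) (.node 23 (23,(Int.ofNat 1)) (.node 19 (12,(Int.ofNat 1)) (.node 17 (10,(Int.ofNat 1)) (.node 16 (9,(Int.ofNat 1)) .nil .nil) (.node 18 (11,(Int.ofNat 1)) .nil .nil)) (.node 21 (21,(Int.ofNat 1)) (.node 20 (13,(Int.ofNat 1)) .nil .nil) (.node 22 (22,(Int.ofNat 1)) .nil .nil))) (.node 27 (27,(Int.ofNat 1)) (.node 25 (25,(Int.ofNat 1)) (.node 24 (24,(Int.ofNat 1)) .nil .nil) (.node 26 (26,(Int.ofNat 1)) .nil .nil)) (.node 29 (29,(Int.ofNat 1)) (.node 28 (28,(Int.ofNat 1)) .nil .nil) .nil)))) (.node 45 (45,(Int.ofNat 1)) (.node 38 (38,(Int.ofNat 1)) (.node 34 (34,(Int.ofNat 1)) (.node 32 (32,(Int.ofNat 1)) (.node 31 (31,(Int.ofNat 1)) .nil .nil) (.node 33 (33,(Int.ofNat 1)) .nil .nil)) (.node 36 (36,(Int.ofNat 1)) (.node 35 (35,(Int.ofNat 1)) .nil .nil) (.node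 37 (37,(Int.ofNat 1)) .nil .nil))) (.node 42 (42,(Int.ofNat 1)) (.node 40 (40,(Int.ofNat 1)) (.node 39 (39,(Int.ofNat 1)) .nil .nil) (.node 41 (41,(Int.ofNat 1)) .nil .nil)) (.node 44 (44,(Int.ofNat 1)) (.node 43 (43,(Int.ofNat 1)) .nil .nil) .nil))) (.node 53 (53,(Int.ofNat 1)) (.node 49 (49,(Int.ofNat 1)) (.node 47 (47,(Int.ofNat 1)) (.node 46 (46,(Int.ofNat 1)) .nil .nil) (.node 48 (48,(Int.ofNat 1)) .nil .nil)) (.node 51 (51,(Int.ofNat 1)) (.node 50 (50,(Int.ofNat 1)) .nil .nil) (.node 52 (52,(Int.ofNat 1)) .nil .nil))) (.node 57 (79,(Int.ofNat 1)) (.node 55 (55,(Int.ofNat 1)) (.node 54 (54,(Int.ofNat 1)) .nil .nil) (.node 56 (78,(Int.ofNat 1)) .nil .nil)) (.node 59 (81,(Int.ofNat 1)) (.node 58 (80,(Int.ofNat 1)) .nil .nil) .nil))))) (.node 90 (68,(Int.negSucc 0)) (.node 75 (103,(Int.ofNat 1)) (.node 68 (90,(Int.ofNat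 1)) (.node 64 (86,(Int.ofNat 1)) (.node 62 (84,(Int.ofNat 1)) (.node 61 (83,(Int.ofNat 1)) .nil .nil) (.node 63 (85,(Int.ofNat 1)) .nil .nil)) (.node 66 (88,(Int.ofNat 1)) (.node 65 (87,(Int.ofNat 1)) .nil .nil) (.node 67 (89,(Int.ofNat 1)) .nil .nil))) (.node 72 (100,(Int.ofNat 1)) (.node 70 (92,(Int.ofNat 1)) (.node 69 (91,(Int.ofNat 1)) .nil .nil) (.node 71 (99,(Int.ofNat 1)) .nil .nil)) (.node 74 (102,(Int.ofNat 1)) (.node 73 (101,(Int.ofNat 1)) .nil .nil) .nil))) (.node 83 (61,(Int.negSucc 0)) (.node 79 (57,(Int.negSucc 0)) (.node 77 (162,(Int.negSucc 0)) (.node 76 (104,(Int.ofNat 1)) .nil .nil) (.node 78 (56,(Int.negSucc 0)) .nil .nil)) (.node 81 (59,(Int.negSucc 0)) (.node 80 (58,(Int.negSucc 0)) .nil .nil) (.node 82 (60,(Int.negSucc 0)) .nil .nil))) (.node 87 (65,(Int.negSucc 0)) (.node 85 (63,(Int.negSucc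 0)) (.node 84 (62,(Int.negSucc 0)) .nil .nil) (.node 86 (64,(Int.negSucc 0)) .nil .nil)) (.node 89 (67,(Int.negSucc 0)) (.node 88 (66,(Int.negSucc 0)) .nil .nil) .nil)))) (.node 105 (105,(Int.ofNat 1)) (.node 98 (98,(Int.ofNat 1)) (.node 94 (94,(Int.ofNat 1)) (.node 92 (70,(Int.negSucc 0)) (.node 91 (69,(Int.negSucc 0)) .nil .nil) (.node 93 (93,(Int.ofNat 1)) .nil .nil)) (.node 96 (96,(Int.ofNat 1)) (.node 95 (95,(Int.ofNat 1)) .nil .nil) (.node 97 (97,(Int.ofNat 1)) .nil .nil))) (.node 102 (74,(Int.negSucc 0)) (.node 100 (72,(Int.negSucc 0)) (.node 99 (71,(Int.negSucc 0)) .nil .nil) (.node 101 (73,(Int.negSucc 0)) .nil .nil)) (.node 104 (76,(Int.negSucc 0)) (.node 103 (75,(Int.negSucc 0)) .nil .nil) .nil))) (.node 113 (113,(Int.ofNat 1)) (.node 109 (109,(Int.ofNat 1)) (.node 107 (107,(Int.ofNat 1)) (.node 106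 (106,(Int.ofNat 1)) .nil .nil) (.node 108 (108,(Int.ofNat 1)) .nil .nil)) (.node 111 (111,(Int.ofNat 1)) (.node 110 (110,(Int.ofNat 1)) .nil .nil) (.node 112 (112,(Int.ofNat 1)) .nil .nil))) (.node 117 (117,(Int.ofNat 1)) (.node 115 (115,(Int.ofNat 1)) (.node 114 (114,(Int.ofNat 1)) .nil .nil) (.node 116 (116,(Int.ofNat 1)) .nil .nil)) (.node 119 (119,(Int.ofNat 1)) (.node 118 (118,(Int.ofNat 1)) .nil .nil) .nil)))))) (.node 180 (158,(Int.ofNat 1)) (.node 150 (172,(Int.negSucc 0)) (.node 135 (163,(Int.negSucc 0)) (.node 128 (128,(Int.ofNat 1)) (.node 124 (124,(Int.ofNat 1)) (.node 122 (122,(Int.ofNat 1)) (.node 121 (121,(Int.ofNat 1)) .nil .nil) (.node 123 (123,(Int.ofNat 1)) .nil .nil)) (.node 126 (126,(Int.ofNat 1)) (.node 125 (125,(Int.ofNat 1)) .nil .nil) (.node 127 (127,(Int.ofNat 1)) .nil .nil))) (.node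 132 (132,(Int.ofNat 1)) (.node 130 (130,(Int.ofNat 1)) (.node 129 (129,(Int.ofNat 1)) .nil .nil) (.node 131 (131,(Int.ofNat 1)) .nil .nil)) (.node 134 (134,(Int.ofNat 1)) (.node 133 (133,(Int.ofNat 1)) .nil .nil) .nil))) (.node 143 (143,(Int.ofNat 1)) (.node 139 (167,(Int.negSucc 0)) (.node 137 (165,(Int.negSucc 0)) (.node 136 (164,(Int.negSucc 0)) .nil .nil) (.node 138 (166,(Int.negSucc 0)) .nil .nil)) (.node 141 (141,(Int.ofNat 1)) (.node 140 (168,(Int.negSucc 0)) .nil .nil) (.node 142 (142,(Int.ofNat 1)) .nil .nil))) (.node 147 (169,(Int.negSucc 0)) (.node 145 (145,(Int.ofNat 1)) (.node 144 (144,(Int.ofNat 1)) .nil .nil) (.node 146 (146,(Int.ofNat 1)) .nil .nil)) (.node 149 (171,(Int.negSucc 0)) (.node 148 (170,(Int.negSucc 0)) .nil .nil) .nil)))) (.node 165 (137,(Int.ofNat 1)) (.node 158 (180,(Int.negSucc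 0)) (.node 154 (176,(Int.negSucc 0)) (.node 152 (174,(Int.negSucc 0)) (.node 151 (173,(Int.negSucc 0)) .nil .nil) (.node 153 (175,(Int.negSucc 0)) .nil .nil)) (.node 156 (178,(Int.negSucc 0)) (.node 155 (177,(Int.negSucc 0)) .nil .nil) (.node 157 (179,(Int.negSucc 0)) .nil .nil))) (.node 162 (77,(Int.negSucc 0)) (.node 160 (182,(Int.negSucc 0)) (.node 159 (181,(Int.negSucc 0)) .nil .nil) (.node 161 (183,(Int.negSucc 0)) .nil .nil)) (.node 164 (136,(Int.ofNat 1)) (.node 163 (135,(Int.ofNat 1)) .nil .nil) .nil))) (.node 173 (151,(Int.ofNat 1)) (.node 169 (147,(Int.ofNat 1)) (.node 167 (139,(Int.ofNat 1)) (.node 166 (138,(Int.ofNat 1)) .nil .nil) (.node 168 (140,(Int.ofNat 1)) .nil .nil)) (.node 171 (149,(Int.ofNat 1)) (.node 170 (148,(Int.ofNat 1)) .nil .nil) (.node 172 (150,(Int.ofNat 1)) .nil .nil))) (.node 177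 (155,(Int.ofNat 1)) (.node 175 (153,(Int.ofNat 1)) (.node 174 (152,(Int.ofNat 1)) .nil .nil) (.node 176 (154,(Int.ofNat 1)) .nil .nil)) (.node 179 (157,(Int.ofNat 1)) (.node 178 (156,(Int.ofNat 1)) .nil .nil) .nil))))) (.node 210 (210,(Int.ofNat 1)) (.node 195 (195,(Int.ofNat 1)) (.node 188 (188,(Int.ofNat 1)) (.node 184 (184,(Int.ofNat 1)) (.node 182 (160,(Int.ofNat 1)) (.node 181 (159,(Int.ofNat 1)) .nil .nil) (.node 183 (161,(Int.ofNat 1)) .nil .nil)) (.node 186 (186,(Int.ofNat 1)) (.node 185 (185,(Int.ofNat 1)) .nil .nil) (.node 187 (187,(Int.ofNat 1)) .nil .nil))) (.node 192 (192,(Int.ofNat 1)) (.node 190 (190,(Int.ofNat 1)) (.node 189 (189,(Int.ofNat 1)) .nil .nil) (.node 191 (191,(Int.ofNat 1)) .nil .nil)) (.node 194 (194,(Int.ofNat 1)) (.node 193 (193,(Int.ofNat 1)) .nil .nil) .nil))) (.node 203 (203,(Int.ofNat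 1)) (.node 199 (199,(Int.ofNat 1)) (.node 197 (197,(Int.ofNat 1)) (.node 196 (196,(Int.ofNat 1)) .nil .nil) (.node 198 (198,(Int.ofNat 1)) .nil .nil)) (.node 201 (201,(Int.ofNat 1)) (.node 200 (200,(Int.ofNat 1)) .nil .nil) (.node 202 (202,(Int.ofNat 1)) .nil .nil))) (.node 207 (207,(Int.ofNat 1)) (.node 205 (205,(Int.ofNat 1)) (.node 204 (204,(Int.ofNat 1)) .nil .nil) (.node 206 (206,(Int.ofNat 1)) .nil .nil)) (.node 209 (209,(Int.ofNat 1)) (.node 208 (208,(Int.ofNat 1)) .nil .nil) .nil)))) (.node 225 (233,(Int.ofNat 1)) (.node 218 (218,(Int.ofNat 1)) (.node 214 (214,(Int.ofNat 1)) (.node 212 (212,(Int.ofNat 1)) (.node 211 (211,(Int.ofNat 1)) .nil .nil) (.node 213 (213,(Int.ofNat 1)) .nil .nil)) (.node 216 (216,(Int.ofNat 1)) (.node 215 (215,(Int.ofNat 1)) .nil .nil) (.node 217 (217,(Int.ofNat 1)) .nil .nil)))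 (.node 222 (229,(Int.ofNat 1)) (.node 220 (227,(Int.ofNat 1)) (.node 219 (226,(Int.ofNat 1)) .nil .nil) (.node 221 (228,(Int.ofNat 1)) .nil .nil)) (.node 224 (231,(Int.ofNat 1)) (.node 223 (230,(Int.ofNat 1)) .nil .nil) .nil))) (.node 233 (225,(Int.negSucc 0)) (.node 229 (222,(Int.negSucc 0)) (.node 227 (220,(Int.negSucc 0)) (.node 226 (219,(Int.negSucc 0)) .nil .nil) (.node 228 (221,(Int.negSucc 0)) .nil .nil)) (.node 231 (224,(Int.negSucc 0)) (.node 230 (223,(Int.negSucc 0)) .nil .nil) (.node 232 (232,(Int.ofNat 1)) .nil .nil))) (.node 237 (237,(Int.ofNat 1)) (.node 235 (235,(Int.ofNat 1)) (.node 234 (234,(Int.ofNat 1)) .nil .nil) (.node 236 (236,(Int.ofNat 1)) .nil .nil)) (.node 239 (239,(Int.ofNat 1)) (.node 238 (238,(Int.ofNat 1)) .nil .nil) .nil)))))))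
noncomputable def wc1 : Tr (ℕ × ℤ) := (.node 120 (120,(Int.ofNat 1)) (.node 60 (60,(Int.ofNat 1)) (.node 30 (40,(Int.negSucc 0)) (.node 15 (14,(Int.ofNat 1)) (.node 7 (5,(Int.ofNat 1)) (.node 3 (3,(Int.ofNat 1)) (.node 1 (1,(Int.ofNat 1)) (.node 0 (0,(Int.ofNat 1)) .nil .nil) (.node 2 (2,(Int.ofNat 1)) .nil .nil)) (.node 5 (7,(Int.negSucc 0)) (.node 4 (4,(Int.ofNat 1)) .nil .nil) (.node 6 (8,(Int.negSucc 0)) .nil .nil))) (.node 11 (11,(Int.ofNat 1)) (.node 9 (9,(Int.ofNat 1)) (.node 8 (6,(Int.ofNat 1)) .nil .nil) (.node 10 (10,(Int.ofNat 1)) .nil .nil)) (.node 13 (13,(Int.ofNat 1)) (.node 12 (12,(Int.ofNat 1)) .nil .nil) (.node 14 (15,(Int.negSucc 0)) .nil .nil)))) (.node 23 (23,(Int.ofNat 1)) (.node 19 (19,(Int.ofNat 1)) (.node 17 (17,(Int.ofNat 1)) (.node 16 (16,(Int.ofNat 1)) .nil .nil) (.node 18 (18,(Int.ofNat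 1)) .nil .nil)) (.node 21 (21,(Int.ofNat 1)) (.node 20 (20,(Int.ofNat 1)) .nil .nil) (.node 22 (22,(Int.ofNat 1)) .nil .nil))) (.node 27 (37,(Int.negSucc 0)) (.node 25 (25,(Int.ofNat 1)) (.node 24 (24,(Int.ofNat 1)) .nil .nil) (.node 26 (36,(Int.negSucc 0)) .nil .nil)) (.node 29 (39,(Int.negSucc 0)) (.node 28 (38,(Int.negSucc 0)) .nil .nil) .nil)))) (.node 45 (35,(Int.ofNat 1)) (.node 38 (28,(Int.ofNat 1)) (.node 34 (44,(Int.negSucc 0)) (.node 32 (42,(Int.negSucc 0)) (.node 31 (41,(Int.negSucc 0)) .nil .nil) (.node 33 (43,(Int.negSucc 0)) .nil .nil)) (.node 36 (26,(Int.ofNat 1)) (.node 35 (45,(Int.negSucc 0)) .nil .nil) (.node 37 (27,(Int.ofNat 1)) .nil .nil))) (.node 42 (32,(Int.ofNat 1)) (.node 40 (30,(Int.ofNat 1)) (.node 39 (29,(Int.ofNat 1)) .nil .nil) (.node 41 (31,(Int.ofNat 1)) .nil .nil)) (.node 44 (34,(Int.ofNat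 1)) (.node 43 (33,(Int.ofNat 1)) .nil .nil) .nil))) (.node 53 (53,(Int.ofNat 1)) (.node 49 (49,(Int.ofNat 1)) (.node 47 (47,(Int.ofNat 1)) (.node 46 (46,(Int.ofNat 1)) .nil .nil) (.node 48 (48,(Int.ofNat 1)) .nil .nil)) (.node 51 (51,(Int.ofNat 1)) (.node 50 (50,(Int.ofNat 1)) .nil .nil) (.node 52 (52,(Int.ofNat 1)) .nil .nil))) (.node 57 (57,(Int.ofNat 1)) (.node 55 (55,(Int.ofNat 1)) (.node 54 (54,(Int.ofNat 1)) .nil .nil) (.node 56 (56,(Int.ofNat 1)) .nil .nil)) (.node 59 (59,(Int.ofNat 1)) (.node 58 (58,(Int.ofNat 1)) .nil .nil) .nil))))) (.node 90 (101,(Int.negSucc 0)) (.node 75 (70,(Int.ofNat 1)) (.node 68 (73,(Int.negSucc 0)) (.node 64 (64,(Int.ofNat 1)) (.node 62 (62,(Int.ofNat 1)) (.node 61 (61,(Int.ofNat 1)) .nil .nil) (.node 63 (63,(Int.ofNat 1)) .nil .nil)) (.node 66 (71,(Int.negSucc 0)) (.node 65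 (65,(Int.ofNat 1)) .nil .nil) (.node 67 (72,(Int.negSucc 0)) .nil .nil))) (.node 72 (67,(Int.ofNat 1)) (.node 70 (75,(Int.negSucc 0)) (.node 69 (74,(Int.negSucc 0)) .nil .nil) (.node 71 (66,(Int.ofNat 1)) .nil .nil)) (.node 74 (69,(Int.ofNat 1)) (.node 73 (68,(Int.ofNat 1)) .nil .nil) .nil))) (.node 83 (83,(Int.ofNat 1)) (.node 79 (79,(Int.ofNat 1)) (.node 77 (77,(Int.ofNat 1)) (.node 76 (76,(Int.ofNat 1)) .nil .nil) (.node 78 (78,(Int.ofNat 1)) .nil .nil)) (.node 81 (81,(Int.ofNat 1)) (.node 80 (80,(Int.ofNat 1)) .nil .nil) (.node 82 (82,(Int.ofNat 1)) .nil .nil))) (.node 87 (87,(Int.ofNat 1)) (.node 85 (85,(Int.ofNat 1)) (.node 84 (84,(Int.ofNat 1)) .nil .nil) (.node 86 (86,(Int.ofNat 1)) .nil .nil)) (.node 89 (100,(Int.negSucc 0)) (.node 88 (99,(Int.negSucc 0)) .nil .nil) .nil)))) (.node 105 (93,(Int.negSucc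 0)) (.node 98 (141,(Int.negSucc 0)) (.node 94 (106,(Int.ofNat 1)) (.node 92 (103,(Int.negSucc 0)) (.node 91 (102,(Int.negSucc 0)) .nil .nil) (.node 93 (105,(Int.ofNat 1)) .nil .nil)) (.node 96 (108,(Int.ofNat 1)) (.node 95 (107,(Int.ofNat 1)) .nil .nil) (.node 97 (109,(Int.ofNat 1)) .nil .nil))) (.node 102 (91,(Int.ofNat 1)) (.node 100 (89,(Int.ofNat 1)) (.node 99 (88,(Int.ofNat 1)) .nil .nil) (.node 101 (90,(Int.ofNat 1)) .nil .nil)) (.node 104 (104,(Int.ofNat 1)) (.node 103 (92,(Int.ofNat 1)) .nil .nil) .nil))) (.node 113 (113,(Int.ofNat 1)) (.node 109 (97,(Int.negSucc 0)) (.node 107 (95,(Int.negSucc 0)) (.node 106 (94,(Int.negSucc 0)) .nil .nil) (.node 108 (96,(Int.negSucc 0)) .nil .nil)) (.node 111 (111,(Int.ofNat 1)) (.node 110 (110,(Int.ofNat 1)) .nil .nil) (.node 112 (112,(Int.ofNat 1)) .nil .nil))) (.node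 117 (117,(Int.ofNat 1)) (.node 115 (115,(Int.ofNat 1)) (.node 114 (114,(Int.ofNat 1)) .nil .nil) (.node 116 (116,(Int.ofNat 1)) .nil .nil)) (.node 119 (119,(Int.ofNat 1)) (.node 118 (118,(Int.ofNat 1)) .nil .nil) .nil)))))) (.node 180 (180,(Int.ofNat 1)) (.node 150 (139,(Int.negSucc 0)) (.node 135 (135,(Int.ofNat 1)) (.node 128 (128,(Int.ofNat 1)) (.node 124 (124,(Int.ofNat 1)) (.node 122 (122,(Int.ofNat 1)) (.node 121 (121,(Int.ofNat 1)) .nil .nil) (.node 123 (123,(Int.ofNat 1)) .nil .nil)) (.node 126 (126,(Int.ofNat 1)) (.node 125 (125,(Int.ofNat 1)) .nil .nil) (.node 127 (127,(Int.ofNat 1)) .nil .nil))) (.node 132 (144,(Int.negSucc 0)) (.node 130 (142,(Int.negSucc 0)) (.node 129 (129,(Int.ofNat 1)) .nil .nil) (.node 131 (143,(Int.negSucc 0)) .nil .nil)) (.node 134 (146,(Int.negSucc 0)) (.node 133 (145,(Int.negSucc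 0)) .nil .nil) .nil))) (.node 143 (131,(Int.ofNat 1)) (.node 139 (150,(Int.ofNat 1)) (.node 137 (148,(Int.ofNat 1)) (.node 136 (147,(Int.ofNat 1)) .nil .nil) (.node 138 (149,(Int.ofNat 1)) .nil .nil)) (.node 141 (98,(Int.negSucc 0)) (.node 140 (151,(Int.ofNat 1)) .nil .nil) (.node 142 (130,(Int.ofNat 1)) .nil .nil))) (.node 147 (136,(Int.negSucc 0)) (.node 145 (133,(Int.ofNat 1)) (.node 144 (132,(Int.ofNat 1)) .nil .nil) (.node 146 (134,(Int.ofNat 1)) .nil .nil)) (.node 149 (138,(Int.negSucc 0)) (.node 148 (137,(Int.negSucc 0)) .nil .nil) .nil)))) (.node 165 (170,(Int.ofNat 1)) (.node 158 (158,(Int.ofNat 1)) (.node 154 (154,(Int.ofNat 1)) (.node 152 (152,(Int.ofNat 1)) (.node 151 (140,(Int.negSucc 0)) .nil .nil) (.node 153 (153,(Int.ofNat 1)) .nil .nil)) (.node 156 (156,(Int.ofNat 1)) (.node 155 (155,(Int.ofNat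 1)) .nil .nil) (.node 157 (157,(Int.ofNat 1)) .nil .nil))) (.node 162 (162,(Int.ofNat 1)) (.node 160 (160,(Int.ofNat 1)) (.node 159 (159,(Int.ofNat 1)) .nil .nil) (.node 161 (161,(Int.ofNat 1)) .nil .nil)) (.node 164 (169,(Int.ofNat 1)) (.node 163 (163,(Int.ofNat 1)) .nil .nil) .nil))) (.node 173 (168,(Int.negSucc 0)) (.node 169 (164,(Int.negSucc 0)) (.node 167 (172,(Int.ofNat 1)) (.node 166 (171,(Int.ofNat 1)) .nil .nil) (.node 168 (173,(Int.ofNat 1)) .nil .nil)) (.node 171 (166,(Int.negSucc 0)) (.node 170 (165,(Int.negSucc 0)) .nil .nil) (.node 172 (167,(Int.negSucc 0)) .nil .nil))) (.node 177 (177,(Int.ofNat 1)) (.node 175 (175,(Int.ofNat 1)) (.node 174 (174,(Int.ofNat 1)) .nil .nil) (.node 176 (176,(Int.ofNat 1)) .nil .nil)) (.node 179 (179,(Int.ofNat 1)) (.node 178 (178,(Int.ofNat 1)) .nil .nil) .nil)))))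 (.node 210 (200,(Int.negSucc 0)) (.node 195 (205,(Int.ofNat 1)) (.node 188 (188,(Int.ofNat 1)) (.node 184 (184,(Int.ofNat 1)) (.node 182 (182,(Int.ofNat 1)) (.node 181 (181,(Int.ofNat 1)) .nil .nil) (.node 183 (183,(Int.ofNat 1)) .nil .nil)) (.node 186 (186,(Int.ofNat 1)) (.node 185 (185,(Int.ofNat 1)) .nil .nil) (.node 187 (187,(Int.ofNat 1)) .nil .nil))) (.node 192 (192,(Int.ofNat 1)) (.node 190 (190,(Int.ofNat 1)) (.node 189 (189,(Int.ofNat 1)) .nil .nil) (.node 191 (191,(Int.ofNat 1)) .nil .nil)) (.node 194 (204,(Int.ofNat 1)) (.node 193 (193,(Int.ofNat 1)) .nil .nil) .nil))) (.node 203 (213,(Int.ofNat 1)) (.node 199 (209,(Int.ofNat 1)) (.node 197 (207,(Int.ofNat 1)) (.node 196 (206,(Int.ofNat 1)) .nil .nil) (.node 198 (208,(Int.ofNat 1)) .nil .nil)) (.node 201 (211,(Int.ofNat 1)) (.node 200 (210,(Int.ofNat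 1)) .nil .nil) (.node 202 (212,(Int.ofNat 1)) .nil .nil))) (.node 207 (197,(Int.negSucc 0)) (.node 205 (195,(Int.negSucc 0)) (.node 204 (194,(Int.negSucc 0)) .nil .nil) (.node 206 (196,(Int.negSucc 0)) .nil .nil)) (.node 209 (199,(Int.negSucc 0)) (.node 208 (198,(Int.negSucc 0)) .nil .nil) .nil)))) (.node 225 (224,(Int.negSucc 0)) (.node 218 (218,(Int.ofNat 1)) (.node 214 (214,(Int.ofNat 1)) (.node 212 (202,(Int.negSucc 0)) (.node 211 (201,(Int.negSucc 0)) .nil .nil) (.node 213 (203,(Int.negSucc 0)) .nil .nil)) (.node 216 (216,(Int.ofNat 1)) (.node 215 (215,(Int.ofNat 1)) .nil .nil) (.node 217 (217,(Int.ofNat 1)) .nil .nil))) (.node 222 (222,(Int.ofNat 1)) (.node 220 (220,(Int.ofNat 1)) (.node 219 (219,(Int.ofNat 1)) .nil .nil) (.node 221 (221,(Int.ofNat 1)) .nil .nil)) (.node 224 (225,(Int.ofNat 1)) (.node 223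 (223,(Int.ofNat 1)) .nil .nil) .nil))) (.node 233 (231,(Int.negSucc 0)) (.node 229 (229,(Int.ofNat 1)) (.node 227 (227,(Int.ofNat 1)) (.node 226 (226,(Int.ofNat 1)) .nil .nil) (.node 228 (228,(Int.ofNat 1)) .nil .nil)) (.node 231 (233,(Int.ofNat 1)) (.node 230 (230,(Int.ofNat 1)) .nil .nil) (.node 232 (234,(Int.ofNat 1)) .nil .nil))) (.node 237 (237,(Int.ofNat 1)) (.node 235 (235,(Int.ofNat 1)) (.node 234 (232,(Int.negSucc 0)) .nil .nil) (.node 236 (236,(Int.ofNat 1)) .nil .nil)) (.node 239 (239,(Int.ofNat 1)) (.node 238 (238,(Int.ofNat 1)) .nil .nil) .nil)))))))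
noncomputable def wc2 : Tr (ℕ × ℤ) := (.node 120 (120,(Int.ofNat 1)) (.node 60 (50,(Int.ofNat 1)) (.node 30 (30,(Int.ofNat 1)) (.node 15 (15,(Int.ofNat 1)) (.node 7 (8,(Int.negSucc 0)) (.node 3 (3,(Int.ofNat 1)) (.node 1 (1,(Int.ofNat 1)) (.node 0 (0,(Int.ofNat 1)) .nil .nil) (.node 2 (2,(Int.ofNat 1)) .nil .nil)) (.node 5 (6,(Int.negSucc 0)) (.node 4 (4,(Int.ofNat 1)) .nil .nil) (.node 6 (5,(Int.ofNat 1)) .nil .nil))) (.node 11 (11,(Int.ofNat 1)) (.node 9 (9,(Int.ofNat 1)) (.node 8 (7,(Int.ofNat 1)) .nil .nil) (.node 10 (10,(Int.ofNat 1)) .nil .nil)) (.node 13 (13,(Int.ofNat 1)) (.node 12 (12,(Int.ofNat 1)) .nil .nil) (.node 14 (14,(Int.ofNat 1)) .nil .nil)))) (.node 23 (18,(Int.ofNat 1)) (.node 19 (24,(Int.negSucc 0)) (.node 17 (22,(Int.negSucc 0)) (.node 16 (21,(Int.negSucc 0)) .nil .nil) (.node 18 (23,(Int.negSucc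 0)) .nil .nil)) (.node 21 (16,(Int.ofNat 1)) (.node 20 (25,(Int.negSucc 0)) .nil .nil) (.node 22 (17,(Int.ofNat 1)) .nil .nil))) (.node 27 (27,(Int.ofNat 1)) (.node 25 (20,(Int.ofNat 1)) (.node 24 (19,(Int.ofNat 1)) .nil .nil) (.node 26 (26,(Int.ofNat 1)) .nil .nil)) (.node 29 (29,(Int.ofNat 1)) (.node 28 (28,(Int.ofNat 1)) .nil .nil) .nil)))) (.node 45 (45,(Int.ofNat 1)) (.node 38 (38,(Int.ofNat 1)) (.node 34 (34,(Int.ofNat 1)) (.node 32 (32,(Int.ofNat 1)) (.node 31 (31,(Int.ofNat 1)) .nil .nil) (.node 33 (33,(Int.ofNat 1)) .nil .nil)) (.node 36 (36,(Int.ofNat 1)) (.node 35 (35,(Int.ofNat 1)) .nil .nil) (.node 37 (37,(Int.ofNat 1)) .nil .nil))) (.node 42 (42,(Int.ofNat 1)) (.node 40 (40,(Int.ofNat 1)) (.node 39 (39,(Int.ofNat 1)) .nil .nil) (.node 41 (41,(Int.ofNat 1)) .nil .nil)) (.node 44 (44,(Int.ofNat 1))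 (.node 43 (43,(Int.ofNat 1)) .nil .nil) .nil))) (.node 53 (63,(Int.negSucc 0)) (.node 49 (59,(Int.negSucc 0)) (.node 47 (57,(Int.negSucc 0)) (.node 46 (56,(Int.negSucc 0)) .nil .nil) (.node 48 (58,(Int.negSucc 0)) .nil .nil)) (.node 51 (61,(Int.negSucc 0)) (.node 50 (60,(Int.negSucc 0)) .nil .nil) (.node 52 (62,(Int.negSucc 0)) .nil .nil))) (.node 57 (47,(Int.ofNat 1)) (.node 55 (65,(Int.negSucc 0)) (.node 54 (64,(Int.negSucc 0)) .nil .nil) (.node 56 (46,(Int.ofNat 1)) .nil .nil)) (.node 59 (49,(Int.ofNat 1)) (.node 58 (48,(Int.ofNat 1)) .nil .nil) .nil))))) (.node 90 (95,(Int.negSucc 0)) (.node 75 (75,(Int.ofNat 1)) (.node 68 (68,(Int.ofNat 1)) (.node 64 (54,(Int.ofNat 1)) (.node 62 (52,(Int.ofNat 1)) (.node 61 (51,(Int.ofNat 1)) .nil .nil) (.node 63 (53,(Int.ofNat 1)) .nil .nil)) (.node 66 (66,(Int.ofNat 1))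 (.node 65 (55,(Int.ofNat 1)) .nil .nil) (.node 67 (67,(Int.ofNat 1)) .nil .nil))) (.node 72 (72,(Int.ofNat 1)) (.node 70 (70,(Int.ofNat 1)) (.node 69 (69,(Int.ofNat 1)) .nil .nil) (.node 71 (71,(Int.ofNat 1)) .nil .nil)) (.node 74 (74,(Int.ofNat 1)) (.node 73 (73,(Int.ofNat 1)) .nil .nil) .nil))) (.node 83 (83,(Int.ofNat 1)) (.node 79 (79,(Int.ofNat 1)) (.node 77 (76,(Int.ofNat 1)) (.node 76 (77,(Int.negSucc 0)) .nil .nil) (.node 78 (78,(Int.ofNat 1)) .nil .nil)) (.node 81 (81,(Int.ofNat 1)) (.node 80 (80,(Int.ofNat 1)) .nil .nil) (.node 82 (82,(Int.ofNat 1)) .nil .nil))) (.node 87 (87,(Int.ofNat 1)) (.node 85 (85,(Int.ofNat 1)) (.node 84 (84,(Int.ofNat 1)) .nil .nil) (.node 86 (86,(Int.ofNat 1)) .nil .nil)) (.node 89 (94,(Int.negSucc 0)) (.node 88 (93,(Int.negSucc 0)) .nil .nil) .nil)))) (.node 105 (99,(Int.negSucc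 0)) (.node 98 (98,(Int.ofNat 1)) (.node 94 (89,(Int.ofNat 1)) (.node 92 (97,(Int.negSucc 0)) (.node 91 (96,(Int.negSucc 0)) .nil .nil) (.node 93 (88,(Int.ofNat 1)) .nil .nil)) (.node 96 (91,(Int.ofNat 1)) (.node 95 (90,(Int.ofNat 1)) .nil .nil) (.node 97 (92,(Int.ofNat 1)) .nil .nil))) (.node 102 (108,(Int.ofNat 1)) (.node 100 (106,(Int.ofNat 1)) (.node 99 (105,(Int.ofNat 1)) .nil .nil) (.node 101 (107,(Int.ofNat 1)) .nil .nil)) (.node 104 (135,(Int.negSucc 0)) (.node 103 (109,(Int.ofNat 1)) .nil .nil) .nil))) (.node 113 (113,(Int.ofNat 1)) (.node 109 (103,(Int.negSucc 0)) (.node 107 (101,(Int.negSucc 0)) (.node 106 (100,(Int.negSucc 0)) .nil .nil) (.node 108 (102,(Int.negSucc 0)) .nil .nil)) (.node 111 (111,(Int.ofNat 1)) (.node 110 (110,(Int.ofNat 1)) .nil .nil) (.node 112 (112,(Int.ofNat 1)) .nil .nil))) (.node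 117 (117,(Int.ofNat 1)) (.node 115 (115,(Int.ofNat 1)) (.node 114 (114,(Int.ofNat 1)) .nil .nil) (.node 116 (116,(Int.ofNat 1)) .nil .nil)) (.node 119 (119,(Int.ofNat 1)) (.node 118 (118,(Int.ofNat 1)) .nil .nil) .nil)))))) (.node 180 (190,(Int.ofNat 1)) (.node 150 (145,(Int.negSucc 0)) (.node 135 (104,(Int.negSucc 0)) (.node 128 (128,(Int.ofNat 1)) (.node 124 (124,(Int.ofNat 1)) (.node 122 (122,(Int.ofNat 1)) (.node 121 (121,(Int.ofNat 1)) .nil .nil) (.node 123 (123,(Int.ofNat 1)) .nil .nil)) (.node 126 (126,(Int.ofNat 1)) (.node 125 (125,(Int.ofNat 1)) .nil .nil) (.node 127 (127,(Int.ofNat 1)) .nil .nil))) (.node 132 (138,(Int.negSucc 0)) (.node 130 (136,(Int.negSucc 0)) (.node 129 (129,(Int.ofNat 1)) .nil .nil) (.node 131 (137,(Int.negSucc 0)) .nil .nil)) (.node 134 (140,(Int.negSucc 0)) (.node 133 (139,(Int.negSucc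 0)) .nil .nil) .nil))) (.node 143 (148,(Int.ofNat 1)) (.node 139 (133,(Int.ofNat 1)) (.node 137 (131,(Int.ofNat 1)) (.node 136 (130,(Int.ofNat 1)) .nil .nil) (.node 138 (132,(Int.ofNat 1)) .nil .nil)) (.node 141 (141,(Int.ofNat 1)) (.node 140 (134,(Int.ofNat 1)) .nil .nil) (.node 142 (147,(Int.ofNat 1)) .nil .nil))) (.node 147 (142,(Int.negSucc 0)) (.node 145 (150,(Int.ofNat 1)) (.node 144 (149,(Int.ofNat 1)) .nil .nil) (.node 146 (151,(Int.ofNat 1)) .nil .nil)) (.node 149 (144,(Int.negSucc 0)) (.node 148 (143,(Int.negSucc 0)) .nil .nil) .nil)))) (.node 165 (165,(Int.ofNat 1)) (.node 158 (158,(Int.ofNat 1)) (.node 154 (154,(Int.ofNat 1)) (.node 152 (152,(Int.ofNat 1)) (.node 151 (146,(Int.negSucc 0)) .nil .nil) (.node 153 (153,(Int.ofNat 1)) .nil .nil)) (.node 156 (156,(Int.ofNat 1)) (.node 155 (155,(Int.ofNat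 1)) .nil .nil) (.node 157 (157,(Int.ofNat 1)) .nil .nil))) (.node 162 (163,(Int.ofNat 1)) (.node 160 (160,(Int.ofNat 1)) (.node 159 (159,(Int.ofNat 1)) .nil .nil) (.node 161 (161,(Int.ofNat 1)) .nil .nil)) (.node 164 (164,(Int.ofNat 1)) (.node 163 (162,(Int.negSucc 0)) .nil .nil) .nil))) (.node 173 (173,(Int.ofNat 1)) (.node 169 (169,(Int.ofNat 1)) (.node 167 (167,(Int.ofNat 1)) (.node 166 (166,(Int.ofNat 1)) .nil .nil) (.node 168 (168,(Int.ofNat 1)) .nil .nil)) (.node 171 (171,(Int.ofNat 1)) (.node 170 (170,(Int.ofNat 1)) .nil .nil) (.node 172 (172,(Int.ofNat 1)) .nil .nil))) (.node 177 (187,(Int.ofNat 1)) (.node 175 (185,(Int.ofNat 1)) (.node 174 (184,(Int.ofNat 1)) .nil .nil) (.node 176 (186,(Int.ofNat 1)) .nil .nil)) (.node 179 (189,(Int.ofNat 1)) (.node 178 (188,(Int.ofNat 1)) .nil .nil) .nil))))) (.node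 210 (210,(Int.ofNat 1)) (.node 195 (195,(Int.ofNat 1)) (.node 188 (178,(Int.negSucc 0)) (.node 184 (174,(Int.negSucc 0)) (.node 182 (192,(Int.ofNat 1)) (.node 181 (191,(Int.ofNat 1)) .nil .nil) (.node 183 (193,(Int.ofNat 1)) .nil .nil)) (.node 186 (176,(Int.negSucc 0)) (.node 185 (175,(Int.negSucc 0)) .nil .nil) (.node 187 (177,(Int.negSucc 0)) .nil .nil))) (.node 192 (182,(Int.negSucc 0)) (.node 190 (180,(Int.negSucc 0)) (.node 189 (179,(Int.negSucc 0)) .nil .nil) (.node 191 (181,(Int.negSucc 0)) .nil .nil)) (.node 194 (194,(Int.ofNat 1)) (.node 193 (183,(Int.negSucc 0)) .nil .nil) .nil))) (.node 203 (203,(Int.ofNat 1)) (.node 199 (199,(Int.ofNat 1)) (.node 197 (197,(Int.ofNat 1)) (.node 196 (196,(Int.ofNat 1)) .nil .nil) (.node 198 (198,(Int.ofNat 1)) .nil .nil)) (.node 201 (201,(Int.ofNat 1)) (.node 200 (200,(Int.ofNat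 1)) .nil .nil) (.node 202 (202,(Int.ofNat 1)) .nil .nil))) (.node 207 (207,(Int.ofNat 1)) (.node 205 (205,(Int.ofNat 1)) (.node 204 (204,(Int.ofNat 1)) .nil .nil) (.node 206 (206,(Int.ofNat 1)) .nil .nil)) (.node 209 (209,(Int.ofNat 1)) (.node 208 (208,(Int.ofNat 1)) .nil .nil) .nil)))) (.node 225 (225,(Int.ofNat 1)) (.node 218 (223,(Int.ofNat 1)) (.node 214 (219,(Int.ofNat 1)) (.node 212 (212,(Int.ofNat 1)) (.node 211 (211,(Int.ofNat 1)) .nil .nil) (.node 213 (213,(Int.ofNat 1)) .nil .nil)) (.node 216 (221,(Int.ofNat 1)) (.node 215 (220,(Int.ofNat 1)) .nil .nil) (.node 217 (222,(Int.ofNat 1)) .nil .nil))) (.node 222 (217,(Int.negSucc 0)) (.node 220 (215,(Int.negSucc 0)) (.node 219 (214,(Int.negSucc 0)) .nil .nil) (.node 221 (216,(Int.negSucc 0)) .nil .nil)) (.node 224 (224,(Int.ofNat 1)) (.node 223 (218,(Int.negSucc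 0)) .nil .nil) .nil))) (.node 233 (234,(Int.ofNat 1)) (.node 229 (229,(Int.ofNat 1)) (.node 227 (227,(Int.ofNat 1)) (.node 226 (226,(Int.ofNat 1)) .nil .nil) (.node 228 (228,(Int.ofNat 1)) .nil .nil)) (.node 231 (232,(Int.ofNat 1)) (.node 230 (230,(Int.ofNat 1)) .nil .nil) (.node 232 (231,(Int.negSucc 0)) .nil .nil))) (.node 237 (237,(Int.ofNat 1)) (.node 235 (235,(Int.ofNat 1)) (.node 234 (233,(Int.negSucc 0)) .nil .nil) (.node 236 (236,(Int.ofNat 1)) .nil .nil)) (.node 239 (239,(Int.ofNat 1)) (.node 238 (238,(Int.ofNat 1)) .nil .nil) .nil)))))))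
noncomputable def wc3 : Tr (ℕ × ℤ) := (.node 120 (120,(Int.ofNat 1)) (.node 60 (60,(Int.ofNat 1)) (.node 30 (30,(Int.ofNat 1)) (.node 15 (16,(Int.negSucc 0)) (.node 7 (7,(Int.ofNat 1)) (.node 3 (3,(Int.ofNat 1)) (.node 1 (1,(Int.ofNat 1)) (.node 0 (0,(Int.ofNat 1)) .nil .nil) (.node 2 (2,(Int.ofNat 1)) .nil .nil)) (.node 5 (4,(Int.ofNat 1)) (.node 4 (5,(Int.negSucc 0)) .nil .nil) (.node 6 (6,(Int.ofNat 1)) .nil .nil))) (.node 11 (11,(Int.ofNat 1)) (.node 9 (8,(Int.ofNat 1)) (.node 8 (9,(Int.negSucc 0)) .nil .nil) (.node 10 (10,(Int.ofNat 1)) .nil .nil)) (.node 13 (13,(Int.ofNat 1)) (.node 12 (12,(Int.ofNat 1)) .nil .nil) (.node 14 (14,(Int.ofNat 1)) .nil .nil)))) (.node 23 (27,(Int.negSucc 0)) (.node 19 (19,(Int.ofNat 1)) (.node 17 (17,(Int.ofNat 1)) (.node 16 (15,(Int.ofNat 1)) .nil .nil) (.node 18 (18,(Int.ofNat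 1)) .nil .nil)) (.node 21 (21,(Int.ofNat 1)) (.node 20 (20,(Int.ofNat 1)) .nil .nil) (.node 22 (26,(Int.negSucc 0)) .nil .nil))) (.node 27 (23,(Int.ofNat 1)) (.node 25 (29,(Int.negSucc 0)) (.node 24 (28,(Int.negSucc 0)) .nil .nil) (.node 26 (22,(Int.ofNat 1)) .nil .nil)) (.node 29 (25,(Int.ofNat 1)) (.node 28 (24,(Int.ofNat 1)) .nil .nil) .nil)))) (.node 45 (51,(Int.negSucc 0)) (.node 38 (38,(Int.ofNat 1)) (.node 34 (34,(Int.ofNat 1)) (.node 32 (32,(Int.ofNat 1)) (.node 31 (31,(Int.ofNat 1)) .nil .nil) (.node 33 (33,(Int.ofNat 1)) .nil .nil)) (.node 36 (36,(Int.ofNat 1)) (.node 35 (35,(Int.ofNat 1)) .nil .nil) (.node 37 (37,(Int.ofNat 1)) .nil .nil))) (.node 42 (48,(Int.negSucc 0)) (.node 40 (46,(Int.negSucc 0)) (.node 39 (39,(Int.ofNat 1)) .nil .nil) (.node 41 (47,(Int.negSucc 0)) .nil .nil)) (.node 44 (50,(Int.negSucc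 0)) (.node 43 (49,(Int.negSucc 0)) .nil .nil) .nil))) (.node 53 (53,(Int.ofNat 1)) (.node 49 (43,(Int.ofNat 1)) (.node 47 (41,(Int.ofNat 1)) (.node 46 (40,(Int.ofNat 1)) .nil .nil) (.node 48 (42,(Int.ofNat 1)) .nil .nil)) (.node 51 (45,(Int.ofNat 1)) (.node 50 (44,(Int.ofNat 1)) .nil .nil) (.node 52 (52,(Int.ofNat 1)) .nil .nil))) (.node 57 (57,(Int.ofNat 1)) (.node 55 (55,(Int.ofNat 1)) (.node 54 (54,(Int.ofNat 1)) .nil .nil) (.node 56 (56,(Int.ofNat 1)) .nil .nil)) (.node 59 (59,(Int.ofNat 1)) (.node 58 (58,(Int.ofNat 1)) .nil .nil) .nil))))) (.node 90 (86,(Int.ofNat 1)) (.node 75 (76,(Int.negSucc 0)) (.node 68 (64,(Int.ofNat 1)) (.node 64 (68,(Int.negSucc 0)) (.node 62 (66,(Int.negSucc 0)) (.node 61 (61,(Int.ofNat 1)) .nil .nil) (.node 63 (67,(Int.negSucc 0)) .nil .nil)) (.node 66 (62,(Int.ofNat 1)) (.node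 65 (69,(Int.negSucc 0)) .nil .nil) (.node 67 (63,(Int.ofNat 1)) .nil .nil))) (.node 72 (72,(Int.ofNat 1)) (.node 70 (70,(Int.ofNat 1)) (.node 69 (65,(Int.ofNat 1)) .nil .nil) (.node 71 (71,(Int.ofNat 1)) .nil .nil)) (.node 74 (74,(Int.ofNat 1)) (.node 73 (73,(Int.ofNat 1)) .nil .nil) .nil))) (.node 83 (83,(Int.ofNat 1)) (.node 79 (79,(Int.ofNat 1)) (.node 77 (77,(Int.ofNat 1)) (.node 76 (75,(Int.ofNat 1)) .nil .nil) (.node 78 (78,(Int.ofNat 1)) .nil .nil)) (.node 81 (81,(Int.ofNat 1)) (.node 80 (80,(Int.ofNat 1)) .nil .nil) (.node 82 (82,(Int.ofNat 1)) .nil .nil))) (.node 87 (91,(Int.negSucc 0)) (.node 85 (89,(Int.negSucc 0)) (.node 84 (88,(Int.negSucc 0)) .nil .nil) (.node 86 (90,(Int.negSucc 0)) .nil .nil)) (.node 89 (85,(Int.ofNat 1)) (.node 88 (84,(Int.ofNat 1)) .nil .nil) .nil)))) (.node 105 (110,(Int.ofNat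 1)) (.node 98 (97,(Int.ofNat 1)) (.node 94 (94,(Int.ofNat 1)) (.node 92 (92,(Int.ofNat 1)) (.node 91 (87,(Int.ofNat 1)) .nil .nil) (.node 93 (93,(Int.ofNat 1)) .nil .nil)) (.node 96 (96,(Int.ofNat 1)) (.node 95 (95,(Int.ofNat 1)) .nil .nil) (.node 97 (98,(Int.negSucc 0)) .nil .nil))) (.node 102 (102,(Int.ofNat 1)) (.node 100 (100,(Int.ofNat 1)) (.node 99 (99,(Int.ofNat 1)) .nil .nil) (.node 101 (101,(Int.ofNat 1)) .nil .nil)) (.node 104 (103,(Int.ofNat 1)) (.node 103 (104,(Int.negSucc 0)) .nil .nil) .nil))) (.node 113 (108,(Int.negSucc 0)) (.node 109 (130,(Int.negSucc 0)) (.node 107 (112,(Int.ofNat 1)) (.node 106 (111,(Int.ofNat 1)) .nil .nil) (.node 108 (113,(Int.ofNat 1)) .nil .nil)) (.node 111 (106,(Int.negSucc 0)) (.node 110 (105,(Int.negSucc 0)) .nil .nil) (.node 112 (107,(Int.negSucc 0)) .nil .nil))) (.node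 117 (117,(Int.ofNat 1)) (.node 115 (115,(Int.ofNat 1)) (.node 114 (114,(Int.ofNat 1)) .nil .nil) (.node 116 (116,(Int.ofNat 1)) .nil .nil)) (.node 119 (119,(Int.ofNat 1)) (.node 118 (118,(Int.ofNat 1)) .nil .nil) .nil)))))) (.node 180 (180,(Int.ofNat 1)) (.node 150 (154,(Int.ofNat 1)) (.node 135 (136,(Int.ofNat 1)) (.node 128 (133,(Int.negSucc 0)) (.node 124 (124,(Int.ofNat 1)) (.node 122 (122,(Int.ofNat 1)) (.node 121 (121,(Int.ofNat 1)) .nil .nil) (.node 123 (123,(Int.ofNat 1)) .nil .nil)) (.node 126 (131,(Int.negSucc 0)) (.node 125 (125,(Int.ofNat 1)) .nil .nil) (.node 127 (132,(Int.negSucc 0)) .nil .nil))) (.node 132 (127,(Int.ofNat 1)) (.node 130 (109,(Int.negSucc 0)) (.node 129 (134,(Int.negSucc 0)) .nil .nil) (.node 131 (126,(Int.ofNat 1)) .nil .nil)) (.node 134 (129,(Int.ofNat 1)) (.node 133 (128,(Int.ofNat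 1)) .nil .nil) .nil))) (.node 143 (143,(Int.ofNat 1)) (.node 139 (139,(Int.ofNat 1)) (.node 137 (137,(Int.ofNat 1)) (.node 136 (135,(Int.negSucc 0)) .nil .nil) (.node 138 (138,(Int.ofNat 1)) .nil .nil)) (.node 141 (142,(Int.ofNat 1)) (.node 140 (140,(Int.ofNat 1)) .nil .nil) (.node 142 (141,(Int.negSucc 0)) .nil .nil))) (.node 147 (147,(Int.ofNat 1)) (.node 145 (145,(Int.ofNat 1)) (.node 144 (144,(Int.ofNat 1)) .nil .nil) (.node 146 (146,(Int.ofNat 1)) .nil .nil)) (.node 149 (153,(Int.ofNat 1)) (.node 148 (152,(Int.ofNat 1)) .nil .nil) .nil)))) (.node 165 (165,(Int.ofNat 1)) (.node 158 (158,(Int.ofNat 1)) (.node 154 (150,(Int.negSucc 0)) (.node 152 (148,(Int.negSucc 0)) (.node 151 (155,(Int.ofNat 1)) .nil .nil) (.node 153 (149,(Int.negSucc 0)) .nil .nil)) (.node 156 (156,(Int.ofNat 1)) (.node 155 (151,(Int.negSucc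 0)) .nil .nil) (.node 157 (157,(Int.ofNat 1)) .nil .nil))) (.node 162 (162,(Int.ofNat 1)) (.node 160 (160,(Int.ofNat 1)) (.node 159 (159,(Int.ofNat 1)) .nil .nil) (.node 161 (161,(Int.ofNat 1)) .nil .nil)) (.node 164 (163,(Int.negSucc 0)) (.node 163 (164,(Int.ofNat 1)) .nil .nil) .nil))) (.node 173 (177,(Int.ofNat 1)) (.node 169 (169,(Int.ofNat 1)) (.node 167 (167,(Int.ofNat 1)) (.node 166 (166,(Int.ofNat 1)) .nil .nil) (.node 168 (168,(Int.ofNat 1)) .nil .nil)) (.node 171 (175,(Int.ofNat 1)) (.node 170 (174,(Int.ofNat 1)) .nil .nil) (.node 172 (176,(Int.ofNat 1)) .nil .nil))) (.node 177 (173,(Int.negSucc 0)) (.node 175 (171,(Int.negSucc 0)) (.node 174 (170,(Int.negSucc 0)) .nil .nil) (.node 176 (172,(Int.negSucc 0)) .nil .nil)) (.node 179 (179,(Int.ofNat 1)) (.node 178 (178,(Int.ofNat 1)) .nil .nil) .nil)))))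 (.node 210 (214,(Int.ofNat 1)) (.node 195 (189,(Int.negSucc 0)) (.node 188 (194,(Int.ofNat 1)) (.node 184 (184,(Int.ofNat 1)) (.node 182 (182,(Int.ofNat 1)) (.node 181 (181,(Int.ofNat 1)) .nil .nil) (.node 183 (183,(Int.ofNat 1)) .nil .nil)) (.node 186 (186,(Int.ofNat 1)) (.node 185 (185,(Int.ofNat 1)) .nil .nil) (.node 187 (187,(Int.ofNat 1)) .nil .nil))) (.node 192 (198,(Int.ofNat 1)) (.node 190 (196,(Int.ofNat 1)) (.node 189 (195,(Int.ofNat 1)) .nil .nil) (.node 191 (197,(Int.ofNat 1)) .nil .nil)) (.node 194 (188,(Int.negSucc 0)) (.node 193 (199,(Int.ofNat 1)) .nil .nil) .nil))) (.node 203 (203,(Int.ofNat 1)) (.node 199 (193,(Int.negSucc 0)) (.node 197 (191,(Int.negSucc 0)) (.node 196 (190,(Int.negSucc 0)) .nil .nil) (.node 198 (192,(Int.negSucc 0)) .nil .nil)) (.node 201 (201,(Int.ofNat 1)) (.node 200 (200,(Int.ofNat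 1)) .nil .nil) (.node 202 (202,(Int.ofNat 1)) .nil .nil))) (.node 207 (207,(Int.ofNat 1)) (.node 205 (205,(Int.ofNat 1)) (.node 204 (204,(Int.ofNat 1)) .nil .nil) (.node 206 (206,(Int.ofNat 1)) .nil .nil)) (.node 209 (209,(Int.ofNat 1)) (.node 208 (208,(Int.ofNat 1)) .nil .nil) .nil)))) (.node 225 (225,(Int.ofNat 1)) (.node 218 (218,(Int.ofNat 1)) (.node 214 (210,(Int.negSucc 0)) (.node 212 (216,(Int.ofNat 1)) (.node 211 (215,(Int.ofNat 1)) .nil .nil) (.node 213 (217,(Int.ofNat 1)) .nil .nil)) (.node 216 (212,(Int.negSucc 0)) (.node 215 (211,(Int.negSucc 0)) .nil .nil) (.node 217 (213,(Int.negSucc 0)) .nil .nil))) (.node 222 (222,(Int.ofNat 1)) (.node 220 (220,(Int.ofNat 1)) (.node 219 (219,(Int.ofNat 1)) .nil .nil) (.node 221 (221,(Int.ofNat 1)) .nil .nil)) (.node 224 (223,(Int.negSucc 0)) (.node 223 (224,(Int.ofNat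 1)) .nil .nil) .nil))) (.node 233 (233,(Int.ofNat 1)) (.node 229 (229,(Int.ofNat 1)) (.node 227 (227,(Int.ofNat 1)) (.node 226 (226,(Int.ofNat 1)) .nil .nil) (.node 228 (228,(Int.ofNat 1)) .nil .nil)) (.node 231 (230,(Int.negSucc 0)) (.node 230 (231,(Int.ofNat 1)) .nil .nil) (.node 232 (232,(Int.ofNat 1)) .nil .nil))) (.node 237 (237,(Int.ofNat 1)) (.node 235 (234,(Int.negSucc 0)) (.node 234 (235,(Int.ofNat 1)) .nil .nil) (.node 236 (236,(Int.ofNat 1)) .nil .nil)) (.node 239 (239,(Int.ofNat 1)) (.node 238 (238,(Int.ofNat 1)) .nil .nil) .nil)))))))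
noncomputable def wc4 : Tr (ℕ × ℤ) := (.node 120 (120,(Int.ofNat 1)) (.node 60 (63,(Int.negSucc 0)) (.node 30 (27,(Int.ofNat 1)) (.node 15 (15,(Int.ofNat 1)) (.node 7 (7,(Int.ofNat 1)) (.node 3 (4,(Int.negSucc 0)) (.node 1 (1,(Int.ofNat 1)) (.node 0 (0,(Int.ofNat 1)) .nil .nil) (.node 2 (2,(Int.ofNat 1)) .nil .nil)) (.node 5 (5,(Int.ofNat 1)) (.node 4 (3,(Int.ofNat 1)) .nil .nil) (.node 6 (6,(Int.ofNat 1)) .nil .nil))) (.node 11 (11,(Int.ofNat 1)) (.node 9 (10,(Int.negSucc 0)) (.node 8 (8,(Int.ofNat 1)) .nil .nil) (.node 10 (9,(Int.ofNat 1)) .nil .nil)) (.node 13 (13,(Int.ofNat 1)) (.node 12 (12,(Int.ofNat 1)) .nil .nil) (.node 14 (14,(Int.ofNat 1)) .nil .nil)))) (.node 23 (23,(Int.ofNat 1)) (.node 19 (19,(Int.ofNat 1)) (.node 17 (16,(Int.ofNat 1)) (.node 16 (17,(Int.negSucc 0)) .nil .nil) (.node 18 (18,(Int.ofNat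 1)) .nil .nil)) (.node 21 (22,(Int.negSucc 0)) (.node 20 (20,(Int.ofNat 1)) .nil .nil) (.node 22 (21,(Int.ofNat 1)) .nil .nil))) (.node 27 (30,(Int.negSucc 0)) (.node 25 (25,(Int.ofNat 1)) (.node 24 (24,(Int.ofNat 1)) .nil .nil) (.node 26 (26,(Int.ofNat 1)) .nil .nil)) (.node 29 (32,(Int.negSucc 0)) (.node 28 (31,(Int.negSucc 0)) .nil .nil) .nil)))) (.node 45 (45,(Int.ofNat 1)) (.node 38 (41,(Int.negSucc 0)) (.node 34 (34,(Int.ofNat 1)) (.node 32 (29,(Int.ofNat 1)) (.node 31 (28,(Int.ofNat 1)) .nil .nil) (.node 33 (33,(Int.ofNat 1)) .nil .nil)) (.node 36 (36,(Int.ofNat 1)) (.node 35 (35,(Int.ofNat 1)) .nil .nil) (.node 37 (40,(Int.negSucc 0)) .nil .nil))) (.node 42 (39,(Int.ofNat 1)) (.node 40 (37,(Int.ofNat 1)) (.node 39 (42,(Int.negSucc 0)) .nil .nil) (.node 41 (38,(Int.ofNat 1)) .nil .nil)) (.node 44 (44,(Int.ofNat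 1)) (.node 43 (43,(Int.ofNat 1)) .nil .nil) .nil))) (.node 53 (50,(Int.ofNat 1)) (.node 49 (52,(Int.negSucc 0)) (.node 47 (47,(Int.ofNat 1)) (.node 46 (46,(Int.ofNat 1)) .nil .nil) (.node 48 (48,(Int.ofNat 1)) .nil .nil)) (.node 51 (54,(Int.negSucc 0)) (.node 50 (53,(Int.negSucc 0)) .nil .nil) (.node 52 (49,(Int.ofNat 1)) .nil .nil))) (.node 57 (57,(Int.ofNat 1)) (.node 55 (55,(Int.ofNat 1)) (.node 54 (51,(Int.ofNat 1)) .nil .nil) (.node 56 (56,(Int.ofNat 1)) .nil .nil)) (.node 59 (62,(Int.negSucc 0)) (.node 58 (58,(Int.ofNat 1)) .nil .nil) .nil))))) (.node 90 (90,(Int.ofNat 1)) (.node 75 (74,(Int.ofNat 1)) (.node 68 (68,(Int.ofNat 1)) (.node 64 (61,(Int.ofNat 1)) (.node 62 (59,(Int.ofNat 1)) (.node 61 (64,(Int.negSucc 0)) .nil .nil) (.node 63 (60,(Int.ofNat 1)) .nil .nil)) (.node 66 (66,(Int.ofNat 1)) (.node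 65 (65,(Int.ofNat 1)) .nil .nil) (.node 67 (67,(Int.ofNat 1)) .nil .nil))) (.node 72 (72,(Int.ofNat 1)) (.node 70 (69,(Int.ofNat 1)) (.node 69 (70,(Int.negSucc 0)) .nil .nil) (.node 71 (71,(Int.ofNat 1)) .nil .nil)) (.node 74 (75,(Int.negSucc 0)) (.node 73 (73,(Int.ofNat 1)) .nil .nil) .nil))) (.node 83 (86,(Int.negSucc 0)) (.node 79 (79,(Int.ofNat 1)) (.node 77 (77,(Int.ofNat 1)) (.node 76 (76,(Int.ofNat 1)) .nil .nil) (.node 78 (78,(Int.ofNat 1)) .nil .nil)) (.node 81 (84,(Int.negSucc 0)) (.node 80 (80,(Int.ofNat 1)) .nil .nil) (.node 82 (85,(Int.negSucc 0)) .nil .nil))) (.node 87 (87,(Int.ofNat 1)) (.node 85 (82,(Int.ofNat 1)) (.node 84 (81,(Int.ofNat 1)) .nil .nil) (.node 86 (83,(Int.ofNat 1)) .nil .nil)) (.node 89 (89,(Int.ofNat 1)) (.node 88 (88,(Int.ofNat 1)) .nil .nil) .nil)))) (.node 105 (105,(Int.ofNat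 1)) (.node 98 (98,(Int.ofNat 1)) (.node 94 (94,(Int.ofNat 1)) (.node 92 (91,(Int.ofNat 1)) (.node 91 (92,(Int.negSucc 0)) .nil .nil) (.node 93 (93,(Int.ofNat 1)) .nil .nil)) (.node 96 (97,(Int.negSucc 0)) (.node 95 (95,(Int.ofNat 1)) .nil .nil) (.node 97 (96,(Int.ofNat 1)) .nil .nil))) (.node 102 (103,(Int.negSucc 0)) (.node 100 (100,(Int.ofNat 1)) (.node 99 (99,(Int.ofNat 1)) .nil .nil) (.node 101 (101,(Int.ofNat 1)) .nil .nil)) (.node 104 (104,(Int.ofNat 1)) (.node 103 (102,(Int.ofNat 1)) .nil .nil) .nil))) (.node 113 (126,(Int.negSucc 0)) (.node 109 (108,(Int.ofNat 1)) (.node 107 (107,(Int.ofNat 1)) (.node 106 (106,(Int.ofNat 1)) .nil .nil) (.node 108 (109,(Int.negSucc 0)) .nil .nil)) (.node 111 (115,(Int.ofNat 1)) (.node 110 (114,(Int.ofNat 1)) .nil .nil) (.node 112 (116,(Int.ofNat 1)) .nil .nil))) (.node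 117 (117,(Int.ofNat 1)) (.node 115 (111,(Int.negSucc 0)) (.node 114 (110,(Int.negSucc 0)) .nil .nil) (.node 116 (112,(Int.negSucc 0)) .nil .nil)) (.node 119 (119,(Int.ofNat 1)) (.node 118 (118,(Int.ofNat 1)) .nil .nil) .nil)))))) (.node 180 (177,(Int.negSucc 0)) (.node 150 (150,(Int.ofNat 1)) (.node 135 (135,(Int.ofNat 1)) (.node 128 (124,(Int.ofNat 1)) (.node 124 (128,(Int.negSucc 0)) (.node 122 (122,(Int.ofNat 1)) (.node 121 (121,(Int.ofNat 1)) .nil .nil) (.node 123 (127,(Int.negSucc 0)) .nil .nil)) (.node 126 (113,(Int.negSucc 0)) (.node 125 (129,(Int.negSucc 0)) .nil .nil) (.node 127 (123,(Int.ofNat 1)) .nil .nil))) (.node 132 (132,(Int.ofNat 1)) (.node 130 (131,(Int.ofNat 1)) (.node 129 (125,(Int.ofNat 1)) .nil .nil) (.node 131 (130,(Int.negSucc 0)) .nil .nil)) (.node 134 (134,(Int.ofNat 1)) (.node 133 (133,(Int.ofNat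 1)) .nil .nil) .nil))) (.node 143 (142,(Int.negSucc 0)) (.node 139 (139,(Int.ofNat 1)) (.node 137 (136,(Int.negSucc 0)) (.node 136 (137,(Int.ofNat 1)) .nil .nil) (.node 138 (138,(Int.ofNat 1)) .nil .nil)) (.node 141 (141,(Int.ofNat 1)) (.node 140 (140,(Int.ofNat 1)) .nil .nil) (.node 142 (143,(Int.ofNat 1)) .nil .nil))) (.node 147 (148,(Int.ofNat 1)) (.node 145 (145,(Int.ofNat 1)) (.node 144 (144,(Int.ofNat 1)) .nil .nil) (.node 146 (146,(Int.ofNat 1)) .nil .nil)) (.node 149 (149,(Int.ofNat 1)) (.node 148 (147,(Int.negSucc 0)) .nil .nil) .nil)))) (.node 165 (164,(Int.negSucc 0)) (.node 158 (155,(Int.negSucc 0)) (.node 154 (157,(Int.ofNat 1)) (.node 152 (152,(Int.ofNat 1)) (.node 151 (151,(Int.ofNat 1)) .nil .nil) (.node 153 (156,(Int.ofNat 1)) .nil .nil)) (.node 156 (153,(Int.negSucc 0)) (.node 155 (158,(Int.ofNat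 1)) .nil .nil) (.node 157 (154,(Int.negSucc 0)) .nil .nil))) (.node 162 (162,(Int.ofNat 1)) (.node 160 (160,(Int.ofNat 1)) (.node 159 (159,(Int.ofNat 1)) .nil .nil) (.node 161 (161,(Int.ofNat 1)) .nil .nil)) (.node 164 (165,(Int.ofNat 1)) (.node 163 (163,(Int.ofNat 1)) .nil .nil) .nil))) (.node 173 (173,(Int.ofNat 1)) (.node 169 (170,(Int.ofNat 1)) (.node 167 (167,(Int.ofNat 1)) (.node 166 (166,(Int.ofNat 1)) .nil .nil) (.node 168 (168,(Int.ofNat 1)) .nil .nil)) (.node 171 (171,(Int.ofNat 1)) (.node 170 (169,(Int.negSucc 0)) .nil .nil) (.node 172 (172,(Int.ofNat 1)) .nil .nil))) (.node 177 (180,(Int.ofNat 1)) (.node 175 (178,(Int.ofNat 1)) (.node 174 (174,(Int.ofNat 1)) .nil .nil) (.node 176 (179,(Int.ofNat 1)) .nil .nil)) (.node 179 (176,(Int.negSucc 0)) (.node 178 (175,(Int.negSucc 0)) .nil .nil) .nil))))) (.node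 210 (207,(Int.negSucc 0)) (.node 195 (195,(Int.ofNat 1)) (.node 188 (185,(Int.negSucc 0)) (.node 184 (184,(Int.ofNat 1)) (.node 182 (182,(Int.ofNat 1)) (.node 181 (181,(Int.ofNat 1)) .nil .nil) (.node 183 (183,(Int.ofNat 1)) .nil .nil)) (.node 186 (189,(Int.ofNat 1)) (.node 185 (188,(Int.ofNat 1)) .nil .nil) (.node 187 (190,(Int.ofNat 1)) .nil .nil))) (.node 192 (192,(Int.ofNat 1)) (.node 190 (187,(Int.negSucc 0)) (.node 189 (186,(Int.negSucc 0)) .nil .nil) (.node 191 (191,(Int.ofNat 1)) .nil .nil)) (.node 194 (194,(Int.ofNat 1)) (.node 193 (193,(Int.ofNat 1)) .nil .nil) .nil))) (.node 203 (203,(Int.ofNat 1)) (.node 199 (202,(Int.ofNat 1)) (.node 197 (200,(Int.ofNat 1)) (.node 196 (196,(Int.ofNat 1)) .nil .nil) (.node 198 (201,(Int.ofNat 1)) .nil .nil)) (.node 201 (198,(Int.negSucc 0)) (.node 200 (197,(Int.negSucc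 0)) .nil .nil) (.node 202 (199,(Int.negSucc 0)) .nil .nil))) (.node 207 (210,(Int.ofNat 1)) (.node 205 (205,(Int.ofNat 1)) (.node 204 (204,(Int.ofNat 1)) .nil .nil) (.node 206 (206,(Int.ofNat 1)) .nil .nil)) (.node 209 (212,(Int.ofNat 1)) (.node 208 (211,(Int.ofNat 1)) .nil .nil) .nil)))) (.node 225 (225,(Int.ofNat 1)) (.node 218 (217,(Int.negSucc 0)) (.node 214 (214,(Int.ofNat 1)) (.node 212 (209,(Int.negSucc 0)) (.node 211 (208,(Int.negSucc 0)) .nil .nil) (.node 213 (213,(Int.ofNat 1)) .nil .nil)) (.node 216 (216,(Int.ofNat 1)) (.node 215 (215,(Int.ofNat 1)) .nil .nil) (.node 217 (218,(Int.ofNat 1)) .nil .nil))) (.node 222 (223,(Int.ofNat 1)) (.node 220 (220,(Int.ofNat 1)) (.node 219 (219,(Int.ofNat 1)) .nil .nil) (.node 221 (221,(Int.ofNat 1)) .nil .nil)) (.node 224 (224,(Int.ofNat 1)) (.node 223 (222,(Int.negSucc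 0)) .nil .nil) .nil))) (.node 233 (233,(Int.ofNat 1)) (.node 229 (230,(Int.ofNat 1)) (.node 227 (227,(Int.ofNat 1)) (.node 226 (226,(Int.ofNat 1)) .nil .nil) (.node 228 (228,(Int.ofNat 1)) .nil .nil)) (.node 231 (231,(Int.ofNat 1)) (.node 230 (229,(Int.negSucc 0)) .nil .nil) (.node 232 (232,(Int.ofNat 1)) .nil .nil))) (.node 237 (237,(Int.ofNat 1)) (.node 235 (236,(Int.ofNat 1)) (.node 234 (234,(Int.ofNat 1)) .nil .nil) (.node 236 (235,(Int.negSucc 0)) .nil .nil)) (.node 239 (239,(Int.ofNat 1)) (.node 238 (238,(Int.ofNat 1)) .nil .nil) .nil)))))))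
noncomputable def wc5 : Tr (ℕ × ℤ) := (.node 120 (120,(Int.ofNat 1)) (.node 60 (58,(Int.ofNat 1)) (.node 30 (30,(Int.ofNat 1)) (.node 15 (15,(Int.ofNat 1)) (.node 7 (7,(Int.ofNat 1)) (.node 3 (2,(Int.ofNat 1)) (.node 1 (1,(Int.ofNat 1)) (.node 0 (0,(Int.ofNat 1)) .nil .nil) (.node 2 (3,(Int.negSucc 0)) .nil .nil)) (.node 5 (5,(Int.ofNat 1)) (.node 4 (4,(Int.ofNat 1)) .nil .nil) (.node 6 (6,(Int.ofNat 1)) .nil .nil))) (.node 11 (10,(Int.ofNat 1)) (.node 9 (9,(Int.ofNat 1)) (.node 8 (8,(Int.ofNat 1)) .nil .nil) (.node 10 (11,(Int.negSucc 0)) .nil .nil)) (.node 13 (13,(Int.ofNat 1)) (.node 12 (12,(Int.ofNat 1)) .nil .nil) (.node 14 (14,(Int.ofNat 1)) .nil .nil)))) (.node 23 (22,(Int.ofNat 1)) (.node 19 (19,(Int.ofNat 1)) (.node 17 (18,(Int.negSucc 0)) (.node 16 (16,(Int.ofNat 1)) .nil .nil) (.node 18 (17,(Int.ofNat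 1)) .nil .nil)) (.node 21 (21,(Int.ofNat 1)) (.node 20 (20,(Int.ofNat 1)) .nil .nil) (.node 22 (23,(Int.negSucc 0)) .nil .nil))) (.node 27 (26,(Int.ofNat 1)) (.node 25 (25,(Int.ofNat 1)) (.node 24 (24,(Int.ofNat 1)) .nil .nil) (.node 26 (27,(Int.negSucc 0)) .nil .nil)) (.node 29 (29,(Int.ofNat 1)) (.node 28 (28,(Int.ofNat 1)) .nil .nil) .nil)))) (.node 45 (45,(Int.ofNat 1)) (.node 38 (38,(Int.ofNat 1)) (.node 34 (32,(Int.ofNat 1)) (.node 32 (34,(Int.negSucc 0)) (.node 31 (33,(Int.negSucc 0)) .nil .nil) (.node 33 (31,(Int.ofNat 1)) .nil .nil)) (.node 36 (37,(Int.negSucc 0)) (.node 35 (35,(Int.ofNat 1)) .nil .nil) (.node 37 (36,(Int.ofNat 1)) .nil .nil))) (.node 42 (44,(Int.negSucc 0)) (.node 40 (40,(Int.ofNat 1)) (.node 39 (39,(Int.ofNat 1)) .nil .nil) (.node 41 (43,(Int.negSucc 0)) .nil .nil)) (.node 44 (42,(Int.ofNat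 1)) (.node 43 (41,(Int.ofNat 1)) .nil .nil) .nil))) (.node 53 (53,(Int.ofNat 1)) (.node 49 (47,(Int.ofNat 1)) (.node 47 (49,(Int.negSucc 0)) (.node 46 (46,(Int.ofNat 1)) .nil .nil) (.node 48 (50,(Int.negSucc 0)) .nil .nil)) (.node 51 (51,(Int.ofNat 1)) (.node 50 (48,(Int.ofNat 1)) .nil .nil) (.node 52 (52,(Int.ofNat 1)) .nil .nil))) (.node 57 (59,(Int.negSucc 0)) (.node 55 (54,(Int.ofNat 1)) (.node 54 (55,(Int.negSucc 0)) .nil .nil) (.node 56 (56,(Int.ofNat 1)) .nil .nil)) (.node 59 (57,(Int.ofNat 1)) (.node 58 (60,(Int.negSucc 0)) .nil .nil) .nil))))) (.node 90 (91,(Int.negSucc 0)) (.node 75 (75,(Int.ofNat 1)) (.node 68 (69,(Int.negSucc 0)) (.node 64 (65,(Int.negSucc 0)) (.node 62 (62,(Int.ofNat 1)) (.node 61 (61,(Int.ofNat 1)) .nil .nil) (.node 63 (63,(Int.ofNat 1)) .nil .nil)) (.node 66 (66,(Int.ofNat 1)) (.node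 65 (64,(Int.ofNat 1)) .nil .nil) (.node 67 (67,(Int.ofNat 1)) .nil .nil))) (.node 72 (72,(Int.ofNat 1)) (.node 70 (70,(Int.ofNat 1)) (.node 69 (68,(Int.ofNat 1)) .nil .nil) (.node 71 (71,(Int.ofNat 1)) .nil .nil)) (.node 74 (73,(Int.ofNat 1)) (.node 73 (74,(Int.negSucc 0)) .nil .nil) .nil))) (.node 83 (83,(Int.ofNat 1)) (.node 79 (81,(Int.negSucc 0)) (.node 77 (77,(Int.ofNat 1)) (.node 76 (76,(Int.ofNat 1)) .nil .nil) (.node 78 (78,(Int.ofNat 1)) .nil .nil)) (.node 81 (79,(Int.ofNat 1)) (.node 80 (82,(Int.negSucc 0)) .nil .nil) (.node 82 (80,(Int.ofNat 1)) .nil .nil))) (.node 87 (86,(Int.ofNat 1)) (.node 85 (85,(Int.ofNat 1)) (.node 84 (84,(Int.ofNat 1)) .nil .nil) (.node 86 (87,(Int.negSucc 0)) .nil .nil)) (.node 89 (89,(Int.ofNat 1)) (.node 88 (88,(Int.ofNat 1)) .nil .nil) .nil)))) (.node 105 (105,(Int.ofNat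 1)) (.node 98 (98,(Int.ofNat 1)) (.node 94 (94,(Int.ofNat 1)) (.node 92 (92,(Int.ofNat 1)) (.node 91 (90,(Int.ofNat 1)) .nil .nil) (.node 93 (93,(Int.ofNat 1)) .nil .nil)) (.node 96 (95,(Int.ofNat 1)) (.node 95 (96,(Int.negSucc 0)) .nil .nil) (.node 97 (97,(Int.ofNat 1)) .nil .nil))) (.node 102 (101,(Int.ofNat 1)) (.node 100 (100,(Int.ofNat 1)) (.node 99 (99,(Int.ofNat 1)) .nil .nil) (.node 101 (102,(Int.negSucc 0)) .nil .nil)) (.node 104 (104,(Int.ofNat 1)) (.node 103 (103,(Int.ofNat 1)) .nil .nil) .nil))) (.node 113 (112,(Int.ofNat 1)) (.node 109 (109,(Int.ofNat 1)) (.node 107 (108,(Int.negSucc 0)) (.node 106 (106,(Int.ofNat 1)) .nil .nil) (.node 108 (107,(Int.ofNat 1)) .nil .nil)) (.node 111 (111,(Int.ofNat 1)) (.node 110 (110,(Int.ofNat 1)) .nil .nil) (.node 112 (113,(Int.negSucc 0)) .nil .nil))) (.node 117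 (114,(Int.negSucc 0)) (.node 115 (118,(Int.ofNat 1)) (.node 114 (117,(Int.ofNat 1)) .nil .nil) (.node 116 (123,(Int.negSucc 0)) .nil .nil)) (.node 119 (119,(Int.ofNat 1)) (.node 118 (115,(Int.negSucc 0)) .nil .nil) .nil)))))) (.node 180 (182,(Int.ofNat 1)) (.node 150 (150,(Int.ofNat 1)) (.node 135 (135,(Int.ofNat 1)) (.node 128 (128,(Int.ofNat 1)) (.node 124 (121,(Int.ofNat 1)) (.node 122 (125,(Int.negSucc 0)) (.node 121 (124,(Int.negSucc 0)) .nil .nil) (.node 123 (116,(Int.negSucc 0)) .nil .nil)) (.node 126 (127,(Int.ofNat 1)) (.node 125 (122,(Int.ofNat 1)) .nil .nil) (.node 127 (126,(Int.negSucc 0)) .nil .nil))) (.node 132 (131,(Int.negSucc 0)) (.node 130 (130,(Int.ofNat 1)) (.node 129 (129,(Int.ofNat 1)) .nil .nil) (.node 131 (132,(Int.ofNat 1)) .nil .nil)) (.node 134 (134,(Int.ofNat 1)) (.node 133 (133,(Int.ofNat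 1)) .nil .nil) .nil))) (.node 143 (144,(Int.ofNat 1)) (.node 139 (139,(Int.ofNat 1)) (.node 137 (138,(Int.ofNat 1)) (.node 136 (136,(Int.ofNat 1)) .nil .nil) (.node 138 (137,(Int.negSucc 0)) .nil .nil)) (.node 141 (141,(Int.ofNat 1)) (.node 140 (140,(Int.ofNat 1)) .nil .nil) (.node 142 (142,(Int.ofNat 1)) .nil .nil))) (.node 147 (147,(Int.ofNat 1)) (.node 145 (145,(Int.ofNat 1)) (.node 144 (143,(Int.negSucc 0)) .nil .nil) (.node 146 (146,(Int.ofNat 1)) .nil .nil)) (.node 149 (148,(Int.negSucc 0)) (.node 148 (149,(Int.ofNat 1)) .nil .nil) .nil)))) (.node 165 (166,(Int.ofNat 1)) (.node 158 (160,(Int.ofNat 1)) (.node 154 (154,(Int.ofNat 1)) (.node 152 (153,(Int.ofNat 1)) (.node 151 (151,(Int.ofNat 1)) .nil .nil) (.node 153 (152,(Int.negSucc 0)) .nil .nil)) (.node 156 (156,(Int.ofNat 1)) (.node 155 (155,(Int.ofNat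 1)) .nil .nil) (.node 157 (159,(Int.ofNat 1)) .nil .nil))) (.node 162 (162,(Int.ofNat 1)) (.node 160 (158,(Int.negSucc 0)) (.node 159 (157,(Int.negSucc 0)) .nil .nil) (.node 161 (161,(Int.ofNat 1)) .nil .nil)) (.node 164 (164,(Int.ofNat 1)) (.node 163 (163,(Int.ofNat 1)) .nil .nil) .nil))) (.node 173 (173,(Int.ofNat 1)) (.node 169 (169,(Int.ofNat 1)) (.node 167 (167,(Int.ofNat 1)) (.node 166 (165,(Int.negSucc 0)) .nil .nil) (.node 168 (168,(Int.ofNat 1)) .nil .nil)) (.node 171 (170,(Int.negSucc 0)) (.node 170 (171,(Int.ofNat 1)) .nil .nil) (.node 172 (172,(Int.ofNat 1)) .nil .nil))) (.node 177 (177,(Int.ofNat 1)) (.node 175 (174,(Int.negSucc 0)) (.node 174 (175,(Int.ofNat 1)) .nil .nil) (.node 176 (176,(Int.ofNat 1)) .nil .nil)) (.node 179 (181,(Int.ofNat 1)) (.node 178 (178,(Int.ofNat 1)) .nil .nil) .nil)))))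 (.node 210 (210,(Int.ofNat 1)) (.node 195 (197,(Int.ofNat 1)) (.node 188 (188,(Int.ofNat 1)) (.node 184 (185,(Int.ofNat 1)) (.node 182 (180,(Int.negSucc 0)) (.node 181 (179,(Int.negSucc 0)) .nil .nil) (.node 183 (183,(Int.ofNat 1)) .nil .nil)) (.node 186 (186,(Int.ofNat 1)) (.node 185 (184,(Int.negSucc 0)) .nil .nil) (.node 187 (187,(Int.ofNat 1)) .nil .nil))) (.node 192 (190,(Int.negSucc 0)) (.node 190 (192,(Int.ofNat 1)) (.node 189 (191,(Int.ofNat 1)) .nil .nil) (.node 191 (189,(Int.negSucc 0)) .nil .nil)) (.node 194 (194,(Int.ofNat 1)) (.node 193 (193,(Int.ofNat 1)) .nil .nil) .nil))) (.node 203 (202,(Int.negSucc 0)) (.node 199 (199,(Int.ofNat 1)) (.node 197 (195,(Int.negSucc 0)) (.node 196 (198,(Int.ofNat 1)) .nil .nil) (.node 198 (196,(Int.negSucc 0)) .nil .nil)) (.node 201 (201,(Int.ofNat 1)) (.node 200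 (200,(Int.ofNat 1)) .nil .nil) (.node 202 (203,(Int.ofNat 1)) .nil .nil))) (.node 207 (205,(Int.negSucc 0)) (.node 205 (207,(Int.ofNat 1)) (.node 204 (204,(Int.ofNat 1)) .nil .nil) (.node 206 (208,(Int.ofNat 1)) .nil .nil)) (.node 209 (209,(Int.ofNat 1)) (.node 208 (206,(Int.negSucc 0)) .nil .nil) .nil)))) (.node 225 (225,(Int.ofNat 1)) (.node 218 (218,(Int.ofNat 1)) (.node 214 (214,(Int.ofNat 1)) (.node 212 (213,(Int.ofNat 1)) (.node 211 (211,(Int.ofNat 1)) .nil .nil) (.node 213 (212,(Int.negSucc 0)) .nil .nil)) (.node 216 (217,(Int.ofNat 1)) (.node 215 (215,(Int.ofNat 1)) .nil .nil) (.node 217 (216,(Int.negSucc 0)) .nil .nil))) (.node 222 (221,(Int.negSucc 0)) (.node 220 (220,(Int.ofNat 1)) (.node 219 (219,(Int.ofNat 1)) .nil .nil) (.node 221 (222,(Int.ofNat 1)) .nil .nil)) (.node 224 (224,(Int.ofNat 1)) (.node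 223 (223,(Int.ofNat 1)) .nil .nil) .nil))) (.node 233 (233,(Int.ofNat 1)) (.node 229 (228,(Int.negSucc 0)) (.node 227 (227,(Int.ofNat 1)) (.node 226 (226,(Int.ofNat 1)) .nil .nil) (.node 228 (229,(Int.ofNat 1)) .nil .nil)) (.node 231 (231,(Int.ofNat 1)) (.node 230 (230,(Int.ofNat 1)) .nil .nil) (.node 232 (232,(Int.ofNat 1)) .nil .nil))) (.node 237 (236,(Int.negSucc 0)) (.node 235 (235,(Int.ofNat 1)) (.node 234 (234,(Int.ofNat 1)) .nil .nil) (.node 236 (237,(Int.ofNat 1)) .nil .nil)) (.node 239 (239,(Int.ofNat 1)) (.node 238 (238,(Int.ofNat 1)) .nil .nil) .nil)))))))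
noncomputable def wc6 : Tr (ℕ × ℤ) := (.node 120 (122,(Int.negSucc 0)) (.node 60 (61,(Int.negSucc 0)) (.node 30 (31,(Int.negSucc 0)) (.node 15 (15,(Int.ofNat 1)) (.node 7 (7,(Int.ofNat 1)) (.node 3 (3,(Int.ofNat 1)) (.node 1 (2,(Int.negSucc 0)) (.node 0 (0,(Int.ofNat 1)) .nil .nil) (.node 2 (1,(Int.ofNat 1)) .nil .nil)) (.node 5 (5,(Int.ofNat 1)) (.node 4 (4,(Int.ofNat 1)) .nil .nil) (.node 6 (6,(Int.ofNat 1)) .nil .nil))) (.node 11 (12,(Int.negSucc 0)) (.node 9 (9,(Int.ofNat 1)) (.node 8 (8,(Int.ofNat 1)) .nil .nil) (.node 10 (10,(Int.ofNat 1)) .nil .nil)) (.node 13 (13,(Int.ofNat 1)) (.node 12 (11,(Int.ofNat 1)) .nil .nil) (.node 14 (14,(Int.ofNat 1)) .nil .nil)))) (.node 23 (24,(Int.negSucc 0)) (.node 19 (18,(Int.ofNat 1)) (.node 17 (17,(Int.ofNat 1)) (.node 16 (16,(Int.ofNat 1)) .nil .nil) (.node 18 (19,(Int.negSucc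 0)) .nil .nil)) (.node 21 (21,(Int.ofNat 1)) (.node 20 (20,(Int.ofNat 1)) .nil .nil) (.node 22 (22,(Int.ofNat 1)) .nil .nil))) (.node 27 (28,(Int.negSucc 0)) (.node 25 (25,(Int.ofNat 1)) (.node 24 (23,(Int.ofNat 1)) .nil .nil) (.node 26 (26,(Int.ofNat 1)) .nil .nil)) (.node 29 (29,(Int.ofNat 1)) (.node 28 (27,(Int.ofNat 1)) .nil .nil) .nil)))) (.node 45 (44,(Int.ofNat 1)) (.node 38 (37,(Int.ofNat 1)) (.node 34 (35,(Int.negSucc 0)) (.node 32 (32,(Int.ofNat 1)) (.node 31 (30,(Int.ofNat 1)) .nil .nil) (.node 33 (33,(Int.ofNat 1)) .nil .nil)) (.node 36 (36,(Int.ofNat 1)) (.node 35 (34,(Int.ofNat 1)) .nil .nil) (.node 37 (38,(Int.negSucc 0)) .nil .nil))) (.node 42 (42,(Int.ofNat 1)) (.node 40 (41,(Int.negSucc 0)) (.node 39 (39,(Int.ofNat 1)) .nil .nil) (.node 41 (40,(Int.ofNat 1)) .nil .nil)) (.node 44 (45,(Int.negSucc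 0)) (.node 43 (43,(Int.ofNat 1)) .nil .nil) .nil))) (.node 53 (54,(Int.negSucc 0)) (.node 49 (49,(Int.ofNat 1)) (.node 47 (46,(Int.ofNat 1)) (.node 46 (47,(Int.negSucc 0)) .nil .nil) (.node 48 (48,(Int.ofNat 1)) .nil .nil)) (.node 51 (50,(Int.ofNat 1)) (.node 50 (51,(Int.negSucc 0)) .nil .nil) (.node 52 (52,(Int.ofNat 1)) .nil .nil))) (.node 57 (56,(Int.ofNat 1)) (.node 55 (55,(Int.ofNat 1)) (.node 54 (53,(Int.ofNat 1)) .nil .nil) (.node 56 (57,(Int.negSucc 0)) .nil .nil)) (.node 59 (59,(Int.ofNat 1)) (.node 58 (58,(Int.ofNat 1)) .nil .nil) .nil))))) (.node 90 (89,(Int.ofNat 1)) (.node 75 (75,(Int.ofNat 1)) (.node 68 (67,(Int.ofNat 1)) (.node 64 (63,(Int.ofNat 1)) (.node 62 (62,(Int.ofNat 1)) (.node 61 (60,(Int.ofNat 1)) .nil .nil) (.node 63 (64,(Int.negSucc 0)) .nil .nil)) (.node 66 (66,(Int.ofNat 1)) (.node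 65 (65,(Int.ofNat 1)) .nil .nil) (.node 67 (68,(Int.negSucc 0)) .nil .nil))) (.node 72 (73,(Int.negSucc 0)) (.node 70 (70,(Int.ofNat 1)) (.node 69 (69,(Int.ofNat 1)) .nil .nil) (.node 71 (71,(Int.ofNat 1)) .nil .nil)) (.node 74 (74,(Int.ofNat 1)) (.node 73 (72,(Int.ofNat 1)) .nil .nil) .nil))) (.node 83 (82,(Int.ofNat 1)) (.node 79 (78,(Int.ofNat 1)) (.node 77 (77,(Int.ofNat 1)) (.node 76 (76,(Int.ofNat 1)) .nil .nil) (.node 78 (79,(Int.negSucc 0)) .nil .nil)) (.node 81 (81,(Int.ofNat 1)) (.node 80 (80,(Int.ofNat 1)) .nil .nil) (.node 82 (83,(Int.negSucc 0)) .nil .nil))) (.node 87 (87,(Int.ofNat 1)) (.node 85 (86,(Int.negSucc 0)) (.node 84 (84,(Int.ofNat 1)) .nil .nil) (.node 86 (85,(Int.ofNat 1)) .nil .nil)) (.node 89 (90,(Int.negSucc 0)) (.node 88 (88,(Int.ofNat 1)) .nil .nil) .nil)))) (.node 105 (105,(Int.ofNat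 1)) (.node 98 (98,(Int.ofNat 1)) (.node 94 (95,(Int.negSucc 0)) (.node 92 (92,(Int.ofNat 1)) (.node 91 (91,(Int.ofNat 1)) .nil .nil) (.node 93 (93,(Int.ofNat 1)) .nil .nil)) (.node 96 (96,(Int.ofNat 1)) (.node 95 (94,(Int.ofNat 1)) .nil .nil) (.node 97 (97,(Int.ofNat 1)) .nil .nil))) (.node 102 (102,(Int.ofNat 1)) (.node 100 (101,(Int.negSucc 0)) (.node 99 (99,(Int.ofNat 1)) .nil .nil) (.node 101 (100,(Int.ofNat 1)) .nil .nil)) (.node 104 (104,(Int.ofNat 1)) (.node 103 (103,(Int.ofNat 1)) .nil .nil) .nil))) (.node 113 (113,(Int.ofNat 1)) (.node 109 (109,(Int.ofNat 1)) (.node 107 (106,(Int.ofNat 1)) (.node 106 (107,(Int.negSucc 0)) .nil .nil) (.node 108 (108,(Int.ofNat 1)) .nil .nil)) (.node 111 (112,(Int.negSucc 0)) (.node 110 (110,(Int.ofNat 1)) .nil .nil) (.node 112 (111,(Int.ofNat 1)) .nil .nil))) (.node 117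 (119,(Int.ofNat 1)) (.node 115 (116,(Int.negSucc 0)) (.node 114 (114,(Int.ofNat 1)) .nil .nil) (.node 116 (115,(Int.ofNat 1)) .nil .nil)) (.node 119 (117,(Int.negSucc 0)) (.node 118 (121,(Int.negSucc 0)) .nil .nil) .nil)))))) (.node 180 (180,(Int.ofNat 1)) (.node 150 (149,(Int.negSucc 0)) (.node 135 (135,(Int.ofNat 1)) (.node 128 (127,(Int.negSucc 0)) (.node 124 (123,(Int.negSucc 0)) (.node 122 (120,(Int.ofNat 1)) (.node 121 (118,(Int.negSucc 0)) .nil .nil) (.node 123 (124,(Int.ofNat 1)) .nil .nil)) (.node 126 (126,(Int.ofNat 1)) (.node 125 (125,(Int.ofNat 1)) .nil .nil) (.node 127 (128,(Int.ofNat 1)) .nil .nil))) (.node 132 (133,(Int.ofNat 1)) (.node 130 (130,(Int.ofNat 1)) (.node 129 (129,(Int.ofNat 1)) .nil .nil) (.node 131 (131,(Int.ofNat 1)) .nil .nil)) (.node 134 (134,(Int.ofNat 1)) (.node 133 (132,(Int.negSucc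 0)) .nil .nil) .nil))) (.node 143 (143,(Int.ofNat 1)) (.node 139 (138,(Int.negSucc 0)) (.node 137 (137,(Int.ofNat 1)) (.node 136 (136,(Int.ofNat 1)) .nil .nil) (.node 138 (139,(Int.ofNat 1)) .nil .nil)) (.node 141 (141,(Int.ofNat 1)) (.node 140 (140,(Int.ofNat 1)) .nil .nil) (.node 142 (142,(Int.ofNat 1)) .nil .nil))) (.node 147 (147,(Int.ofNat 1)) (.node 145 (144,(Int.negSucc 0)) (.node 144 (145,(Int.ofNat 1)) .nil .nil) (.node 146 (146,(Int.ofNat 1)) .nil .nil)) (.node 149 (150,(Int.ofNat 1)) (.node 148 (148,(Int.ofNat 1)) .nil .nil) .nil)))) (.node 165 (165,(Int.ofNat 1)) (.node 158 (158,(Int.ofNat 1)) (.node 154 (153,(Int.negSucc 0)) (.node 152 (152,(Int.ofNat 1)) (.node 151 (151,(Int.ofNat 1)) .nil .nil) (.node 153 (154,(Int.ofNat 1)) .nil .nil)) (.node 156 (157,(Int.ofNat 1)) (.node 155 (155,(Int.ofNat 1))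 .nil .nil) (.node 157 (156,(Int.negSucc 0)) .nil .nil))) (.node 162 (162,(Int.ofNat 1)) (.node 160 (161,(Int.ofNat 1)) (.node 159 (159,(Int.ofNat 1)) .nil .nil) (.node 161 (160,(Int.negSucc 0)) .nil .nil)) (.node 164 (164,(Int.ofNat 1)) (.node 163 (163,(Int.ofNat 1)) .nil .nil) .nil))) (.node 173 (173,(Int.ofNat 1)) (.node 169 (169,(Int.ofNat 1)) (.node 167 (166,(Int.negSucc 0)) (.node 166 (167,(Int.ofNat 1)) .nil .nil) (.node 168 (168,(Int.ofNat 1)) .nil .nil)) (.node 171 (172,(Int.ofNat 1)) (.node 170 (170,(Int.ofNat 1)) .nil .nil) (.node 172 (171,(Int.negSucc 0)) .nil .nil))) (.node 177 (177,(Int.ofNat 1)) (.node 175 (176,(Int.ofNat 1)) (.node 174 (174,(Int.ofNat 1)) .nil .nil) (.node 176 (175,(Int.negSucc 0)) .nil .nil)) (.node 179 (178,(Int.negSucc 0)) (.node 178 (179,(Int.ofNat 1)) .nil .nil) .nil))))) (.node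 210 (210,(Int.ofNat 1)) (.node 195 (194,(Int.negSucc 0)) (.node 188 (189,(Int.ofNat 1)) (.node 184 (184,(Int.ofNat 1)) (.node 182 (183,(Int.ofNat 1)) (.node 181 (181,(Int.ofNat 1)) .nil .nil) (.node 183 (182,(Int.negSucc 0)) .nil .nil)) (.node 186 (185,(Int.negSucc 0)) (.node 185 (186,(Int.ofNat 1)) .nil .nil) (.node 187 (187,(Int.ofNat 1)) .nil .nil))) (.node 192 (193,(Int.ofNat 1)) (.node 190 (190,(Int.ofNat 1)) (.node 189 (188,(Int.negSucc 0)) .nil .nil) (.node 191 (191,(Int.ofNat 1)) .nil .nil)) (.node 194 (195,(Int.ofNat 1)) (.node 193 (192,(Int.negSucc 0)) .nil .nil) .nil))) (.node 203 (203,(Int.ofNat 1)) (.node 199 (198,(Int.negSucc 0)) (.node 197 (197,(Int.ofNat 1)) (.node 196 (196,(Int.ofNat 1)) .nil .nil) (.node 198 (199,(Int.ofNat 1)) .nil .nil)) (.node 201 (202,(Int.ofNat 1)) (.node 200 (200,(Int.ofNat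 1)) .nil .nil) (.node 202 (201,(Int.negSucc 0)) .nil .nil))) (.node 207 (207,(Int.ofNat 1)) (.node 205 (204,(Int.negSucc 0)) (.node 204 (205,(Int.ofNat 1)) .nil .nil) (.node 206 (206,(Int.ofNat 1)) .nil .nil)) (.node 209 (208,(Int.negSucc 0)) (.node 208 (209,(Int.ofNat 1)) .nil .nil) .nil)))) (.node 225 (225,(Int.ofNat 1)) (.node 218 (218,(Int.ofNat 1)) (.node 214 (214,(Int.ofNat 1)) (.node 212 (211,(Int.negSucc 0)) (.node 211 (212,(Int.ofNat 1)) .nil .nil) (.node 213 (213,(Int.ofNat 1)) .nil .nil)) (.node 216 (215,(Int.negSucc 0)) (.node 215 (216,(Int.ofNat 1)) .nil .nil) (.node 217 (217,(Int.ofNat 1)) .nil .nil))) (.node 222 (222,(Int.ofNat 1)) (.node 220 (221,(Int.ofNat 1)) (.node 219 (219,(Int.ofNat 1)) .nil .nil) (.node 221 (220,(Int.negSucc 0)) .nil .nil)) (.node 224 (224,(Int.ofNat 1)) (.node 223 (223,(Int.ofNat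 1)) .nil .nil) .nil))) (.node 233 (233,(Int.ofNat 1)) (.node 229 (229,(Int.ofNat 1)) (.node 227 (228,(Int.ofNat 1)) (.node 226 (226,(Int.ofNat 1)) .nil .nil) (.node 228 (227,(Int.negSucc 0)) .nil .nil)) (.node 231 (231,(Int.ofNat 1)) (.node 230 (230,(Int.ofNat 1)) .nil .nil) (.node 232 (232,(Int.ofNat 1)) .nil .nil))) (.node 237 (238,(Int.ofNat 1)) (.node 235 (235,(Int.ofNat 1)) (.node 234 (234,(Int.ofNat 1)) .nil .nil) (.node 236 (236,(Int.ofNat 1)) .nil .nil)) (.node 239 (239,(Int.ofNat 1)) (.node 238 (237,(Int.negSucc 0)) .nil .nil) .nil)))))))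
noncomputable def wc7 : Tr (ℕ × ℤ) := (.node 120 (119,(Int.negSucc 0)) (.node 60 (59,(Int.ofNat 1)) (.node 30 (30,(Int.ofNat 1)) (.node 15 (15,(Int.ofNat 1)) (.node 7 (7,(Int.ofNat 1)) (.node 3 (3,(Int.ofNat 1)) (.node 1 (0,(Int.ofNat 1)) (.node 0 (1,(Int.negSucc 0)) .nil .nil) (.node 2 (2,(Int.ofNat 1)) .nil .nil)) (.node 5 (5,(Int.ofNat 1)) (.node 4 (4,(Int.ofNat 1)) .nil .nil) (.node 6 (6,(Int.ofNat 1)) .nil .nil))) (.node 11 (11,(Int.ofNat 1)) (.node 9 (9,(Int.ofNat 1)) (.node 8 (8,(Int.ofNat 1)) .nil .nil) (.node 10 (10,(Int.ofNat 1)) .nil .nil)) (.node 13 (12,(Int.ofNat 1)) (.node 12 (13,(Int.negSucc 0)) .nil .nil) (.node 14 (14,(Int.ofNat 1)) .nil .nil)))) (.node 23 (23,(Int.ofNat 1)) (.node 19 (20,(Int.negSucc 0)) (.node 17 (17,(Int.ofNat 1)) (.node 16 (16,(Int.ofNat 1)) .nil .nil) (.node 18 (18,(Int.ofNat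 1)) .nil .nil)) (.node 21 (21,(Int.ofNat 1)) (.node 20 (19,(Int.ofNat 1)) .nil .nil) (.node 22 (22,(Int.ofNat 1)) .nil .nil))) (.node 27 (27,(Int.ofNat 1)) (.node 25 (24,(Int.ofNat 1)) (.node 24 (25,(Int.negSucc 0)) .nil .nil) (.node 26 (26,(Int.ofNat 1)) .nil .nil)) (.node 29 (28,(Int.ofNat 1)) (.node 28 (29,(Int.negSucc 0)) .nil .nil) .nil)))) (.node 45 (45,(Int.ofNat 1)) (.node 38 (39,(Int.negSucc 0)) (.node 34 (33,(Int.ofNat 1)) (.node 32 (31,(Int.ofNat 1)) (.node 31 (32,(Int.negSucc 0)) .nil .nil) (.node 33 (34,(Int.negSucc 0)) .nil .nil)) (.node 36 (36,(Int.ofNat 1)) (.node 35 (35,(Int.ofNat 1)) .nil .nil) (.node 37 (37,(Int.ofNat 1)) .nil .nil))) (.node 42 (41,(Int.ofNat 1)) (.node 40 (40,(Int.ofNat 1)) (.node 39 (38,(Int.ofNat 1)) .nil .nil) (.node 41 (42,(Int.negSucc 0)) .nil .nil)) (.node 44 (43,(Int.ofNat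 1)) (.node 43 (44,(Int.negSucc 0)) .nil .nil) .nil))) (.node 53 (52,(Int.ofNat 1)) (.node 49 (50,(Int.negSucc 0)) (.node 47 (48,(Int.negSucc 0)) (.node 46 (46,(Int.ofNat 1)) .nil .nil) (.node 48 (47,(Int.ofNat 1)) .nil .nil)) (.node 51 (51,(Int.ofNat 1)) (.node 50 (49,(Int.ofNat 1)) .nil .nil) (.node 52 (53,(Int.negSucc 0)) .nil .nil))) (.node 57 (58,(Int.negSucc 0)) (.node 55 (55,(Int.ofNat 1)) (.node 54 (54,(Int.ofNat 1)) .nil .nil) (.node 56 (56,(Int.ofNat 1)) .nil .nil)) (.node 59 (60,(Int.negSucc 0)) (.node 58 (57,(Int.ofNat 1)) .nil .nil) .nil))))) (.node 90 (90,(Int.ofNat 1)) (.node 75 (75,(Int.ofNat 1)) (.node 68 (68,(Int.ofNat 1)) (.node 64 (64,(Int.ofNat 1)) (.node 62 (63,(Int.negSucc 0)) (.node 61 (61,(Int.ofNat 1)) .nil .nil) (.node 63 (62,(Int.ofNat 1)) .nil .nil)) (.node 66 (67,(Int.negSucc 0)) (.node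 65 (65,(Int.ofNat 1)) .nil .nil) (.node 67 (66,(Int.ofNat 1)) .nil .nil))) (.node 72 (71,(Int.ofNat 1)) (.node 70 (70,(Int.ofNat 1)) (.node 69 (69,(Int.ofNat 1)) .nil .nil) (.node 71 (72,(Int.negSucc 0)) .nil .nil)) (.node 74 (74,(Int.ofNat 1)) (.node 73 (73,(Int.ofNat 1)) .nil .nil) .nil))) (.node 83 (83,(Int.ofNat 1)) (.node 79 (80,(Int.negSucc 0)) (.node 77 (77,(Int.ofNat 1)) (.node 76 (76,(Int.ofNat 1)) .nil .nil) (.node 78 (78,(Int.ofNat 1)) .nil .nil)) (.node 81 (82,(Int.negSucc 0)) (.node 80 (79,(Int.ofNat 1)) .nil .nil) (.node 82 (81,(Int.ofNat 1)) .nil .nil))) (.node 87 (87,(Int.ofNat 1)) (.node 85 (84,(Int.ofNat 1)) (.node 84 (85,(Int.negSucc 0)) .nil .nil) (.node 86 (86,(Int.ofNat 1)) .nil .nil)) (.node 89 (88,(Int.ofNat 1)) (.node 88 (89,(Int.negSucc 0)) .nil .nil) .nil)))) (.node 105 (106,(Int.negSucc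 0)) (.node 98 (98,(Int.ofNat 1)) (.node 94 (93,(Int.ofNat 1)) (.node 92 (92,(Int.ofNat 1)) (.node 91 (91,(Int.ofNat 1)) .nil .nil) (.node 93 (94,(Int.negSucc 0)) .nil .nil)) (.node 96 (96,(Int.ofNat 1)) (.node 95 (95,(Int.ofNat 1)) .nil .nil) (.node 97 (97,(Int.ofNat 1)) .nil .nil))) (.node 102 (102,(Int.ofNat 1)) (.node 100 (99,(Int.ofNat 1)) (.node 99 (100,(Int.negSucc 0)) .nil .nil) (.node 101 (101,(Int.ofNat 1)) .nil .nil)) (.node 104 (104,(Int.ofNat 1)) (.node 103 (103,(Int.ofNat 1)) .nil .nil) .nil))) (.node 113 (113,(Int.ofNat 1)) (.node 109 (109,(Int.ofNat 1)) (.node 107 (107,(Int.ofNat 1)) (.node 106 (105,(Int.ofNat 1)) .nil .nil) (.node 108 (108,(Int.ofNat 1)) .nil .nil)) (.node 111 (110,(Int.ofNat 1)) (.node 110 (111,(Int.negSucc 0)) .nil .nil) (.node 112 (112,(Int.ofNat 1)) .nil .nil))) (.node 117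 (118,(Int.negSucc 0)) (.node 115 (114,(Int.ofNat 1)) (.node 114 (115,(Int.negSucc 0)) .nil .nil) (.node 116 (116,(Int.ofNat 1)) .nil .nil)) (.node 119 (120,(Int.negSucc 0)) (.node 118 (117,(Int.ofNat 1)) .nil .nil) .nil)))))) (.node 180 (179,(Int.negSucc 0)) (.node 150 (151,(Int.ofNat 1)) (.node 135 (135,(Int.ofNat 1)) (.node 128 (129,(Int.ofNat 1)) (.node 124 (125,(Int.ofNat 1)) (.node 122 (121,(Int.negSucc 0)) (.node 121 (122,(Int.ofNat 1)) .nil .nil) (.node 123 (123,(Int.ofNat 1)) .nil .nil)) (.node 126 (126,(Int.ofNat 1)) (.node 125 (124,(Int.negSucc 0)) .nil .nil) (.node 127 (127,(Int.ofNat 1)) .nil .nil))) (.node 132 (132,(Int.ofNat 1)) (.node 130 (130,(Int.ofNat 1)) (.node 129 (128,(Int.negSucc 0)) .nil .nil) (.node 131 (131,(Int.ofNat 1)) .nil .nil)) (.node 134 (133,(Int.negSucc 0)) (.node 133 (134,(Int.ofNat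 1)) .nil .nil) .nil))) (.node 143 (143,(Int.ofNat 1)) (.node 139 (140,(Int.ofNat 1)) (.node 137 (137,(Int.ofNat 1)) (.node 136 (136,(Int.ofNat 1)) .nil .nil) (.node 138 (138,(Int.ofNat 1)) .nil .nil)) (.node 141 (141,(Int.ofNat 1)) (.node 140 (139,(Int.negSucc 0)) .nil .nil) (.node 142 (142,(Int.ofNat 1)) .nil .nil))) (.node 147 (147,(Int.ofNat 1)) (.node 145 (146,(Int.ofNat 1)) (.node 144 (144,(Int.ofNat 1)) .nil .nil) (.node 146 (145,(Int.negSucc 0)) .nil .nil)) (.node 149 (149,(Int.ofNat 1)) (.node 148 (148,(Int.ofNat 1)) .nil .nil) .nil)))) (.node 165 (165,(Int.ofNat 1)) (.node 158 (157,(Int.negSucc 0)) (.node 154 (155,(Int.ofNat 1)) (.node 152 (152,(Int.ofNat 1)) (.node 151 (150,(Int.negSucc 0)) .nil .nil) (.node 153 (153,(Int.ofNat 1)) .nil .nil)) (.node 156 (156,(Int.ofNat 1)) (.node 155 (154,(Int.negSucc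 0)) .nil .nil) (.node 157 (158,(Int.ofNat 1)) .nil .nil))) (.node 162 (162,(Int.ofNat 1)) (.node 160 (159,(Int.negSucc 0)) (.node 159 (160,(Int.ofNat 1)) .nil .nil) (.node 161 (161,(Int.ofNat 1)) .nil .nil)) (.node 164 (164,(Int.ofNat 1)) (.node 163 (163,(Int.ofNat 1)) .nil .nil) .nil))) (.node 173 (172,(Int.negSucc 0)) (.node 169 (169,(Int.ofNat 1)) (.node 167 (168,(Int.ofNat 1)) (.node 166 (166,(Int.ofNat 1)) .nil .nil) (.node 168 (167,(Int.negSucc 0)) .nil .nil)) (.node 171 (171,(Int.ofNat 1)) (.node 170 (170,(Int.ofNat 1)) .nil .nil) (.node 172 (173,(Int.ofNat 1)) .nil .nil))) (.node 177 (176,(Int.negSucc 0)) (.node 175 (175,(Int.ofNat 1)) (.node 174 (174,(Int.ofNat 1)) .nil .nil) (.node 176 (177,(Int.ofNat 1)) .nil .nil)) (.node 179 (180,(Int.ofNat 1)) (.node 178 (178,(Int.ofNat 1)) .nil .nil) .nil))))) (.node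 210 (211,(Int.ofNat 1)) (.node 195 (196,(Int.ofNat 1)) (.node 188 (188,(Int.ofNat 1)) (.node 184 (184,(Int.ofNat 1)) (.node 182 (181,(Int.negSucc 0)) (.node 181 (182,(Int.ofNat 1)) .nil .nil) (.node 183 (183,(Int.ofNat 1)) .nil .nil)) (.node 186 (187,(Int.ofNat 1)) (.node 185 (185,(Int.ofNat 1)) .nil .nil) (.node 187 (186,(Int.negSucc 0)) .nil .nil))) (.node 192 (191,(Int.negSucc 0)) (.node 190 (189,(Int.negSucc 0)) (.node 189 (190,(Int.ofNat 1)) .nil .nil) (.node 191 (192,(Int.ofNat 1)) .nil .nil)) (.node 194 (194,(Int.ofNat 1)) (.node 193 (193,(Int.ofNat 1)) .nil .nil) .nil))) (.node 203 (203,(Int.ofNat 1)) (.node 199 (199,(Int.ofNat 1)) (.node 197 (198,(Int.ofNat 1)) (.node 196 (195,(Int.negSucc 0)) .nil .nil) (.node 198 (197,(Int.negSucc 0)) .nil .nil)) (.node 201 (200,(Int.negSucc 0)) (.node 200 (201,(Int.ofNat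 1)) .nil .nil) (.node 202 (202,(Int.ofNat 1)) .nil .nil))) (.node 207 (208,(Int.ofNat 1)) (.node 205 (206,(Int.ofNat 1)) (.node 204 (204,(Int.ofNat 1)) .nil .nil) (.node 206 (205,(Int.negSucc 0)) .nil .nil)) (.node 209 (209,(Int.ofNat 1)) (.node 208 (207,(Int.negSucc 0)) .nil .nil) .nil)))) (.node 225 (225,(Int.ofNat 1)) (.node 218 (218,(Int.ofNat 1)) (.node 214 (215,(Int.ofNat 1)) (.node 212 (212,(Int.ofNat 1)) (.node 211 (210,(Int.negSucc 0)) .nil .nil) (.node 213 (213,(Int.ofNat 1)) .nil .nil)) (.node 216 (216,(Int.ofNat 1)) (.node 215 (214,(Int.negSucc 0)) .nil .nil) (.node 217 (217,(Int.ofNat 1)) .nil .nil))) (.node 222 (222,(Int.ofNat 1)) (.node 220 (219,(Int.negSucc 0)) (.node 219 (220,(Int.ofNat 1)) .nil .nil) (.node 221 (221,(Int.ofNat 1)) .nil .nil)) (.node 224 (224,(Int.ofNat 1)) (.node 223 (223,(Int.ofNat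 1)) .nil .nil) .nil))) (.node 233 (233,(Int.ofNat 1)) (.node 229 (229,(Int.ofNat 1)) (.node 227 (226,(Int.negSucc 0)) (.node 226 (227,(Int.ofNat 1)) .nil .nil) (.node 228 (228,(Int.ofNat 1)) .nil .nil)) (.node 231 (231,(Int.ofNat 1)) (.node 230 (230,(Int.ofNat 1)) .nil .nil) (.node 232 (232,(Int.ofNat 1)) .nil .nil))) (.node 237 (237,(Int.ofNat 1)) (.node 235 (235,(Int.ofNat 1)) (.node 234 (234,(Int.ofNat 1)) .nil .nil) (.node 236 (236,(Int.ofNat 1)) .nil .nil)) (.node 239 (238,(Int.negSucc 0)) (.node 238 (239,(Int.ofNat 1)) .nil .nil) .nil)))))))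
noncomputable def wT : Tr (Tr (ℕ × ℤ)) := (.node 4 wc4 (.node 2 wc2 (.node 1 wc1 (.node 0 wc0 .nil .nil) .nil) (.node 3 wc3 .nil .nil)) (.node 6 wc6 (.node 5 wc5 .nil .nil) (.node 7 wc7 .nil .nil)))
noncomputable def dT : Tr (ℕ × ℕ) := (.node 120 (12,6) (.node 60 (9,6) (.node 30 (15,6) (.node 15 (21,3) (.node 7 (23,2) (.node 3 (26,4) (.node 1 (28,6) (.node 0 (29,7) .nil .nil) (.node 2 (27,5) .nil .nil)) (.node 5 (24,2) (.node 4 (25,3) .nil .nil) (.node 6 (23,1) .nil .nil))) (.node 11 (19,6) (.node 9 (21,4) (.node 8 (22,3) .nil .nil) (.node 10 (20,5) .nil .nil)) (.node 13 (17,0) (.node 12 (18,7) .nil .nil) (.node 14 (22,1) .nil .nil)))) (.node 23 (17,6) (.node 19 (17,7) (.node 17 (19,5) (.node 16 (20,4) .nil .nil) (.node 18 (18,6) .nil .nil)) (.node 21 (19,4) (.node 20 (16,2) .nil .nil) (.node 22 (18,5) .nil .nil)))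 (.node 27 (16,6) (.node 25 (15,3) (.node 24 (16,7) .nil .nil) (.node 26 (17,5) .nil .nil)) (.node 29 (14,4) (.node 28 (15,7) .nil .nil) .nil)))) (.node 45 (10,3) (.node 38 (14,7) (.node 34 (12,6) (.node 32 (13,5) (.node 31 (14,7) .nil .nil) (.node 33 (13,7) .nil .nil)) (.node 36 (16,5) (.node 35 (11,1) .nil .nil) (.node 37 (15,6) .nil .nil))) (.node 42 (12,5) (.node 40 (14,6) (.node 39 (13,4) .nil .nil) (.node 41 (13,7) .nil .nil)) (.node 44 (11,6) (.node 43 (12,7) .nil .nil) .nil))) (.node 53 (9,6) (.node 49 (11,7) (.node 47 (12,7) (.node 46 (13,6) .nil .nil) (.node 48 (11,5) .nil .nil)) (.node 51 (9,4) (.node 50 (10,6) .nil .nil) (.node 52 (10,7) .nil .nil))) (.node 57 (11,7) (.node 55 (7,2) (.node 54 (8,5) .nil .nil) (.node 56 (12,6) .nil .nil)) (.node 59 (10,7) (.node 58 (10,5) .nil .nil) .nil))))) (.node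 90 (7,5) (.node 75 (3,3) (.node 68 (6,5) (.node 64 (7,5) (.node 62 (9,7) (.node 61 (8,4) .nil .nil) (.node 63 (8,6) .nil .nil)) (.node 66 (8,7) (.node 65 (6,3) .nil .nil) (.node 67 (7,6) .nil .nil))) (.node 72 (6,6) (.node 70 (4,1) (.node 69 (5,4) .nil .nil) (.node 71 (7,7) .nil .nil)) (.node 74 (4,4) (.node 73 (5,5) .nil .nil) .nil))) (.node 83 (9,4) (.node 79 (12,7) (.node 77 (1,0) (.node 76 (2,2) .nil .nil) (.node 78 (13,6) .nil .nil)) (.node 81 (11,7) (.node 80 (11,5) .nil .nil) (.node 82 (10,6) .nil .nil))) (.node 87 (7,3) (.node 85 (9,6) (.node 84 (10,7) .nil .nil) (.node 86 (8,5) .nil .nil)) (.node 89 (8,6) (.node 88 (9,7) .nil .nil) .nil)))) (.node 105 (9,7) (.node 98 (7,3) (.node 94 (9,6) (.node 92 (5,1) (.node 91 (6,4) .nil .nil) (.node 93 (10,7) .nil .nil)) (.node 96 (7,4) (.node 95 (8,5) .nil .nil)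 (.node 97 (6,2) .nil .nil))) (.node 102 (5,4) (.node 100 (7,6) (.node 99 (8,7) .nil .nil) (.node 101 (6,5) .nil .nil)) (.node 104 (3,0) (.node 103 (4,3) .nil .nil) .nil))) (.node 113 (7,3) (.node 109 (5,2) (.node 107 (7,5) (.node 106 (8,6) .nil .nil) (.node 108 (6,4) .nil .nil)) (.node 111 (9,6) (.node 110 (10,7) .nil .nil) (.node 112 (8,5) .nil .nil))) (.node 117 (12,7) (.node 115 (10,6) (.node 114 (11,7) .nil .nil) (.node 116 (9,4) .nil .nil)) (.node 119 (13,6) (.node 118 (11,5) .nil .nil) .nil)))))) (.node 180 (9,7) (.node 150 (7,6) (.node 135 (2,0) (.node 128 (8,6) (.node 124 (9,6) (.node 122 (11,7) (.node 121 (10,5) .nil .nil) (.node 123 (8,4) .nil .nil)) (.node 126 (6,3) (.node 125 (10,7) .nil .nil) (.node 127 (7,5) .nil .nil))) (.node 132 (6,5) (.node 130 (4,2) (.node 129 (9,7) .nil .nil) (.node 131 (5,4)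 .nil .nil)) (.node 134 (8,7) (.node 133 (7,6) .nil .nil) .nil))) (.node 143 (6,4) (.node 139 (6,6) (.node 137 (4,4) (.node 136 (3,3) .nil .nil) (.node 138 (5,5) .nil .nil)) (.node 141 (6,3) (.node 140 (7,7) .nil .nil) (.node 142 (5,2) .nil .nil))) (.node 147 (4,1) (.node 145 (8,6) (.node 144 (7,5) .nil .nil) (.node 146 (9,7) .nil .nil)) (.node 149 (6,5) (.node 148 (5,4) .nil .nil) .nil)))) (.node 165 (3,4) (.node 158 (10,7) (.node 154 (8,6) (.node 152 (6,3) (.node 151 (8,7) .nil .nil) (.node 153 (7,5) .nil .nil)) (.node 156 (8,4) (.node 155 (9,7) .nil .nil) (.node 157 (9,6) .nil .nil))) (.node 162 (0,0) (.node 160 (11,7) (.node 159 (10,5) .nil .nil) (.node 161 (12,6) .nil .nil)) (.node 164 (2,3) (.node 163 (1,2) .nil .nil) .nil))) (.node 173 (7,7) (.node 169 (3,1) (.node 167 (5,6) (.node 166 (4,5) .nil .nil) (.node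 168 (6,7) .nil .nil)) (.node 171 (5,5) (.node 170 (4,4) .nil .nil) (.node 172 (6,6) .nil .nil))) (.node 177 (8,7) (.node 175 (6,5) (.node 174 (5,3) .nil .nil) (.node 176 (7,6) .nil .nil)) (.node 179 (8,6) (.node 178 (7,4) .nil .nil) .nil))))) (.node 210 (13,4) (.node 195 (10,6) (.node 188 (8,4) (.node 184 (6,2) (.node 182 (10,7) (.node 181 (9,5) .nil .nil) (.node 183 (11,6) .nil .nil)) (.node 186 (8,6) (.node 185 (7,5) .nil .nil) (.node 187 (9,7) .nil .nil))) (.node 192 (11,7) (.node 190 (10,7) (.node 189 (9,6) .nil .nil) (.node 191 (10,5) .nil .nil)) (.node 194 (9,3) (.node 193 (12,6) .nil .nil) .nil))) (.node 203 (15,5) (.node 199 (13,6) (.node 197 (11,5) (.node 196 (11,7) .nil .nil) (.node 198 (12,7) .nil .nil)) (.node 201 (13,7) (.node 200 (12,4) .nil .nil) (.node 202 (14,6) .nil .nil))) (.node 207 (12,5)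 (.node 205 (11,6) (.node 204 (10,1) .nil .nil) (.node 206 (12,7) .nil .nil)) (.node 209 (14,6) (.node 208 (13,7) .nil .nil) .nil)))) (.node 225 (21,1) (.node 218 (18,4) (.node 214 (14,3) (.node 212 (15,6) (.node 211 (14,7) .nil .nil) (.node 213 (16,5) .nil .nil)) (.node 216 (16,6) (.node 215 (15,7) .nil .nil) (.node 217 (17,5) .nil .nil))) (.node 222 (18,5) (.node 220 (16,7) (.node 219 (15,2) .nil .nil) (.node 221 (17,6) .nil .nil)) (.node 224 (20,3) (.node 223 (19,4) .nil .nil) .nil))) (.node 233 (22,1) (.node 229 (19,5) (.node 227 (17,7) (.node 226 (16,0) .nil .nil) (.node 228 (18,6) .nil .nil)) (.node 231 (21,3) (.node 230 (20,4) .nil .nil) (.node 232 (22,2) .nil .nil))) (.node 237 (26,5) (.node 235 (24,3) (.node 234 (23,2) .nil .nil) (.node 236 (25,4) .nil .nil)) (.node 239 (28,7) (.node 238 (27,6) .nil .nil)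 .nil)))))))

end Cfsg.Agent.Lib.Chevalley.Tbl.E8
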