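import Cfsg.Agent.Lib.Chevalley.Tbl.E8
import Cfsg.Agent.Lib.Chevalley.SysOf

set_option autoImplicit false
set_option maxRecDepth 1000000

namespace Cfsg.Agent.Lib.Chevalley.Tbl.E8
open Cfsg.Lie Cfsg.Agent.Lib.Chevalley.Reflect Cfsg.Agent.Lib.Chevalley.Comm Cfsg.Agent.Lib.Chevalley.Basic Cfsg.Agent.Lib.Chevalley.Extra Cfsg.Agent.Lib.Chevalley.SysOf

noncomputable def ca0 : Tr ℤ := (.node 120 (Int.ofNat 0) (.node 60 (Int.negSucc 0) (.node 30 (Int.ofNat 0) (.node 15 (Int.ofNat 1) (.node 7 (Int.ofNat 0) (.node 3 (Int.ofNat 0) (.node 1 (Int.ofNat 0) (.node 0 (Int.ofNat 0) .nil .nil) (.node 2 (Int.ofNat 0) .nil .nil)) (.node 5 (Int.ofNat 0) (.node 4 (Int.ofNat 0) .nil .nil) (.node 6 (Int.negSucc 0) .nil .nil))) (.node 11 (Int.negSucc 0) (.node 9 (Int.negSucc 0) (.node 8 (Int.negSucc 0) .nil .nil) (.node 10 (Int.negSucc 0) .nil .nil)) (.node 13 (Int.negSucc 0) (.node 12 (Int.negSucc 0) .nil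 .nil) (.node 14 (Int.ofNat 1) .nil .nil)))) (.node 23 (Int.ofNat 0) (.node 19 (Int.ofNat 1) (.node 17 (Int.ofNat 1) (.node 16 (Int.ofNat 1) .nil .nil) (.node 18 (Int.ofNat 1) .nil .nil)) (.node 21 (Int.ofNat 0) (.node 20 (Int.ofNat 1) .nil .nil) (.node 22 (Int.ofNat 0) .nil .nil))) (.node 27 (Int.ofNat 0) (.node 25 (Int.ofNat 0) (.node 24 (Int.ofNat 0) .nil .nil) (.node 26 (Int.ofNat 0) .nil .nil)) (.node 29 (Int.ofNat 0) (.node 28 (Int.ofNat 0) .nil .nil) .nil)))) (.node 45 (Int.ofNat 0) (.node 38 (Int.ofNat 0) (.node 34 (Int.ofNat 0) (.node 32 (Int.ofNat 0) (.node 31 (Int.ofNat 0) .nil .nil) (.node 33 (Int.ofNat 0) .nil .nil)) (.node 36 (Int.ofNat 0) (.node 35 (Int.ofNat 0) .nil .nil) (.node 37 (Int.ofNat 0) .nil .nil))) (.node 42 (Int.ofNat 0) (.node 40 (Int.ofNat 0) (.node 39 (Int.ofNat 0) .nil .nil) (.node 41 (Int.ofNat 0) .nil .nil)) (.node 44 (Int.ofNat 0) (.node 43 (Int.ofNat 0)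 .nil .nil) .nil))) (.node 53 (Int.ofNat 0) (.node 49 (Int.ofNat 0) (.node 47 (Int.ofNat 0) (.node 46 (Int.ofNat 0) .nil .nil) (.node 48 (Int.ofNat 0) .nil .nil)) (.node 51 (Int.ofNat 0) (.node 50 (Int.ofNat 0) .nil .nil) (.node 52 (Int.ofNat 0) .nil .nil))) (.node 57 (Int.negSucc 0) (.node 55 (Int.ofNat 0) (.node 54 (Int.ofNat 0) .nil .nil) (.node 56 (Int.negSucc 0) .nil .nil)) (.node 59 (Int.negSucc 0) (.node 58 (Int.negSucc 0) .nil .nil) .nil))))) (.node 90 (Int.ofNat 1) (.node 75 (Int.negSucc 0) (.node 68 (Int.negSucc 0) (.node 64 (Int.negSucc 0) (.node 62 (Int.negSucc 0) (.node 61 (Int.negSucc 0) .nil .nil) (.node 63 (Int.negSucc 0) .nil .nil)) (.node 66 (Int.negSucc 0) (.node 65 (Int.negSucc 0) .nil .nil) (.node 67 (Int.negSucc 0) .nil .nil))) (.node 72 (Int.negSucc 0) (.node 70 (Int.negSucc 0) (.node 69 (Int.negSucc 0) .nil .nil) (.node 71 (Int.negSucc 0) .nil .nil)) (.node 74 (Int.negSucc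 0) (.node 73 (Int.negSucc 0) .nil .nil) .nil))) (.node 83 (Int.ofNat 1) (.node 79 (Int.ofNat 1) (.node 77 (Int.negSucc 1) (.node 76 (Int.negSucc 0) .nil .nil) (.node 78 (Int.ofNat 1) .nil .nil)) (.node 81 (Int.ofNat 1) (.node 80 (Int.ofNat 1) .nil .nil) (.node 82 (Int.ofNat 1) .nil .nil))) (.node 87 (Int.ofNat 1) (.node 85 (Int.ofNat 1) (.node 84 (Int.ofNat 1) .nil .nil) (.node 86 (Int.ofNat 1) .nil .nil)) (.node 89 (Int.ofNat 1) (.node 88 (Int.ofNat 1) .nil .nil) .nil)))) (.node 105 (Int.ofNat 0) (.node 98 (Int.ofNat 0) (.node 94 (Int.ofNat 0) (.node 92 (Int.ofNat 1) (.node 91 (Int.ofNat 1) .nil .nil) (.node 93 (Int.ofNat 0) .nil .nil)) (.node 96 (Int.ofNat 0) (.node 95 (Int.ofNat 0) .nil .nil) (.node 97 (Int.ofNat 0) .nil .nil))) (.node 102 (Int.ofNat 1) (.node 100 (Int.ofNat 1) (.node 99 (Int.ofNat 1) .nil .nil) (.node 101 (Int.ofNat 1) .nil .nil)) (.node 104 (Int.ofNat 1) (.node 103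 (Int.ofNat 1) .nil .nil) .nil))) (.node 113 (Int.ofNat 0) (.node 109 (Int.ofNat 0) (.node 107 (Int.ofNat 0) (.node 106 (Int.ofNat 0) .nil .nil) (.node 108 (Int.ofNat 0) .nil .nil)) (.node 111 (Int.ofNat 0) (.node 110 (Int.ofNat 0) .nil .nil) (.node 112 (Int.ofNat 0) .nil .nil))) (.node 117 (Int.ofNat 0) (.node 115 (Int.ofNat 0) (.node 114 (Int.ofNat 0) .nil .nil) (.node 116 (Int.ofNat 0) .nil .nil)) (.node 119 (Int.ofNat 0) (.node 118 (Int.ofNat 0) .nil .nil) .nil)))))) (.node 180 (Int.ofNat 1) (.node 150 (Int.negSucc 0) (.node 135 (Int.negSucc 0) (.node 128 (Int.ofNat 0) (.node 124 (Int.ofNat 0) (.node 122 (Int.ofNat 0) (.node 121 (Int.ofNat 0) .nil .nil) (.node 123 (Int.ofNat 0) .nil .nil)) (.node 126 (Int.ofNat 0) (.node 125 (Int.ofNat 0) .nil .nil) (.node 127 (Int.ofNat 0) .nil .nil))) (.node 132 (Int.ofNat 0) (.node 130 (Int.ofNat 0) (.node 129 (Int.ofNat 0) .nil .nil) (.node 131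 (Int.ofNat 0) .nil .nil)) (.node 134 (Int.ofNat 0) (.node 133 (Int.ofNat 0) .nil .nil) .nil))) (.node 143 (Int.ofNat 0) (.node 139 (Int.negSucc 0) (.node 137 (Int.negSucc 0) (.node 136 (Int.negSucc 0) .nil .nil) (.node 138 (Int.negSucc 0) .nil .nil)) (.node 141 (Int.ofNat 0) (.node 140 (Int.negSucc 0) .nil .nil) (.node 142 (Int.ofNat 0) .nil .nil))) (.node 147 (Int.negSucc 0) (.node 145 (Int.ofNat 0) (.node 144 (Int.ofNat 0) .nil .nil) (.node 146 (Int.ofNat 0) .nil .nil)) (.node 149 (Int.negSucc 0) (.node 148 (Int.negSucc 0) .nil .nil) .nil)))) (.node 165 (Int.ofNat 1) (.node 158 (Int.negSucc 0) (.node 154 (Int.negSucc 0) (.node 152 (Int.negSucc 0) (.node 151 (Int.negSucc 0) .nil .nil) (.node 153 (Int.negSucc 0) .nil .nil)) (.node 156 (Int.negSucc 0) (.node 155 (Int.negSucc 0) .nil .nil) (.node 157 (Int.negSucc 0) .nil .nil))) (.node 162 (Int.ofNat 2) (.node 160 (Int.negSucc 0) (.node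 159 (Int.negSucc 0) .nil .nil) (.node 161 (Int.negSucc 0) .nil .nil)) (.node 164 (Int.ofNat 1) (.node 163 (Int.ofNat 1) .nil .nil) .nil))) (.node 173 (Int.ofNat 1) (.node 169 (Int.ofNat 1) (.node 167 (Int.ofNat 1) (.node 166 (Int.ofNat 1) .nil .nil) (.node 168 (Int.ofNat 1) .nil .nil)) (.node 171 (Int.ofNat 1) (.node 170 (Int.ofNat 1) .nil .nil) (.node 172 (Int.ofNat 1) .nil .nil))) (.node 177 (Int.ofNat 1) (.node 175 (Int.ofNat 1) (.node 174 (Int.ofNat 1) .nil .nil) (.node 176 (Int.ofNat 1) .nil .nil)) (.node 179 (Int.ofNat 1) (.node 178 (Int.ofNat 1) .nil .nil) .nil))))) (.node 210 (Int.ofNat 0) (.node 195 (Int.ofNat 0) (.node 188 (Int.ofNat 0) (.node 184 (Int.ofNat 0) (.node 182 (Int.ofNat 1) (.node 181 (Int.ofNat 1) .nil .nil) (.node 183 (Int.ofNat 1) .nil .nil)) (.node 186 (Int.ofNat 0) (.node 185 (Int.ofNat 0) .nil .nil) (.node 187 (Int.ofNat 0) .nil .nil))) (.node 192 (Int.ofNat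 0) (.node 190 (Int.ofNat 0) (.node 189 (Int.ofNat 0) .nil .nil) (.node 191 (Int.ofNat 0) .nil .nil)) (.node 194 (Int.ofNat 0) (.node 193 (Int.ofNat 0) .nil .nil) .nil))) (.node 203 (Int.ofNat 0) (.node 199 (Int.ofNat 0) (.node 197 (Int.ofNat 0) (.node 196 (Int.ofNat 0) .nil .nil) (.node 198 (Int.ofNat 0) .nil .nil)) (.node 201 (Int.ofNat 0) (.node 200 (Int.ofNat 0) .nil .nil) (.node 202 (Int.ofNat 0) .nil .nil))) (.node 207 (Int.ofNat 0) (.node 205 (Int.ofNat 0) (.node 204 (Int.ofNat 0) .nil .nil) (.node 206 (Int.ofNat 0) .nil .nil)) (.node 209 (Int.ofNat 0) (.node 208 (Int.ofNat 0) .nil .nil) .nil)))) (.node 225 (Int.negSucc 0) (.node 218 (Int.ofNat 0) (.node 214 (Int.ofNat 0) (.node 212 (Int.ofNat 0) (.node 211 (Int.ofNat 0) .nil .nil) (.node 213 (Int.ofNat 0) .nil .nil)) (.node 216 (Int.ofNat 0) (.node 215 (Int.ofNat 0) .nil .nil) (.node 217 (Int.ofNat 0) .nil .nil))) (.node 222 (Int.negSucc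 0) (.node 220 (Int.negSucc 0) (.node 219 (Int.negSucc 0) .nil .nil) (.node 221 (Int.negSucc 0) .nil .nil)) (.node 224 (Int.negSucc 0) (.node 223 (Int.negSucc 0) .nil .nil) .nil))) (.node 233 (Int.ofNat 1) (.node 229 (Int.ofNat 1) (.node 227 (Int.ofNat 1) (.node 226 (Int.ofNat 1) .nil .nil) (.node 228 (Int.ofNat 1) .nil .nil)) (.node 231 (Int.ofNat 1) (.node 230 (Int.ofNat 1) .nil .nil) (.node 232 (Int.ofNat 0) .nil .nil))) (.node 237 (Int.ofNat 0) (.node 235 (Int.ofNat 0) (.node 234 (Int.ofNat 0) .nil .nil) (.node 236 (Int.ofNat 0) .nil .nil)) (.node 239 (Int.ofNat 0) (.node 238 (Int.ofNat 0) .nil .nil) .nil)))))))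
noncomputable def ca1 : Tr ℤ := (.node 120 (Int.ofNat 0) (.node 60 (Int.ofNat 0) (.node 30 (Int.negSucc 0) (.node 15 (Int.ofNat 1) (.node 7 (Int.ofNat 1) (.node 3 (Int.ofNat 0) (.node 1 (Int.ofNat 0) (.node 0 (Int.ofNat 0) .nil .nil) (.node 2 (Int.ofNat 0) .nil .nil)) (.node 5 (Int.negSucc 0) (.node 4 (Int.ofNat 0) .nil .nil) (.node 6 (Int.negSucc 0) .nil .nil))) (.node 11 (Int.ofNat 0) (.node 9 (Int.ofNat 0) (.node 8 (Int.ofNat 1) .nil .nil) (.node 10 (Int.ofNat 0) .nil .nil)) (.node 13 (Int.ofNat 0) (.node 12 (Int.ofNat 0) .nil .nil) (.node 14 (Int.negSucc 0) .nil .nil)))) (.node 23 (Int.ofNat 0) (.node 19 (Int.ofNat 0) (.node 17 (Int.ofNat 0) (.node 16 (Int.ofNat 0) .nil .nil) (.node 18 (Int.ofNat 0) .nil .nil)) (.node 21 (Int.ofNat 0) (.node 20 (Int.ofNat 0) .nil .nil) (.node 22 (Int.ofNat 0) .nil .nil))) (.node 27 (Int.negSucc 0) (.node 25 (Int.ofNat 0) (.node 24 (Int.ofNat 0) .nil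 .nil) (.node 26 (Int.negSucc 0) .nil .nil)) (.node 29 (Int.negSucc 0) (.node 28 (Int.negSucc 0) .nil .nil) .nil)))) (.node 45 (Int.ofNat 1) (.node 38 (Int.ofNat 1) (.node 34 (Int.negSucc 0) (.node 32 (Int.negSucc 0) (.node 31 (Int.negSucc 0) .nil .nil) (.node 33 (Int.negSucc 0) .nil .nil)) (.node 36 (Int.ofNat 1) (.node 35 (Int.negSucc 0) .nil .nil) (.node 37 (Int.ofNat 1) .nil .nil))) (.node 42 (Int.ofNat 1) (.node 40 (Int.ofNat 1) (.node 39 (Int.ofNat 1) .nil .nil) (.node 41 (Int.ofNat 1) .nil .nil)) (.node 44 (Int.ofNat 1) (.node 43 (Int.ofNat 1) .nil .nil) .nil))) (.node 53 (Int.ofNat 0) (.node 49 (Int.ofNat 0) (.node 47 (Int.ofNat 0) (.node 46 (Int.ofNat 0) .nil .nil) (.node 48 (Int.ofNat 0) .nil .nil)) (.node 51 (Int.ofNat 0) (.node 50 (Int.ofNat 0) .nil .nil) (.node 52 (Int.ofNat 0) .nil .nil))) (.node 57 (Int.ofNat 0) (.node 55 (Int.ofNat 0) (.node 54 (Int.ofNat 0) .nil .nil) (.node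 56 (Int.ofNat 0) .nil .nil)) (.node 59 (Int.ofNat 0) (.node 58 (Int.ofNat 0) .nil .nil) .nil))))) (.node 90 (Int.negSucc 0) (.node 75 (Int.ofNat 1) (.node 68 (Int.negSucc 0) (.node 64 (Int.ofNat 0) (.node 62 (Int.ofNat 0) (.node 61 (Int.ofNat 0) .nil .nil) (.node 63 (Int.ofNat 0) .nil .nil)) (.node 66 (Int.negSucc 0) (.node 65 (Int.ofNat 0) .nil .nil) (.node 67 (Int.negSucc 0) .nil .nil))) (.node 72 (Int.ofNat 1) (.node 70 (Int.negSucc 0) (.node 69 (Int.negSucc 0) .nil .nil) (.node 71 (Int.ofNat 1) .nil .nil)) (.node 74 (Int.ofNat 1) (.node 73 (Int.ofNat 1) .nil .nil) .nil))) (.node 83 (Int.ofNat 0) (.node 79 (Int.ofNat 0) (.node 77 (Int.ofNat 0) (.node 76 (Int.ofNat 0) .nil .nil) (.node 78 (Int.ofNat 0) .nil .nil)) (.node 81 (Int.ofNat 0) (.node 80 (Int.ofNat 0) .nil .nil) (.node 82 (Int.ofNat 0) .nil .nil))) (.node 87 (Int.ofNat 0) (.node 85 (Int.ofNat 0) (.node 84 (Int.ofNat 0) .nil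 .nil) (.node 86 (Int.ofNat 0) .nil .nil)) (.node 89 (Int.negSucc 0) (.node 88 (Int.negSucc 0) .nil .nil) .nil)))) (.node 105 (Int.ofNat 1) (.node 98 (Int.negSucc 1) (.node 94 (Int.negSucc 0) (.node 92 (Int.negSucc 0) (.node 91 (Int.negSucc 0) .nil .nil) (.node 93 (Int.negSucc 0) .nil .nil)) (.node 96 (Int.negSucc 0) (.node 95 (Int.negSucc 0) .nil .nil) (.node 97 (Int.negSucc 0) .nil .nil))) (.node 102 (Int.ofNat 1) (.node 100 (Int.ofNat 1) (.node 99 (Int.ofNat 1) .nil .nil) (.node 101 (Int.ofNat 1) .nil .nil)) (.node 104 (Int.ofNat 0) (.node 103 (Int.ofNat 1) .nil .nil) .nil))) (.node 113 (Int.ofNat 0) (.node 109 (Int.ofNat 1) (.node 107 (Int.ofNat 1) (.node 106 (Int.ofNat 1) .nil .nil) (.node 108 (Int.ofNat 1) .nil .nil)) (.node 111 (Int.ofNat 0) (.node 110 (Int.ofNat 0) .nil .nil) (.node 112 (Int.ofNat 0) .nil .nil))) (.node 117 (Int.ofNat 0) (.node 115 (Int.ofNat 0) (.node 114 (Int.ofNat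 0) .nil .nil) (.node 116 (Int.ofNat 0) .nil .nil)) (.node 119 (Int.ofNat 0) (.node 118 (Int.ofNat 0) .nil .nil) .nil)))))) (.node 180 (Int.ofNat 0) (.node 150 (Int.ofNat 1) (.node 135 (Int.ofNat 0) (.node 128 (Int.ofNat 0) (.node 124 (Int.ofNat 0) (.node 122 (Int.ofNat 0) (.node 121 (Int.ofNat 0) .nil .nil) (.node 123 (Int.ofNat 0) .nil .nil)) (.node 126 (Int.ofNat 0) (.node 125 (Int.ofNat 0) .nil .nil) (.node 127 (Int.ofNat 0) .nil .nil))) (.node 132 (Int.negSucc 0) (.node 130 (Int.negSucc 0) (.node 129 (Int.ofNat 0) .nil .nil) (.node 131 (Int.negSucc 0) .nil .nil)) (.node 134 (Int.negSucc 0) (.node 133 (Int.negSucc 0) .nil .nil) .nil))) (.node 143 (Int.ofNat 1) (.node 139 (Int.negSucc 0) (.node 137 (Int.negSucc 0) (.node 136 (Int.negSucc 0) .nil .nil) (.node 138 (Int.negSucc 0) .nil .nil)) (.node 141 (Int.ofNat 2) (.node 140 (Int.negSucc 0) .nil .nil) (.node 142 (Int.ofNat 1) .nil .nil)))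 (.node 147 (Int.ofNat 1) (.node 145 (Int.ofNat 1) (.node 144 (Int.ofNat 1) .nil .nil) (.node 146 (Int.ofNat 1) .nil .nil)) (.node 149 (Int.ofNat 1) (.node 148 (Int.ofNat 1) .nil .nil) .nil)))) (.node 165 (Int.negSucc 0) (.node 158 (Int.ofNat 0) (.node 154 (Int.ofNat 0) (.node 152 (Int.ofNat 0) (.node 151 (Int.ofNat 1) .nil .nil) (.node 153 (Int.ofNat 0) .nil .nil)) (.node 156 (Int.ofNat 0) (.node 155 (Int.ofNat 0) .nil .nil) (.node 157 (Int.ofNat 0) .nil .nil))) (.node 162 (Int.ofNat 0) (.node 160 (Int.ofNat 0) (.node 159 (Int.ofNat 0) .nil .nil) (.node 161 (Int.ofNat 0) .nil .nil)) (.node 164 (Int.negSucc 0) (.node 163 (Int.ofNat 0) .nil .nil) .nil))) (.node 173 (Int.ofNat 1) (.node 169 (Int.ofNat 1) (.node 167 (Int.negSucc 0) (.node 166 (Int.negSucc 0) .nil .nil) (.node 168 (Int.negSucc 0) .nil .nil)) (.node 171 (Int.ofNat 1) (.node 170 (Int.ofNat 1) .nil .nil) (.node 172 (Int.ofNat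 1) .nil .nil))) (.node 177 (Int.ofNat 0) (.node 175 (Int.ofNat 0) (.node 174 (Int.ofNat 0) .nil .nil) (.node 176 (Int.ofNat 0) .nil .nil)) (.node 179 (Int.ofNat 0) (.node 178 (Int.ofNat 0) .nil .nil) .nil))))) (.node 210 (Int.ofNat 1) (.node 195 (Int.negSucc 0) (.node 188 (Int.ofNat 0) (.node 184 (Int.ofNat 0) (.node 182 (Int.ofNat 0) (.node 181 (Int.ofNat 0) .nil .nil) (.node 183 (Int.ofNat 0) .nil .nil)) (.node 186 (Int.ofNat 0) (.node 185 (Int.ofNat 0) .nil .nil) (.node 187 (Int.ofNat 0) .nil .nil))) (.node 192 (Int.ofNat 0) (.node 190 (Int.ofNat 0) (.node 189 (Int.ofNat 0) .nil .nil) (.node 191 (Int.ofNat 0) .nil .nil)) (.node 194 (Int.negSucc 0) (.node 193 (Int.ofNat 0) .nil .nil) .nil))) (.node 203 (Int.negSucc 0) (.node 199 (Int.negSucc 0) (.node 197 (Int.negSucc 0) (.node 196 (Int.negSucc 0) .nil .nil) (.node 198 (Int.negSucc 0) .nil .nil)) (.node 201 (Int.negSucc 0) (.node 200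 (Int.negSucc 0) .nil .nil) (.node 202 (Int.negSucc 0) .nil .nil))) (.node 207 (Int.ofNat 1) (.node 205 (Int.ofNat 1) (.node 204 (Int.ofNat 1) .nil .nil) (.node 206 (Int.ofNat 1) .nil .nil)) (.node 209 (Int.ofNat 1) (.node 208 (Int.ofNat 1) .nil .nil) .nil)))) (.node 225 (Int.ofNat 1) (.node 218 (Int.ofNat 0) (.node 214 (Int.ofNat 0) (.node 212 (Int.ofNat 1) (.node 211 (Int.ofNat 1) .nil .nil) (.node 213 (Int.ofNat 1) .nil .nil)) (.node 216 (Int.ofNat 0) (.node 215 (Int.ofNat 0) .nil .nil) (.node 217 (Int.ofNat 0) .nil .nil))) (.node 222 (Int.ofNat 0) (.node 220 (Int.ofNat 0) (.node 219 (Int.ofNat 0) .nil .nil) (.node 221 (Int.ofNat 0) .nil .nil)) (.node 224 (Int.negSucc 0) (.node 223 (Int.ofNat 0) .nil .nil) .nil))) (.node 233 (Int.ofNat 1) (.node 229 (Int.ofNat 0) (.node 227 (Int.ofNat 0) (.node 226 (Int.ofNat 0) .nil .nil) (.node 228 (Int.ofNat 0) .nil .nil)) (.node 231 (Int.negSucc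 0) (.node 230 (Int.ofNat 0) .nil .nil) (.node 232 (Int.negSucc 0) .nil .nil))) (.node 237 (Int.ofNat 0) (.node 235 (Int.ofNat 0) (.node 234 (Int.ofNat 1) .nil .nil) (.node 236 (Int.ofNat 0) .nil .nil)) (.node 239 (Int.ofNat 0) (.node 238 (Int.ofNat 0) .nil .nil) .nil)))))))
noncomputable def ca2 : Tr ℤ := (.node 120 (Int.ofNat 0) (.node 60 (Int.ofNat 1) (.node 30 (Int.ofNat 0) (.node 15 (Int.ofNat 0) (.node 7 (Int.negSucc 0) (.node 3 (Int.ofNat 0) (.node 1 (Int.ofNat 0) (.node 0 (Int.ofNat 0) .nil .nil) (.node 2 (Int.ofNat 0) .nil .nil)) (.node 5 (Int.negSucc 0) (.node 4 (Int.ofNat 0) .nil .nil) (.node 6 (Int.ofNat 1) .nil .nil))) (.node 11 (Int.ofNat 0) (.node 9 (Int.ofNat 0) (.node 8 (Int.ofNat 1) .nil .nil) (.node 10 (Int.ofNat 0) .nil .nil)) (.node 13 (Int.ofNat 0) (.node 12 (Int.ofNat 0) .nil .nil) (.node 14 (Int.ofNat 0) .nil .nil)))) (.node 23 (Int.ofNat 1) (.node 19 (Int.negSucc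 0) (.node 17 (Int.negSucc 0) (.node 16 (Int.negSucc 0) .nil .nil) (.node 18 (Int.negSucc 0) .nil .nil)) (.node 21 (Int.ofNat 1) (.node 20 (Int.negSucc 0) .nil .nil) (.node 22 (Int.ofNat 1) .nil .nil))) (.node 27 (Int.ofNat 0) (.node 25 (Int.ofNat 1) (.node 24 (Int.ofNat 1) .nil .nil) (.node 26 (Int.ofNat 0) .nil .nil)) (.node 29 (Int.ofNat 0) (.node 28 (Int.ofNat 0) .nil .nil) .nil)))) (.node 45 (Int.ofNat 0) (.node 38 (Int.ofNat 0) (.node 34 (Int.ofNat 0) (.node 32 (Int.ofNat 0) (.node 31 (Int.ofNat 0) .nil .nil) (.node 33 (Int.ofNat 0) .nil .nil)) (.node 36 (Int.ofNat 0) (.node 35 (Int.ofNat 0) .nil .nil) (.node 37 (Int.ofNat 0) .nil .nil))) (.node 42 (Int.ofNat 0) (.node 40 (Int.ofNat 0) (.node 39 (Int.ofNat 0) .nil .nil) (.node 41 (Int.ofNat 0) .nil .nil)) (.node 44 (Int.ofNat 0) (.node 43 (Int.ofNat 0) .nil .nil) .nil))) (.node 53 (Int.negSucc 0) (.node 49 (Int.negSucc 0) (.node 47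 (Int.negSucc 0) (.node 46 (Int.negSucc 0) .nil .nil) (.node 48 (Int.negSucc 0) .nil .nil)) (.node 51 (Int.negSucc 0) (.node 50 (Int.negSucc 0) .nil .nil) (.node 52 (Int.negSucc 0) .nil .nil))) (.node 57 (Int.ofNat 1) (.node 55 (Int.negSucc 0) (.node 54 (Int.negSucc 0) .nil .nil) (.node 56 (Int.ofNat 1) .nil .nil)) (.node 59 (Int.ofNat 1) (.node 58 (Int.ofNat 1) .nil .nil) .nil))))) (.node 90 (Int.negSucc 0) (.node 75 (Int.ofNat 0) (.node 68 (Int.ofNat 0) (.node 64 (Int.ofNat 1) (.node 62 (Int.ofNat 1) (.node 61 (Int.ofNat 1) .nil .nil) (.node 63 (Int.ofNat 1) .nil .nil)) (.node 66 (Int.ofNat 0) (.node 65 (Int.ofNat 1) .nil .nil) (.node 67 (Int.ofNat 0) .nil .nil))) (.node 72 (Int.ofNat 0) (.node 70 (Int.ofNat 0) (.node 69 (Int.ofNat 0) .nil .nil) (.node 71 (Int.ofNat 0) .nil .nil)) (.node 74 (Int.ofNat 0) (.node 73 (Int.ofNat 0) .nil .nil) .nil))) (.node 83 (Int.ofNat 0) (.node 79 (Int.ofNat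 0) (.node 77 (Int.ofNat 1) (.node 76 (Int.negSucc 0) .nil .nil) (.node 78 (Int.ofNat 0) .nil .nil)) (.node 81 (Int.ofNat 0) (.node 80 (Int.ofNat 0) .nil .nil) (.node 82 (Int.ofNat 0) .nil .nil))) (.node 87 (Int.ofNat 0) (.node 85 (Int.ofNat 0) (.node 84 (Int.ofNat 0) .nil .nil) (.node 86 (Int.ofNat 0) .nil .nil)) (.node 89 (Int.negSucc 0) (.node 88 (Int.negSucc 0) .nil .nil) .nil)))) (.node 105 (Int.ofNat 1) (.node 98 (Int.ofNat 0) (.node 94 (Int.ofNat 1) (.node 92 (Int.negSucc 0) (.node 91 (Int.negSucc 0) .nil .nil) (.node 93 (Int.ofNat 1) .nil .nil)) (.node 96 (Int.ofNat 1) (.node 95 (Int.ofNat 1) .nil .nil) (.node 97 (Int.ofNat 1) .nil .nil))) (.node 102 (Int.negSucc 0) (.node 100 (Int.negSucc 0) (.node 99 (Int.negSucc 0) .nil .nil) (.node 101 (Int.negSucc 0) .nil .nil)) (.node 104 (Int.negSucc 1) (.node 103 (Int.negSucc 0) .nil .nil) .nil))) (.node 113 (Int.ofNat 0) (.node 109 (Int.ofNat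 1) (.node 107 (Int.ofNat 1) (.node 106 (Int.ofNat 1) .nil .nil) (.node 108 (Int.ofNat 1) .nil .nil)) (.node 111 (Int.ofNat 0) (.node 110 (Int.ofNat 0) .nil .nil) (.node 112 (Int.ofNat 0) .nil .nil))) (.node 117 (Int.ofNat 0) (.node 115 (Int.ofNat 0) (.node 114 (Int.ofNat 0) .nil .nil) (.node 116 (Int.ofNat 0) .nil .nil)) (.node 119 (Int.ofNat 0) (.node 118 (Int.ofNat 0) .nil .nil) .nil)))))) (.node 180 (Int.negSucc 0) (.node 150 (Int.ofNat 1) (.node 135 (Int.ofNat 2) (.node 128 (Int.ofNat 0) (.node 124 (Int.ofNat 0) (.node 122 (Int.ofNat 0) (.node 121 (Int.ofNat 0) .nil .nil) (.node 123 (Int.ofNat 0) .nil .nil)) (.node 126 (Int.ofNat 0) (.node 125 (Int.ofNat 0) .nil .nil) (.node 127 (Int.ofNat 0) .nil .nil))) (.node 132 (Int.negSucc 0) (.node 130 (Int.negSucc 0) (.node 129 (Int.ofNat 0) .nil .nil) (.node 131 (Int.negSucc 0) .nil .nil)) (.node 134 (Int.negSucc 0) (.node 133 (Int.negSucc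 0) .nil .nil) .nil))) (.node 143 (Int.negSucc 0) (.node 139 (Int.ofNat 1) (.node 137 (Int.ofNat 1) (.node 136 (Int.ofNat 1) .nil .nil) (.node 138 (Int.ofNat 1) .nil .nil)) (.node 141 (Int.ofNat 0) (.node 140 (Int.ofNat 1) .nil .nil) (.node 142 (Int.negSucc 0) .nil .nil))) (.node 147 (Int.ofNat 1) (.node 145 (Int.negSucc 0) (.node 144 (Int.negSucc 0) .nil .nil) (.node 146 (Int.negSucc 0) .nil .nil)) (.node 149 (Int.ofNat 1) (.node 148 (Int.ofNat 1) .nil .nil) .nil)))) (.node 165 (Int.ofNat 0) (.node 158 (Int.ofNat 0) (.node 154 (Int.ofNat 0) (.node 152 (Int.ofNat 0) (.node 151 (Int.ofNat 1) .nil .nil) (.node 153 (Int.ofNat 0) .nil .nil)) (.node 156 (Int.ofNat 0) (.node 155 (Int.ofNat 0) .nil .nil) (.node 157 (Int.ofNat 0) .nil .nil))) (.node 162 (Int.negSucc 0) (.node 160 (Int.ofNat 0) (.node 159 (Int.ofNat 0) .nil .nil) (.node 161 (Int.ofNat 0) .nil .nil)) (.node 164 (Int.ofNat 0) (.node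 163 (Int.ofNat 1) .nil .nil) .nil))) (.node 173 (Int.ofNat 0) (.node 169 (Int.ofNat 0) (.node 167 (Int.ofNat 0) (.node 166 (Int.ofNat 0) .nil .nil) (.node 168 (Int.ofNat 0) .nil .nil)) (.node 171 (Int.ofNat 0) (.node 170 (Int.ofNat 0) .nil .nil) (.node 172 (Int.ofNat 0) .nil .nil))) (.node 177 (Int.negSucc 0) (.node 175 (Int.negSucc 0) (.node 174 (Int.negSucc 0) .nil .nil) (.node 176 (Int.negSucc 0) .nil .nil)) (.node 179 (Int.negSucc 0) (.node 178 (Int.negSucc 0) .nil .nil) .nil))))) (.node 210 (Int.ofNat 0) (.node 195 (Int.ofNat 0) (.node 188 (Int.ofNat 1) (.node 184 (Int.ofNat 1) (.node 182 (Int.negSucc 0) (.node 181 (Int.negSucc 0) .nil .nil) (.node 183 (Int.negSucc 0) .nil .nil)) (.node 186 (Int.ofNat 1) (.node 185 (Int.ofNat 1) .nil .nil) (.node 187 (Int.ofNat 1) .nil .nil))) (.node 192 (Int.ofNat 1) (.node 190 (Int.ofNat 1) (.node 189 (Int.ofNat 1) .nil .nil) (.node 191 (Int.ofNat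 1) .nil .nil)) (.node 194 (Int.ofNat 0) (.node 193 (Int.ofNat 1) .nil .nil) .nil))) (.node 203 (Int.ofNat 0) (.node 199 (Int.ofNat 0) (.node 197 (Int.ofNat 0) (.node 196 (Int.ofNat 0) .nil .nil) (.node 198 (Int.ofNat 0) .nil .nil)) (.node 201 (Int.ofNat 0) (.node 200 (Int.ofNat 0) .nil .nil) (.node 202 (Int.ofNat 0) .nil .nil))) (.node 207 (Int.ofNat 0) (.node 205 (Int.ofNat 0) (.node 204 (Int.ofNat 0) .nil .nil) (.node 206 (Int.ofNat 0) .nil .nil)) (.node 209 (Int.ofNat 0) (.node 208 (Int.ofNat 0) .nil .nil) .nil)))) (.node 225 (Int.ofNat 0) (.node 218 (Int.negSucc 0) (.node 214 (Int.negSucc 0) (.node 212 (Int.ofNat 0) (.node 211 (Int.ofNat 0) .nil .nil) (.node 213 (Int.ofNat 0) .nil .nil)) (.node 216 (Int.negSucc 0) (.node 215 (Int.negSucc 0) .nil .nil) (.node 217 (Int.negSucc 0) .nil .nil))) (.node 222 (Int.ofNat 1) (.node 220 (Int.ofNat 1) (.node 219 (Int.ofNat 1) .nil .nil) (.node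 221 (Int.ofNat 1) .nil .nil)) (.node 224 (Int.ofNat 0) (.node 223 (Int.ofNat 1) .nil .nil) .nil))) (.node 233 (Int.negSucc 0) (.node 229 (Int.ofNat 0) (.node 227 (Int.ofNat 0) (.node 226 (Int.ofNat 0) .nil .nil) (.node 228 (Int.ofNat 0) .nil .nil)) (.node 231 (Int.negSucc 0) (.node 230 (Int.ofNat 0) .nil .nil) (.node 232 (Int.ofNat 1) .nil .nil))) (.node 237 (Int.ofNat 0) (.node 235 (Int.ofNat 0) (.node 234 (Int.ofNat 1) .nil .nil) (.node 236 (Int.ofNat 0) .nil .nil)) (.node 239 (Int.ofNat 0) (.node 238 (Int.ofNat 0) .nil .nil) .nil)))))))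
noncomputable def ca3 : Tr ℤ := (.node 120 (Int.ofNat 0) (.node 60 (Int.ofNat 0) (.node 30 (Int.ofNat 0) (.node 15 (Int.negSucc 0) (.node 7 (Int.ofNat 0) (.node 3 (Int.ofNat 0) (.node 1 (Int.ofNat 0) (.node 0 (Int.ofNat 0) .nil .nil) (.node 2 (Int.ofNat 0) .nil .nil)) (.node 5 (Int.ofNat 1) (.node 4 (Int.negSucc 0) .nil .nil) (.node 6 (Int.ofNat 0) .nil .nil))) (.node 11 (Int.ofNat 0) (.node 9 (Int.ofNat 1) (.node 8 (Int.negSucc 0) .nil .nil) (.node 10 (Int.ofNat 0) .nil .nil)) (.node 13 (Int.ofNat 0) (.node 12 (Int.ofNat 0) .nil .nil) (.node 14 (Int.ofNat 0) .nil .nil)))) (.node 23 (Int.negSucc 0) (.node 19 (Int.ofNat 0) (.node 17 (Int.ofNat 0) (.node 16 (Int.ofNat 1) .nil .nil) (.node 18 (Int.ofNat 0) .nil .nil)) (.node 21 (Int.ofNat 0) (.node 20 (Int.ofNat 0) .nil .nil) (.node 22 (Int.negSucc 0) .nil .nil))) (.node 27 (Int.ofNat 1) (.node 25 (Int.negSucc 0) (.node 24 (Int.negSucc 0)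 .nil .nil) (.node 26 (Int.ofNat 1) .nil .nil)) (.node 29 (Int.ofNat 1) (.node 28 (Int.ofNat 1) .nil .nil) .nil)))) (.node 45 (Int.negSucc 0) (.node 38 (Int.ofNat 0) (.node 34 (Int.ofNat 0) (.node 32 (Int.ofNat 0) (.node 31 (Int.ofNat 0) .nil .nil) (.node 33 (Int.ofNat 0) .nil .nil)) (.node 36 (Int.ofNat 0) (.node 35 (Int.ofNat 0) .nil .nil) (.node 37 (Int.ofNat 0) .nil .nil))) (.node 42 (Int.negSucc 0) (.node 40 (Int.negSucc 0) (.node 39 (Int.ofNat 0) .nil .nil) (.node 41 (Int.negSucc 0) .nil .nil)) (.node 44 (Int.negSucc 0) (.node 43 (Int.negSucc 0) .nil .nil) .nil))) (.node 53 (Int.ofNat 0) (.node 49 (Int.ofNat 1) (.node 47 (Int.ofNat 1) (.node 46 (Int.ofNat 1) .nil .nil) (.node 48 (Int.ofNat 1) .nil .nil)) (.node 51 (Int.ofNat 1) (.node 50 (Int.ofNat 1) .nil .nil) (.node 52 (Int.ofNat 0) .nil .nil))) (.node 57 (Int.ofNat 0) (.node 55 (Int.ofNat 0) (.node 54 (Int.ofNat 0) .nil .nil)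 (.node 56 (Int.ofNat 0) .nil .nil)) (.node 59 (Int.ofNat 0) (.node 58 (Int.ofNat 0) .nil .nil) .nil))))) (.node 90 (Int.ofNat 1) (.node 75 (Int.negSucc 0) (.node 68 (Int.ofNat 1) (.node 64 (Int.negSucc 0) (.node 62 (Int.negSucc 0) (.node 61 (Int.ofNat 0) .nil .nil) (.node 63 (Int.negSucc 0) .nil .nil)) (.node 66 (Int.ofNat 1) (.node 65 (Int.negSucc 0) .nil .nil) (.node 67 (Int.ofNat 1) .nil .nil))) (.node 72 (Int.ofNat 0) (.node 70 (Int.ofNat 0) (.node 69 (Int.ofNat 1) .nil .nil) (.node 71 (Int.ofNat 0) .nil .nil)) (.node 74 (Int.ofNat 0) (.node 73 (Int.ofNat 0) .nil .nil) .nil))) (.node 83 (Int.ofNat 0) (.node 79 (Int.ofNat 0) (.node 77 (Int.ofNat 0) (.node 76 (Int.ofNat 1) .nil .nil) (.node 78 (Int.ofNat 0) .nil .nil)) (.node 81 (Int.ofNat 0) (.node 80 (Int.ofNat 0) .nil .nil) (.node 82 (Int.ofNat 0) .nil .nil))) (.node 87 (Int.negSucc 0) (.node 85 (Int.negSucc 0) (.node 84 (Int.negSucc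 0) .nil .nil) (.node 86 (Int.negSucc 0) .nil .nil)) (.node 89 (Int.ofNat 1) (.node 88 (Int.ofNat 1) .nil .nil) .nil)))) (.node 105 (Int.negSucc 0) (.node 98 (Int.ofNat 1) (.node 94 (Int.ofNat 0) (.node 92 (Int.ofNat 0) (.node 91 (Int.ofNat 1) .nil .nil) (.node 93 (Int.ofNat 0) .nil .nil)) (.node 96 (Int.ofNat 0) (.node 95 (Int.ofNat 0) .nil .nil) (.node 97 (Int.negSucc 0) .nil .nil))) (.node 102 (Int.ofNat 0) (.node 100 (Int.ofNat 0) (.node 99 (Int.ofNat 0) .nil .nil) (.node 101 (Int.ofNat 0) .nil .nil)) (.node 104 (Int.ofNat 1) (.node 103 (Int.negSucc 0) .nil .nil) .nil))) (.node 113 (Int.ofNat 1) (.node 109 (Int.negSucc 1) (.node 107 (Int.negSucc 0) (.node 106 (Int.negSucc 0) .nil .nil) (.node 108 (Int.negSucc 0) .nil .nil)) (.node 111 (Int.ofNat 1) (.node 110 (Int.ofNat 1) .nil .nil) (.node 112 (Int.ofNat 1) .nil .nil))) (.node 117 (Int.ofNat 0) (.node 115 (Int.ofNat 0) (.node 114 (Int.ofNat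 0) .nil .nil) (.node 116 (Int.ofNat 0) .nil .nil)) (.node 119 (Int.ofNat 0) (.node 118 (Int.ofNat 0) .nil .nil) .nil)))))) (.node 180 (Int.ofNat 0) (.node 150 (Int.negSucc 0) (.node 135 (Int.negSucc 0) (.node 128 (Int.negSucc 0) (.node 124 (Int.ofNat 0) (.node 122 (Int.ofNat 0) (.node 121 (Int.ofNat 0) .nil .nil) (.node 123 (Int.ofNat 0) .nil .nil)) (.node 126 (Int.negSucc 0) (.node 125 (Int.ofNat 0) .nil .nil) (.node 127 (Int.negSucc 0) .nil .nil))) (.node 132 (Int.ofNat 1) (.node 130 (Int.ofNat 2) (.node 129 (Int.negSucc 0) .nil .nil) (.node 131 (Int.ofNat 1) .nil .nil)) (.node 134 (Int.ofNat 1) (.node 133 (Int.ofNat 1) .nil .nil) .nil))) (.node 143 (Int.ofNat 0) (.node 139 (Int.ofNat 0) (.node 137 (Int.ofNat 0) (.node 136 (Int.ofNat 1) .nil .nil) (.node 138 (Int.ofNat 0) .nil .nil)) (.node 141 (Int.negSucc 0) (.node 140 (Int.ofNat 0) .nil .nil) (.node 142 (Int.ofNat 1) .nil .nil)))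 (.node 147 (Int.ofNat 0) (.node 145 (Int.ofNat 0) (.node 144 (Int.ofNat 0) .nil .nil) (.node 146 (Int.ofNat 0) .nil .nil)) (.node 149 (Int.negSucc 0) (.node 148 (Int.negSucc 0) .nil .nil) .nil)))) (.node 165 (Int.ofNat 0) (.node 158 (Int.ofNat 0) (.node 154 (Int.ofNat 1) (.node 152 (Int.ofNat 1) (.node 151 (Int.negSucc 0) .nil .nil) (.node 153 (Int.ofNat 1) .nil .nil)) (.node 156 (Int.ofNat 0) (.node 155 (Int.ofNat 1) .nil .nil) (.node 157 (Int.ofNat 0) .nil .nil))) (.node 162 (Int.ofNat 0) (.node 160 (Int.ofNat 0) (.node 159 (Int.ofNat 0) .nil .nil) (.node 161 (Int.ofNat 0) .nil .nil)) (.node 164 (Int.ofNat 1) (.node 163 (Int.negSucc 0) .nil .nil) .nil))) (.node 173 (Int.negSucc 0) (.node 169 (Int.ofNat 0) (.node 167 (Int.ofNat 0) (.node 166 (Int.ofNat 0) .nil .nil) (.node 168 (Int.ofNat 0) .nil .nil)) (.node 171 (Int.negSucc 0) (.node 170 (Int.negSucc 0) .nil .nil) (.node 172 (Int.negSucc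 0) .nil .nil))) (.node 177 (Int.ofNat 1) (.node 175 (Int.ofNat 1) (.node 174 (Int.ofNat 1) .nil .nil) (.node 176 (Int.ofNat 1) .nil .nil)) (.node 179 (Int.ofNat 0) (.node 178 (Int.ofNat 0) .nil .nil) .nil))))) (.node 210 (Int.negSucc 0) (.node 195 (Int.ofNat 1) (.node 188 (Int.negSucc 0) (.node 184 (Int.ofNat 0) (.node 182 (Int.ofNat 0) (.node 181 (Int.ofNat 0) .nil .nil) (.node 183 (Int.ofNat 0) .nil .nil)) (.node 186 (Int.ofNat 0) (.node 185 (Int.ofNat 0) .nil .nil) (.node 187 (Int.ofNat 0) .nil .nil))) (.node 192 (Int.negSucc 0) (.node 190 (Int.negSucc 0) (.node 189 (Int.negSucc 0) .nil .nil) (.node 191 (Int.negSucc 0) .nil .nil)) (.node 194 (Int.ofNat 1) (.node 193 (Int.negSucc 0) .nil .nil) .nil))) (.node 203 (Int.ofNat 0) (.node 199 (Int.ofNat 1) (.node 197 (Int.ofNat 1) (.node 196 (Int.ofNat 1) .nil .nil) (.node 198 (Int.ofNat 1) .nil .nil)) (.node 201 (Int.ofNat 0) (.node 200 (Int.ofNat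 0) .nil .nil) (.node 202 (Int.ofNat 0) .nil .nil))) (.node 207 (Int.ofNat 0) (.node 205 (Int.ofNat 0) (.node 204 (Int.ofNat 0) .nil .nil) (.node 206 (Int.ofNat 0) .nil .nil)) (.node 209 (Int.ofNat 0) (.node 208 (Int.ofNat 0) .nil .nil) .nil)))) (.node 225 (Int.ofNat 0) (.node 218 (Int.ofNat 0) (.node 214 (Int.ofNat 1) (.node 212 (Int.negSucc 0) (.node 211 (Int.negSucc 0) .nil .nil) (.node 213 (Int.negSucc 0) .nil .nil)) (.node 216 (Int.ofNat 1) (.node 215 (Int.ofNat 1) .nil .nil) (.node 217 (Int.ofNat 1) .nil .nil))) (.node 222 (Int.ofNat 0) (.node 220 (Int.ofNat 0) (.node 219 (Int.ofNat 0) .nil .nil) (.node 221 (Int.ofNat 0) .nil .nil)) (.node 224 (Int.ofNat 1) (.node 223 (Int.negSucc 0) .nil .nil) .nil))) (.node 233 (Int.ofNat 0) (.node 229 (Int.ofNat 0) (.node 227 (Int.ofNat 0) (.node 226 (Int.ofNat 0) .nil .nil) (.node 228 (Int.ofNat 0) .nil .nil)) (.node 231 (Int.ofNat 1) (.node 230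 (Int.negSucc 0) .nil .nil) (.node 232 (Int.ofNat 0) .nil .nil))) (.node 237 (Int.ofNat 0) (.node 235 (Int.ofNat 1) (.node 234 (Int.negSucc 0) .nil .nil) (.node 236 (Int.ofNat 0) .nil .nil)) (.node 239 (Int.ofNat 0) (.node 238 (Int.ofNat 0) .nil .nil) .nil)))))))
noncomputable def ca4 : Tr ℤ := (.node 120 (Int.ofNat 0) (.node 60 (Int.negSucc 0) (.node 30 (Int.ofNat 1) (.node 15 (Int.ofNat 0) (.node 7 (Int.ofNat 0) (.node 3 (Int.negSucc 0) (.node 1 (Int.ofNat 0) (.node 0 (Int.ofNat 0) .nil .nil) (.node 2 (Int.ofNat 0) .nil .nil)) (.node 5 (Int.ofNat 0) (.node 4 (Int.ofNat 1) .nil .nil) (.node 6 (Int.ofNat 0) .nil .nil))) (.node 11 (Int.ofNat 0) (.node 9 (Int.negSucc 0) (.node 8 (Int.ofNat 0) .nil .nil) (.node 10 (Int.ofNat 1) .nil .nil)) (.node 13 (Int.ofNat 0) (.node 12 (Int.ofNat 0) .nil .nil) (.node 14 (Int.ofNat 0) .nil .nil)))) (.node 23 (Int.ofNat 0) (.node 19 (Int.ofNat 0) (.node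 17 (Int.ofNat 1) (.node 16 (Int.negSucc 0) .nil .nil) (.node 18 (Int.ofNat 0) .nil .nil)) (.node 21 (Int.negSucc 0) (.node 20 (Int.ofNat 0) .nil .nil) (.node 22 (Int.ofNat 1) .nil .nil))) (.node 27 (Int.negSucc 0) (.node 25 (Int.ofNat 0) (.node 24 (Int.ofNat 0) .nil .nil) (.node 26 (Int.ofNat 0) .nil .nil)) (.node 29 (Int.negSucc 0) (.node 28 (Int.negSucc 0) .nil .nil) .nil)))) (.node 45 (Int.ofNat 0) (.node 38 (Int.negSucc 0) (.node 34 (Int.ofNat 0) (.node 32 (Int.ofNat 1) (.node 31 (Int.ofNat 1) .nil .nil) (.node 33 (Int.ofNat 0) .nil .nil)) (.node 36 (Int.ofNat 0) (.node 35 (Int.ofNat 0) .nil .nil) (.node 37 (Int.negSucc 0) .nil .nil))) (.node 42 (Int.ofNat 1) (.node 40 (Int.ofNat 1) (.node 39 (Int.negSucc 0) .nil .nil) (.node 41 (Int.ofNat 1) .nil .nil)) (.node 44 (Int.ofNat 0) (.node 43 (Int.ofNat 0) .nil .nil) .nil))) (.node 53 (Int.ofNat 1) (.node 49 (Int.negSucc 0) (.node 47 (Int.ofNat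 0) (.node 46 (Int.ofNat 0) .nil .nil) (.node 48 (Int.ofNat 0) .nil .nil)) (.node 51 (Int.negSucc 0) (.node 50 (Int.negSucc 0) .nil .nil) (.node 52 (Int.ofNat 1) .nil .nil))) (.node 57 (Int.ofNat 0) (.node 55 (Int.ofNat 0) (.node 54 (Int.ofNat 1) .nil .nil) (.node 56 (Int.ofNat 0) .nil .nil)) (.node 59 (Int.negSucc 0) (.node 58 (Int.ofNat 0) .nil .nil) .nil))))) (.node 90 (Int.ofNat 0) (.node 75 (Int.ofNat 1) (.node 68 (Int.ofNat 0) (.node 64 (Int.ofNat 1) (.node 62 (Int.ofNat 1) (.node 61 (Int.negSucc 0) .nil .nil) (.node 63 (Int.ofNat 1) .nil .nil)) (.node 66 (Int.ofNat 0) (.node 65 (Int.ofNat 0) .nil .nil) (.node 67 (Int.ofNat 0) .nil .nil))) (.node 72 (Int.ofNat 0) (.node 70 (Int.ofNat 1) (.node 69 (Int.negSucc 0) .nil .nil) (.node 71 (Int.ofNat 0) .nil .nil)) (.node 74 (Int.negSucc 0) (.node 73 (Int.ofNat 0) .nil .nil) .nil))) (.node 83 (Int.negSucc 0) (.node 79 (Int.ofNat 0) (.node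 77 (Int.ofNat 0) (.node 76 (Int.ofNat 0) .nil .nil) (.node 78 (Int.ofNat 0) .nil .nil)) (.node 81 (Int.negSucc 0) (.node 80 (Int.ofNat 0) .nil .nil) (.node 82 (Int.negSucc 0) .nil .nil))) (.node 87 (Int.ofNat 0) (.node 85 (Int.ofNat 1) (.node 84 (Int.ofNat 1) .nil .nil) (.node 86 (Int.ofNat 1) .nil .nil)) (.node 89 (Int.ofNat 0) (.node 88 (Int.ofNat 0) .nil .nil) .nil)))) (.node 105 (Int.ofNat 0) (.node 98 (Int.ofNat 0) (.node 94 (Int.ofNat 0) (.node 92 (Int.ofNat 1) (.node 91 (Int.negSucc 0) .nil .nil) (.node 93 (Int.ofNat 0) .nil .nil)) (.node 96 (Int.negSucc 0) (.node 95 (Int.ofNat 0) .nil .nil) (.node 97 (Int.ofNat 1) .nil .nil))) (.node 102 (Int.negSucc 0) (.node 100 (Int.ofNat 0) (.node 99 (Int.ofNat 0) .nil .nil) (.node 101 (Int.ofNat 0) .nil .nil)) (.node 104 (Int.ofNat 0) (.node 103 (Int.ofNat 1) .nil .nil) .nil))) (.node 113 (Int.negSucc 1) (.node 109 (Int.ofNat 1) (.node 107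 (Int.ofNat 0) (.node 106 (Int.ofNat 0) .nil .nil) (.node 108 (Int.negSucc 0) .nil .nil)) (.node 111 (Int.negSucc 0) (.node 110 (Int.negSucc 0) .nil .nil) (.node 112 (Int.negSucc 0) .nil .nil))) (.node 117 (Int.ofNat 0) (.node 115 (Int.ofNat 1) (.node 114 (Int.ofNat 1) .nil .nil) (.node 116 (Int.ofNat 1) .nil .nil)) (.node 119 (Int.ofNat 0) (.node 118 (Int.ofNat 0) .nil .nil) .nil)))))) (.node 180 (Int.ofNat 1) (.node 150 (Int.ofNat 0) (.node 135 (Int.ofNat 0) (.node 128 (Int.ofNat 1) (.node 124 (Int.negSucc 0) (.node 122 (Int.ofNat 0) (.node 121 (Int.ofNat 0) .nil .nil) (.node 123 (Int.negSucc 0) .nil .nil)) (.node 126 (Int.ofNat 2) (.node 125 (Int.negSucc 0) .nil .nil) (.node 127 (Int.ofNat 1) .nil .nil))) (.node 132 (Int.ofNat 0) (.node 130 (Int.negSucc 0) (.node 129 (Int.ofNat 1) .nil .nil) (.node 131 (Int.ofNat 1) .nil .nil)) (.node 134 (Int.ofNat 0) (.node 133 (Int.ofNat 0) .nil .nil)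 .nil))) (.node 143 (Int.ofNat 1) (.node 139 (Int.ofNat 0) (.node 137 (Int.ofNat 1) (.node 136 (Int.negSucc 0) .nil .nil) (.node 138 (Int.ofNat 0) .nil .nil)) (.node 141 (Int.ofNat 0) (.node 140 (Int.ofNat 0) .nil .nil) (.node 142 (Int.negSucc 0) .nil .nil))) (.node 147 (Int.negSucc 0) (.node 145 (Int.ofNat 0) (.node 144 (Int.ofNat 0) .nil .nil) (.node 146 (Int.ofNat 0) .nil .nil)) (.node 149 (Int.ofNat 0) (.node 148 (Int.ofNat 1) .nil .nil) .nil)))) (.node 165 (Int.ofNat 1) (.node 158 (Int.ofNat 1) (.node 154 (Int.negSucc 0) (.node 152 (Int.ofNat 0) (.node 151 (Int.ofNat 0) .nil .nil) (.node 153 (Int.negSucc 0) .nil .nil)) (.node 156 (Int.ofNat 1) (.node 155 (Int.negSucc 0) .nil .nil) (.node 157 (Int.ofNat 1) .nil .nil))) (.node 162 (Int.ofNat 0) (.node 160 (Int.ofNat 0) (.node 159 (Int.ofNat 0) .nil .nil) (.node 161 (Int.ofNat 0) .nil .nil)) (.node 164 (Int.negSucc 0) (.node 163 (Int.ofNat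 0) .nil .nil) .nil))) (.node 173 (Int.ofNat 0) (.node 169 (Int.negSucc 0) (.node 167 (Int.ofNat 0) (.node 166 (Int.ofNat 0) .nil .nil) (.node 168 (Int.ofNat 0) .nil .nil)) (.node 171 (Int.ofNat 0) (.node 170 (Int.ofNat 1) .nil .nil) (.node 172 (Int.ofNat 0) .nil .nil))) (.node 177 (Int.negSucc 0) (.node 175 (Int.negSucc 0) (.node 174 (Int.ofNat 0) .nil .nil) (.node 176 (Int.negSucc 0) .nil .nil)) (.node 179 (Int.ofNat 1) (.node 178 (Int.ofNat 1) .nil .nil) .nil))))) (.node 210 (Int.ofNat 1) (.node 195 (Int.ofNat 0) (.node 188 (Int.ofNat 1) (.node 184 (Int.ofNat 0) (.node 182 (Int.ofNat 0) (.node 181 (Int.ofNat 0) .nil .nil) (.node 183 (Int.ofNat 0) .nil .nil)) (.node 186 (Int.negSucc 0) (.node 185 (Int.negSucc 0) .nil .nil) (.node 187 (Int.negSucc 0) .nil .nil))) (.node 192 (Int.ofNat 0) (.node 190 (Int.ofNat 1) (.node 189 (Int.ofNat 1) .nil .nil) (.node 191 (Int.ofNat 0) .nil .nil)) (.node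 194 (Int.ofNat 0) (.node 193 (Int.ofNat 0) .nil .nil) .nil))) (.node 203 (Int.ofNat 0) (.node 199 (Int.negSucc 0) (.node 197 (Int.negSucc 0) (.node 196 (Int.ofNat 0) .nil .nil) (.node 198 (Int.negSucc 0) .nil .nil)) (.node 201 (Int.ofNat 1) (.node 200 (Int.ofNat 1) .nil .nil) (.node 202 (Int.ofNat 1) .nil .nil))) (.node 207 (Int.negSucc 0) (.node 205 (Int.ofNat 0) (.node 204 (Int.ofNat 0) .nil .nil) (.node 206 (Int.ofNat 0) .nil .nil)) (.node 209 (Int.negSucc 0) (.node 208 (Int.negSucc 0) .nil .nil) .nil)))) (.node 225 (Int.ofNat 0) (.node 218 (Int.ofNat 1) (.node 214 (Int.ofNat 0) (.node 212 (Int.ofNat 1) (.node 211 (Int.ofNat 1) .nil .nil) (.node 213 (Int.ofNat 0) .nil .nil)) (.node 216 (Int.ofNat 0) (.node 215 (Int.ofNat 0) .nil .nil) (.node 217 (Int.negSucc 0) .nil .nil))) (.node 222 (Int.negSucc 0) (.node 220 (Int.ofNat 0) (.node 219 (Int.ofNat 0) .nil .nil) (.node 221 (Int.ofNat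 0) .nil .nil)) (.node 224 (Int.ofNat 0) (.node 223 (Int.ofNat 1) .nil .nil) .nil))) (.node 233 (Int.ofNat 0) (.node 229 (Int.negSucc 0) (.node 227 (Int.ofNat 0) (.node 226 (Int.ofNat 0) .nil .nil) (.node 228 (Int.ofNat 0) .nil .nil)) (.node 231 (Int.ofNat 0) (.node 230 (Int.ofNat 1) .nil .nil) (.node 232 (Int.ofNat 0) .nil .nil))) (.node 237 (Int.ofNat 0) (.node 235 (Int.negSucc 0) (.node 234 (Int.ofNat 0) .nil .nil) (.node 236 (Int.ofNat 1) .nil .nil)) (.node 239 (Int.ofNat 0) (.node 238 (Int.ofNat 0) .nil .nil) .nil)))))))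
noncomputable def ca5 : Tr ℤ := (.node 120 (Int.ofNat 0) (.node 60 (Int.ofNat 1) (.node 30 (Int.ofNat 0) (.node 15 (Int.ofNat 0) (.node 7 (Int.ofNat 0) (.node 3 (Int.ofNat 1) (.node 1 (Int.ofNat 0) (.node 0 (Int.ofNat 0) .nil .nil) (.node 2 (Int.negSucc 0) .nil .nil)) (.node 5 (Int.ofNat 0) (.node 4 (Int.ofNat 0) .nil .nil) (.node 6 (Int.ofNat 0) .nil .nil))) (.node 11 (Int.ofNat 1) (.node 9 (Int.ofNat 0) (.node 8 (Int.ofNat 0) .nil .nil) (.node 10 (Int.negSucc 0) .nil .nil)) (.node 13 (Int.ofNat 0) (.node 12 (Int.ofNat 0) .nil .nil) (.node 14 (Int.ofNat 0) .nil .nil)))) (.node 23 (Int.ofNat 1) (.node 19 (Int.ofNat 0) (.node 17 (Int.negSucc 0) (.node 16 (Int.ofNat 0) .nil .nil) (.node 18 (Int.ofNat 1) .nil .nil)) (.node 21 (Int.ofNat 0) (.node 20 (Int.ofNat 0) .nil .nil) (.node 22 (Int.negSucc 0) .nil .nil))) (.node 27 (Int.ofNat 1) (.node 25 (Int.ofNat 0) (.node 24 (Int.ofNat 0) .nil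 .nil) (.node 26 (Int.negSucc 0) .nil .nil)) (.node 29 (Int.ofNat 0) (.node 28 (Int.ofNat 0) .nil .nil) .nil)))) (.node 45 (Int.ofNat 0) (.node 38 (Int.ofNat 0) (.node 34 (Int.ofNat 1) (.node 32 (Int.negSucc 0) (.node 31 (Int.negSucc 0) .nil .nil) (.node 33 (Int.ofNat 1) .nil .nil)) (.node 36 (Int.negSucc 0) (.node 35 (Int.ofNat 0) .nil .nil) (.node 37 (Int.ofNat 1) .nil .nil))) (.node 42 (Int.negSucc 0) (.node 40 (Int.ofNat 0) (.node 39 (Int.ofNat 0) .nil .nil) (.node 41 (Int.negSucc 0) .nil .nil)) (.node 44 (Int.ofNat 1) (.node 43 (Int.ofNat 1) .nil .nil) .nil))) (.node 53 (Int.ofNat 0) (.node 49 (Int.ofNat 1) (.node 47 (Int.negSucc 0) (.node 46 (Int.ofNat 0) .nil .nil) (.node 48 (Int.negSucc 0) .nil .nil)) (.node 51 (Int.ofNat 0) (.node 50 (Int.ofNat 1) .nil .nil) (.node 52 (Int.ofNat 0) .nil .nil))) (.node 57 (Int.negSucc 0) (.node 55 (Int.ofNat 1) (.node 54 (Int.negSucc 0) .nil .nil)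 (.node 56 (Int.ofNat 0) .nil .nil)) (.node 59 (Int.ofNat 1) (.node 58 (Int.negSucc 0) .nil .nil) .nil))))) (.node 90 (Int.negSucc 0) (.node 75 (Int.ofNat 0) (.node 68 (Int.negSucc 0) (.node 64 (Int.negSucc 0) (.node 62 (Int.ofNat 0) (.node 61 (Int.ofNat 0) .nil .nil) (.node 63 (Int.ofNat 0) .nil .nil)) (.node 66 (Int.ofNat 0) (.node 65 (Int.ofNat 1) .nil .nil) (.node 67 (Int.ofNat 0) .nil .nil))) (.node 72 (Int.ofNat 0) (.node 70 (Int.ofNat 0) (.node 69 (Int.ofNat 1) .nil .nil) (.node 71 (Int.ofNat 0) .nil .nil)) (.node 74 (Int.ofNat 1) (.node 73 (Int.negSucc 0) .nil .nil) .nil))) (.node 83 (Int.ofNat 0) (.node 79 (Int.negSucc 0) (.node 77 (Int.ofNat 0) (.node 76 (Int.ofNat 0) .nil .nil) (.node 78 (Int.ofNat 0) .nil .nil)) (.node 81 (Int.ofNat 1) (.node 80 (Int.negSucc 0) .nil .nil) (.node 82 (Int.ofNat 1) .nil .nil))) (.node 87 (Int.ofNat 1) (.node 85 (Int.ofNat 0) (.node 84 (Int.ofNat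 0) .nil .nil) (.node 86 (Int.negSucc 0) .nil .nil)) (.node 89 (Int.ofNat 0) (.node 88 (Int.ofNat 0) .nil .nil) .nil)))) (.node 105 (Int.ofNat 0) (.node 98 (Int.ofNat 0) (.node 94 (Int.ofNat 0) (.node 92 (Int.ofNat 0) (.node 91 (Int.ofNat 1) .nil .nil) (.node 93 (Int.ofNat 0) .nil .nil)) (.node 96 (Int.ofNat 1) (.node 95 (Int.negSucc 0) .nil .nil) (.node 97 (Int.ofNat 0) .nil .nil))) (.node 102 (Int.ofNat 1) (.node 100 (Int.ofNat 0) (.node 99 (Int.ofNat 0) .nil .nil) (.node 101 (Int.negSucc 0) .nil .nil)) (.node 104 (Int.ofNat 0) (.node 103 (Int.ofNat 0) .nil .nil) .nil))) (.node 113 (Int.ofNat 1) (.node 109 (Int.ofNat 0) (.node 107 (Int.negSucc 0) (.node 106 (Int.ofNat 0) .nil .nil) (.node 108 (Int.ofNat 1) .nil .nil)) (.node 111 (Int.ofNat 0) (.node 110 (Int.ofNat 0) .nil .nil) (.node 112 (Int.negSucc 0) .nil .nil))) (.node 117 (Int.ofNat 1) (.node 115 (Int.negSucc 0) (.node 114 (Int.negSucc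 0) .nil .nil) (.node 116 (Int.negSucc 1) .nil .nil)) (.node 119 (Int.ofNat 0) (.node 118 (Int.ofNat 1) .nil .nil) .nil)))))) (.node 180 (Int.negSucc 0) (.node 150 (Int.ofNat 0) (.node 135 (Int.ofNat 0) (.node 128 (Int.ofNat 0) (.node 124 (Int.ofNat 1) (.node 122 (Int.negSucc 0) (.node 121 (Int.negSucc 0) .nil .nil) (.node 123 (Int.ofNat 2) .nil .nil)) (.node 126 (Int.negSucc 0) (.node 125 (Int.ofNat 1) .nil .nil) (.node 127 (Int.ofNat 1) .nil .nil))) (.node 132 (Int.ofNat 1) (.node 130 (Int.ofNat 0) (.node 129 (Int.ofNat 0) .nil .nil) (.node 131 (Int.negSucc 0) .nil .nil)) (.node 134 (Int.ofNat 0) (.node 133 (Int.ofNat 0) .nil .nil) .nil))) (.node 143 (Int.negSucc 0) (.node 139 (Int.ofNat 0) (.node 137 (Int.negSucc 0) (.node 136 (Int.ofNat 0) .nil .nil) (.node 138 (Int.ofNat 1) .nil .nil)) (.node 141 (Int.ofNat 0) (.node 140 (Int.ofNat 0) .nil .nil) (.node 142 (Int.ofNat 0) .nil .nil)))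 (.node 147 (Int.ofNat 0) (.node 145 (Int.ofNat 0) (.node 144 (Int.ofNat 1) .nil .nil) (.node 146 (Int.ofNat 0) .nil .nil)) (.node 149 (Int.ofNat 1) (.node 148 (Int.negSucc 0) .nil .nil) .nil)))) (.node 165 (Int.negSucc 0) (.node 158 (Int.negSucc 0) (.node 154 (Int.ofNat 0) (.node 152 (Int.negSucc 0) (.node 151 (Int.ofNat 0) .nil .nil) (.node 153 (Int.ofNat 1) .nil .nil)) (.node 156 (Int.ofNat 0) (.node 155 (Int.ofNat 0) .nil .nil) (.node 157 (Int.negSucc 0) .nil .nil))) (.node 162 (Int.ofNat 0) (.node 160 (Int.ofNat 1) (.node 159 (Int.ofNat 1) .nil .nil) (.node 161 (Int.ofNat 0) .nil .nil)) (.node 164 (Int.ofNat 0) (.node 163 (Int.ofNat 0) .nil .nil) .nil))) (.node 173 (Int.ofNat 0) (.node 169 (Int.ofNat 0) (.node 167 (Int.ofNat 0) (.node 166 (Int.ofNat 1) .nil .nil) (.node 168 (Int.ofNat 0) .nil .nil)) (.node 171 (Int.ofNat 1) (.node 170 (Int.negSucc 0) .nil .nil) (.node 172 (Int.ofNat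 0) .nil .nil))) (.node 177 (Int.ofNat 0) (.node 175 (Int.ofNat 1) (.node 174 (Int.negSucc 0) .nil .nil) (.node 176 (Int.ofNat 0) .nil .nil)) (.node 179 (Int.negSucc 0) (.node 178 (Int.ofNat 0) .nil .nil) .nil))))) (.node 210 (Int.ofNat 0) (.node 195 (Int.negSucc 0) (.node 188 (Int.ofNat 0) (.node 184 (Int.negSucc 0) (.node 182 (Int.ofNat 1) (.node 181 (Int.ofNat 1) .nil .nil) (.node 183 (Int.ofNat 0) .nil .nil)) (.node 186 (Int.ofNat 0) (.node 185 (Int.ofNat 1) .nil .nil) (.node 187 (Int.ofNat 0) .nil .nil))) (.node 192 (Int.ofNat 1) (.node 190 (Int.negSucc 0) (.node 189 (Int.negSucc 0) .nil .nil) (.node 191 (Int.ofNat 1) .nil .nil)) (.node 194 (Int.ofNat 0) (.node 193 (Int.ofNat 0) .nil .nil) .nil))) (.node 203 (Int.ofNat 1) (.node 199 (Int.ofNat 0) (.node 197 (Int.ofNat 1) (.node 196 (Int.negSucc 0) .nil .nil) (.node 198 (Int.ofNat 1) .nil .nil)) (.node 201 (Int.ofNat 0) (.node 200 (Int.ofNat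 0) .nil .nil) (.node 202 (Int.negSucc 0) .nil .nil))) (.node 207 (Int.ofNat 1) (.node 205 (Int.negSucc 0) (.node 204 (Int.ofNat 0) .nil .nil) (.node 206 (Int.negSucc 0) .nil .nil)) (.node 209 (Int.ofNat 0) (.node 208 (Int.ofNat 1) .nil .nil) .nil)))) (.node 225 (Int.ofNat 0) (.node 218 (Int.ofNat 0) (.node 214 (Int.ofNat 0) (.node 212 (Int.negSucc 0) (.node 211 (Int.ofNat 0) .nil .nil) (.node 213 (Int.ofNat 1) .nil .nil)) (.node 216 (Int.negSucc 0) (.node 215 (Int.ofNat 0) .nil .nil) (.node 217 (Int.ofNat 1) .nil .nil))) (.node 222 (Int.ofNat 1) (.node 220 (Int.ofNat 0) (.node 219 (Int.ofNat 0) .nil .nil) (.node 221 (Int.negSucc 0) .nil .nil)) (.node 224 (Int.ofNat 0) (.node 223 (Int.ofNat 0) .nil .nil) .nil))) (.node 233 (Int.ofNat 0) (.node 229 (Int.ofNat 1) (.node 227 (Int.ofNat 0) (.node 226 (Int.ofNat 0) .nil .nil) (.node 228 (Int.negSucc 0) .nil .nil)) (.node 231 (Int.ofNat 0) (.node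 230 (Int.ofNat 0) .nil .nil) (.node 232 (Int.ofNat 0) .nil .nil))) (.node 237 (Int.ofNat 1) (.node 235 (Int.ofNat 0) (.node 234 (Int.ofNat 0) .nil .nil) (.node 236 (Int.negSucc 0) .nil .nil)) (.node 239 (Int.ofNat 0) (.node 238 (Int.ofNat 0) .nil .nil) .nil)))))))
noncomputable def ca6 : Tr ℤ := (.node 120 (Int.negSucc 0) (.node 60 (Int.negSucc 0) (.node 30 (Int.negSucc 0) (.node 15 (Int.ofNat 0) (.node 7 (Int.ofNat 0) (.node 3 (Int.ofNat 0) (.node 1 (Int.negSucc 0) (.node 0 (Int.ofNat 0) .nil .nil) (.node 2 (Int.ofNat 1) .nil .nil)) (.node 5 (Int.ofNat 0) (.node 4 (Int.ofNat 0) .nil .nil) (.node 6 (Int.ofNat 0) .nil .nil))) (.node 11 (Int.negSucc 0) (.node 9 (Int.ofNat 0) (.node 8 (Int.ofNat 0) .nil .nil) (.node 10 (Int.ofNat 0) .nil .nil)) (.node 13 (Int.ofNat 0) (.node 12 (Int.ofNat 1) .nil .nil) (.node 14 (Int.ofNat 0) .nil .nil)))) (.node 23 (Int.negSucc 0) (.node 19 (Int.ofNat 1)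 (.node 17 (Int.ofNat 0) (.node 16 (Int.ofNat 0) .nil .nil) (.node 18 (Int.negSucc 0) .nil .nil)) (.node 21 (Int.ofNat 0) (.node 20 (Int.ofNat 0) .nil .nil) (.node 22 (Int.ofNat 0) .nil .nil))) (.node 27 (Int.negSucc 0) (.node 25 (Int.ofNat 0) (.node 24 (Int.ofNat 1) .nil .nil) (.node 26 (Int.ofNat 0) .nil .nil)) (.node 29 (Int.ofNat 0) (.node 28 (Int.ofNat 1) .nil .nil) .nil)))) (.node 45 (Int.ofNat 1) (.node 38 (Int.ofNat 1) (.node 34 (Int.negSucc 0) (.node 32 (Int.ofNat 0) (.node 31 (Int.ofNat 1) .nil .nil) (.node 33 (Int.ofNat 0) .nil .nil)) (.node 36 (Int.ofNat 0) (.node 35 (Int.ofNat 1) .nil .nil) (.node 37 (Int.negSucc 0) .nil .nil))) (.node 42 (Int.ofNat 0) (.node 40 (Int.negSucc 0) (.node 39 (Int.ofNat 0) .nil .nil) (.node 41 (Int.ofNat 1) .nil .nil)) (.node 44 (Int.negSucc 0) (.node 43 (Int.ofNat 0) .nil .nil) .nil))) (.node 53 (Int.negSucc 0) (.node 49 (Int.ofNat 0) (.node 47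 (Int.ofNat 1) (.node 46 (Int.negSucc 0) .nil .nil) (.node 48 (Int.ofNat 0) .nil .nil)) (.node 51 (Int.ofNat 1) (.node 50 (Int.negSucc 0) .nil .nil) (.node 52 (Int.ofNat 0) .nil .nil))) (.node 57 (Int.ofNat 1) (.node 55 (Int.ofNat 0) (.node 54 (Int.ofNat 1) .nil .nil) (.node 56 (Int.negSucc 0) .nil .nil)) (.node 59 (Int.ofNat 0) (.node 58 (Int.ofNat 0) .nil .nil) .nil))))) (.node 90 (Int.ofNat 1) (.node 75 (Int.ofNat 0) (.node 68 (Int.ofNat 1) (.node 64 (Int.ofNat 1) (.node 62 (Int.ofNat 0) (.node 61 (Int.ofNat 1) .nil .nil) (.node 63 (Int.negSucc 0) .nil .nil)) (.node 66 (Int.ofNat 0) (.node 65 (Int.ofNat 0) .nil .nil) (.node 67 (Int.negSucc 0) .nil .nil))) (.node 72 (Int.negSucc 0) (.node 70 (Int.ofNat 0) (.node 69 (Int.ofNat 0) .nil .nil) (.node 71 (Int.ofNat 0) .nil .nil)) (.node 74 (Int.ofNat 0) (.node 73 (Int.ofNat 1) .nil .nil) .nil))) (.node 83 (Int.ofNat 1) (.node 79 (Int.ofNat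 1) (.node 77 (Int.ofNat 0) (.node 76 (Int.ofNat 0) .nil .nil) (.node 78 (Int.negSucc 0) .nil .nil)) (.node 81 (Int.ofNat 0) (.node 80 (Int.ofNat 0) .nil .nil) (.node 82 (Int.negSucc 0) .nil .nil))) (.node 87 (Int.ofNat 0) (.node 85 (Int.negSucc 0) (.node 84 (Int.ofNat 0) .nil .nil) (.node 86 (Int.ofNat 1) .nil .nil)) (.node 89 (Int.negSucc 0) (.node 88 (Int.ofNat 0) .nil .nil) .nil)))) (.node 105 (Int.ofNat 0) (.node 98 (Int.ofNat 0) (.node 94 (Int.negSucc 0) (.node 92 (Int.ofNat 0) (.node 91 (Int.ofNat 0) .nil .nil) (.node 93 (Int.ofNat 0) .nil .nil)) (.node 96 (Int.ofNat 0) (.node 95 (Int.ofNat 1) .nil .nil) (.node 97 (Int.ofNat 0) .nil .nil))) (.node 102 (Int.ofNat 0) (.node 100 (Int.negSucc 0) (.node 99 (Int.ofNat 0) .nil .nil) (.node 101 (Int.ofNat 1) .nil .nil)) (.node 104 (Int.ofNat 0) (.node 103 (Int.ofNat 0) .nil .nil) .nil))) (.node 113 (Int.ofNat 0) (.node 109 (Int.ofNat 0)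 (.node 107 (Int.ofNat 1) (.node 106 (Int.negSucc 0) .nil .nil) (.node 108 (Int.ofNat 0) .nil .nil)) (.node 111 (Int.negSucc 0) (.node 110 (Int.ofNat 0) .nil .nil) (.node 112 (Int.ofNat 1) .nil .nil))) (.node 117 (Int.negSucc 0) (.node 115 (Int.negSucc 0) (.node 114 (Int.ofNat 0) .nil .nil) (.node 116 (Int.ofNat 1) .nil .nil)) (.node 119 (Int.ofNat 1) (.node 118 (Int.negSucc 1) .nil .nil) .nil)))))) (.node 180 (Int.ofNat 0) (.node 150 (Int.ofNat 1) (.node 135 (Int.ofNat 0) (.node 128 (Int.ofNat 1) (.node 124 (Int.ofNat 1) (.node 122 (Int.ofNat 1) (.node 121 (Int.ofNat 2) .nil .nil) (.node 123 (Int.negSucc 0) .nil .nil)) (.node 126 (Int.ofNat 0) (.node 125 (Int.ofNat 0) .nil .nil) (.node 127 (Int.negSucc 0) .nil .nil))) (.node 132 (Int.negSucc 0) (.node 130 (Int.ofNat 0) (.node 129 (Int.ofNat 0) .nil .nil) (.node 131 (Int.ofNat 0) .nil .nil)) (.node 134 (Int.ofNat 0) (.node 133 (Int.ofNat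 1) .nil .nil) .nil))) (.node 143 (Int.ofNat 0) (.node 139 (Int.ofNat 1) (.node 137 (Int.ofNat 0) (.node 136 (Int.ofNat 0) .nil .nil) (.node 138 (Int.negSucc 0) .nil .nil)) (.node 141 (Int.ofNat 0) (.node 140 (Int.ofNat 0) .nil .nil) (.node 142 (Int.ofNat 0) .nil .nil))) (.node 147 (Int.ofNat 0) (.node 145 (Int.ofNat 1) (.node 144 (Int.negSucc 0) .nil .nil) (.node 146 (Int.ofNat 0) .nil .nil)) (.node 149 (Int.negSucc 0) (.node 148 (Int.ofNat 0) .nil .nil) .nil)))) (.node 165 (Int.ofNat 0) (.node 158 (Int.ofNat 0) (.node 154 (Int.ofNat 1) (.node 152 (Int.ofNat 0) (.node 151 (Int.ofNat 0) .nil .nil) (.node 153 (Int.negSucc 0) .nil .nil)) (.node 156 (Int.negSucc 0) (.node 155 (Int.ofNat 0) .nil .nil) (.node 157 (Int.ofNat 1) .nil .nil))) (.node 162 (Int.ofNat 0) (.node 160 (Int.negSucc 0) (.node 159 (Int.ofNat 0) .nil .nil) (.node 161 (Int.ofNat 1) .nil .nil)) (.node 164 (Int.ofNat 0) (.node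 163 (Int.ofNat 0) .nil .nil) .nil))) (.node 173 (Int.ofNat 0) (.node 169 (Int.ofNat 0) (.node 167 (Int.ofNat 1) (.node 166 (Int.negSucc 0) .nil .nil) (.node 168 (Int.ofNat 0) .nil .nil)) (.node 171 (Int.negSucc 0) (.node 170 (Int.ofNat 0) .nil .nil) (.node 172 (Int.ofNat 1) .nil .nil))) (.node 177 (Int.ofNat 0) (.node 175 (Int.negSucc 0) (.node 174 (Int.ofNat 0) .nil .nil) (.node 176 (Int.ofNat 1) .nil .nil)) (.node 179 (Int.ofNat 1) (.node 178 (Int.negSucc 0) .nil .nil) .nil))))) (.node 210 (Int.ofNat 0) (.node 195 (Int.ofNat 1) (.node 188 (Int.negSucc 0) (.node 184 (Int.ofNat 0) (.node 182 (Int.negSucc 0) (.node 181 (Int.ofNat 0) .nil .nil) (.node 183 (Int.ofNat 1) .nil .nil)) (.node 186 (Int.ofNat 1) (.node 185 (Int.negSucc 0) .nil .nil) (.node 187 (Int.ofNat 0) .nil .nil))) (.node 192 (Int.negSucc 0) (.node 190 (Int.ofNat 0) (.node 189 (Int.ofNat 1) .nil .nil) (.node 191 (Int.ofNat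 0) .nil .nil)) (.node 194 (Int.negSucc 0) (.node 193 (Int.ofNat 1) .nil .nil) .nil))) (.node 203 (Int.ofNat 0) (.node 199 (Int.ofNat 1) (.node 197 (Int.ofNat 0) (.node 196 (Int.ofNat 0) .nil .nil) (.node 198 (Int.negSucc 0) .nil .nil)) (.node 201 (Int.negSucc 0) (.node 200 (Int.ofNat 0) .nil .nil) (.node 202 (Int.ofNat 1) .nil .nil))) (.node 207 (Int.ofNat 0) (.node 205 (Int.ofNat 1) (.node 204 (Int.negSucc 0) .nil .nil) (.node 206 (Int.ofNat 0) .nil .nil)) (.node 209 (Int.ofNat 1) (.node 208 (Int.negSucc 0) .nil .nil) .nil)))) (.node 225 (Int.ofNat 0) (.node 218 (Int.ofNat 0) (.node 214 (Int.ofNat 0) (.node 212 (Int.ofNat 1) (.node 211 (Int.negSucc 0) .nil .nil) (.node 213 (Int.ofNat 0) .nil .nil)) (.node 216 (Int.ofNat 1) (.node 215 (Int.negSucc 0) .nil .nil) (.node 217 (Int.ofNat 0) .nil .nil))) (.node 222 (Int.ofNat 0) (.node 220 (Int.negSucc 0) (.node 219 (Int.ofNat 0) .nil .nil)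 (.node 221 (Int.ofNat 1) .nil .nil)) (.node 224 (Int.ofNat 0) (.node 223 (Int.ofNat 0) .nil .nil) .nil))) (.node 233 (Int.ofNat 0) (.node 229 (Int.ofNat 0) (.node 227 (Int.negSucc 0) (.node 226 (Int.ofNat 0) .nil .nil) (.node 228 (Int.ofNat 1) .nil .nil)) (.node 231 (Int.ofNat 0) (.node 230 (Int.ofNat 0) .nil .nil) (.node 232 (Int.ofNat 0) .nil .nil))) (.node 237 (Int.negSucc 0) (.node 235 (Int.ofNat 0) (.node 234 (Int.ofNat 0) .nil .nil) (.node 236 (Int.ofNat 0) .nil .nil)) (.node 239 (Int.ofNat 0) (.node 238 (Int.ofNat 1) .nil .nil) .nil)))))))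
noncomputable def ca7 : Tr ℤ := (.node 120 (Int.ofNat 2) (.node 60 (Int.ofNat 1) (.node 30 (Int.ofNat 0) (.node 15 (Int.ofNat 0) (.node 7 (Int.ofNat 0) (.node 3 (Int.ofNat 0) (.node 1 (Int.ofNat 1) (.node 0 (Int.negSucc 0) .nil .nil) (.node 2 (Int.ofNat 0) .nil .nil)) (.node 5 (Int.ofNat 0) (.node 4 (Int.ofNat 0) .nil .nil) (.node 6 (Int.ofNat 0) .nil .nil))) (.node 11 (Int.ofNat 0) (.node 9 (Int.ofNat 0) (.node 8 (Int.ofNat 0) .nil .nil) (.node 10 (Int.ofNat 0) .nil .nil)) (.node 13 (Int.ofNat 1) (.node 12 (Int.negSucc 0) .nil .nil) (.node 14 (Int.ofNat 0) .nil .nil)))) (.node 23 (Int.ofNat 0) (.node 19 (Int.negSucc 0) (.node 17 (Int.ofNat 0) (.node 16 (Int.ofNat 0) .nil .nil) (.node 18 (Int.ofNat 0) .nil .nil)) (.node 21 (Int.ofNat 0) (.node 20 (Int.ofNat 1) .nil .nil) (.node 22 (Int.ofNat 0) .nil .nil))) (.node 27 (Int.ofNat 0) (.node 25 (Int.ofNat 1) (.node 24 (Int.negSucc 0) .nil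 .nil) (.node 26 (Int.ofNat 0) .nil .nil)) (.node 29 (Int.ofNat 1) (.node 28 (Int.negSucc 0) .nil .nil) .nil)))) (.node 45 (Int.ofNat 0) (.node 38 (Int.negSucc 0) (.node 34 (Int.ofNat 1) (.node 32 (Int.ofNat 1) (.node 31 (Int.negSucc 0) .nil .nil) (.node 33 (Int.negSucc 0) .nil .nil)) (.node 36 (Int.ofNat 0) (.node 35 (Int.ofNat 0) .nil .nil) (.node 37 (Int.ofNat 0) .nil .nil))) (.node 42 (Int.ofNat 1) (.node 40 (Int.ofNat 0) (.node 39 (Int.ofNat 1) .nil .nil) (.node 41 (Int.negSucc 0) .nil .nil)) (.node 44 (Int.ofNat 1) (.node 43 (Int.negSucc 0) .nil .nil) .nil))) (.node 53 (Int.ofNat 1) (.node 49 (Int.negSucc 0) (.node 47 (Int.negSucc 0) (.node 46 (Int.ofNat 0) .nil .nil) (.node 48 (Int.ofNat 1) .nil .nil)) (.node 51 (Int.ofNat 0) (.node 50 (Int.ofNat 1) .nil .nil) (.node 52 (Int.negSucc 0) .nil .nil))) (.node 57 (Int.negSucc 0) (.node 55 (Int.ofNat 0) (.node 54 (Int.ofNat 0) .nil .nil)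 (.node 56 (Int.ofNat 0) .nil .nil)) (.node 59 (Int.negSucc 0) (.node 58 (Int.ofNat 1) .nil .nil) .nil))))) (.node 90 (Int.ofNat 0) (.node 75 (Int.ofNat 0) (.node 68 (Int.ofNat 0) (.node 64 (Int.ofNat 0) (.node 62 (Int.negSucc 0) (.node 61 (Int.ofNat 0) .nil .nil) (.node 63 (Int.ofNat 1) .nil .nil)) (.node 66 (Int.negSucc 0) (.node 65 (Int.ofNat 0) .nil .nil) (.node 67 (Int.ofNat 1) .nil .nil))) (.node 72 (Int.ofNat 1) (.node 70 (Int.ofNat 0) (.node 69 (Int.ofNat 0) .nil .nil) (.node 71 (Int.negSucc 0) .nil .nil)) (.node 74 (Int.ofNat 0) (.node 73 (Int.ofNat 0) .nil .nil) .nil))) (.node 83 (Int.ofNat 0) (.node 79 (Int.negSucc 0) (.node 77 (Int.ofNat 0) (.node 76 (Int.ofNat 0) .nil .nil) (.node 78 (Int.ofNat 0) .nil .nil)) (.node 81 (Int.negSucc 0) (.node 80 (Int.ofNat 1) .nil .nil) (.node 82 (Int.ofNat 1) .nil .nil))) (.node 87 (Int.ofNat 0) (.node 85 (Int.ofNat 1) (.node 84 (Int.negSucc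 0) .nil .nil) (.node 86 (Int.ofNat 0) .nil .nil)) (.node 89 (Int.ofNat 1) (.node 88 (Int.negSucc 0) .nil .nil) .nil)))) (.node 105 (Int.negSucc 0) (.node 98 (Int.ofNat 0) (.node 94 (Int.ofNat 1) (.node 92 (Int.ofNat 0) (.node 91 (Int.ofNat 0) .nil .nil) (.node 93 (Int.negSucc 0) .nil .nil)) (.node 96 (Int.ofNat 0) (.node 95 (Int.ofNat 0) .nil .nil) (.node 97 (Int.ofNat 0) .nil .nil))) (.node 102 (Int.ofNat 0) (.node 100 (Int.ofNat 1) (.node 99 (Int.negSucc 0) .nil .nil) (.node 101 (Int.ofNat 0) .nil .nil)) (.node 104 (Int.ofNat 0) (.node 103 (Int.ofNat 0) .nil .nil) .nil))) (.node 113 (Int.ofNat 0) (.node 109 (Int.ofNat 0) (.node 107 (Int.ofNat 0) (.node 106 (Int.ofNat 1) .nil .nil) (.node 108 (Int.ofNat 0) .nil .nil)) (.node 111 (Int.ofNat 1) (.node 110 (Int.negSucc 0) .nil .nil) (.node 112 (Int.ofNat 0) .nil .nil))) (.node 117 (Int.negSucc 0) (.node 115 (Int.ofNat 1) (.node 114 (Int.negSucc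 0) .nil .nil) (.node 116 (Int.ofNat 0) .nil .nil)) (.node 119 (Int.negSucc 1) (.node 118 (Int.ofNat 1) .nil .nil) .nil)))))) (.node 180 (Int.ofNat 1) (.node 150 (Int.negSucc 0) (.node 135 (Int.ofNat 0) (.node 128 (Int.negSucc 0) (.node 124 (Int.negSucc 0) (.node 122 (Int.ofNat 1) (.node 121 (Int.negSucc 0) .nil .nil) (.node 123 (Int.ofNat 0) .nil .nil)) (.node 126 (Int.ofNat 0) (.node 125 (Int.ofNat 1) .nil .nil) (.node 127 (Int.ofNat 0) .nil .nil))) (.node 132 (Int.ofNat 0) (.node 130 (Int.ofNat 0) (.node 129 (Int.ofNat 1) .nil .nil) (.node 131 (Int.ofNat 0) .nil .nil)) (.node 134 (Int.ofNat 1) (.node 133 (Int.negSucc 0) .nil .nil) .nil))) (.node 143 (Int.ofNat 0) (.node 139 (Int.negSucc 0) (.node 137 (Int.ofNat 0) (.node 136 (Int.ofNat 0) .nil .nil) (.node 138 (Int.ofNat 0) .nil .nil)) (.node 141 (Int.ofNat 0) (.node 140 (Int.ofNat 1) .nil .nil) (.node 142 (Int.ofNat 0) .nil .nil)))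 (.node 147 (Int.ofNat 0) (.node 145 (Int.negSucc 0) (.node 144 (Int.ofNat 0) .nil .nil) (.node 146 (Int.ofNat 1) .nil .nil)) (.node 149 (Int.ofNat 0) (.node 148 (Int.ofNat 0) .nil .nil) .nil)))) (.node 165 (Int.ofNat 0) (.node 158 (Int.ofNat 1) (.node 154 (Int.negSucc 0) (.node 152 (Int.ofNat 0) (.node 151 (Int.ofNat 1) .nil .nil) (.node 153 (Int.ofNat 0) .nil .nil)) (.node 156 (Int.ofNat 0) (.node 155 (Int.ofNat 1) .nil .nil) (.node 157 (Int.negSucc 0) .nil .nil))) (.node 162 (Int.ofNat 0) (.node 160 (Int.ofNat 1) (.node 159 (Int.negSucc 0) .nil .nil) (.node 161 (Int.ofNat 0) .nil .nil)) (.node 164 (Int.ofNat 0) (.node 163 (Int.ofNat 0) .nil .nil) .nil))) (.node 173 (Int.ofNat 1) (.node 169 (Int.ofNat 0) (.node 167 (Int.negSucc 0) (.node 166 (Int.ofNat 0) .nil .nil) (.node 168 (Int.ofNat 1) .nil .nil)) (.node 171 (Int.ofNat 0) (.node 170 (Int.ofNat 0) .nil .nil) (.node 172 (Int.negSucc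 0) .nil .nil))) (.node 177 (Int.ofNat 1) (.node 175 (Int.ofNat 0) (.node 174 (Int.ofNat 0) .nil .nil) (.node 176 (Int.negSucc 0) .nil .nil)) (.node 179 (Int.negSucc 0) (.node 178 (Int.ofNat 0) .nil .nil) .nil))))) (.node 210 (Int.negSucc 0) (.node 195 (Int.negSucc 0) (.node 188 (Int.ofNat 0) (.node 184 (Int.ofNat 0) (.node 182 (Int.ofNat 1) (.node 181 (Int.negSucc 0) .nil .nil) (.node 183 (Int.ofNat 0) .nil .nil)) (.node 186 (Int.negSucc 0) (.node 185 (Int.ofNat 0) .nil .nil) (.node 187 (Int.ofNat 1) .nil .nil))) (.node 192 (Int.ofNat 1) (.node 190 (Int.ofNat 1) (.node 189 (Int.negSucc 0) .nil .nil) (.node 191 (Int.negSucc 0) .nil .nil)) (.node 194 (Int.ofNat 0) (.node 193 (Int.ofNat 0) .nil .nil) .nil))) (.node 203 (Int.ofNat 0) (.node 199 (Int.ofNat 0) (.node 197 (Int.negSucc 0) (.node 196 (Int.ofNat 1) .nil .nil) (.node 198 (Int.ofNat 1) .nil .nil)) (.node 201 (Int.ofNat 1) (.node 200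 (Int.negSucc 0) .nil .nil) (.node 202 (Int.ofNat 0) .nil .nil))) (.node 207 (Int.negSucc 0) (.node 205 (Int.negSucc 0) (.node 204 (Int.ofNat 0) .nil .nil) (.node 206 (Int.ofNat 1) .nil .nil)) (.node 209 (Int.ofNat 0) (.node 208 (Int.ofNat 1) .nil .nil) .nil)))) (.node 225 (Int.ofNat 0) (.node 218 (Int.ofNat 0) (.node 214 (Int.negSucc 0) (.node 212 (Int.ofNat 0) (.node 211 (Int.ofNat 1) .nil .nil) (.node 213 (Int.ofNat 0) .nil .nil)) (.node 216 (Int.ofNat 0) (.node 215 (Int.ofNat 1) .nil .nil) (.node 217 (Int.ofNat 0) .nil .nil))) (.node 222 (Int.ofNat 0) (.node 220 (Int.ofNat 1) (.node 219 (Int.negSucc 0) .nil .nil) (.node 221 (Int.ofNat 0) .nil .nil)) (.node 224 (Int.ofNat 0) (.node 223 (Int.ofNat 0) .nil .nil) .nil))) (.node 233 (Int.ofNat 0) (.node 229 (Int.ofNat 0) (.node 227 (Int.ofNat 1) (.node 226 (Int.negSucc 0) .nil .nil) (.node 228 (Int.ofNat 0) .nil .nil)) (.node 231 (Int.ofNat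 0) (.node 230 (Int.ofNat 0) .nil .nil) (.node 232 (Int.ofNat 0) .nil .nil))) (.node 237 (Int.ofNat 0) (.node 235 (Int.ofNat 0) (.node 234 (Int.ofNat 0) .nil .nil) (.node 236 (Int.ofNat 0) .nil .nil)) (.node 239 (Int.ofNat 1) (.node 238 (Int.negSucc 0) .nil .nil) .nil)))))))
noncomputable def caT : Tr (Tr ℤ) := (.node 4 ca4 (.node 2 ca2 (.node 1 ca1 (.node 0 ca0 .nil .nil) .nil) (.node 3 ca3 .nil .nil)) (.node 6 ca6 (.node 5 ca5 .nil .nil) (.node 7 ca7 .nil .nil)))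

theorem posneg_check : posNegCheck chevE8 = true := by decide +kernel

theorem shape_check0 : shapeCheck chevE8 nT wT negT 0 = true := by decide +kernel

theorem h_check0 : hCheckI chevE8 cols caT 0 = true := by decide +kernel

theorem shape_check1 : shapeCheck chevE8 nT wT negT 1 = true := by decide +kernel

theorem h_check1 : hCheckI chevE8 cols caT 1 = true := by decide +kernel

theorem shape_check2 : shapeCheck chevE8 nT wT negT 2 = true := by decide +kernel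

theorem h_check2 : hCheckI chevE8 cols caT 2 = true := by decide +kernel

theorem shape_check3 : shapeCheck chevE8 nT wT negT 3 = true := by decide +kernel

theorem h_check3 : hCheckI chevE8 cols caT 3 = true := by decide +kernel

theorem shape_check4 : shapeCheck chevE8 nT wT negT 4 = true := by decide +kernel

theorem h_check4 : hCheckI chevE8 cols caT 4 = true := by decide +kernel

theorem shape_check5 : shapeCheck chevE8 nT wT negT 5 = true := by decide +kernel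

theorem h_check5 : hCheckI chevE8 cols caT 5 = true := by decide +kernel

theorem shape_check6 : shapeCheck chevE8 nT wT negT 6 = true := by decide +kernel

theorem h_check6 : hCheckI chevE8 cols caT 6 = true := by decide +kernel

theorem shape_check7 : shapeCheck chevE8 nT wT negT 7 = true := by decide +kernel

theorem h_check7 : hCheckI chevE8 cols caT 7 = true := by decide +kernel

end Cfsg.Agent.Lib.Chevalley.Tbl.E8
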