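import Cfsg.Agent.Lib.Chevalley.Comm
import Cfsg.Prelude.Def_ChevF4

set_option autoImplicit false
set_option maxRecDepth 1000000

namespace Cfsg.Agent.Lib.Chevalley.Tbl.F4
open Cfsg.Lie Cfsg.Agent.Lib.Chevalley.Reflect Cfsg.Agent.Lib.Chevalley.Comm


def col0 : Tr Cl := (.node 40 [⟨11,(Int.ofNat 1),1⟩] (.node 28 [⟨5,(Int.ofNat 1),1⟩] (.node 2 [⟨4,(Int.ofNat 0),1⟩] (.node 1 [⟨4,(Int.ofNat 0),1⟩] (.node 0 [⟨4,(Int.ofNat 0),1⟩] .nil .nil) .nil) (.node 3 [⟨4,(Int.ofNat 1),1⟩] .nil .nil)) (.node 35 [⟨8,(Int.negSucc 0),1⟩] (.node 33 [⟨7,(Int.ofNat 1),1⟩] (.node 30 [⟨6,(Int.ofNat 1),1⟩] .nil .nil) .nil) (.node 36 [⟨9,(Int.ofNat 1),1⟩] .nil .nil))) (.node 47 [⟨20,(Int.ofNat 1),1⟩] (.node 44 [⟨15,(Int.negSucc 0),1⟩] (.node 43 [⟨13,(Int.ofNat 1),1⟩] (.node 42 [⟨12,(Int.negSucc 0),1⟩]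 .nil .nil) .nil) (.node 46 [⟨19,(Int.negSucc 0),1⟩] .nil .nil)) (.node 50 [⟨27,(Int.negSucc 0),1⟩] (.node 49 [⟨25,(Int.negSucc 0),1⟩] (.node 48 [⟨22,(Int.negSucc 0),1⟩] .nil .nil) .nil) (.node 51 [⟨0,(Int.negSucc 0),1⟩, ⟨1,(Int.negSucc 1),1⟩, ⟨2,(Int.negSucc 2),1⟩, ⟨3,(Int.negSucc 1),1⟩, ⟨4,(Int.negSucc 0),2⟩] .nil .nil))))
def col1 : Tr Cl := (.node 39 [⟨11,(Int.ofNat 1),1⟩] (.node 27 [⟨4,(Int.ofNat 1),1⟩] (.node 2 [⟨5,(Int.ofNat 1),1⟩] (.node 1 [⟨5,(Int.ofNat 0),1⟩] (.node 0 [⟨5,(Int.ofNat 0),1⟩] .nil .nil) .nil) (.node 3 [⟨5,(Int.negSucc 0),1⟩] .nil .nil)) (.node 34 [⟨8,(Int.negSucc 0),1⟩] (.node 32 [⟨7,(Int.ofNat 1),1⟩] (.node 29 [⟨6,(Int.ofNat 1),1⟩] .nil .nil) .nil) (.node 36 [⟨10,(Int.ofNat 1),1⟩] .nil .nil))) (.node 47 [⟨21,(Int.ofNat 1),1⟩] (.node 44 [⟨16,(Int.negSucc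 0),1⟩] (.node 43 [⟨14,(Int.ofNat 1),1⟩] (.node 41 [⟨12,(Int.negSucc 0),1⟩] .nil .nil) .nil) (.node 45 [⟨19,(Int.negSucc 0),1⟩] .nil .nil)) (.node 50 [⟨0,(Int.negSucc 0),1⟩, ⟨1,(Int.negSucc 1),1⟩, ⟨2,(Int.negSucc 2),1⟩, ⟨3,(Int.negSucc 0),1⟩, ⟨5,(Int.negSucc 0),2⟩] (.node 49 [⟨26,(Int.negSucc 0),1⟩] (.node 48 [⟨23,(Int.negSucc 0),1⟩] .nil .nil) .nil) (.node 51 [⟨28,(Int.negSucc 0),1⟩] .nil .nil))))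
def col2 : Tr Cl := (.node 38 [⟨11,(Int.ofNat 1),1⟩] (.node 25 [⟨4,(Int.ofNat 1),1⟩] (.node 2 [⟨6,(Int.negSucc 0),1⟩] (.node 1 [⟨6,(Int.ofNat 2),1⟩] (.node 0 [⟨6,(Int.ofNat 0),1⟩] .nil .nil) .nil) (.node 3 [⟨6,(Int.ofNat 0),1⟩] .nil .nil)) (.node 34 [⟨9,(Int.negSucc 0),1⟩] (.node 31 [⟨7,(Int.ofNat 1),1⟩] (.node 26 [⟨5,(Int.ofNat 1),1⟩] .nil .nil) .nil) (.node 35 [⟨10,(Int.ofNat 1),1⟩] .nil .nil))) (.node 46 [⟨21,(Int.ofNat 1),1⟩] (.node 44 [⟨17,(Int.negSucc 0),1⟩] (.node 42 [⟨14,(Int.ofNat 1),1⟩] (.node 41 [⟨13,(Int.negSucc 0),1⟩] .nil .nil) .nil) (.node 45 [⟨20,(Int.negSucc 0),1⟩] .nil .nil)) (.node 50 [⟨29,(Int.negSucc 0),1⟩] (.node 49 [⟨0,(Int.negSucc 0),1⟩, ⟨1,(Int.negSucc 1),1⟩, ⟨2,(Int.negSucc 1),1⟩, ⟨3,(Int.negSucc 0),1⟩, ⟨6,(Int.negSucc 0),2⟩] (.node 48 [⟨24,(Int.negSucc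 0),1⟩] .nil .nil) .nil) (.node 51 [⟨30,(Int.negSucc 0),1⟩] .nil .nil))))
def col3 : Tr Cl := (.node 39 [⟨13,(Int.negSucc 0),1⟩] (.node 24 [⟨6,(Int.ofNat 2),1⟩] (.node 3 [⟨7,(Int.ofNat 0),1⟩] (.node 1 [⟨7,(Int.ofNat 0),1⟩] (.node 0 [⟨7,(Int.ofNat 1),1⟩] .nil .nil) (.node 2 [⟨7,(Int.ofNat 0),1⟩] .nil .nil)) (.node 23 [⟨5,(Int.ofNat 2),1⟩] (.node 22 [⟨4,(Int.ofNat 2),1⟩] .nil .nil) .nil)) (.node 33 [⟨10,(Int.ofNat 2),1⟩] (.node 32 [⟨9,(Int.negSucc 1),1⟩] (.node 31 [⟨8,(Int.ofNat 2),1⟩] .nil .nil) .nil) (.node 38 [⟨12,(Int.ofNat 1),1⟩] (.node 37 [⟨11,(Int.ofNat 1),1⟩] .nil .nil) .nil))) (.node 46 [⟨23,(Int.ofNat 1),1⟩, ⟨5,(Int.ofNat 1),2⟩] (.node 43 [⟨17,(Int.negSucc 0),1⟩] (.node 41 [⟨15,(Int.negSucc 0),1⟩] (.node 40 [⟨14,(Int.ofNat 1),1⟩] .nil .nil) (.node 42 [⟨16,(Int.ofNat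 1),1⟩] .nil .nil)) (.node 45 [⟨22,(Int.negSucc 0),1⟩, ⟨4,(Int.negSucc 0),2⟩] (.node 44 [⟨18,(Int.negSucc 0),1⟩] .nil .nil) .nil)) (.node 49 [⟨31,(Int.negSucc 0),1⟩, ⟨8,(Int.negSucc 0),2⟩] (.node 48 [⟨0,(Int.negSucc 1),1⟩, ⟨1,(Int.negSucc 2),1⟩, ⟨2,(Int.negSucc 3),1⟩, ⟨3,(Int.negSucc 1),1⟩, ⟨7,(Int.negSucc 0),2⟩] (.node 47 [⟨24,(Int.negSucc 0),1⟩, ⟨6,(Int.negSucc 0),2⟩] .nil .nil) .nil) (.node 51 [⟨33,(Int.negSucc 0),1⟩, ⟨10,(Int.negSucc 0),2⟩] (.node 50 [⟨32,(Int.negSucc 0),1⟩, ⟨9,(Int.ofNat 1),2⟩] .nil .nil) .nil))))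
def col4 : Tr Cl := (.node 37 [⟨12,(Int.ofNat 1),1⟩] (.node 20 [⟨4,(Int.negSucc 0),1⟩] (.node 2 [⟨8,(Int.ofNat 1),1⟩] (.node 1 [⟨8,(Int.negSucc 1),1⟩] (.node 0 [⟨8,(Int.ofNat 2),1⟩] .nil .nil) .nil) (.node 3 [⟨8,(Int.ofNat 0),1⟩] .nil .nil)) (.node 29 [⟨9,(Int.ofNat 1),1⟩] (.node 24 [⟨7,(Int.ofNat 1),1⟩] (.node 21 [⟨5,(Int.negSucc 0),1⟩] .nil .nil) .nil) (.node 30 [⟨10,(Int.negSucc 0),1⟩] .nil .nil))) (.node 46 [⟨26,(Int.negSucc 0),1⟩] (.node 43 [⟨18,(Int.negSucc 0),1⟩] (.node 40 [⟨16,(Int.ofNat 1),1⟩] (.node 39 [⟨15,(Int.negSucc 0),1⟩] .nil .nil) .nil) (.node 45 [⟨25,(Int.ofNat 1),1⟩] .nil .nil)) (.node 50 [⟨34,(Int.ofNat 1),1⟩] (.node 48 [⟨31,(Int.negSucc 0),1⟩] (.node 47 [⟨0,(Int.negSucc 0),1⟩, ⟨1,(Int.negSucc 0),1⟩, ⟨2,(Int.negSucc 1),1⟩, ⟨3,(Int.negSucc 0),1⟩, ⟨8,(Int.negSucc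 0),2⟩] .nil .nil) .nil) (.node 51 [⟨35,(Int.ofNat 1),1⟩] .nil .nil))))
def col5 : Tr Cl := (.node 37 [⟨13,(Int.ofNat 1),1⟩] (.node 19 [⟨4,(Int.ofNat 1),1⟩] (.node 2 [⟨9,(Int.negSucc 0),1⟩] (.node 1 [⟨9,(Int.ofNat 0),1⟩] (.node 0 [⟨9,(Int.ofNat 2),1⟩] .nil .nil) .nil) (.node 3 [⟨9,(Int.ofNat 1),1⟩] .nil .nil)) (.node 26 [⟨8,(Int.ofNat 1),1⟩] (.node 23 [⟨7,(Int.negSucc 0),1⟩] (.node 21 [⟨6,(Int.negSucc 0),1⟩] .nil .nil) .nil) (.node 28 [⟨10,(Int.ofNat 1),1⟩] .nil .nil))) (.node 46 [⟨0,(Int.negSucc 0),1⟩, ⟨1,(Int.negSucc 0),1⟩, ⟨2,(Int.negSucc 0),1⟩, ⟨3,(Int.negSucc 0),1⟩, ⟨9,(Int.negSucc 0),2⟩] (.node 42 [⟨18,(Int.negSucc 0),1⟩] (.node 40 [⟨17,(Int.ofNat 1),1⟩] (.node 38 [⟨15,(Int.negSucc 0),1⟩] .nil .nil) .nil) (.node 45 [⟨27,(Int.negSucc 0),1⟩] .nil .nil)) (.node 49 [⟨34,(Int.ofNat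 1),1⟩] (.node 48 [⟨32,(Int.ofNat 1),1⟩] (.node 47 [⟨29,(Int.negSucc 0),1⟩] .nil .nil) .nil) (.node 51 [⟨36,(Int.negSucc 0),1⟩] .nil .nil))))
def col6 : Tr Cl := (.node 37 [⟨14,(Int.ofNat 1),1⟩] (.node 19 [⟨5,(Int.ofNat 1),1⟩] (.node 2 [⟨10,(Int.ofNat 0),1⟩] (.node 1 [⟨10,(Int.ofNat 0),1⟩] (.node 0 [⟨10,(Int.ofNat 2),1⟩] .nil .nil) .nil) (.node 3 [⟨10,(Int.negSucc 0),1⟩] .nil .nil)) (.node 25 [⟨8,(Int.negSucc 0),1⟩] (.node 22 [⟨7,(Int.ofNat 1),1⟩] (.node 20 [⟨6,(Int.ofNat 1),1⟩] .nil .nil) .nil) (.node 27 [⟨9,(Int.ofNat 1),1⟩] .nil .nil))) (.node 46 [⟨28,(Int.negSucc 0),1⟩] (.node 41 [⟨18,(Int.negSucc 0),1⟩] (.node 39 [⟨17,(Int.ofNat 1),1⟩] (.node 38 [⟨16,(Int.negSucc 0),1⟩] .nil .nil) .nil) (.node 45 [⟨0,(Int.negSucc 0),1⟩, ⟨1,(Int.negSucc 0),1⟩, ⟨2,(Int.negSucc 0),1⟩, ⟨3,(Int.ofNat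 0),1⟩, ⟨10,(Int.negSucc 0),2⟩] .nil .nil)) (.node 49 [⟨35,(Int.negSucc 0),1⟩] (.node 48 [⟨33,(Int.negSucc 0),1⟩] (.node 47 [⟨30,(Int.ofNat 1),1⟩] .nil .nil) .nil) (.node 50 [⟨36,(Int.negSucc 0),1⟩] .nil .nil))))
def col7 : Tr Cl := (.node 35 [⟨16,(Int.negSucc 0),1⟩, ⟨5,(Int.negSucc 0),2⟩] (.node 17 [⟨6,(Int.ofNat 2),1⟩] (.node 3 [⟨11,(Int.ofNat 0),1⟩] (.node 1 [⟨11,(Int.ofNat 1),1⟩] (.node 0 [⟨11,(Int.negSucc 0),1⟩] .nil .nil) (.node 2 [⟨11,(Int.ofNat 0),1⟩] .nil .nil)) (.node 16 [⟨5,(Int.ofNat 2),1⟩] (.node 15 [⟨4,(Int.ofNat 2),1⟩] .nil .nil) .nil)) (.node 32 [⟨13,(Int.negSucc 0),1⟩] (.node 31 [⟨12,(Int.ofNat 1),1⟩] (.node 18 [⟨7,(Int.ofNat 1),1⟩] .nil .nil) .nil) (.node 34 [⟨15,(Int.ofNat 1),1⟩, ⟨4,(Int.ofNat 1),2⟩] (.node 33 [⟨14,(Int.ofNat 1),1⟩] .nil .nil) .nil))) (.node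 43 [⟨24,(Int.negSucc 0),1⟩] (.node 40 [⟨21,(Int.negSucc 1),1⟩] (.node 38 [⟨19,(Int.negSucc 1),1⟩] (.node 36 [⟨17,(Int.ofNat 1),1⟩, ⟨6,(Int.ofNat 1),2⟩] .nil .nil) (.node 39 [⟨20,(Int.ofNat 2),1⟩] .nil .nil)) (.node 42 [⟨23,(Int.ofNat 1),1⟩] (.node 41 [⟨22,(Int.negSucc 0),1⟩] .nil .nil) .nil)) (.node 49 [⟨38,(Int.negSucc 0),1⟩, ⟨19,(Int.ofNat 1),2⟩] (.node 48 [⟨37,(Int.negSucc 0),1⟩] (.node 44 [⟨0,(Int.negSucc 0),1⟩, ⟨1,(Int.negSucc 2),1⟩, ⟨2,(Int.negSucc 3),1⟩, ⟨3,(Int.negSucc 1),1⟩, ⟨11,(Int.negSucc 0),2⟩] .nil .nil) .nil) (.node 51 [⟨40,(Int.negSucc 0),1⟩, ⟨21,(Int.ofNat 1),2⟩] (.node 50 [⟨39,(Int.negSucc 0),1⟩, ⟨20,(Int.negSucc 0),2⟩] .nil .nil) .nil))))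
def col8 : Tr Cl := (.node 33 [⟨16,(Int.negSucc 0),1⟩] (.node 17 [⟨7,(Int.ofNat 1),1⟩] (.node 3 [⟨12,(Int.ofNat 0),1⟩] (.node 1 [⟨12,(Int.negSucc 0),1⟩] (.node 0 [⟨12,(Int.ofNat 0),1⟩] .nil .nil) (.node 2 [⟨12,(Int.ofNat 1),1⟩] .nil .nil)) (.node 14 [⟨5,(Int.negSucc 1),1⟩] (.node 13 [⟨4,(Int.negSucc 1),1⟩] .nil .nil) .nil)) (.node 29 [⟨13,(Int.ofNat 1),1⟩, ⟨4,(Int.negSucc 0),2⟩] (.node 24 [⟨11,(Int.ofNat 1),1⟩] (.node 18 [⟨8,(Int.ofNat 2),1⟩] .nil .nil) .nil) (.node 32 [⟨15,(Int.ofNat 1),1⟩] (.node 30 [⟨14,(Int.negSucc 0),1⟩, ⟨5,(Int.ofNat 1),2⟩] .nil .nil) .nil))) (.node 43 [⟨0,(Int.negSucc 0),1⟩, ⟨1,(Int.negSucc 1),1⟩, ⟨2,(Int.negSucc 3),1⟩, ⟨3,(Int.negSucc 1),1⟩, ⟨12,(Int.negSucc 0),2⟩] (.node 40 [⟨23,(Int.negSucc 0),1⟩] (.node 37 [⟨19,(Int.negSucc 1),1⟩] (.node 36 [⟨18,(Int.ofNat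 1),1⟩, ⟨8,(Int.ofNat 1),2⟩] .nil .nil) (.node 39 [⟨22,(Int.ofNat 1),1⟩] .nil .nil)) (.node 42 [⟨26,(Int.negSucc 1),1⟩] (.node 41 [⟨25,(Int.ofNat 2),1⟩] .nil .nil) .nil)) (.node 48 [⟨38,(Int.negSucc 0),1⟩] (.node 47 [⟨37,(Int.negSucc 0),1⟩, ⟨19,(Int.ofNat 1),2⟩] (.node 44 [⟨31,(Int.negSucc 0),1⟩] .nil .nil) .nil) (.node 51 [⟨42,(Int.ofNat 1),1⟩, ⟨26,(Int.negSucc 0),2⟩] (.node 50 [⟨41,(Int.ofNat 1),1⟩, ⟨25,(Int.ofNat 1),2⟩] .nil .nil) .nil))))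
def col9 : Tr Cl := (.node 33 [⟨17,(Int.negSucc 0),1⟩] (.node 16 [⟨7,(Int.negSucc 0),1⟩] (.node 3 [⟨13,(Int.ofNat 1),1⟩] (.node 1 [⟨13,(Int.ofNat 1),1⟩] (.node 0 [⟨13,(Int.ofNat 0),1⟩] .nil .nil) (.node 2 [⟨13,(Int.negSucc 0),1⟩] .nil .nil)) (.node 14 [⟨6,(Int.negSucc 1),1⟩] (.node 12 [⟨4,(Int.ofNat 2),1⟩] .nil .nil) .nil)) (.node 26 [⟨12,(Int.ofNat 1),1⟩, ⟨4,(Int.ofNat 1),2⟩] (.node 23 [⟨11,(Int.negSucc 0),1⟩] (.node 18 [⟨9,(Int.ofNat 2),1⟩] .nil .nil) .nil) (.node 31 [⟨15,(Int.ofNat 1),1⟩] (.node 28 [⟨14,(Int.ofNat 1),1⟩, ⟨6,(Int.negSucc 0),2⟩] .nil .nil) .nil))) (.node 43 [⟨29,(Int.negSucc 1),1⟩] (.node 40 [⟨24,(Int.negSucc 0),1⟩] (.node 37 [⟨20,(Int.negSucc 1),1⟩] (.node 35 [⟨18,(Int.ofNat 1),1⟩, ⟨9,(Int.ofNat 1),2⟩] .nil .nil) (.node 38 [⟨22,(Int.ofNat 1),1⟩] .nil .nil))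 (.node 42 [⟨0,(Int.negSucc 0),1⟩, ⟨1,(Int.negSucc 1),1⟩, ⟨2,(Int.negSucc 1),1⟩, ⟨3,(Int.negSucc 1),1⟩, ⟨13,(Int.negSucc 0),2⟩] (.node 41 [⟨27,(Int.negSucc 1),1⟩] .nil .nil) .nil)) (.node 48 [⟨39,(Int.ofNat 1),1⟩] (.node 46 [⟨37,(Int.negSucc 0),1⟩, ⟨20,(Int.ofNat 1),2⟩] (.node 44 [⟨32,(Int.ofNat 1),1⟩] .nil .nil) .nil) (.node 51 [⟨43,(Int.negSucc 0),1⟩, ⟨29,(Int.ofNat 1),2⟩] (.node 49 [⟨41,(Int.ofNat 1),1⟩, ⟨27,(Int.negSucc 0),2⟩] .nil .nil) .nil))))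
def col10 : Tr Cl := (.node 32 [⟨17,(Int.negSucc 0),1⟩] (.node 15 [⟨7,(Int.ofNat 1),1⟩] (.node 3 [⟨14,(Int.negSucc 0),1⟩] (.node 1 [⟨14,(Int.ofNat 1),1⟩] (.node 0 [⟨14,(Int.ofNat 0),1⟩] .nil .nil) (.node 2 [⟨14,(Int.ofNat 0),1⟩] .nil .nil)) (.node 13 [⟨6,(Int.ofNat 2),1⟩] (.node 12 [⟨5,(Int.ofNat 2),1⟩] .nil .nil) .nil)) (.node 25 [⟨12,(Int.negSucc 0),1⟩, ⟨5,(Int.negSucc 0),2⟩] (.node 22 [⟨11,(Int.ofNat 1),1⟩] (.node 18 [⟨10,(Int.ofNat 2),1⟩] .nil .nil) .nil) (.node 31 [⟨16,(Int.ofNat 1),1⟩] (.node 27 [⟨13,(Int.ofNat 1),1⟩, ⟨6,(Int.ofNat 1),2⟩] .nil .nil) .nil))) (.node 43 [⟨30,(Int.ofNat 2),1⟩] (.node 39 [⟨24,(Int.negSucc 0),1⟩] (.node 37 [⟨21,(Int.negSucc 1),1⟩] (.node 34 [⟨18,(Int.ofNat 1),1⟩, ⟨10,(Int.ofNat 1),2⟩] .nil .nil) (.node 38 [⟨23,(Int.ofNat 1),1⟩] .nil .nil))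 (.node 42 [⟨28,(Int.negSucc 1),1⟩] (.node 41 [⟨0,(Int.negSucc 0),1⟩, ⟨1,(Int.negSucc 1),1⟩, ⟨2,(Int.negSucc 1),1⟩, ⟨3,(Int.ofNat 0),1⟩, ⟨14,(Int.negSucc 0),2⟩] .nil .nil) .nil)) (.node 48 [⟨40,(Int.negSucc 0),1⟩] (.node 45 [⟨37,(Int.negSucc 0),1⟩, ⟨21,(Int.ofNat 1),2⟩] (.node 44 [⟨33,(Int.negSucc 0),1⟩] .nil .nil) .nil) (.node 50 [⟨43,(Int.negSucc 0),1⟩, ⟨30,(Int.negSucc 0),2⟩] (.node 49 [⟨42,(Int.negSucc 0),1⟩, ⟨28,(Int.ofNat 1),2⟩] .nil .nil) .nil))))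
def col11 : Tr Cl := (.node 30 [⟨17,(Int.ofNat 1),1⟩, ⟨9,(Int.negSucc 0),2⟩] (.node 16 [⟨8,(Int.negSucc 1),1⟩] (.node 3 [⟨15,(Int.ofNat 1),1⟩] (.node 1 [⟨15,(Int.negSucc 0),1⟩] (.node 0 [⟨15,(Int.ofNat 1),1⟩] .nil .nil) (.node 2 [⟨15,(Int.ofNat 0),1⟩] .nil .nil)) (.node 14 [⟨7,(Int.negSucc 0),1⟩] (.node 11 [⟨4,(Int.negSucc 1),1⟩] .nil .nil) .nil)) (.node 23 [⟨12,(Int.ofNat 1),1⟩] (.node 21 [⟨11,(Int.ofNat 1),1⟩, ⟨4,(Int.negSucc 0),2⟩] (.node 17 [⟨9,(Int.negSucc 1),1⟩] .nil .nil) .nil) (.node 28 [⟨16,(Int.ofNat 1),1⟩, ⟨8,(Int.negSucc 0),2⟩] (.node 24 [⟨13,(Int.ofNat 1),1⟩] .nil .nil) .nil))) (.node 43 [⟨32,(Int.negSucc 0),1⟩] (.node 39 [⟨27,(Int.negSucc 1),1⟩] (.node 37 [⟨22,(Int.negSucc 0),1⟩] (.node 33 [⟨18,(Int.ofNat 1),1⟩] .nil .nil) (.node 38 [⟨25,(Int.negSucc 1),1⟩] .nil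 .nil)) (.node 42 [⟨31,(Int.negSucc 0),1⟩] (.node 40 [⟨0,(Int.negSucc 0),1⟩, ⟨1,(Int.negSucc 0),1⟩, ⟨2,(Int.negSucc 1),1⟩, ⟨3,(Int.negSucc 1),1⟩, ⟨15,(Int.negSucc 0),2⟩] .nil .nil) .nil)) (.node 47 [⟨39,(Int.ofNat 1),1⟩, ⟨27,(Int.negSucc 0),2⟩] (.node 46 [⟨38,(Int.ofNat 1),1⟩, ⟨25,(Int.negSucc 0),2⟩] (.node 44 [⟨34,(Int.negSucc 1),1⟩] .nil .nil) .nil) (.node 51 [⟨44,(Int.ofNat 1),1⟩, ⟨34,(Int.negSucc 0),2⟩] (.node 48 [⟨41,(Int.ofNat 1),1⟩] .nil .nil) .nil))))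
def col12 : Tr Cl := (.node 29 [⟨17,(Int.ofNat 1),1⟩, ⟨10,(Int.negSucc 0),2⟩] (.node 15 [⟨8,(Int.ofNat 2),1⟩] (.node 3 [⟨16,(Int.negSucc 0),1⟩] (.node 1 [⟨16,(Int.negSucc 0),1⟩] (.node 0 [⟨16,(Int.ofNat 1),1⟩] .nil .nil) (.node 2 [⟨16,(Int.ofNat 1),1⟩] .nil .nil)) (.node 13 [⟨7,(Int.ofNat 1),1⟩] (.node 11 [⟨5,(Int.negSucc 1),1⟩] .nil .nil) .nil)) (.node 22 [⟨12,(Int.negSucc 0),1⟩] (.node 20 [⟨11,(Int.negSucc 0),1⟩, ⟨5,(Int.ofNat 1),2⟩] (.node 17 [⟨10,(Int.negSucc 1),1⟩] .nil .nil) .nil) (.node 27 [⟨15,(Int.ofNat 1),1⟩, ⟨8,(Int.ofNat 1),2⟩] (.node 24 [⟨14,(Int.ofNat 1),1⟩] .nil .nil) .nil))) (.node 43 [⟨33,(Int.ofNat 1),1⟩] (.node 39 [⟨0,(Int.negSucc 0),1⟩, ⟨1,(Int.negSucc 0),1⟩, ⟨2,(Int.negSucc 1),1⟩, ⟨3,(Int.ofNat 0),1⟩, ⟨16,(Int.negSucc 0),2⟩] (.node 37 [⟨23,(Int.negSucc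 0),1⟩] (.node 32 [⟨18,(Int.ofNat 1),1⟩] .nil .nil) (.node 38 [⟨26,(Int.negSucc 1),1⟩] .nil .nil)) (.node 41 [⟨31,(Int.negSucc 0),1⟩] (.node 40 [⟨28,(Int.negSucc 1),1⟩] .nil .nil) .nil)) (.node 47 [⟨40,(Int.negSucc 0),1⟩, ⟨28,(Int.ofNat 1),2⟩] (.node 45 [⟨38,(Int.ofNat 1),1⟩, ⟨26,(Int.negSucc 0),2⟩] (.node 44 [⟨35,(Int.ofNat 2),1⟩] .nil .nil) .nil) (.node 50 [⟨44,(Int.ofNat 1),1⟩, ⟨35,(Int.ofNat 1),2⟩] (.node 48 [⟨42,(Int.negSucc 0),1⟩] .nil .nil) .nil))))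
def col13 : Tr Cl := (.node 26 [⟨16,(Int.ofNat 1),1⟩, ⟨10,(Int.ofNat 1),2⟩] (.node 15 [⟨9,(Int.ofNat 2),1⟩] (.node 3 [⟨17,(Int.ofNat 0),1⟩] (.node 1 [⟨17,(Int.ofNat 1),1⟩] (.node 0 [⟨17,(Int.ofNat 1),1⟩] .nil .nil) (.node 2 [⟨17,(Int.negSucc 0),1⟩] .nil .nil)) (.node 12 [⟨7,(Int.negSucc 0),1⟩] (.node 11 [⟨6,(Int.negSucc 1),1⟩] .nil .nil) .nil)) (.node 22 [⟨13,(Int.negSucc 0),1⟩] (.node 19 [⟨11,(Int.ofNat 1),1⟩, ⟨6,(Int.negSucc 0),2⟩] (.node 16 [⟨10,(Int.ofNat 2),1⟩] .nil .nil) .nil) (.node 25 [⟨15,(Int.ofNat 1),1⟩, ⟨9,(Int.ofNat 1),2⟩] (.node 23 [⟨14,(Int.negSucc 0),1⟩] .nil .nil) .nil))) (.node 42 [⟨33,(Int.ofNat 1),1⟩] (.node 39 [⟨29,(Int.negSucc 1),1⟩] (.node 37 [⟨24,(Int.negSucc 0),1⟩] (.node 31 [⟨18,(Int.ofNat 1),1⟩] .nil .nil) (.node 38 [⟨0,(Int.negSucc 0),1⟩, ⟨1,(Int.negSucc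 0),1⟩, ⟨2,(Int.ofNat 0),1⟩, ⟨3,(Int.ofNat 0),1⟩, ⟨17,(Int.negSucc 0),2⟩] .nil .nil)) (.node 41 [⟨32,(Int.ofNat 1),1⟩] (.node 40 [⟨30,(Int.negSucc 1),1⟩] .nil .nil) .nil)) (.node 46 [⟨40,(Int.negSucc 0),1⟩, ⟨30,(Int.ofNat 1),2⟩] (.node 45 [⟨39,(Int.negSucc 0),1⟩, ⟨29,(Int.ofNat 1),2⟩] (.node 44 [⟨36,(Int.negSucc 1),1⟩] .nil .nil) .nil) (.node 49 [⟨44,(Int.ofNat 1),1⟩, ⟨36,(Int.negSucc 0),2⟩] (.node 48 [⟨43,(Int.ofNat 1),1⟩] .nil .nil) .nil))))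
def col14 : Tr Cl := (.node 23 [⟨16,(Int.ofNat 1),1⟩] (.node 13 [⟨9,(Int.negSucc 1),1⟩] (.node 3 [⟨18,(Int.ofNat 0),1⟩] (.node 1 [⟨18,(Int.negSucc 0),1⟩] (.node 0 [⟨18,(Int.ofNat 2),1⟩] .nil .nil) (.node 2 [⟨18,(Int.ofNat 0),1⟩] .nil .nil)) (.node 12 [⟨8,(Int.negSucc 1),1⟩] (.node 11 [⟨7,(Int.negSucc 0),1⟩] .nil .nil) .nil)) (.node 20 [⟨13,(Int.ofNat 1),1⟩, ⟨9,(Int.negSucc 0),2⟩] (.node 19 [⟨12,(Int.ofNat 1),1⟩, ⟨8,(Int.negSucc 0),2⟩] (.node 14 [⟨10,(Int.negSucc 1),1⟩] .nil .nil) .nil) (.node 22 [⟨15,(Int.ofNat 1),1⟩] (.node 21 [⟨14,(Int.ofNat 1),1⟩, ⟨10,(Int.negSucc 0),2⟩] .nil .nil) .nil))) (.node 42 [⟨35,(Int.negSucc 1),1⟩] (.node 39 [⟨32,(Int.negSucc 0),1⟩] (.node 37 [⟨0,(Int.negSucc 0),1⟩, ⟨1,(Int.ofNat 0),1⟩, ⟨2,(Int.ofNat 0),1⟩, ⟨3,(Int.ofNat 0),1⟩, ⟨18,(Int.negSucc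 0),2⟩] (.node 24 [⟨17,(Int.ofNat 1),1⟩] .nil .nil) (.node 38 [⟨31,(Int.negSucc 0),1⟩] .nil .nil)) (.node 41 [⟨34,(Int.negSucc 1),1⟩] (.node 40 [⟨33,(Int.negSucc 0),1⟩] .nil .nil) .nil)) (.node 46 [⟨42,(Int.ofNat 1),1⟩, ⟨35,(Int.negSucc 0),2⟩] (.node 45 [⟨41,(Int.ofNat 1),1⟩, ⟨34,(Int.negSucc 0),2⟩] (.node 43 [⟨36,(Int.negSucc 1),1⟩] .nil .nil) .nil) (.node 48 [⟨44,(Int.ofNat 1),1⟩] (.node 47 [⟨43,(Int.ofNat 1),1⟩, ⟨36,(Int.negSucc 0),2⟩] .nil .nil) .nil))))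
def col15 : Tr Cl := (.node 30 [⟨21,(Int.negSucc 0),1⟩] (.node 9 [⟨4,(Int.negSucc 0),1⟩] (.node 2 [⟨19,(Int.ofNat 1),1⟩] (.node 1 [⟨19,(Int.ofNat 0),1⟩] (.node 0 [⟨19,(Int.negSucc 1),1⟩] .nil .nil) .nil) (.node 3 [⟨19,(Int.ofNat 0),1⟩] .nil .nil)) (.node 18 [⟨12,(Int.negSucc 0),1⟩] (.node 17 [⟨11,(Int.negSucc 0),1⟩] (.node 10 [⟨5,(Int.negSucc 0),1⟩] .nil .nil) .nil) (.node 29 [⟨20,(Int.ofNat 1),1⟩] .nil .nil))) (.node 36 [⟨0,(Int.ofNat 0),1⟩, ⟨1,(Int.negSucc 0),1⟩, ⟨2,(Int.negSucc 1),1⟩, ⟨3,(Int.negSucc 0),1⟩, ⟨19,(Int.negSucc 0),2⟩] (.node 34 [⟨25,(Int.ofNat 1),1⟩] (.node 33 [⟨23,(Int.negSucc 0),1⟩] (.node 32 [⟨22,(Int.ofNat 1),1⟩] .nil .nil) .nil) (.node 35 [⟨26,(Int.negSucc 0),1⟩] .nil .nil)) (.node 50 [⟨45,(Int.ofNat 1),1⟩] (.node 44 [⟨38,(Int.ofNat 1),1⟩] (.node 43 [⟨37,(Int.ofNat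 1),1⟩] .nil .nil) .nil) (.node 51 [⟨46,(Int.ofNat 1),1⟩] .nil .nil))))
def col16 : Tr Cl := (.node 28 [⟨21,(Int.ofNat 1),1⟩] (.node 8 [⟨4,(Int.ofNat 1),1⟩] (.node 2 [⟨20,(Int.negSucc 0),1⟩] (.node 1 [⟨20,(Int.ofNat 2),1⟩] (.node 0 [⟨20,(Int.negSucc 1),1⟩] .nil .nil) .nil) (.node 3 [⟨20,(Int.ofNat 1),1⟩] .nil .nil)) (.node 18 [⟨13,(Int.negSucc 0),1⟩] (.node 16 [⟨11,(Int.ofNat 1),1⟩] (.node 10 [⟨6,(Int.negSucc 0),1⟩] .nil .nil) .nil) (.node 26 [⟨19,(Int.ofNat 1),1⟩] .nil .nil))) (.node 36 [⟨29,(Int.negSucc 0),1⟩] (.node 34 [⟨27,(Int.negSucc 0),1⟩] (.node 33 [⟨24,(Int.negSucc 0),1⟩] (.node 31 [⟨22,(Int.ofNat 1),1⟩] .nil .nil) .nil) (.node 35 [⟨0,(Int.ofNat 0),1⟩, ⟨1,(Int.negSucc 0),1⟩, ⟨2,(Int.negSucc 0),1⟩, ⟨3,(Int.negSucc 0),1⟩, ⟨20,(Int.negSucc 0),2⟩] .nil .nil)) (.node 49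 [⟨45,(Int.ofNat 1),1⟩] (.node 44 [⟨39,(Int.negSucc 0),1⟩] (.node 42 [⟨37,(Int.ofNat 1),1⟩] .nil .nil) .nil) (.node 51 [⟨47,(Int.negSucc 0),1⟩] .nil .nil))))
def col17 : Tr Cl := (.node 27 [⟨20,(Int.ofNat 1),1⟩] (.node 8 [⟨5,(Int.ofNat 1),1⟩] (.node 2 [⟨21,(Int.ofNat 0),1⟩] (.node 1 [⟨21,(Int.ofNat 2),1⟩] (.node 0 [⟨21,(Int.negSucc 1),1⟩] .nil .nil) .nil) (.node 3 [⟨21,(Int.negSucc 0),1⟩] .nil .nil)) (.node 18 [⟨14,(Int.negSucc 0),1⟩] (.node 15 [⟨11,(Int.negSucc 0),1⟩] (.node 9 [⟨6,(Int.ofNat 1),1⟩] .nil .nil) .nil) (.node 25 [⟨19,(Int.negSucc 0),1⟩] .nil .nil))) (.node 36 [⟨30,(Int.ofNat 1),1⟩] (.node 34 [⟨0,(Int.ofNat 0),1⟩, ⟨1,(Int.negSucc 0),1⟩, ⟨2,(Int.negSucc 0),1⟩, ⟨3,(Int.ofNat 0),1⟩, ⟨21,(Int.negSucc 0),2⟩] (.node 32 [⟨24,(Int.negSucc 0),1⟩] (.node 31 [⟨23,(Int.ofNat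 1),1⟩] .nil .nil) .nil) (.node 35 [⟨28,(Int.negSucc 0),1⟩] .nil .nil)) (.node 49 [⟨46,(Int.negSucc 0),1⟩] (.node 44 [⟨40,(Int.ofNat 1),1⟩] (.node 41 [⟨37,(Int.ofNat 1),1⟩] .nil .nil) .nil) (.node 50 [⟨47,(Int.negSucc 0),1⟩] .nil .nil))))
def col18 : Tr Cl := (.node 28 [⟨23,(Int.ofNat 1),1⟩, ⟨19,(Int.ofNat 1),2⟩] (.node 14 [⟨11,(Int.negSucc 0),1⟩] (.node 3 [⟨22,(Int.ofNat 1),1⟩] (.node 1 [⟨22,(Int.ofNat 0),1⟩] (.node 0 [⟨22,(Int.negSucc 0),1⟩] .nil .nil) (.node 2 [⟨22,(Int.ofNat 0),1⟩] .nil .nil)) (.node 10 [⟨7,(Int.negSucc 0),1⟩, ⟨4,(Int.ofNat 1),2⟩] (.node 7 [⟨4,(Int.negSucc 1),1⟩] .nil .nil) .nil)) (.node 18 [⟨15,(Int.negSucc 0),1⟩] (.node 17 [⟨13,(Int.ofNat 1),1⟩] (.node 16 [⟨12,(Int.ofNat 1),1⟩] .nil .nil) .nil) (.node 24 [⟨20,(Int.ofNat 2),1⟩] (.node 23 [⟨19,(Int.ofNat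 2),1⟩] .nil .nil) .nil))) (.node 40 [⟨37,(Int.ofNat 1),1⟩] (.node 33 [⟨0,(Int.ofNat 0),1⟩, ⟨1,(Int.negSucc 0),1⟩, ⟨2,(Int.negSucc 1),1⟩, ⟨3,(Int.negSucc 1),1⟩, ⟨22,(Int.negSucc 0),2⟩] (.node 31 [⟨25,(Int.negSucc 1),1⟩] (.node 30 [⟨24,(Int.ofNat 1),1⟩, ⟨20,(Int.ofNat 1),2⟩] .nil .nil) (.node 32 [⟨27,(Int.negSucc 1),1⟩] .nil .nil)) (.node 36 [⟨32,(Int.negSucc 0),1⟩, ⟨27,(Int.ofNat 1),2⟩] (.node 35 [⟨31,(Int.negSucc 0),1⟩, ⟨25,(Int.ofNat 1),2⟩] .nil .nil) .nil)) (.node 44 [⟨41,(Int.ofNat 1),1⟩] (.node 43 [⟨39,(Int.negSucc 0),1⟩] (.node 42 [⟨38,(Int.negSucc 0),1⟩] .nil .nil) .nil) (.node 51 [⟨48,(Int.ofNat 1),1⟩, ⟨45,(Int.ofNat 1),2⟩] (.node 48 [⟨45,(Int.ofNat 2),1⟩] .nil .nil) .nil))))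
def col19 : Tr Cl := (.node 27 [⟨22,(Int.ofNat 1),1⟩, ⟨19,(Int.negSucc 0),2⟩] (.node 13 [⟨11,(Int.ofNat 1),1⟩] (.node 3 [⟨23,(Int.negSucc 0),1⟩] (.node 1 [⟨23,(Int.ofNat 0),1⟩] (.node 0 [⟨23,(Int.negSucc 0),1⟩] .nil .nil) (.node 2 [⟨23,(Int.ofNat 1),1⟩] .nil .nil)) (.node 9 [⟨7,(Int.ofNat 1),1⟩, ⟨5,(Int.negSucc 0),2⟩] (.node 7 [⟨5,(Int.negSucc 1),1⟩] .nil .nil) .nil)) (.node 18 [⟨16,(Int.negSucc 0),1⟩] (.node 17 [⟨14,(Int.ofNat 1),1⟩] (.node 15 [⟨12,(Int.negSucc 0),1⟩] .nil .nil) .nil) (.node 24 [⟨21,(Int.ofNat 2),1⟩] (.node 22 [⟨19,(Int.negSucc 1),1⟩] .nil .nil) .nil))) (.node 39 [⟨37,(Int.ofNat 1),1⟩] (.node 33 [⟨28,(Int.negSucc 1),1⟩] (.node 31 [⟨26,(Int.negSucc 1),1⟩] (.node 29 [⟨24,(Int.ofNat 1),1⟩, ⟨21,(Int.ofNat 1),2⟩] .nil .nil) (.node 32 [⟨0,(Int.ofNat 0),1⟩, ⟨1,(Int.negSucc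 0),1⟩, ⟨2,(Int.negSucc 1),1⟩, ⟨3,(Int.ofNat 0),1⟩, ⟨23,(Int.negSucc 0),2⟩] .nil .nil)) (.node 36 [⟨33,(Int.ofNat 1),1⟩, ⟨28,(Int.negSucc 0),2⟩] (.node 34 [⟨31,(Int.negSucc 0),1⟩, ⟨26,(Int.ofNat 1),2⟩] .nil .nil) .nil)) (.node 44 [⟨42,(Int.negSucc 0),1⟩] (.node 43 [⟨40,(Int.ofNat 1),1⟩] (.node 41 [⟨38,(Int.negSucc 0),1⟩] .nil .nil) .nil) (.node 50 [⟨48,(Int.ofNat 1),1⟩, ⟨46,(Int.negSucc 0),2⟩] (.node 48 [⟨46,(Int.negSucc 1),1⟩] .nil .nil) .nil))))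
def col20 : Tr Cl := (.node 25 [⟨22,(Int.ofNat 1),1⟩, ⟨20,(Int.negSucc 0),2⟩] (.node 12 [⟨11,(Int.negSucc 0),1⟩] (.node 3 [⟨24,(Int.ofNat 0),1⟩] (.node 1 [⟨24,(Int.ofNat 2),1⟩] (.node 0 [⟨24,(Int.negSucc 0),1⟩] .nil .nil) (.node 2 [⟨24,(Int.negSucc 0),1⟩] .nil .nil)) (.node 8 [⟨7,(Int.negSucc 0),1⟩, ⟨6,(Int.ofNat 1),2⟩] (.node 7 [⟨6,(Int.negSucc 1),1⟩] .nil .nil) .nil)) (.node 18 [⟨17,(Int.negSucc 0),1⟩] (.node 16 [⟨14,(Int.negSucc 0),1⟩] (.node 15 [⟨13,(Int.negSucc 0),1⟩] .nil .nil) .nil) (.node 23 [⟨21,(Int.negSucc 1),1⟩] (.node 22 [⟨20,(Int.negSucc 1),1⟩] .nil .nil) .nil))) (.node 38 [⟨37,(Int.ofNat 1),1⟩] (.node 33 [⟨30,(Int.negSucc 1),1⟩] (.node 31 [⟨0,(Int.ofNat 0),1⟩, ⟨1,(Int.negSucc 0),1⟩, ⟨2,(Int.ofNat 0),1⟩, ⟨3,(Int.ofNat 0),1⟩, ⟨24,(Int.negSucc 0),2⟩] (.node 26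 [⟨23,(Int.ofNat 1),1⟩, ⟨21,(Int.negSucc 0),2⟩] .nil .nil) (.node 32 [⟨29,(Int.negSucc 1),1⟩] .nil .nil)) (.node 35 [⟨33,(Int.ofNat 1),1⟩, ⟨30,(Int.negSucc 0),2⟩] (.node 34 [⟨32,(Int.ofNat 1),1⟩, ⟨29,(Int.negSucc 0),2⟩] .nil .nil) .nil)) (.node 44 [⟨43,(Int.ofNat 1),1⟩] (.node 42 [⟨40,(Int.ofNat 1),1⟩] (.node 41 [⟨39,(Int.ofNat 1),1⟩] .nil .nil) .nil) (.node 49 [⟨48,(Int.ofNat 1),1⟩, ⟨47,(Int.ofNat 1),2⟩] (.node 48 [⟨47,(Int.ofNat 2),1⟩] .nil .nil) .nil))))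
def col21 : Tr Cl := (.node 24 [⟨22,(Int.negSucc 0),1⟩] (.node 6 [⟨4,(Int.negSucc 0),1⟩] (.node 2 [⟨25,(Int.ofNat 1),1⟩] (.node 1 [⟨25,(Int.negSucc 1),1⟩] (.node 0 [⟨25,(Int.ofNat 0),1⟩] .nil .nil) .nil) (.node 3 [⟨25,(Int.ofNat 1),1⟩] .nil .nil)) (.node 17 [⟨15,(Int.negSucc 0),1⟩] (.node 14 [⟨12,(Int.ofNat 1),1⟩] (.node 10 [⟨8,(Int.ofNat 1),1⟩] .nil .nil) .nil) (.node 21 [⟨19,(Int.ofNat 1),1⟩] .nil .nil))) (.node 36 [⟨34,(Int.negSucc 0),1⟩] (.node 30 [⟨0,(Int.ofNat 0),1⟩, ⟨1,(Int.ofNat 0),1⟩, ⟨2,(Int.negSucc 0),1⟩, ⟨3,(Int.negSucc 0),1⟩, ⟨25,(Int.negSucc 0),2⟩] (.node 29 [⟨27,(Int.negSucc 0),1⟩] (.node 28 [⟨26,(Int.ofNat 1),1⟩] .nil .nil) .nil) (.node 33 [⟨31,(Int.ofNat 1),1⟩] .nil .nil)) (.node 47 [⟨45,(Int.negSucc 0),1⟩] (.node 43 [⟨41,(Int.negSucc 0),1⟩] (.node 40 [⟨38,(Int.ofNat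 1),1⟩] .nil .nil) .nil) (.node 51 [⟨49,(Int.ofNat 1),1⟩] .nil .nil))))
def col22 : Tr Cl := (.node 24 [⟨23,(Int.negSucc 0),1⟩] (.node 6 [⟨5,(Int.negSucc 0),1⟩] (.node 2 [⟨26,(Int.ofNat 2),1⟩] (.node 1 [⟨26,(Int.negSucc 1),1⟩] (.node 0 [⟨26,(Int.ofNat 0),1⟩] .nil .nil) .nil) (.node 3 [⟨26,(Int.negSucc 0),1⟩] .nil .nil)) (.node 17 [⟨16,(Int.negSucc 0),1⟩] (.node 13 [⟨12,(Int.negSucc 0),1⟩] (.node 9 [⟨8,(Int.negSucc 0),1⟩] .nil .nil) .nil) (.node 20 [⟨19,(Int.negSucc 0),1⟩] .nil .nil))) (.node 36 [⟨35,(Int.ofNat 1),1⟩] (.node 30 [⟨28,(Int.negSucc 0),1⟩] (.node 29 [⟨0,(Int.ofNat 0),1⟩, ⟨1,(Int.ofNat 0),1⟩, ⟨2,(Int.negSucc 0),1⟩, ⟨3,(Int.ofNat 0),1⟩, ⟨26,(Int.negSucc 0),2⟩] (.node 27 [⟨25,(Int.ofNat 1),1⟩] .nil .nil) .nil) (.node 32 [⟨31,(Int.ofNat 1),1⟩] .nil .nil)) (.node 47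 [⟨46,(Int.ofNat 1),1⟩] (.node 43 [⟨42,(Int.ofNat 1),1⟩] (.node 39 [⟨38,(Int.ofNat 1),1⟩] .nil .nil) .nil) (.node 50 [⟨49,(Int.ofNat 1),1⟩] .nil .nil))))
def col23 : Tr Cl := (.node 23 [⟨22,(Int.negSucc 0),1⟩] (.node 5 [⟨4,(Int.negSucc 0),1⟩] (.node 2 [⟨27,(Int.negSucc 0),1⟩] (.node 1 [⟨27,(Int.ofNat 0),1⟩] (.node 0 [⟨27,(Int.ofNat 0),1⟩] .nil .nil) .nil) (.node 3 [⟨27,(Int.ofNat 2),1⟩] .nil .nil)) (.node 16 [⟨15,(Int.negSucc 0),1⟩] (.node 14 [⟨13,(Int.negSucc 0),1⟩] (.node 10 [⟨9,(Int.negSucc 0),1⟩] .nil .nil) .nil) (.node 21 [⟨20,(Int.negSucc 0),1⟩] .nil .nil))) (.node 35 [⟨34,(Int.ofNat 1),1⟩] (.node 30 [⟨29,(Int.ofNat 1),1⟩] (.node 28 [⟨0,(Int.ofNat 0),1⟩, ⟨1,(Int.ofNat 0),1⟩, ⟨2,(Int.ofNat 0),1⟩, ⟨3,(Int.negSucc 0),1⟩, ⟨27,(Int.negSucc 0),2⟩] (.node 26 [⟨25,(Int.negSucc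 0),1⟩] .nil .nil) .nil) (.node 33 [⟨32,(Int.ofNat 1),1⟩] .nil .nil)) (.node 46 [⟨45,(Int.ofNat 1),1⟩] (.node 42 [⟨41,(Int.ofNat 1),1⟩] (.node 40 [⟨39,(Int.ofNat 1),1⟩] .nil .nil) .nil) (.node 51 [⟨50,(Int.ofNat 1),1⟩] .nil .nil))))
def col24 : Tr Cl := (.node 22 [⟨23,(Int.negSucc 0),1⟩] (.node 4 [⟨5,(Int.negSucc 0),1⟩] (.node 2 [⟨28,(Int.ofNat 1),1⟩] (.node 1 [⟨28,(Int.ofNat 0),1⟩] (.node 0 [⟨28,(Int.ofNat 0),1⟩] .nil .nil) .nil) (.node 3 [⟨28,(Int.negSucc 1),1⟩] .nil .nil)) (.node 15 [⟨16,(Int.negSucc 0),1⟩] (.node 13 [⟨14,(Int.negSucc 0),1⟩] (.node 9 [⟨10,(Int.negSucc 0),1⟩] .nil .nil) .nil) (.node 20 [⟨21,(Int.negSucc 0),1⟩] .nil .nil))) (.node 34 [⟨35,(Int.ofNat 1),1⟩] (.node 29 [⟨30,(Int.ofNat 1),1⟩] (.node 27 [⟨0,(Int.ofNat 0),1⟩, ⟨1,(Int.ofNat 0),1⟩, ⟨2,(Int.ofNat 0),1⟩,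 ⟨3,(Int.ofNat 1),1⟩, ⟨28,(Int.negSucc 0),2⟩] (.node 25 [⟨26,(Int.negSucc 0),1⟩] .nil .nil) .nil) (.node 32 [⟨33,(Int.ofNat 1),1⟩] .nil .nil)) (.node 45 [⟨46,(Int.ofNat 1),1⟩] (.node 41 [⟨42,(Int.ofNat 1),1⟩] (.node 39 [⟨40,(Int.ofNat 1),1⟩] .nil .nil) .nil) (.node 50 [⟨51,(Int.ofNat 1),1⟩] .nil .nil))))
def col25 : Tr Cl := (.node 23 [⟨24,(Int.negSucc 0),1⟩] (.node 5 [⟨6,(Int.negSucc 0),1⟩] (.node 2 [⟨29,(Int.negSucc 1),1⟩] (.node 1 [⟨29,(Int.ofNat 2),1⟩] (.node 0 [⟨29,(Int.ofNat 0),1⟩] .nil .nil) .nil) (.node 3 [⟨29,(Int.ofNat 1),1⟩] .nil .nil)) (.node 16 [⟨17,(Int.negSucc 0),1⟩] (.node 12 [⟨13,(Int.negSucc 0),1⟩] (.node 8 [⟨9,(Int.negSucc 0),1⟩] .nil .nil) .nil) (.node 19 [⟨20,(Int.negSucc 0),1⟩] .nil .nil))) (.node 35 [⟨36,(Int.ofNat 1),1⟩] (.node 28 [⟨30,(Int.negSucc 0),1⟩]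 (.node 26 [⟨0,(Int.ofNat 0),1⟩, ⟨1,(Int.ofNat 0),1⟩, ⟨2,(Int.ofNat 1),1⟩, ⟨3,(Int.ofNat 0),1⟩, ⟨29,(Int.negSucc 0),2⟩] (.node 25 [⟨27,(Int.ofNat 1),1⟩] .nil .nil) .nil) (.node 31 [⟨32,(Int.ofNat 1),1⟩] .nil .nil)) (.node 46 [⟨47,(Int.ofNat 1),1⟩] (.node 42 [⟨43,(Int.ofNat 1),1⟩] (.node 38 [⟨39,(Int.ofNat 1),1⟩] .nil .nil) .nil) (.node 49 [⟨50,(Int.ofNat 1),1⟩] .nil .nil))))
def col26 : Tr Cl := (.node 22 [⟨24,(Int.negSucc 0),1⟩] (.node 4 [⟨6,(Int.negSucc 0),1⟩] (.node 2 [⟨30,(Int.negSucc 0),1⟩] (.node 1 [⟨30,(Int.ofNat 2),1⟩] (.node 0 [⟨30,(Int.ofNat 0),1⟩] .nil .nil) .nil) (.node 3 [⟨30,(Int.negSucc 0),1⟩] .nil .nil)) (.node 15 [⟨17,(Int.negSucc 0),1⟩] (.node 12 [⟨14,(Int.ofNat 1),1⟩] (.node 8 [⟨10,(Int.ofNat 1),1⟩] .nil .nil) .nil) (.node 19 [⟨21,(Int.ofNat 1),1⟩] .nil .nil)))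 (.node 34 [⟨36,(Int.negSucc 0),1⟩] (.node 27 [⟨29,(Int.negSucc 0),1⟩] (.node 26 [⟨28,(Int.ofNat 1),1⟩] (.node 25 [⟨0,(Int.ofNat 0),1⟩, ⟨1,(Int.ofNat 0),1⟩, ⟨2,(Int.ofNat 1),1⟩, ⟨3,(Int.ofNat 1),1⟩, ⟨30,(Int.negSucc 0),2⟩] .nil .nil) .nil) (.node 31 [⟨33,(Int.ofNat 1),1⟩] .nil .nil)) (.node 45 [⟨47,(Int.negSucc 0),1⟩] (.node 41 [⟨43,(Int.negSucc 0),1⟩] (.node 38 [⟨40,(Int.ofNat 1),1⟩] .nil .nil) .nil) (.node 49 [⟨51,(Int.ofNat 1),1⟩] .nil .nil))))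
def col27 : Tr Cl := (.node 22 [⟨25,(Int.ofNat 2),1⟩] (.node 11 [⟨12,(Int.negSucc 0),1⟩] (.node 3 [⟨31,(Int.ofNat 0),1⟩] (.node 1 [⟨31,(Int.negSucc 1),1⟩] (.node 0 [⟨31,(Int.ofNat 1),1⟩] .nil .nil) (.node 2 [⟨31,(Int.ofNat 1),1⟩] .nil .nil)) (.node 7 [⟨8,(Int.negSucc 1),1⟩] (.node 6 [⟨7,(Int.negSucc 0),1⟩, ⟨8,(Int.ofNat 1),2⟩] .nil .nil) .nil)) (.node 17 [⟨18,(Int.negSucc 0),1⟩] (.node 14 [⟨16,(Int.negSucc 0),1⟩] (.node 13 [⟨15,(Int.negSucc 0),1⟩] .nil .nil) .nil) (.node 21 [⟨23,(Int.negSucc 0),1⟩, ⟨26,(Int.negSucc 0),2⟩] (.node 20 [⟨22,(Int.negSucc 0),1⟩, ⟨25,(Int.negSucc 0),2⟩] .nil .nil) .nil))) (.node 37 [⟨38,(Int.ofNat 1),1⟩] (.node 30 [⟨33,(Int.negSucc 0),1⟩, ⟨35,(Int.negSucc 0),2⟩] (.node 24 [⟨0,(Int.ofNat 0),1⟩, ⟨1,(Int.ofNat 1),1⟩, ⟨2,(Int.ofNat 0),1⟩, ⟨3,(Int.ofNat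 0),1⟩, ⟨31,(Int.negSucc 0),2⟩] (.node 23 [⟨26,(Int.ofNat 2),1⟩] .nil .nil) (.node 29 [⟨32,(Int.negSucc 0),1⟩, ⟨34,(Int.negSucc 0),2⟩] .nil .nil)) (.node 33 [⟨35,(Int.ofNat 2),1⟩] (.node 32 [⟨34,(Int.ofNat 2),1⟩] .nil .nil) .nil)) (.node 43 [⟨44,(Int.ofNat 1),1⟩] (.node 40 [⟨42,(Int.ofNat 1),1⟩] (.node 39 [⟨41,(Int.ofNat 1),1⟩] .nil .nil) .nil) (.node 48 [⟨49,(Int.ofNat 2),1⟩] (.node 47 [⟨48,(Int.ofNat 1),1⟩, ⟨49,(Int.ofNat 1),2⟩] .nil .nil) .nil))))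
def col28 : Tr Cl := (.node 22 [⟨27,(Int.ofNat 2),1⟩] (.node 11 [⟨13,(Int.ofNat 1),1⟩] (.node 3 [⟨32,(Int.ofNat 1),1⟩] (.node 1 [⟨32,(Int.ofNat 0),1⟩] (.node 0 [⟨32,(Int.ofNat 1),1⟩] .nil .nil) (.node 2 [⟨32,(Int.negSucc 0),1⟩] .nil .nil)) (.node 7 [⟨9,(Int.ofNat 2),1⟩] (.node 5 [⟨7,(Int.negSucc 0),1⟩, ⟨9,(Int.negSucc 0),2⟩] .nil .nil) .nil)) (.node 16 [⟨18,(Int.negSucc 0),1⟩] (.node 14 [⟨17,(Int.ofNat 1),1⟩] (.node 12 [⟨15,(Int.negSucc 0),1⟩] .nil .nil) .nil) (.node 21 [⟨24,(Int.ofNat 1),1⟩, ⟨29,(Int.ofNat 1),2⟩] (.node 19 [⟨22,(Int.negSucc 0),1⟩, ⟨27,(Int.negSucc 0),2⟩] .nil .nil) .nil))) (.node 37 [⟨39,(Int.ofNat 1),1⟩] (.node 28 [⟨33,(Int.negSucc 0),1⟩, ⟨36,(Int.negSucc 0),2⟩] (.node 24 [⟨29,(Int.ofNat 2),1⟩] (.node 23 [⟨0,(Int.ofNat 0),1⟩, ⟨1,(Int.ofNat 1),1⟩, ⟨2,(Int.ofNat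 2),1⟩, ⟨3,(Int.ofNat 0),1⟩, ⟨32,(Int.negSucc 0),2⟩] .nil .nil) (.node 26 [⟨31,(Int.negSucc 0),1⟩, ⟨34,(Int.ofNat 1),2⟩] .nil .nil)) (.node 33 [⟨36,(Int.ofNat 2),1⟩] (.node 31 [⟨34,(Int.negSucc 1),1⟩] .nil .nil) .nil)) (.node 42 [⟨44,(Int.negSucc 0),1⟩] (.node 40 [⟨43,(Int.ofNat 1),1⟩] (.node 38 [⟨41,(Int.negSucc 0),1⟩] .nil .nil) .nil) (.node 48 [⟨50,(Int.ofNat 2),1⟩] (.node 46 [⟨48,(Int.negSucc 0),1⟩, ⟨50,(Int.negSucc 0),2⟩] .nil .nil) .nil))))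
def col29 : Tr Cl := (.node 22 [⟨0,(Int.ofNat 0),1⟩, ⟨1,(Int.ofNat 1),1⟩, ⟨2,(Int.ofNat 2),1⟩, ⟨3,(Int.ofNat 2),1⟩, ⟨33,(Int.negSucc 0),2⟩] (.node 11 [⟨14,(Int.negSucc 0),1⟩] (.node 3 [⟨33,(Int.negSucc 0),1⟩] (.node 1 [⟨33,(Int.ofNat 0),1⟩] (.node 0 [⟨33,(Int.ofNat 1),1⟩] .nil .nil) (.node 2 [⟨33,(Int.ofNat 0),1⟩] .nil .nil)) (.node 7 [⟨10,(Int.negSucc 1),1⟩] (.node 4 [⟨7,(Int.negSucc 0),1⟩, ⟨10,(Int.ofNat 1),2⟩] .nil .nil) .nil)) (.node 15 [⟨18,(Int.negSucc 0),1⟩] (.node 13 [⟨17,(Int.ofNat 1),1⟩] (.node 12 [⟨16,(Int.ofNat 1),1⟩] .nil .nil) .nil) (.node 20 [⟨24,(Int.ofNat 1),1⟩, ⟨30,(Int.ofNat 1),2⟩] (.node 19 [⟨23,(Int.ofNat 1),1⟩, ⟨28,(Int.ofNat 1),2⟩] .nil .nil) .nil))) (.node 37 [⟨40,(Int.ofNat 1),1⟩] (.node 27 [⟨32,(Int.negSucc 0),1⟩, ⟨36,(Int.ofNat 1),2⟩] (.node 24 [⟨30,(Int.ofNat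 2),1⟩] (.node 23 [⟨28,(Int.ofNat 2),1⟩] .nil .nil) (.node 25 [⟨31,(Int.negSucc 0),1⟩, ⟨35,(Int.ofNat 1),2⟩] .nil .nil)) (.node 32 [⟨36,(Int.negSucc 1),1⟩] (.node 31 [⟨35,(Int.negSucc 1),1⟩] .nil .nil) .nil)) (.node 41 [⟨44,(Int.ofNat 1),1⟩] (.node 39 [⟨43,(Int.negSucc 0),1⟩] (.node 38 [⟨42,(Int.negSucc 0),1⟩] .nil .nil) .nil) (.node 48 [⟨51,(Int.ofNat 2),1⟩] (.node 45 [⟨48,(Int.ofNat 1),1⟩, ⟨51,(Int.ofNat 1),2⟩] .nil .nil) .nil))))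
def col30 : Tr Cl := (.node 20 [⟨27,(Int.ofNat 1),1⟩] (.node 5 [⟨8,(Int.ofNat 1),1⟩] (.node 2 [⟨34,(Int.ofNat 0),1⟩] (.node 1 [⟨34,(Int.negSucc 1),1⟩] (.node 0 [⟨34,(Int.ofNat 2),1⟩] .nil .nil) .nil) (.node 3 [⟨34,(Int.ofNat 1),1⟩] .nil .nil)) (.node 14 [⟨18,(Int.negSucc 0),1⟩] (.node 11 [⟨15,(Int.negSucc 0),1⟩] (.node 6 [⟨9,(Int.ofNat 1),1⟩] .nil .nil) .nil) (.node 19 [⟨25,(Int.negSucc 0),1⟩] .nil .nil))) (.node 30 [⟨36,(Int.ofNat 1),1⟩] (.node 24 [⟨32,(Int.negSucc 0),1⟩] (.node 23 [⟨31,(Int.ofNat 1),1⟩] (.node 21 [⟨0,(Int.ofNat 0),1⟩, ⟨1,(Int.ofNat 1),1⟩, ⟨2,(Int.ofNat 1),1⟩, ⟨3,(Int.ofNat 0),1⟩, ⟨34,(Int.negSucc 0),2⟩] .nil .nil) .nil) (.node 28 [⟨35,(Int.negSucc 0),1⟩] .nil .nil)) (.node 46 [⟨49,(Int.negSucc 0),1⟩] (.node 40 [⟨44,(Int.ofNat 1),1⟩] (.node 37 [⟨41,(Int.ofNat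 1),1⟩] .nil .nil) .nil) (.node 47 [⟨50,(Int.negSucc 0),1⟩] .nil .nil))))
def col31 : Tr Cl := (.node 20 [⟨0,(Int.ofNat 0),1⟩, ⟨1,(Int.ofNat 1),1⟩, ⟨2,(Int.ofNat 1),1⟩, ⟨3,(Int.ofNat 1),1⟩, ⟨35,(Int.negSucc 0),2⟩] (.node 4 [⟨8,(Int.ofNat 1),1⟩] (.node 2 [⟨35,(Int.ofNat 1),1⟩] (.node 1 [⟨35,(Int.negSucc 1),1⟩] (.node 0 [⟨35,(Int.ofNat 2),1⟩] .nil .nil) .nil) (.node 3 [⟨35,(Int.negSucc 0),1⟩] .nil .nil)) (.node 13 [⟨18,(Int.negSucc 0),1⟩] (.node 11 [⟨16,(Int.ofNat 1),1⟩] (.node 6 [⟨10,(Int.negSucc 0),1⟩] .nil .nil) .nil) (.node 19 [⟨26,(Int.ofNat 1),1⟩] .nil .nil))) (.node 29 [⟨36,(Int.negSucc 0),1⟩] (.node 24 [⟨33,(Int.negSucc 0),1⟩] (.node 22 [⟨31,(Int.ofNat 1),1⟩] (.node 21 [⟨28,(Int.ofNat 1),1⟩] .nil .nil) .nil) (.node 27 [⟨34,(Int.negSucc 0),1⟩] .nil .nil)) (.node 45 [⟨49,(Int.ofNat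 1),1⟩] (.node 39 [⟨44,(Int.negSucc 0),1⟩] (.node 37 [⟨42,(Int.ofNat 1),1⟩] .nil .nil) .nil) (.node 47 [⟨51,(Int.negSucc 0),1⟩] .nil .nil))))
def col32 : Tr Cl := (.node 20 [⟨29,(Int.ofNat 1),1⟩] (.node 4 [⟨9,(Int.negSucc 0),1⟩] (.node 2 [⟨36,(Int.negSucc 0),1⟩] (.node 1 [⟨36,(Int.ofNat 0),1⟩] (.node 0 [⟨36,(Int.ofNat 2),1⟩] .nil .nil) .nil) (.node 3 [⟨36,(Int.ofNat 0),1⟩] .nil .nil)) (.node 12 [⟨18,(Int.negSucc 0),1⟩] (.node 11 [⟨17,(Int.negSucc 0),1⟩] (.node 5 [⟨10,(Int.negSucc 0),1⟩] .nil .nil) .nil) (.node 19 [⟨0,(Int.ofNat 0),1⟩, ⟨1,(Int.ofNat 1),1⟩, ⟨2,(Int.ofNat 2),1⟩, ⟨3,(Int.ofNat 1),1⟩, ⟨36,(Int.negSucc 0),2⟩] .nil .nil))) (.node 26 [⟨35,(Int.negSucc 0),1⟩] (.node 23 [⟨33,(Int.negSucc 0),1⟩] (.node 22 [⟨32,(Int.ofNat 1),1⟩] (.node 21 [⟨30,(Int.negSucc 0),1⟩] .nil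 .nil) .nil) (.node 25 [⟨34,(Int.ofNat 1),1⟩] .nil .nil)) (.node 45 [⟨50,(Int.ofNat 1),1⟩] (.node 38 [⟨44,(Int.ofNat 1),1⟩] (.node 37 [⟨43,(Int.ofNat 1),1⟩] .nil .nil) .nil) (.node 46 [⟨51,(Int.ofNat 1),1⟩] .nil .nil))))
def col33 : Tr Cl := (.node 16 [⟨23,(Int.ofNat 1),1⟩] (.node 9 [⟨13,(Int.negSucc 0),1⟩, ⟨20,(Int.negSucc 0),2⟩] (.node 3 [⟨37,(Int.ofNat 0),1⟩] (.node 1 [⟨37,(Int.ofNat 1),1⟩] (.node 0 [⟨37,(Int.negSucc 1),1⟩] .nil .nil) (.node 2 [⟨37,(Int.ofNat 0),1⟩] .nil .nil)) (.node 8 [⟨12,(Int.negSucc 0),1⟩, ⟨19,(Int.negSucc 0),2⟩] (.node 7 [⟨11,(Int.negSucc 0),1⟩] .nil .nil) .nil)) (.node 13 [⟨20,(Int.ofNat 2),1⟩] (.node 12 [⟨19,(Int.ofNat 2),1⟩] (.node 10 [⟨14,(Int.negSucc 0),1⟩, ⟨21,(Int.negSucc 0),2⟩] .nil .nil) .nil) (.node 15 [⟨22,(Int.ofNat 1),1⟩] (.node 14 [⟨21,(Int.ofNat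 2),1⟩] .nil .nil) .nil))) (.node 35 [⟨42,(Int.negSucc 0),1⟩, ⟨46,(Int.negSucc 0),2⟩] (.node 32 [⟨39,(Int.negSucc 0),1⟩] (.node 18 [⟨0,(Int.ofNat 1),1⟩, ⟨1,(Int.ofNat 0),1⟩, ⟨2,(Int.ofNat 0),1⟩, ⟨3,(Int.ofNat 0),1⟩, ⟨37,(Int.negSucc 0),2⟩] (.node 17 [⟨24,(Int.ofNat 1),1⟩] .nil .nil) (.node 31 [⟨38,(Int.negSucc 0),1⟩] .nil .nil)) (.node 34 [⟨41,(Int.negSucc 0),1⟩, ⟨45,(Int.negSucc 0),2⟩] (.node 33 [⟨40,(Int.negSucc 0),1⟩] .nil .nil) .nil)) (.node 42 [⟨46,(Int.ofNat 2),1⟩] (.node 41 [⟨45,(Int.ofNat 2),1⟩] (.node 36 [⟨43,(Int.negSucc 0),1⟩, ⟨47,(Int.negSucc 0),2⟩] .nil .nil) .nil) (.node 44 [⟨48,(Int.ofNat 1),1⟩] (.node 43 [⟨47,(Int.ofNat 2),1⟩] .nil .nil) .nil))))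
def col34 : Tr Cl := (.node 16 [⟨26,(Int.ofNat 2),1⟩] (.node 9 [⟨15,(Int.ofNat 1),1⟩, ⟨25,(Int.ofNat 1),2⟩] (.node 3 [⟨38,(Int.ofNat 0),1⟩] (.node 1 [⟨38,(Int.negSucc 0),1⟩] (.node 0 [⟨38,(Int.negSucc 0),1⟩] .nil .nil) (.node 2 [⟨38,(Int.ofNat 1),1⟩] .nil .nil)) (.node 7 [⟨12,(Int.negSucc 0),1⟩] (.node 6 [⟨11,(Int.negSucc 0),1⟩, ⟨19,(Int.negSucc 0),2⟩] .nil .nil) .nil)) (.node 13 [⟨22,(Int.negSucc 0),1⟩] (.node 11 [⟨19,(Int.ofNat 2),1⟩] (.node 10 [⟨16,(Int.ofNat 1),1⟩, ⟨26,(Int.ofNat 1),2⟩] .nil .nil) .nil) (.node 15 [⟨25,(Int.ofNat 2),1⟩] (.node 14 [⟨23,(Int.negSucc 0),1⟩] .nil .nil) .nil))) (.node 33 [⟨42,(Int.ofNat 1),1⟩] (.node 29 [⟨39,(Int.negSucc 0),1⟩, ⟨45,(Int.ofNat 1),2⟩] (.node 18 [⟨31,(Int.ofNat 1),1⟩] (.node 17 [⟨0,(Int.ofNat 1),1⟩, ⟨1,(Int.ofNat 1),1⟩, ⟨2,(Int.ofNat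 0),1⟩, ⟨3,(Int.ofNat 0),1⟩, ⟨38,(Int.negSucc 0),2⟩] .nil .nil) (.node 24 [⟨37,(Int.negSucc 0),1⟩] .nil .nil)) (.node 32 [⟨41,(Int.ofNat 1),1⟩] (.node 30 [⟨40,(Int.negSucc 0),1⟩, ⟨46,(Int.ofNat 1),2⟩] .nil .nil) .nil)) (.node 40 [⟨46,(Int.negSucc 1),1⟩] (.node 39 [⟨45,(Int.negSucc 1),1⟩] (.node 36 [⟨44,(Int.negSucc 0),1⟩, ⟨49,(Int.negSucc 0),2⟩] .nil .nil) .nil) (.node 44 [⟨49,(Int.ofNat 2),1⟩] (.node 43 [⟨48,(Int.ofNat 1),1⟩] .nil .nil) .nil))))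
def col35 : Tr Cl := (.node 16 [⟨0,(Int.ofNat 1),1⟩, ⟨1,(Int.ofNat 1),1⟩, ⟨2,(Int.ofNat 2),1⟩, ⟨3,(Int.ofNat 0),1⟩, ⟨39,(Int.negSucc 0),2⟩] (.node 8 [⟨15,(Int.ofNat 1),1⟩, ⟨27,(Int.ofNat 1),2⟩] (.node 3 [⟨39,(Int.ofNat 1),1⟩] (.node 1 [⟨39,(Int.ofNat 1),1⟩] (.node 0 [⟨39,(Int.negSucc 0),1⟩] .nil .nil) (.node 2 [⟨39,(Int.negSucc 0),1⟩] .nil .nil)) (.node 7 [⟨13,(Int.ofNat 1),1⟩] (.node 5 [⟨11,(Int.negSucc 0),1⟩, ⟨20,(Int.ofNat 1),2⟩] .nil .nil) .nil)) (.node 12 [⟨22,(Int.negSucc 0),1⟩] (.node 11 [⟨20,(Int.negSucc 1),1⟩] (.node 10 [⟨17,(Int.negSucc 0),1⟩, ⟨29,(Int.negSucc 0),2⟩] .nil .nil) .nil) (.node 15 [⟨27,(Int.ofNat 2),1⟩] (.node 14 [⟨24,(Int.ofNat 1),1⟩] .nil .nil) .nil))) (.node 33 [⟨43,(Int.ofNat 1),1⟩] (.node 26 [⟨38,(Int.negSucc 0),1⟩, ⟨45,(Int.negSucc 0),2⟩] (.node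 18 [⟨32,(Int.ofNat 1),1⟩] (.node 17 [⟨29,(Int.ofNat 2),1⟩] .nil .nil) (.node 23 [⟨37,(Int.negSucc 0),1⟩] .nil .nil)) (.node 31 [⟨41,(Int.negSucc 0),1⟩] (.node 28 [⟨40,(Int.negSucc 0),1⟩, ⟨47,(Int.ofNat 1),2⟩] .nil .nil) .nil)) (.node 40 [⟨47,(Int.negSucc 1),1⟩] (.node 38 [⟨45,(Int.ofNat 2),1⟩] (.node 35 [⟨44,(Int.ofNat 1),1⟩, ⟨50,(Int.ofNat 1),2⟩] .nil .nil) .nil) (.node 44 [⟨50,(Int.ofNat 2),1⟩] (.node 42 [⟨48,(Int.negSucc 0),1⟩] .nil .nil) .nil))))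
def col36 : Tr Cl := (.node 16 [⟨28,(Int.ofNat 2),1⟩] (.node 8 [⟨16,(Int.negSucc 0),1⟩, ⟨28,(Int.negSucc 0),2⟩] (.node 3 [⟨40,(Int.negSucc 0),1⟩] (.node 1 [⟨40,(Int.ofNat 1),1⟩] (.node 0 [⟨40,(Int.negSucc 0),1⟩] .nil .nil) (.node 2 [⟨40,(Int.ofNat 0),1⟩] .nil .nil)) (.node 7 [⟨14,(Int.negSucc 0),1⟩] (.node 4 [⟨11,(Int.negSucc 0),1⟩, ⟨21,(Int.negSucc 0),2⟩] .nil .nil) .nil)) (.node 12 [⟨23,(Int.ofNat 1),1⟩] (.node 11 [⟨21,(Int.ofNat 2),1⟩] (.node 9 [⟨17,(Int.negSucc 0),1⟩, ⟨30,(Int.negSucc 0),2⟩] .nil .nil) .nil) (.node 15 [⟨0,(Int.ofNat 1),1⟩, ⟨1,(Int.ofNat 1),1⟩, ⟨2,(Int.ofNat 2),1⟩, ⟨3,(Int.ofNat 2),1⟩, ⟨40,(Int.negSucc 0),2⟩] (.node 13 [⟨24,(Int.ofNat 1),1⟩] .nil .nil) .nil))) (.node 32 [⟨43,(Int.negSucc 0),1⟩] (.node 25 [⟨38,(Int.negSucc 0),1⟩, ⟨46,(Int.negSucc 0),2⟩]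 (.node 18 [⟨33,(Int.ofNat 1),1⟩] (.node 17 [⟨30,(Int.ofNat 2),1⟩] .nil .nil) (.node 22 [⟨37,(Int.negSucc 0),1⟩] .nil .nil)) (.node 31 [⟨42,(Int.negSucc 0),1⟩] (.node 27 [⟨39,(Int.negSucc 0),1⟩, ⟨47,(Int.negSucc 0),2⟩] .nil .nil) .nil)) (.node 39 [⟨47,(Int.ofNat 2),1⟩] (.node 38 [⟨46,(Int.ofNat 2),1⟩] (.node 34 [⟨44,(Int.negSucc 0),1⟩, ⟨51,(Int.negSucc 0),2⟩] .nil .nil) .nil) (.node 44 [⟨51,(Int.ofNat 2),1⟩] (.node 41 [⟨48,(Int.ofNat 1),1⟩] .nil .nil) .nil))))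
def col37 : Tr Cl := (.node 16 [⟨31,(Int.ofNat 1),1⟩] (.node 7 [⟨15,(Int.ofNat 1),1⟩] (.node 3 [⟨41,(Int.ofNat 1),1⟩] (.node 1 [⟨41,(Int.negSucc 0),1⟩] (.node 0 [⟨41,(Int.ofNat 0),1⟩] .nil .nil) (.node 2 [⟨41,(Int.ofNat 0),1⟩] .nil .nil)) (.node 6 [⟨13,(Int.ofNat 1),1⟩, ⟨27,(Int.ofNat 1),2⟩] (.node 5 [⟨12,(Int.ofNat 1),1⟩, ⟨25,(Int.negSucc 0),2⟩] .nil .nil) .nil)) (.node 12 [⟨25,(Int.negSucc 1),1⟩] (.node 11 [⟨22,(Int.ofNat 1),1⟩] (.node 10 [⟨18,(Int.ofNat 1),1⟩, ⟨34,(Int.ofNat 1),2⟩] .nil .nil) .nil) (.node 14 [⟨0,(Int.ofNat 1),1⟩, ⟨1,(Int.ofNat 2),1⟩, ⟨2,(Int.ofNat 2),1⟩, ⟨3,(Int.ofNat 0),1⟩, ⟨41,(Int.negSucc 0),2⟩] (.node 13 [⟨27,(Int.ofNat 2),1⟩] .nil .nil) .nil))) (.node 30 [⟨43,(Int.ofNat 1),1⟩, ⟨50,(Int.negSucc 0),2⟩] (.node 23 [⟨38,(Int.ofNat 1),1⟩] (.node 18 [⟨34,(Int.ofNat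 2),1⟩] (.node 17 [⟨32,(Int.negSucc 0),1⟩] .nil .nil) (.node 21 [⟨37,(Int.negSucc 0),1⟩, ⟨45,(Int.ofNat 1),2⟩] .nil .nil)) (.node 28 [⟨42,(Int.negSucc 0),1⟩, ⟨49,(Int.ofNat 1),2⟩] (.node 24 [⟨39,(Int.negSucc 0),1⟩] .nil .nil) .nil)) (.node 40 [⟨48,(Int.negSucc 0),1⟩] (.node 37 [⟨45,(Int.negSucc 1),1⟩] (.node 33 [⟨44,(Int.negSucc 0),1⟩] .nil .nil) .nil) (.node 43 [⟨50,(Int.negSucc 1),1⟩] (.node 42 [⟨49,(Int.negSucc 1),1⟩] .nil .nil) .nil))))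
def col38 : Tr Cl := (.node 15 [⟨31,(Int.ofNat 1),1⟩] (.node 7 [⟨16,(Int.negSucc 0),1⟩] (.node 3 [⟨42,(Int.negSucc 0),1⟩] (.node 1 [⟨42,(Int.negSucc 0),1⟩] (.node 0 [⟨42,(Int.ofNat 0),1⟩] .nil .nil) (.node 2 [⟨42,(Int.ofNat 1),1⟩] .nil .nil)) (.node 6 [⟨14,(Int.negSucc 0),1⟩, ⟨28,(Int.negSucc 0),2⟩] (.node 4 [⟨12,(Int.ofNat 1),1⟩, ⟨26,(Int.ofNat 1),2⟩] .nil .nil) .nil)) (.node 12 [⟨26,(Int.ofNat 2),1⟩] (.node 11 [⟨23,(Int.negSucc 0),1⟩] (.node 9 [⟨18,(Int.ofNat 1),1⟩, ⟨35,(Int.ofNat 1),2⟩] .nil .nil) .nil) (.node 14 [⟨28,(Int.ofNat 2),1⟩] (.node 13 [⟨0,(Int.ofNat 1),1⟩, ⟨1,(Int.ofNat 2),1⟩, ⟨2,(Int.ofNat 2),1⟩, ⟨3,(Int.ofNat 2),1⟩, ⟨42,(Int.negSucc 0),2⟩] .nil .nil) .nil))) (.node 29 [⟨43,(Int.negSucc 0),1⟩, ⟨51,(Int.ofNat 1),2⟩] (.node 22 [⟨38,(Int.ofNat 1),1⟩] (.node 18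 [⟨35,(Int.ofNat 2),1⟩] (.node 17 [⟨33,(Int.negSucc 0),1⟩] .nil .nil) (.node 20 [⟨37,(Int.negSucc 0),1⟩, ⟨46,(Int.ofNat 1),2⟩] .nil .nil)) (.node 27 [⟨41,(Int.negSucc 0),1⟩, ⟨49,(Int.negSucc 0),2⟩] (.node 24 [⟨40,(Int.negSucc 0),1⟩] .nil .nil) .nil)) (.node 39 [⟨48,(Int.ofNat 1),1⟩] (.node 37 [⟨46,(Int.negSucc 1),1⟩] (.node 32 [⟨44,(Int.ofNat 1),1⟩] .nil .nil) .nil) (.node 43 [⟨51,(Int.negSucc 1),1⟩] (.node 41 [⟨49,(Int.ofNat 2),1⟩] .nil .nil) .nil))))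
def col39 : Tr Cl := (.node 15 [⟨32,(Int.ofNat 1),1⟩] (.node 7 [⟨17,(Int.ofNat 1),1⟩] (.node 3 [⟨43,(Int.ofNat 0),1⟩] (.node 1 [⟨43,(Int.ofNat 1),1⟩] (.node 0 [⟨43,(Int.ofNat 0),1⟩] .nil .nil) (.node 2 [⟨43,(Int.negSucc 0),1⟩] .nil .nil)) (.node 5 [⟨14,(Int.negSucc 0),1⟩, ⟨30,(Int.ofNat 1),2⟩] (.node 4 [⟨13,(Int.negSucc 0),1⟩, ⟨29,(Int.negSucc 0),2⟩] .nil .nil) .nil)) (.node 12 [⟨0,(Int.ofNat 1),1⟩, ⟨1,(Int.ofNat 2),1⟩, ⟨2,(Int.ofNat 4),1⟩, ⟨3,(Int.ofNat 2),1⟩, ⟨43,(Int.negSucc 0),2⟩] (.node 11 [⟨24,(Int.ofNat 1),1⟩] (.node 8 [⟨18,(Int.ofNat 1),1⟩, ⟨36,(Int.ofNat 1),2⟩] .nil .nil) .nil) (.node 14 [⟨30,(Int.negSucc 1),1⟩] (.node 13 [⟨29,(Int.ofNat 2),1⟩] .nil .nil) .nil))) (.node 26 [⟨42,(Int.negSucc 0),1⟩, ⟨51,(Int.negSucc 0),2⟩] (.node 22 [⟨39,(Int.ofNat 1),1⟩] (.node 18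 [⟨36,(Int.ofNat 2),1⟩] (.node 16 [⟨33,(Int.negSucc 0),1⟩] .nil .nil) (.node 19 [⟨37,(Int.negSucc 0),1⟩, ⟨47,(Int.ofNat 1),2⟩] .nil .nil)) (.node 25 [⟨41,(Int.ofNat 1),1⟩, ⟨50,(Int.ofNat 1),2⟩] (.node 23 [⟨40,(Int.negSucc 0),1⟩] .nil .nil) .nil)) (.node 38 [⟨48,(Int.negSucc 0),1⟩] (.node 37 [⟨47,(Int.negSucc 1),1⟩] (.node 31 [⟨44,(Int.negSucc 0),1⟩] .nil .nil) .nil) (.node 42 [⟨51,(Int.ofNat 2),1⟩] (.node 41 [⟨50,(Int.ofNat 2),1⟩] .nil .nil) .nil))))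
def col40 : Tr Cl := (.node 15 [⟨34,(Int.ofNat 2),1⟩] (.node 6 [⟨17,(Int.ofNat 1),1⟩, ⟨36,(Int.ofNat 1),2⟩] (.node 3 [⟨44,(Int.ofNat 0),1⟩] (.node 1 [⟨44,(Int.negSucc 0),1⟩] (.node 0 [⟨44,(Int.ofNat 1),1⟩] .nil .nil) (.node 2 [⟨44,(Int.ofNat 0),1⟩] .nil .nil)) (.node 5 [⟨16,(Int.ofNat 1),1⟩, ⟨35,(Int.negSucc 0),2⟩] (.node 4 [⟨15,(Int.ofNat 1),1⟩, ⟨34,(Int.ofNat 1),2⟩] .nil .nil) .nil)) (.node 12 [⟨31,(Int.ofNat 1),1⟩] (.node 11 [⟨0,(Int.ofNat 1),1⟩, ⟨1,(Int.ofNat 3),1⟩, ⟨2,(Int.ofNat 4),1⟩, ⟨3,(Int.ofNat 2),1⟩, ⟨44,(Int.negSucc 0),2⟩] (.node 7 [⟨18,(Int.ofNat 1),1⟩] .nil .nil) .nil) (.node 14 [⟨33,(Int.ofNat 1),1⟩] (.node 13 [⟨32,(Int.negSucc 0),1⟩] .nil .nil) .nil))) (.node 23 [⟨42,(Int.ofNat 1),1⟩] (.node 20 [⟨39,(Int.ofNat 1),1⟩, ⟨50,(Int.negSucc 0),2⟩] (.node 17 [⟨36,(Int.ofNat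 2),1⟩] (.node 16 [⟨35,(Int.negSucc 1),1⟩] .nil .nil) (.node 19 [⟨38,(Int.negSucc 0),1⟩, ⟨49,(Int.ofNat 1),2⟩] .nil .nil)) (.node 22 [⟨41,(Int.negSucc 0),1⟩] (.node 21 [⟨40,(Int.negSucc 0),1⟩, ⟨51,(Int.ofNat 1),2⟩] .nil .nil) .nil)) (.node 38 [⟨49,(Int.negSucc 1),1⟩] (.node 37 [⟨48,(Int.negSucc 0),1⟩] (.node 24 [⟨43,(Int.negSucc 0),1⟩] .nil .nil) .nil) (.node 40 [⟨51,(Int.negSucc 1),1⟩] (.node 39 [⟨50,(Int.negSucc 1),1⟩] .nil .nil) .nil))))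
def col41 : Tr Cl := (.node 10 [⟨0,(Int.ofNat 1),1⟩, ⟨1,(Int.ofNat 1),1⟩, ⟨2,(Int.ofNat 1),1⟩, ⟨3,(Int.ofNat 0),1⟩, ⟨45,(Int.negSucc 0),2⟩] (.node 5 [⟨19,(Int.ofNat 1),1⟩] (.node 2 [⟨45,(Int.ofNat 0),1⟩] (.node 1 [⟨45,(Int.ofNat 0),1⟩] (.node 0 [⟨45,(Int.negSucc 1),1⟩] .nil .nil) .nil) (.node 3 [⟨45,(Int.ofNat 1),1⟩] .nil .nil)) (.node 8 [⟨25,(Int.negSucc 0),1⟩] (.node 7 [⟨22,(Int.ofNat 1),1⟩] (.node 6 [⟨20,(Int.ofNat 1),1⟩] .nil .nil) .nil) (.node 9 [⟨27,(Int.ofNat 1),1⟩] .nil .nil))) (.node 28 [⟨46,(Int.negSucc 0),1⟩] (.node 17 [⟨39,(Int.ofNat 1),1⟩] (.node 16 [⟨38,(Int.negSucc 0),1⟩] (.node 14 [⟨37,(Int.ofNat 1),1⟩] .nil .nil) .nil) (.node 18 [⟨41,(Int.negSucc 0),1⟩] .nil .nil)) (.node 35 [⟨49,(Int.negSucc 0),1⟩] (.node 33 [⟨48,(Int.negSucc 0),1⟩] (.node 30 [⟨47,(Int.ofNat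 1),1⟩] .nil .nil) .nil) (.node 36 [⟨50,(Int.negSucc 0),1⟩] .nil .nil))))
def col42 : Tr Cl := (.node 10 [⟨28,(Int.ofNat 1),1⟩] (.node 4 [⟨19,(Int.ofNat 1),1⟩] (.node 2 [⟨46,(Int.ofNat 1),1⟩] (.node 1 [⟨46,(Int.ofNat 0),1⟩] (.node 0 [⟨46,(Int.negSucc 1),1⟩] .nil .nil) .nil) (.node 3 [⟨46,(Int.negSucc 0),1⟩] .nil .nil)) (.node 8 [⟨26,(Int.ofNat 1),1⟩] (.node 7 [⟨23,(Int.negSucc 0),1⟩] (.node 6 [⟨21,(Int.negSucc 0),1⟩] .nil .nil) .nil) (.node 9 [⟨0,(Int.ofNat 1),1⟩, ⟨1,(Int.ofNat 1),1⟩, ⟨2,(Int.ofNat 1),1⟩, ⟨3,(Int.ofNat 1),1⟩, ⟨46,(Int.negSucc 0),2⟩] .nil .nil))) (.node 27 [⟨45,(Int.negSucc 0),1⟩] (.node 17 [⟨40,(Int.ofNat 1),1⟩] (.node 15 [⟨38,(Int.negSucc 0),1⟩] (.node 13 [⟨37,(Int.ofNat 1),1⟩] .nil .nil) .nil) (.node 18 [⟨42,(Int.negSucc 0),1⟩] .nil .nil)) (.node 34 [⟨49,(Int.ofNat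 1),1⟩] (.node 32 [⟨48,(Int.ofNat 1),1⟩] (.node 29 [⟨47,(Int.negSucc 0),1⟩] .nil .nil) .nil) (.node 36 [⟨51,(Int.negSucc 0),1⟩] .nil .nil))))
def col43 : Tr Cl := (.node 10 [⟨30,(Int.negSucc 0),1⟩] (.node 4 [⟨20,(Int.negSucc 0),1⟩] (.node 2 [⟨47,(Int.negSucc 0),1⟩] (.node 1 [⟨47,(Int.ofNat 2),1⟩] (.node 0 [⟨47,(Int.negSucc 1),1⟩] .nil .nil) .nil) (.node 3 [⟨47,(Int.ofNat 0),1⟩] .nil .nil)) (.node 8 [⟨0,(Int.ofNat 1),1⟩, ⟨1,(Int.ofNat 1),1⟩, ⟨2,(Int.ofNat 2),1⟩, ⟨3,(Int.ofNat 1),1⟩, ⟨47,(Int.negSucc 0),2⟩] (.node 7 [⟨24,(Int.ofNat 1),1⟩] (.node 5 [⟨21,(Int.negSucc 0),1⟩] .nil .nil) .nil) (.node 9 [⟨29,(Int.ofNat 1),1⟩] .nil .nil))) (.node 25 [⟨45,(Int.ofNat 1),1⟩] (.node 16 [⟨40,(Int.ofNat 1),1⟩] (.node 15 [⟨39,(Int.negSucc 0),1⟩] (.node 12 [⟨37,(Int.ofNat 1),1⟩] .nil .nil)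 .nil) (.node 18 [⟨43,(Int.negSucc 0),1⟩] .nil .nil)) (.node 34 [⟨50,(Int.ofNat 1),1⟩] (.node 31 [⟨48,(Int.negSucc 0),1⟩] (.node 26 [⟨46,(Int.negSucc 0),1⟩] .nil .nil) .nil) (.node 35 [⟨51,(Int.ofNat 1),1⟩] .nil .nil))))
def col44 : Tr Cl := (.node 12 [⟨38,(Int.ofNat 1),1⟩] (.node 6 [⟨24,(Int.ofNat 1),1⟩, ⟨47,(Int.negSucc 0),2⟩] (.node 3 [⟨48,(Int.ofNat 0),1⟩] (.node 1 [⟨48,(Int.ofNat 0),1⟩] (.node 0 [⟨48,(Int.negSucc 0),1⟩] .nil .nil) (.node 2 [⟨48,(Int.ofNat 0),1⟩] .nil .nil)) (.node 5 [⟨23,(Int.ofNat 1),1⟩, ⟨46,(Int.ofNat 1),2⟩] (.node 4 [⟨22,(Int.ofNat 1),1⟩, ⟨45,(Int.negSucc 0),2⟩] .nil .nil) .nil)) (.node 9 [⟨32,(Int.negSucc 0),1⟩, ⟨50,(Int.ofNat 1),2⟩] (.node 8 [⟨31,(Int.ofNat 1),1⟩, ⟨49,(Int.negSucc 0),2⟩] (.node 7 [⟨0,(Int.ofNat 2),1⟩, ⟨1,(Int.ofNat 3),1⟩, ⟨2,(Int.ofNat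 4),1⟩, ⟨3,(Int.ofNat 2),1⟩, ⟨48,(Int.negSucc 0),2⟩] .nil .nil) .nil) (.node 11 [⟨37,(Int.ofNat 1),1⟩] (.node 10 [⟨33,(Int.ofNat 1),1⟩, ⟨51,(Int.negSucc 0),2⟩] .nil .nil) .nil))) (.node 22 [⟨45,(Int.negSucc 1),1⟩] (.node 16 [⟨42,(Int.ofNat 1),1⟩] (.node 14 [⟨40,(Int.ofNat 1),1⟩] (.node 13 [⟨39,(Int.negSucc 0),1⟩] .nil .nil) (.node 15 [⟨41,(Int.negSucc 0),1⟩] .nil .nil)) (.node 18 [⟨44,(Int.negSucc 0),1⟩] (.node 17 [⟨43,(Int.negSucc 0),1⟩] .nil .nil) .nil)) (.node 31 [⟨49,(Int.negSucc 1),1⟩] (.node 24 [⟨47,(Int.negSucc 1),1⟩] (.node 23 [⟨46,(Int.ofNat 2),1⟩] .nil .nil) .nil) (.node 33 [⟨51,(Int.negSucc 1),1⟩] (.node 32 [⟨50,(Int.negSucc 1),1⟩] .nil .nil) .nil))))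
def col45 : Tr Cl := (.node 10 [⟨35,(Int.ofNat 1),1⟩] (.node 4 [⟨25,(Int.ofNat 1),1⟩] (.node 2 [⟨49,(Int.ofNat 1),1⟩] (.node 1 [⟨49,(Int.negSucc 1),1⟩] (.node 0 [⟨49,(Int.ofNat 0),1⟩] .nil .nil) .nil) (.node 3 [⟨49,(Int.ofNat 0),1⟩] .nil .nil)) (.node 7 [⟨31,(Int.ofNat 1),1⟩] (.node 6 [⟨0,(Int.ofNat 1),1⟩, ⟨1,(Int.ofNat 2),1⟩, ⟨2,(Int.ofNat 2),1⟩, ⟨3,(Int.ofNat 1),1⟩, ⟨49,(Int.negSucc 0),2⟩] (.node 5 [⟨26,(Int.ofNat 1),1⟩] .nil .nil) .nil) (.node 9 [⟨34,(Int.negSucc 0),1⟩] .nil .nil))) (.node 20 [⟨45,(Int.negSucc 0),1⟩] (.node 14 [⟨42,(Int.ofNat 1),1⟩] (.node 13 [⟨41,(Int.negSucc 0),1⟩] (.node 11 [⟨38,(Int.ofNat 1),1⟩] .nil .nil) .nil) (.node 17 [⟨44,(Int.negSucc 0),1⟩] .nil .nil)) (.node 29 [⟨50,(Int.negSucc 0),1⟩] (.node 24 [⟨48,(Int.negSucc 0),1⟩] (.node 21 [⟨46,(Int.ofNat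 1),1⟩] .nil .nil) .nil) (.node 30 [⟨51,(Int.negSucc 0),1⟩] .nil .nil))))
def col46 : Tr Cl := (.node 10 [⟨36,(Int.ofNat 1),1⟩] (.node 4 [⟨27,(Int.ofNat 1),1⟩] (.node 2 [⟨50,(Int.negSucc 0),1⟩] (.node 1 [⟨50,(Int.ofNat 0),1⟩] (.node 0 [⟨50,(Int.ofNat 0),1⟩] .nil .nil) .nil) (.node 3 [⟨50,(Int.ofNat 1),1⟩] .nil .nil)) (.node 7 [⟨32,(Int.ofNat 1),1⟩] (.node 6 [⟨29,(Int.ofNat 1),1⟩] (.node 5 [⟨0,(Int.ofNat 1),1⟩, ⟨1,(Int.ofNat 2),1⟩, ⟨2,(Int.ofNat 3),1⟩, ⟨3,(Int.ofNat 1),1⟩, ⟨50,(Int.negSucc 0),2⟩] .nil .nil) .nil) (.node 8 [⟨34,(Int.negSucc 0),1⟩] .nil .nil))) (.node 19 [⟨45,(Int.negSucc 0),1⟩] (.node 14 [⟨43,(Int.ofNat 1),1⟩] (.node 12 [⟨41,(Int.negSucc 0),1⟩] (.node 11 [⟨39,(Int.ofNat 1),1⟩] .nil .nil) .nil) (.node 16 [⟨44,(Int.negSucc 0),1⟩] .nil .nil)) (.node 26 [⟨49,(Int.negSucc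 0),1⟩] (.node 23 [⟨48,(Int.negSucc 0),1⟩] (.node 21 [⟨47,(Int.ofNat 1),1⟩] .nil .nil) .nil) (.node 28 [⟨51,(Int.negSucc 0),1⟩] .nil .nil))))
def col47 : Tr Cl := (.node 9 [⟨36,(Int.ofNat 1),1⟩] (.node 4 [⟨0,(Int.ofNat 1),1⟩, ⟨1,(Int.ofNat 2),1⟩, ⟨2,(Int.ofNat 3),1⟩, ⟨3,(Int.ofNat 2),1⟩, ⟨51,(Int.negSucc 0),2⟩] (.node 2 [⟨51,(Int.ofNat 0),1⟩] (.node 1 [⟨51,(Int.ofNat 0),1⟩] (.node 0 [⟨51,(Int.ofNat 0),1⟩] .nil .nil) .nil) (.node 3 [⟨51,(Int.negSucc 0),1⟩] .nil .nil)) (.node 7 [⟨33,(Int.ofNat 1),1⟩] (.node 6 [⟨30,(Int.ofNat 1),1⟩] (.node 5 [⟨28,(Int.ofNat 1),1⟩] .nil .nil) .nil) (.node 8 [⟨35,(Int.negSucc 0),1⟩] .nil .nil))) (.node 19 [⟨46,(Int.negSucc 0),1⟩] (.node 13 [⟨43,(Int.ofNat 1),1⟩] (.node 12 [⟨42,(Int.negSucc 0),1⟩] (.node 11 [⟨40,(Int.ofNat 1),1⟩] .nil .nil) .nil)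 (.node 15 [⟨44,(Int.negSucc 0),1⟩] .nil .nil)) (.node 25 [⟨49,(Int.negSucc 0),1⟩] (.node 22 [⟨48,(Int.negSucc 0),1⟩] (.node 20 [⟨47,(Int.ofNat 1),1⟩] .nil .nil) .nil) (.node 27 [⟨50,(Int.negSucc 0),1⟩] .nil .nil))))
def cols : Tr (Tr Cl) := (.node 24 col24 (.node 12 col12 (.node 6 col6 (.node 3 col3 (.node 1 col1 (.node 0 col0 .nil .nil) (.node 2 col2 .nil .nil)) (.node 5 col5 (.node 4 col4 .nil .nil) .nil)) (.node 9 col9 (.node 8 col8 (.node 7 col7 .nil .nil) .nil) (.node 11 col11 (.node 10 col10 .nil .nil) .nil))) (.node 18 col18 (.node 15 col15 (.node 14 col14 (.node 13 col13 .nil .nil) .nil) (.node 17 col17 (.node 16 col16 .nil .nil) .nil)) (.node 21 col21 (.node 20 col20 (.node 19 col19 .nil .nil) .nil) (.node 23 col23 (.node 22 col22 .nil .nil) .nil)))) (.node 36 col36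 (.node 30 col30 (.node 27 col27 (.node 26 col26 (.node 25 col25 .nil .nil) .nil) (.node 29 col29 (.node 28 col28 .nil .nil) .nil)) (.node 33 col33 (.node 32 col32 (.node 31 col31 .nil .nil) .nil) (.node 35 col35 (.node 34 col34 .nil .nil) .nil))) (.node 42 col42 (.node 39 col39 (.node 38 col38 (.node 37 col37 .nil .nil) .nil) (.node 41 col41 (.node 40 col40 .nil .nil) .nil)) (.node 45 col45 (.node 44 col44 (.node 43 col43 .nil .nil) .nil) (.node 47 col47 (.node 46 col46 .nil .nil) .nil)))))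
def ch0 : Tr (List (ℕ × ℤ)) := (.node 39 [(9,(Int.ofNat 1))] (.node 31 [(4,(Int.negSucc 0))] (.node 26 [(2,(Int.ofNat 1))] (.node 24 [(1,(Int.ofNat 1))] .nil .nil) (.node 29 [(3,(Int.ofNat 1))] .nil .nil)) (.node 36 [(7,(Int.ofNat 1))] (.node 32 [(5,(Int.ofNat 1))] .nil .nil) (.node 38 [(8,(Int.negSucc 0))] .nil .nil))) (.node 44 [(18,(Int.negSucc 0))] (.node 42 [(15,(Int.negSucc 0))] (.node 40 [(11,(Int.negSucc 0))] .nil .nil) (.node 43 [(16,(Int.ofNat 1))] .nil .nil)) (.node 46 [(23,(Int.negSucc 0))] (.node 45 [(21,(Int.negSucc 0))] .nil .nil) .nil)))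
def ch1 : Tr (List (ℕ × ℤ)) := (.node 39 [(10,(Int.ofNat 1))] (.node 30 [(4,(Int.negSucc 0))] (.node 25 [(2,(Int.ofNat 1))] (.node 23 [(0,(Int.ofNat 1))] .nil .nil) (.node 28 [(3,(Int.ofNat 1))] .nil .nil)) (.node 35 [(7,(Int.ofNat 1))] (.node 32 [(6,(Int.ofNat 1))] .nil .nil) (.node 37 [(8,(Int.negSucc 0))] .nil .nil))) (.node 44 [(19,(Int.negSucc 0))] (.node 41 [(15,(Int.negSucc 0))] (.node 40 [(12,(Int.negSucc 0))] .nil .nil) (.node 43 [(17,(Int.ofNat 1))] .nil .nil)) (.node 47 [(24,(Int.negSucc 0))] (.node 45 [(22,(Int.negSucc 0))] .nil .nil) .nil)))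
def ch2 : Tr (List (ℕ × ℤ)) := (.node 38 [(10,(Int.ofNat 1))] (.node 30 [(5,(Int.negSucc 0))] (.node 22 [(1,(Int.ofNat 1))] (.node 21 [(0,(Int.ofNat 1))] .nil .nil) (.node 27 [(3,(Int.ofNat 1))] .nil .nil)) (.node 34 [(7,(Int.ofNat 1))] (.node 31 [(6,(Int.ofNat 1))] .nil .nil) (.node 37 [(9,(Int.negSucc 0))] .nil .nil))) (.node 44 [(20,(Int.negSucc 0))] (.node 41 [(16,(Int.negSucc 0))] (.node 40 [(13,(Int.negSucc 0))] .nil .nil) (.node 42 [(17,(Int.ofNat 1))] .nil .nil)) (.node 47 [(26,(Int.negSucc 0))] (.node 46 [(25,(Int.negSucc 0))] .nil .nil) .nil)))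
def ch3 : Tr (List (ℕ × ℤ)) := (.node 37 [(11,(Int.negSucc 0))] (.node 29 [(6,(Int.ofNat 2))] (.node 20 [(2,(Int.ofNat 2))] (.node 19 [(1,(Int.ofNat 2))] (.node 18 [(0,(Int.ofNat 2))] .nil .nil) .nil) (.node 28 [(5,(Int.negSucc 1))] (.node 27 [(4,(Int.ofNat 2))] .nil .nil) .nil)) (.node 35 [(9,(Int.negSucc 0))] (.node 34 [(8,(Int.ofNat 1))] (.node 33 [(7,(Int.ofNat 1))] .nil .nil) .nil) (.node 36 [(10,(Int.ofNat 1))] .nil .nil))) (.node 42 [(19,(Int.ofNat 1)), (1,(Int.ofNat 1))] (.node 40 [(14,(Int.negSucc 0))] (.node 39 [(13,(Int.negSucc 0))] (.node 38 [(12,(Int.ofNat 1))] .nil .nil) .nil) (.node 41 [(18,(Int.negSucc 0)), (0,(Int.negSucc 0))] .nil .nil)) (.node 46 [(28,(Int.negSucc 0)), (5,(Int.ofNat 1))] (.node 45 [(27,(Int.negSucc 0)), (4,(Int.negSucc 0))] (.node 43 [(20,(Int.negSucc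 0)), (2,(Int.negSucc 0))] .nil .nil) .nil) (.node 47 [(29,(Int.negSucc 0)), (6,(Int.negSucc 0))] .nil .nil))))
def ch4 : Tr (List (ℕ × ℤ)) := (.node 36 [(12,(Int.ofNat 1))] (.node 25 [(5,(Int.ofNat 1))] (.node 17 [(1,(Int.negSucc 0))] (.node 16 [(0,(Int.negSucc 0))] .nil .nil) (.node 20 [(3,(Int.ofNat 1))] .nil .nil)) (.node 33 [(8,(Int.ofNat 1))] (.node 26 [(6,(Int.negSucc 0))] .nil .nil) (.node 35 [(11,(Int.negSucc 0))] .nil .nil))) (.node 44 [(27,(Int.negSucc 0))] (.node 41 [(21,(Int.ofNat 1))] (.node 39 [(14,(Int.negSucc 0))] .nil .nil) (.node 42 [(22,(Int.negSucc 0))] .nil .nil)) (.node 47 [(31,(Int.ofNat 1))] (.node 46 [(30,(Int.ofNat 1))] .nil .nil) .nil)))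
def ch5 : Tr (List (ℕ × ℤ)) := (.node 36 [(13,(Int.ofNat 1))] (.node 22 [(4,(Int.ofNat 1))] (.node 17 [(2,(Int.negSucc 0))] (.node 15 [(0,(Int.ofNat 1))] .nil .nil) (.node 19 [(3,(Int.negSucc 0))] .nil .nil)) (.node 33 [(9,(Int.ofNat 1))] (.node 24 [(6,(Int.ofNat 1))] .nil .nil) (.node 34 [(11,(Int.negSucc 0))] .nil .nil))) (.node 44 [(28,(Int.ofNat 1))] (.node 41 [(23,(Int.negSucc 0))] (.node 38 [(14,(Int.negSucc 0))] .nil .nil) (.node 43 [(25,(Int.negSucc 0))] .nil .nil)) (.node 47 [(32,(Int.negSucc 0))] (.node 45 [(30,(Int.ofNat 1))] .nil .nil) .nil)))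
def ch6 : Tr (List (ℕ × ℤ)) := (.node 35 [(13,(Int.ofNat 1))] (.node 21 [(4,(Int.negSucc 0))] (.node 16 [(2,(Int.ofNat 1))] (.node 15 [(1,(Int.ofNat 1))] .nil .nil) (.node 18 [(3,(Int.ofNat 1))] .nil .nil)) (.node 33 [(10,(Int.ofNat 1))] (.node 23 [(5,(Int.ofNat 1))] .nil .nil) (.node 34 [(12,(Int.negSucc 0))] .nil .nil))) (.node 44 [(29,(Int.negSucc 0))] (.node 42 [(24,(Int.negSucc 0))] (.node 37 [(14,(Int.negSucc 0))] .nil .nil) (.node 43 [(26,(Int.ofNat 1))] .nil .nil)) (.node 46 [(32,(Int.negSucc 0))] (.node 45 [(31,(Int.negSucc 0))] .nil .nil) .nil)))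
def ch7 : Tr (List (ℕ × ℤ)) := (.node 34 [(15,(Int.negSucc 1))] (.node 28 [(9,(Int.negSucc 0))] (.node 13 [(2,(Int.ofNat 2))] (.node 12 [(1,(Int.ofNat 2))] (.node 11 [(0,(Int.ofNat 2))] .nil .nil) .nil) (.node 27 [(8,(Int.ofNat 1))] (.node 14 [(3,(Int.ofNat 1))] .nil .nil) .nil)) (.node 31 [(12,(Int.negSucc 0)), (1,(Int.negSucc 0))] (.node 30 [(11,(Int.ofNat 1)), (0,(Int.ofNat 1))] (.node 29 [(10,(Int.ofNat 1))] .nil .nil) .nil) (.node 32 [(13,(Int.ofNat 1)), (2,(Int.ofNat 1))] .nil .nil))) (.node 39 [(20,(Int.negSucc 0))] (.node 37 [(18,(Int.negSucc 0))] (.node 36 [(17,(Int.negSucc 1))] (.node 35 [(16,(Int.ofNat 2))] .nil .nil) .nil) (.node 38 [(19,(Int.ofNat 1))] .nil .nil)) (.node 46 [(35,(Int.negSucc 0)), (16,(Int.negSucc 0))] (.node 45 [(34,(Int.negSucc 0)), (15,(Int.ofNat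 1))] (.node 44 [(33,(Int.negSucc 0))] .nil .nil) .nil) (.node 47 [(36,(Int.negSucc 0)), (17,(Int.ofNat 1))] .nil .nil))))
def ch8 : Tr (List (ℕ × ℤ)) := (.node 33 [(15,(Int.negSucc 1))] (.node 25 [(9,(Int.ofNat 1)), (0,(Int.negSucc 0))] (.node 13 [(3,(Int.ofNat 1))] (.node 10 [(1,(Int.negSucc 1))] (.node 9 [(0,(Int.negSucc 1))] .nil .nil) .nil) (.node 20 [(7,(Int.ofNat 1))] (.node 14 [(4,(Int.ofNat 2))] .nil .nil) .nil)) (.node 29 [(12,(Int.negSucc 0))] (.node 28 [(11,(Int.ofNat 1))] (.node 26 [(10,(Int.negSucc 0)), (1,(Int.ofNat 1))] .nil .nil) .nil) (.node 32 [(14,(Int.ofNat 1)), (4,(Int.ofNat 1))] .nil .nil))) (.node 40 [(27,(Int.negSucc 0))] (.node 37 [(21,(Int.ofNat 2))] (.node 36 [(19,(Int.negSucc 0))] (.node 35 [(18,(Int.ofNat 1))] .nil .nil) .nil) (.node 38 [(22,(Int.negSucc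 1))] .nil .nil)) (.node 46 [(37,(Int.ofNat 1)), (21,(Int.ofNat 1))] (.node 44 [(34,(Int.negSucc 0))] (.node 43 [(33,(Int.negSucc 0)), (15,(Int.ofNat 1))] .nil .nil) .nil) (.node 47 [(38,(Int.ofNat 1)), (22,(Int.negSucc 0))] .nil .nil))))
def ch9 : Tr (List (ℕ × ℤ)) := (.node 33 [(16,(Int.negSucc 1))] (.node 22 [(8,(Int.ofNat 1)), (0,(Int.ofNat 1))] (.node 12 [(3,(Int.negSucc 0))] (.node 10 [(2,(Int.negSucc 1))] (.node 8 [(0,(Int.ofNat 2))] .nil .nil) .nil) (.node 19 [(7,(Int.negSucc 0))] (.node 14 [(5,(Int.ofNat 2))] .nil .nil) .nil)) (.node 29 [(13,(Int.negSucc 0))] (.node 27 [(11,(Int.ofNat 1))] (.node 24 [(10,(Int.ofNat 1)), (2,(Int.negSucc 0))] .nil .nil) .nil) (.node 31 [(14,(Int.ofNat 1)), (5,(Int.ofNat 1))] .nil .nil))) (.node 40 [(28,(Int.ofNat 1))] (.node 37 [(23,(Int.negSucc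 1))] (.node 36 [(20,(Int.negSucc 0))] (.node 34 [(18,(Int.ofNat 1))] .nil .nil) .nil) (.node 39 [(25,(Int.negSucc 1))] .nil .nil)) (.node 45 [(37,(Int.ofNat 1)), (23,(Int.negSucc 0))] (.node 44 [(35,(Int.ofNat 1))] (.node 42 [(33,(Int.negSucc 0)), (16,(Int.ofNat 1))] .nil .nil) .nil) (.node 47 [(39,(Int.negSucc 0)), (25,(Int.ofNat 1))] .nil .nil))))
def ch10 : Tr (List (ℕ × ℤ)) := (.node 33 [(17,(Int.negSucc 1))] (.node 21 [(8,(Int.negSucc 0)), (1,(Int.negSucc 0))] (.node 11 [(3,(Int.ofNat 1))] (.node 9 [(2,(Int.ofNat 2))] (.node 8 [(1,(Int.ofNat 2))] .nil .nil) .nil) (.node 18 [(7,(Int.ofNat 1))] (.node 14 [(6,(Int.ofNat 2))] .nil .nil) .nil)) (.node 28 [(13,(Int.negSucc 0))] (.node 27 [(12,(Int.ofNat 1))] (.node 23 [(9,(Int.ofNat 1)), (2,(Int.ofNat 1))] .nil .nil) .nil)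 (.node 30 [(14,(Int.ofNat 1)), (6,(Int.ofNat 1))] .nil .nil))) (.node 40 [(29,(Int.negSucc 0))] (.node 38 [(24,(Int.negSucc 1))] (.node 35 [(20,(Int.negSucc 0))] (.node 34 [(19,(Int.ofNat 1))] .nil .nil) .nil) (.node 39 [(26,(Int.ofNat 2))] .nil .nil)) (.node 45 [(38,(Int.negSucc 0)), (24,(Int.ofNat 1))] (.node 44 [(36,(Int.negSucc 0))] (.node 41 [(33,(Int.negSucc 0)), (17,(Int.ofNat 1))] .nil .nil) .nil) (.node 46 [(39,(Int.negSucc 0)), (26,(Int.negSucc 0))] .nil .nil))))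
def ch11 : Tr (List (ℕ × ℤ)) := (.node 33 [(18,(Int.negSucc 0))] (.node 19 [(8,(Int.ofNat 1))] (.node 12 [(4,(Int.negSucc 1))] (.node 10 [(3,(Int.negSucc 0))] (.node 7 [(0,(Int.negSucc 1))] .nil .nil) .nil) (.node 17 [(7,(Int.ofNat 1)), (0,(Int.negSucc 0))] (.node 13 [(5,(Int.negSucc 1))] .nil .nil) .nil)) (.node 26 [(13,(Int.ofNat 1)), (5,(Int.negSucc 0))] (.node 24 [(12,(Int.ofNat 1)), (4,(Int.negSucc 0))] (.node 20 [(9,(Int.ofNat 1))] .nil .nil) .nil) (.node 29 [(14,(Int.ofNat 1))] .nil .nil))) (.node 40 [(30,(Int.negSucc 1))] (.node 38 [(27,(Int.negSucc 0))] (.node 35 [(23,(Int.negSucc 1))] (.node 34 [(21,(Int.negSucc 1))] .nil .nil) .nil) (.node 39 [(28,(Int.negSucc 0))] .nil .nil)) (.node 44 [(37,(Int.ofNat 1))] (.node 43 [(35,(Int.ofNat 1)), (23,(Int.negSucc 0))] (.node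 42 [(34,(Int.ofNat 1)), (21,(Int.negSucc 0))] .nil .nil) .nil) (.node 47 [(40,(Int.ofNat 1)), (30,(Int.negSucc 0))] .nil .nil))))
def ch12 : Tr (List (ℕ × ℤ)) := (.node 33 [(19,(Int.negSucc 0))] (.node 18 [(8,(Int.negSucc 0))] (.node 11 [(4,(Int.ofNat 2))] (.node 9 [(3,(Int.ofNat 1))] (.node 7 [(1,(Int.negSucc 1))] .nil .nil) .nil) (.node 16 [(7,(Int.negSucc 0)), (1,(Int.ofNat 1))] (.node 13 [(6,(Int.negSucc 1))] .nil .nil) .nil)) (.node 25 [(13,(Int.ofNat 1)), (6,(Int.negSucc 0))] (.node 23 [(11,(Int.ofNat 1)), (4,(Int.ofNat 1))] (.node 20 [(10,(Int.ofNat 1))] .nil .nil) .nil) (.node 28 [(14,(Int.ofNat 1))] .nil .nil))) (.node 40 [(31,(Int.ofNat 2))] (.node 37 [(27,(Int.negSucc 0))] (.node 36 [(24,(Int.negSucc 1))] (.node 34 [(22,(Int.negSucc 1))] .nil .nil) .nil) (.node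 39 [(29,(Int.ofNat 1))] .nil .nil)) (.node 44 [(38,(Int.negSucc 0))] (.node 43 [(36,(Int.negSucc 0)), (24,(Int.ofNat 1))] (.node 41 [(34,(Int.ofNat 1)), (22,(Int.negSucc 0))] .nil .nil) .nil) (.node 46 [(40,(Int.ofNat 1)), (31,(Int.ofNat 1))] .nil .nil))))
def ch13 : Tr (List (ℕ × ℤ)) := (.node 33 [(20,(Int.negSucc 0))] (.node 18 [(9,(Int.negSucc 0))] (.node 11 [(5,(Int.ofNat 2))] (.node 8 [(3,(Int.negSucc 0))] (.node 7 [(2,(Int.negSucc 1))] .nil .nil) .nil) (.node 15 [(7,(Int.ofNat 1)), (2,(Int.negSucc 0))] (.node 12 [(6,(Int.ofNat 2))] .nil .nil) .nil)) (.node 22 [(12,(Int.ofNat 1)), (6,(Int.ofNat 1))] (.node 21 [(11,(Int.ofNat 1)), (5,(Int.ofNat 1))] (.node 19 [(10,(Int.negSucc 0))] .nil .nil) .nil) (.node 27 [(14,(Int.ofNat 1))] .nil .nil))) (.node 40 [(32,(Int.negSucc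 1))] (.node 37 [(28,(Int.ofNat 1))] (.node 36 [(26,(Int.negSucc 1))] (.node 35 [(25,(Int.negSucc 1))] .nil .nil) .nil) (.node 38 [(29,(Int.ofNat 1))] .nil .nil)) (.node 44 [(39,(Int.ofNat 1))] (.node 42 [(36,(Int.negSucc 0)), (26,(Int.ofNat 1))] (.node 41 [(35,(Int.negSucc 0)), (25,(Int.ofNat 1))] .nil .nil) .nil) (.node 45 [(40,(Int.ofNat 1)), (32,(Int.negSucc 0))] .nil .nil))))
def ch14 : Tr (List (ℕ × ℤ)) := (.node 34 [(27,(Int.negSucc 0))] (.node 16 [(9,(Int.ofNat 1)), (5,(Int.negSucc 0))] (.node 9 [(5,(Int.negSucc 1))] (.node 8 [(4,(Int.negSucc 1))] (.node 7 [(3,(Int.negSucc 0))] .nil .nil) .nil) (.node 15 [(8,(Int.ofNat 1)), (4,(Int.negSucc 0))] (.node 10 [(6,(Int.negSucc 1))] .nil .nil) .nil)) (.node 19 [(12,(Int.ofNat 1))] (.node 18 [(11,(Int.ofNat 1))] (.node 17 [(10,(Int.ofNat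 1)), (6,(Int.negSucc 0))] .nil .nil) .nil) (.node 20 [(13,(Int.ofNat 1))] .nil .nil))) (.node 39 [(32,(Int.negSucc 1))] (.node 37 [(30,(Int.negSucc 1))] (.node 36 [(29,(Int.negSucc 0))] (.node 35 [(28,(Int.negSucc 0))] .nil .nil) .nil) (.node 38 [(31,(Int.negSucc 1))] .nil .nil)) (.node 43 [(39,(Int.ofNat 1)), (32,(Int.negSucc 0))] (.node 42 [(38,(Int.ofNat 1)), (31,(Int.negSucc 0))] (.node 41 [(37,(Int.ofNat 1)), (30,(Int.negSucc 0))] .nil .nil) .nil) (.node 44 [(40,(Int.ofNat 1))] .nil .nil))))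
def ch15 : Tr (List (ℕ × ℤ)) := (.node 29 [(19,(Int.negSucc 0))] (.node 14 [(8,(Int.negSucc 0))] (.node 6 [(1,(Int.negSucc 0))] (.node 5 [(0,(Int.negSucc 0))] .nil .nil) (.node 13 [(7,(Int.negSucc 0))] .nil .nil)) (.node 26 [(17,(Int.negSucc 0))] (.node 25 [(16,(Int.ofNat 1))] .nil .nil) (.node 28 [(18,(Int.ofNat 1))] .nil .nil))) (.node 40 [(34,(Int.ofNat 1))] (.node 31 [(22,(Int.negSucc 0))] (.node 30 [(21,(Int.ofNat 1))] .nil .nil) (.node 39 [(33,(Int.ofNat 1))] .nil .nil)) (.node 47 [(42,(Int.ofNat 1))] (.node 46 [(41,(Int.ofNat 1))] .nil .nil) .nil)))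
def ch16 : Tr (List (ℕ × ℤ)) := (.node 29 [(20,(Int.negSucc 0))] (.node 14 [(9,(Int.negSucc 0))] (.node 6 [(2,(Int.negSucc 0))] (.node 4 [(0,(Int.ofNat 1))] .nil .nil) (.node 12 [(7,(Int.ofNat 1))] .nil .nil)) (.node 24 [(17,(Int.ofNat 1))] (.node 22 [(15,(Int.ofNat 1))] .nil .nil) (.node 27 [(18,(Int.ofNat 1))] .nil .nil))) (.node 40 [(35,(Int.negSucc 0))] (.node 32 [(25,(Int.negSucc 0))] (.node 30 [(23,(Int.negSucc 0))] .nil .nil) (.node 38 [(33,(Int.ofNat 1))] .nil .nil)) (.node 47 [(43,(Int.negSucc 0))] (.node 45 [(41,(Int.ofNat 1))] .nil .nil) .nil)))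
def ch17 : Tr (List (ℕ × ℤ)) := (.node 28 [(20,(Int.negSucc 0))] (.node 14 [(10,(Int.negSucc 0))] (.node 5 [(2,(Int.ofNat 1))] (.node 4 [(1,(Int.ofNat 1))] .nil .nil) (.node 11 [(7,(Int.negSucc 0))] .nil .nil)) (.node 23 [(16,(Int.ofNat 1))] (.node 21 [(15,(Int.negSucc 0))] .nil .nil) (.node 27 [(19,(Int.ofNat 1))] .nil .nil))) (.node 40 [(36,(Int.ofNat 1))] (.node 32 [(26,(Int.ofNat 1))] (.node 31 [(24,(Int.negSucc 0))] .nil .nil) (.node 37 [(33,(Int.ofNat 1))] .nil .nil)) (.node 46 [(43,(Int.negSucc 0))] (.node 45 [(42,(Int.negSucc 0))] .nil .nil) .nil)))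
def ch18 : Tr (List (ℕ × ℤ)) := (.node 27 [(21,(Int.negSucc 1))] (.node 14 [(11,(Int.negSucc 0))] (.node 10 [(7,(Int.negSucc 0))] (.node 6 [(3,(Int.negSucc 0)), (0,(Int.ofNat 1))] (.node 3 [(0,(Int.negSucc 1))] .nil .nil) .nil) (.node 13 [(9,(Int.ofNat 1))] (.node 12 [(8,(Int.ofNat 1))] .nil .nil) .nil)) (.node 24 [(19,(Int.ofNat 1)), (15,(Int.ofNat 1))] (.node 20 [(16,(Int.ofNat 2))] (.node 19 [(15,(Int.ofNat 2))] .nil .nil) .nil) (.node 26 [(20,(Int.ofNat 1)), (16,(Int.ofNat 1))] .nil .nil))) (.node 38 [(34,(Int.negSucc 0))] (.node 32 [(28,(Int.negSucc 0)), (23,(Int.ofNat 1))] (.node 31 [(27,(Int.negSucc 0)), (21,(Int.ofNat 1))] (.node 28 [(23,(Int.negSucc 1))] .nil .nil) .nil) (.node 36 [(33,(Int.ofNat 1))] .nil .nil)) (.node 44 [(41,(Int.ofNat 2))] (.node 40 [(37,(Int.ofNat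 1))] (.node 39 [(35,(Int.negSucc 0))] .nil .nil) .nil) (.node 47 [(44,(Int.ofNat 1)), (41,(Int.ofNat 1))] .nil .nil))))
def ch19 : Tr (List (ℕ × ℤ)) := (.node 27 [(22,(Int.negSucc 1))] (.node 14 [(12,(Int.negSucc 0))] (.node 9 [(7,(Int.ofNat 1))] (.node 5 [(3,(Int.ofNat 1)), (1,(Int.negSucc 0))] (.node 3 [(1,(Int.negSucc 1))] .nil .nil) .nil) (.node 13 [(10,(Int.ofNat 1))] (.node 11 [(8,(Int.negSucc 0))] .nil .nil) .nil)) (.node 23 [(18,(Int.ofNat 1)), (15,(Int.negSucc 0))] (.node 20 [(17,(Int.ofNat 2))] (.node 18 [(15,(Int.negSucc 1))] .nil .nil) .nil) (.node 25 [(20,(Int.ofNat 1)), (17,(Int.ofNat 1))] .nil .nil))) (.node 37 [(34,(Int.negSucc 0))] (.node 32 [(29,(Int.ofNat 1)), (24,(Int.negSucc 0))] (.node 30 [(27,(Int.negSucc 0)), (22,(Int.ofNat 1))] (.node 29 [(24,(Int.negSucc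 1))] .nil .nil) .nil) (.node 35 [(33,(Int.ofNat 1))] .nil .nil)) (.node 44 [(42,(Int.negSucc 1))] (.node 40 [(38,(Int.negSucc 0))] (.node 39 [(36,(Int.ofNat 1))] .nil .nil) .nil) (.node 46 [(44,(Int.ofNat 1)), (42,(Int.negSucc 0))] .nil .nil))))
def ch20 : Tr (List (ℕ × ℤ)) := (.node 28 [(25,(Int.negSucc 1))] (.node 14 [(13,(Int.negSucc 0))] (.node 8 [(7,(Int.negSucc 0))] (.node 4 [(3,(Int.negSucc 0)), (2,(Int.ofNat 1))] (.node 3 [(2,(Int.negSucc 1))] .nil .nil) .nil) (.node 12 [(10,(Int.negSucc 0))] (.node 11 [(9,(Int.negSucc 0))] .nil .nil) .nil)) (.node 21 [(18,(Int.ofNat 1)), (16,(Int.negSucc 0))] (.node 19 [(17,(Int.negSucc 1))] (.node 18 [(16,(Int.negSucc 1))] .nil .nil) .nil) (.node 22 [(19,(Int.ofNat 1)), (17,(Int.negSucc 0))] .nil .nil))) (.node 37 [(35,(Int.ofNat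 1))] (.node 31 [(29,(Int.ofNat 1)), (26,(Int.negSucc 0))] (.node 30 [(28,(Int.ofNat 1)), (25,(Int.negSucc 0))] (.node 29 [(26,(Int.negSucc 1))] .nil .nil) .nil) (.node 34 [(33,(Int.ofNat 1))] .nil .nil)) (.node 44 [(43,(Int.ofNat 2))] (.node 40 [(39,(Int.ofNat 1))] (.node 38 [(36,(Int.ofNat 1))] .nil .nil) .nil) (.node 45 [(44,(Int.ofNat 1)), (43,(Int.ofNat 1))] .nil .nil))))
def ch21 : Tr (List (ℕ × ℤ)) := (.node 25 [(23,(Int.negSucc 0))] (.node 13 [(11,(Int.negSucc 0))] (.node 6 [(4,(Int.ofNat 1))] (.node 2 [(0,(Int.negSucc 0))] .nil .nil) (.node 10 [(8,(Int.ofNat 1))] .nil .nil)) (.node 20 [(18,(Int.negSucc 0))] (.node 17 [(15,(Int.ofNat 1))] .nil .nil) (.node 24 [(22,(Int.ofNat 1))] .nil .nil))) (.node 39 [(37,(Int.negSucc 0))] (.node 32 [(30,(Int.negSucc 0))] (.node 29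 [(27,(Int.ofNat 1))] .nil .nil) (.node 36 [(34,(Int.ofNat 1))] .nil .nil)) (.node 47 [(45,(Int.ofNat 1))] (.node 43 [(41,(Int.negSucc 0))] .nil .nil) .nil)))
def ch22 : Tr (List (ℕ × ℤ)) := (.node 26 [(24,(Int.negSucc 0))] (.node 13 [(12,(Int.negSucc 0))] (.node 5 [(4,(Int.negSucc 0))] (.node 2 [(1,(Int.negSucc 0))] .nil .nil) (.node 9 [(8,(Int.negSucc 0))] .nil .nil)) (.node 20 [(19,(Int.negSucc 0))] (.node 16 [(15,(Int.negSucc 0))] .nil .nil) (.node 23 [(21,(Int.ofNat 1))] .nil .nil))) (.node 39 [(38,(Int.ofNat 1))] (.node 32 [(31,(Int.ofNat 1))] (.node 28 [(27,(Int.ofNat 1))] .nil .nil) (.node 35 [(34,(Int.ofNat 1))] .nil .nil)) (.node 46 [(45,(Int.ofNat 1))] (.node 43 [(42,(Int.ofNat 1))] .nil .nil) .nil)))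
def ch23 : Tr (List (ℕ × ℤ)) := (.node 26 [(25,(Int.ofNat 1))] (.node 12 [(11,(Int.negSucc 0))] (.node 6 [(5,(Int.negSucc 0))] (.node 1 [(0,(Int.negSucc 0))] .nil .nil) (.node 10 [(9,(Int.negSucc 0))] .nil .nil)) (.node 19 [(18,(Int.negSucc 0))] (.node 17 [(16,(Int.negSucc 0))] .nil .nil) (.node 22 [(21,(Int.negSucc 0))] .nil .nil))) (.node 38 [(37,(Int.ofNat 1))] (.node 31 [(30,(Int.ofNat 1))] (.node 29 [(28,(Int.ofNat 1))] .nil .nil) (.node 36 [(35,(Int.ofNat 1))] .nil .nil)) (.node 47 [(46,(Int.ofNat 1))] (.node 42 [(41,(Int.ofNat 1))] .nil .nil) .nil)))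
def ch24 : Tr (List (ℕ × ℤ)) := (.node 25 [(26,(Int.ofNat 1))] (.node 11 [(12,(Int.negSucc 0))] (.node 5 [(6,(Int.negSucc 0))] (.node 0 [(1,(Int.negSucc 0))] .nil .nil) (.node 9 [(10,(Int.negSucc 0))] .nil .nil)) (.node 18 [(19,(Int.negSucc 0))] (.node 16 [(17,(Int.negSucc 0))] .nil .nil) (.node 21 [(22,(Int.negSucc 0))] .nil .nil))) (.node 37 [(38,(Int.ofNat 1))] (.node 30 [(31,(Int.ofNat 1))] (.node 28 [(29,(Int.ofNat 1))] .nil .nil) (.node 35 [(36,(Int.ofNat 1))] .nil .nil)) (.node 46 [(47,(Int.ofNat 1))] (.node 41 [(42,(Int.ofNat 1))] .nil .nil) .nil)))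
def ch25 : Tr (List (ℕ × ℤ)) := (.node 24 [(26,(Int.negSucc 0))] (.node 12 [(13,(Int.negSucc 0))] (.node 4 [(5,(Int.negSucc 0))] (.node 1 [(2,(Int.negSucc 0))] .nil .nil) (.node 8 [(9,(Int.negSucc 0))] .nil .nil)) (.node 19 [(20,(Int.negSucc 0))] (.node 15 [(16,(Int.negSucc 0))] .nil .nil) (.node 21 [(23,(Int.ofNat 1))] .nil .nil))) (.node 38 [(39,(Int.ofNat 1))] (.node 31 [(32,(Int.ofNat 1))] (.node 27 [(28,(Int.ofNat 1))] .nil .nil) (.node 34 [(35,(Int.ofNat 1))] .nil .nil)) (.node 45 [(46,(Int.ofNat 1))] (.node 42 [(43,(Int.ofNat 1))] .nil .nil) .nil)))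
def ch26 : Tr (List (ℕ × ℤ)) := (.node 23 [(25,(Int.negSucc 0))] (.node 11 [(13,(Int.negSucc 0))] (.node 4 [(6,(Int.ofNat 1))] (.node 0 [(2,(Int.negSucc 0))] .nil .nil) (.node 8 [(10,(Int.ofNat 1))] .nil .nil)) (.node 18 [(20,(Int.negSucc 0))] (.node 15 [(17,(Int.ofNat 1))] .nil .nil) (.node 22 [(24,(Int.ofNat 1))] .nil .nil))) (.node 37 [(39,(Int.negSucc 0))] (.node 30 [(32,(Int.negSucc 0))] (.node 27 [(29,(Int.ofNat 1))] .nil .nil) (.node 34 [(36,(Int.ofNat 1))] .nil .nil)) (.node 45 [(47,(Int.ofNat 1))] (.node 41 [(43,(Int.negSucc 0))] .nil .nil) .nil)))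
def ch27 : Tr (List (ℕ × ℤ)) := (.node 25 [(28,(Int.negSucc 0)), (30,(Int.negSucc 0))] (.node 13 [(14,(Int.negSucc 0))] (.node 7 [(8,(Int.negSucc 0))] (.node 3 [(4,(Int.negSucc 1))] (.node 2 [(3,(Int.negSucc 0)), (4,(Int.ofNat 1))] .nil .nil) .nil) (.node 10 [(12,(Int.negSucc 0))] (.node 9 [(11,(Int.negSucc 0))] .nil .nil) .nil)) (.node 18 [(21,(Int.ofNat 2))] (.node 17 [(19,(Int.negSucc 0)), (22,(Int.negSucc 0))] (.node 16 [(18,(Int.negSucc 0)), (21,(Int.negSucc 0))] .nil .nil) .nil) (.node 19 [(22,(Int.ofNat 2))] .nil .nil))) (.node 35 [(37,(Int.ofNat 1))] (.node 29 [(31,(Int.ofNat 2))] (.node 28 [(30,(Int.ofNat 2))] (.node 26 [(29,(Int.negSucc 0)), (31,(Int.negSucc 0))] .nil .nil) .nil) (.node 33 [(34,(Int.ofNat 1))] .nil .nil)) (.node 43 [(44,(Int.ofNat 1)), (45,(Int.ofNat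 1))] (.node 39 [(40,(Int.ofNat 1))] (.node 36 [(38,(Int.ofNat 1))] .nil .nil) .nil) (.node 44 [(45,(Int.ofNat 2))] .nil .nil))))
def ch28 : Tr (List (ℕ × ℤ)) := (.node 22 [(27,(Int.negSucc 0)), (30,(Int.ofNat 1))] (.node 12 [(14,(Int.negSucc 0))] (.node 7 [(9,(Int.ofNat 1))] (.node 3 [(5,(Int.ofNat 2))] (.node 1 [(3,(Int.negSucc 0)), (5,(Int.negSucc 0))] .nil .nil) .nil) (.node 10 [(13,(Int.ofNat 1))] (.node 8 [(11,(Int.negSucc 0))] .nil .nil) .nil)) (.node 18 [(23,(Int.ofNat 2))] (.node 17 [(20,(Int.ofNat 1)), (25,(Int.ofNat 1))] (.node 15 [(18,(Int.negSucc 0)), (23,(Int.negSucc 0))] .nil .nil) .nil) (.node 20 [(25,(Int.ofNat 2))] .nil .nil))) (.node 34 [(37,(Int.negSucc 0))] (.node 29 [(32,(Int.ofNat 2))] (.node 27 [(30,(Int.negSucc 1))] (.node 24 [(29,(Int.negSucc 0)),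 (32,(Int.negSucc 0))] .nil .nil) .nil) (.node 33 [(35,(Int.ofNat 1))] .nil .nil)) (.node 42 [(44,(Int.negSucc 0)), (46,(Int.negSucc 0))] (.node 38 [(40,(Int.negSucc 0))] (.node 36 [(39,(Int.ofNat 1))] .nil .nil) .nil) (.node 44 [(46,(Int.ofNat 2))] .nil .nil))))
def ch29 : Tr (List (ℕ × ℤ)) := (.node 21 [(27,(Int.negSucc 0)), (31,(Int.ofNat 1))] (.node 11 [(14,(Int.negSucc 0))] (.node 7 [(10,(Int.negSucc 0))] (.node 3 [(6,(Int.negSucc 1))] (.node 0 [(3,(Int.negSucc 0)), (6,(Int.ofNat 1))] .nil .nil) .nil) (.node 9 [(13,(Int.ofNat 1))] (.node 8 [(12,(Int.ofNat 1))] .nil .nil) .nil)) (.node 19 [(24,(Int.ofNat 2))] (.node 16 [(20,(Int.ofNat 1)), (26,(Int.ofNat 1))] (.node 15 [(19,(Int.ofNat 1)), (24,(Int.ofNat 1))] .nil .nil) .nil) (.node 20 [(26,(Int.ofNat 2))] .nil .nil)))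 (.node 34 [(38,(Int.negSucc 0))] (.node 28 [(32,(Int.negSucc 1))] (.node 27 [(31,(Int.negSucc 1))] (.node 23 [(28,(Int.negSucc 0)), (32,(Int.ofNat 1))] .nil .nil) .nil) (.node 33 [(36,(Int.ofNat 1))] .nil .nil)) (.node 41 [(44,(Int.ofNat 1)), (47,(Int.ofNat 1))] (.node 37 [(40,(Int.ofNat 1))] (.node 35 [(39,(Int.negSucc 0))] .nil .nil) .nil) (.node 44 [(47,(Int.ofNat 2))] .nil .nil))))
def ch30 : Tr (List (ℕ × ℤ)) := (.node 20 [(28,(Int.negSucc 0))] (.node 10 [(14,(Int.negSucc 0))] (.node 2 [(5,(Int.ofNat 1))] (.node 1 [(4,(Int.ofNat 1))] .nil .nil) (.node 7 [(11,(Int.negSucc 0))] .nil .nil)) (.node 16 [(23,(Int.ofNat 1))] (.node 15 [(21,(Int.negSucc 0))] .nil .nil) (.node 19 [(27,(Int.ofNat 1))] .nil .nil))) (.node 36 [(40,(Int.ofNat 1))] (.node 26 [(32,(Int.ofNat 1))] (.node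 24 [(31,(Int.negSucc 0))] .nil .nil) (.node 33 [(37,(Int.ofNat 1))] .nil .nil)) (.node 43 [(46,(Int.negSucc 0))] (.node 42 [(45,(Int.negSucc 0))] .nil .nil) .nil)))
def ch31 : Tr (List (ℕ × ℤ)) := (.node 20 [(29,(Int.negSucc 0))] (.node 9 [(14,(Int.negSucc 0))] (.node 2 [(6,(Int.negSucc 0))] (.node 0 [(4,(Int.ofNat 1))] .nil .nil) (.node 7 [(12,(Int.ofNat 1))] .nil .nil)) (.node 17 [(24,(Int.ofNat 1))] (.node 15 [(22,(Int.ofNat 1))] .nil .nil) (.node 18 [(27,(Int.ofNat 1))] .nil .nil))) (.node 35 [(40,(Int.negSucc 0))] (.node 25 [(32,(Int.negSucc 0))] (.node 23 [(30,(Int.negSucc 0))] .nil .nil) (.node 33 [(38,(Int.ofNat 1))] .nil .nil)) (.node 43 [(47,(Int.negSucc 0))] (.node 41 [(45,(Int.ofNat 1))] .nil .nil) .nil)))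
def ch32 : Tr (List (ℕ × ℤ)) := (.node 19 [(29,(Int.negSucc 0))] (.node 8 [(14,(Int.negSucc 0))] (.node 1 [(6,(Int.negSucc 0))] (.node 0 [(5,(Int.negSucc 0))] .nil .nil) (.node 7 [(13,(Int.negSucc 0))] .nil .nil)) (.node 17 [(26,(Int.negSucc 0))] (.node 16 [(25,(Int.ofNat 1))] .nil .nil) (.node 18 [(28,(Int.ofNat 1))] .nil .nil))) (.node 34 [(40,(Int.ofNat 1))] (.node 22 [(31,(Int.negSucc 0))] (.node 21 [(30,(Int.ofNat 1))] .nil .nil) (.node 33 [(39,(Int.ofNat 1))] .nil .nil)) (.node 42 [(47,(Int.ofNat 1))] (.node 41 [(46,(Int.ofNat 1))] .nil .nil) .nil)))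
def ch33 : Tr (List (ℕ × ℤ)) := (.node 27 [(34,(Int.negSucc 0))] (.node 9 [(16,(Int.ofNat 2))] (.node 5 [(9,(Int.negSucc 0)), (16,(Int.negSucc 0))] (.node 4 [(8,(Int.negSucc 0)), (15,(Int.negSucc 0))] (.node 3 [(7,(Int.negSucc 0))] .nil .nil) .nil) (.node 8 [(15,(Int.ofNat 2))] (.node 6 [(10,(Int.negSucc 0)), (17,(Int.negSucc 0))] .nil .nil) .nil)) (.node 12 [(19,(Int.ofNat 1))] (.node 11 [(18,(Int.ofNat 1))] (.node 10 [(17,(Int.ofNat 2))] .nil .nil) .nil) (.node 13 [(20,(Int.ofNat 1))] .nil .nil))) (.node 32 [(39,(Int.negSucc 0)), (43,(Int.negSucc 0))] (.node 30 [(37,(Int.negSucc 0)), (41,(Int.negSucc 0))] (.node 29 [(36,(Int.negSucc 0))] (.node 28 [(35,(Int.negSucc 0))] .nil .nil) .nil) (.node 31 [(38,(Int.negSucc 0)), (42,(Int.negSucc 0))] .nil .nil)) (.node 39 [(43,(Int.ofNat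 2))] (.node 38 [(42,(Int.ofNat 2))] (.node 37 [(41,(Int.ofNat 2))] .nil .nil) .nil) (.node 40 [(44,(Int.ofNat 1))] .nil .nil))))
def ch34 : Tr (List (ℕ × ℤ)) := (.node 20 [(33,(Int.negSucc 0))] (.node 9 [(18,(Int.negSucc 0))] (.node 5 [(11,(Int.ofNat 1)), (21,(Int.ofNat 1))] (.node 3 [(8,(Int.negSucc 0))] (.node 2 [(7,(Int.negSucc 0)), (15,(Int.negSucc 0))] .nil .nil) .nil) (.node 7 [(15,(Int.ofNat 2))] (.node 6 [(12,(Int.ofNat 1)), (22,(Int.ofNat 1))] .nil .nil) .nil)) (.node 12 [(22,(Int.ofNat 2))] (.node 11 [(21,(Int.ofNat 2))] (.node 10 [(19,(Int.negSucc 0))] .nil .nil) .nil) (.node 14 [(27,(Int.ofNat 1))] .nil .nil))) (.node 32 [(40,(Int.negSucc 0)), (45,(Int.negSucc 0))] (.node 28 [(37,(Int.ofNat 1))] (.node 26 [(36,(Int.negSucc 0)), (42,(Int.ofNat 1))] (.node 25 [(35,(Int.negSucc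 0)), (41,(Int.ofNat 1))] .nil .nil) .nil) (.node 29 [(38,(Int.ofNat 1))] .nil .nil)) (.node 39 [(44,(Int.ofNat 1))] (.node 36 [(42,(Int.negSucc 1))] (.node 35 [(41,(Int.negSucc 1))] .nil .nil) .nil) (.node 40 [(45,(Int.ofNat 2))] .nil .nil))))
def ch35 : Tr (List (ℕ × ℤ)) := (.node 19 [(33,(Int.negSucc 0))] (.node 8 [(18,(Int.negSucc 0))] (.node 4 [(11,(Int.ofNat 1)), (23,(Int.ofNat 1))] (.node 3 [(9,(Int.ofNat 1))] (.node 1 [(7,(Int.negSucc 0)), (16,(Int.ofNat 1))] .nil .nil) .nil) (.node 7 [(16,(Int.negSucc 1))] (.node 6 [(13,(Int.negSucc 0)), (25,(Int.negSucc 0))] .nil .nil) .nil)) (.node 13 [(25,(Int.ofNat 2))] (.node 11 [(23,(Int.ofNat 2))] (.node 10 [(20,(Int.ofNat 1))] .nil .nil) .nil) (.node 14 [(28,(Int.ofNat 1))] .nil .nil))) (.node 31 [(40,(Int.ofNat 1)), (46,(Int.ofNat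 1))] (.node 27 [(37,(Int.negSucc 0))] (.node 24 [(36,(Int.negSucc 0)), (43,(Int.ofNat 1))] (.node 22 [(34,(Int.negSucc 0)), (41,(Int.negSucc 0))] .nil .nil) .nil) (.node 29 [(39,(Int.ofNat 1))] .nil .nil)) (.node 38 [(44,(Int.negSucc 0))] (.node 36 [(43,(Int.negSucc 1))] (.node 34 [(41,(Int.ofNat 2))] .nil .nil) .nil) (.node 40 [(46,(Int.ofNat 2))] .nil .nil))))
def ch36 : Tr (List (ℕ × ℤ)) := (.node 18 [(33,(Int.negSucc 0))] (.node 8 [(19,(Int.ofNat 1))] (.node 4 [(12,(Int.negSucc 0)), (24,(Int.negSucc 0))] (.node 3 [(10,(Int.negSucc 0))] (.node 0 [(7,(Int.negSucc 0)), (17,(Int.negSucc 0))] .nil .nil) .nil) (.node 7 [(17,(Int.ofNat 2))] (.node 5 [(13,(Int.negSucc 0)), (26,(Int.negSucc 0))] .nil .nil) .nil)) (.node 13 [(26,(Int.ofNat 2))] (.node 12 [(24,(Int.ofNat 2))] (.node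 9 [(20,(Int.ofNat 1))] .nil .nil) .nil) (.node 14 [(29,(Int.ofNat 1))] .nil .nil))) (.node 30 [(40,(Int.negSucc 0)), (47,(Int.negSucc 0))] (.node 27 [(38,(Int.negSucc 0))] (.node 23 [(35,(Int.negSucc 0)), (43,(Int.negSucc 0))] (.node 21 [(34,(Int.negSucc 0)), (42,(Int.negSucc 0))] .nil .nil) .nil) (.node 28 [(39,(Int.negSucc 0))] .nil .nil)) (.node 37 [(44,(Int.ofNat 1))] (.node 35 [(43,(Int.ofNat 2))] (.node 34 [(42,(Int.ofNat 2))] .nil .nil) .nil) (.node 40 [(47,(Int.ofNat 2))] .nil .nil))))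
def ch37 : Tr (List (ℕ × ℤ)) := (.node 17 [(33,(Int.negSucc 0)), (41,(Int.ofNat 1))] (.node 8 [(21,(Int.negSucc 1))] (.node 3 [(11,(Int.ofNat 1))] (.node 2 [(9,(Int.ofNat 1)), (23,(Int.ofNat 1))] (.node 1 [(8,(Int.ofNat 1)), (21,(Int.negSucc 0))] .nil .nil) .nil) (.node 7 [(18,(Int.ofNat 1))] (.node 6 [(14,(Int.ofNat 1)), (30,(Int.ofNat 1))] .nil .nil) .nil)) (.node 13 [(28,(Int.negSucc 0))] (.node 12 [(27,(Int.ofNat 1))] (.node 9 [(23,(Int.ofNat 2))] .nil .nil) .nil) (.node 14 [(30,(Int.ofNat 2))] .nil .nil))) (.node 29 [(40,(Int.negSucc 0))] (.node 24 [(38,(Int.negSucc 0)), (45,(Int.ofNat 1))] (.node 20 [(35,(Int.negSucc 0))] (.node 19 [(34,(Int.ofNat 1))] .nil .nil) .nil) (.node 26 [(39,(Int.ofNat 1)), (46,(Int.negSucc 0))] .nil .nil)) (.node 38 [(45,(Int.negSucc 1))] (.node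 36 [(44,(Int.negSucc 0))] (.node 33 [(41,(Int.negSucc 1))] .nil .nil) .nil) (.node 39 [(46,(Int.negSucc 1))] .nil .nil))))
def ch38 : Tr (List (ℕ × ℤ)) := (.node 16 [(33,(Int.negSucc 0)), (42,(Int.ofNat 1))] (.node 8 [(22,(Int.ofNat 2))] (.node 3 [(12,(Int.negSucc 0))] (.node 2 [(10,(Int.negSucc 0)), (24,(Int.negSucc 0))] (.node 0 [(8,(Int.ofNat 1)), (22,(Int.ofNat 1))] .nil .nil) .nil) (.node 7 [(19,(Int.negSucc 0))] (.node 5 [(14,(Int.ofNat 1)), (31,(Int.ofNat 1))] .nil .nil) .nil)) (.node 13 [(29,(Int.negSucc 0))] (.node 11 [(27,(Int.ofNat 1))] (.node 10 [(24,(Int.ofNat 2))] .nil .nil) .nil) (.node 14 [(31,(Int.ofNat 2))] .nil .nil))) (.node 28 [(40,(Int.ofNat 1))] (.node 23 [(37,(Int.negSucc 0)), (45,(Int.negSucc 0))] (.node 20 [(36,(Int.negSucc 0))] (.node 18 [(34,(Int.ofNat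 1))] .nil .nil) .nil) (.node 25 [(39,(Int.negSucc 0)), (47,(Int.ofNat 1))] .nil .nil)) (.node 37 [(45,(Int.ofNat 2))] (.node 35 [(44,(Int.ofNat 1))] (.node 33 [(42,(Int.negSucc 1))] .nil .nil) .nil) (.node 39 [(47,(Int.negSucc 1))] .nil .nil))))
def ch39 : Tr (List (ℕ × ℤ)) := (.node 15 [(33,(Int.negSucc 0)), (43,(Int.ofNat 1))] (.node 9 [(25,(Int.ofNat 2))] (.node 3 [(13,(Int.ofNat 1))] (.node 1 [(10,(Int.negSucc 0)), (26,(Int.ofNat 1))] (.node 0 [(9,(Int.negSucc 0)), (25,(Int.negSucc 0))] .nil .nil) .nil) (.node 7 [(20,(Int.ofNat 1))] (.node 4 [(14,(Int.ofNat 1)), (32,(Int.ofNat 1))] .nil .nil) .nil)) (.node 12 [(29,(Int.negSucc 0))] (.node 11 [(28,(Int.ofNat 1))] (.node 10 [(26,(Int.negSucc 1))] .nil .nil) .nil) (.node 14 [(32,(Int.ofNat 2))] .nil .nil))) (.node 27 [(40,(Int.negSucc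 0))] (.node 21 [(37,(Int.ofNat 1)), (46,(Int.ofNat 1))] (.node 19 [(36,(Int.negSucc 0))] (.node 18 [(35,(Int.ofNat 1))] .nil .nil) .nil) (.node 22 [(38,(Int.negSucc 0)), (47,(Int.negSucc 0))] .nil .nil)) (.node 37 [(46,(Int.ofNat 2))] (.node 34 [(44,(Int.negSucc 0))] (.node 33 [(43,(Int.negSucc 1))] .nil .nil) .nil) (.node 38 [(47,(Int.ofNat 2))] .nil .nil))))
def ch40 : Tr (List (ℕ × ℤ)) := (.node 15 [(34,(Int.negSucc 0)), (45,(Int.ofNat 1))] (.node 9 [(28,(Int.negSucc 0))] (.node 2 [(13,(Int.ofNat 1)), (32,(Int.ofNat 1))] (.node 1 [(12,(Int.ofNat 1)), (31,(Int.negSucc 0))] (.node 0 [(11,(Int.ofNat 1)), (30,(Int.ofNat 1))] .nil .nil) .nil) (.node 8 [(27,(Int.ofNat 1))] (.node 3 [(14,(Int.ofNat 1))] .nil .nil) .nil)) (.node 12 [(31,(Int.negSucc 1))] (.node 11 [(30,(Int.ofNat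 2))] (.node 10 [(29,(Int.ofNat 1))] .nil .nil) .nil) (.node 13 [(32,(Int.ofNat 2))] .nil .nil))) (.node 20 [(39,(Int.negSucc 0))] (.node 18 [(37,(Int.negSucc 0))] (.node 17 [(36,(Int.negSucc 0)), (47,(Int.ofNat 1))] (.node 16 [(35,(Int.ofNat 1)), (46,(Int.negSucc 0))] .nil .nil) .nil) (.node 19 [(38,(Int.ofNat 1))] .nil .nil)) (.node 35 [(46,(Int.negSucc 1))] (.node 34 [(45,(Int.negSucc 1))] (.node 33 [(44,(Int.negSucc 0))] .nil .nil) .nil) (.node 36 [(47,(Int.negSucc 1))] .nil .nil))))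
def ch41 : Tr (List (ℕ × ℤ)) := (.node 13 [(35,(Int.ofNat 1))] (.node 4 [(21,(Int.negSucc 0))] (.node 2 [(16,(Int.ofNat 1))] (.node 1 [(15,(Int.ofNat 1))] .nil .nil) (.node 3 [(18,(Int.ofNat 1))] .nil .nil)) (.node 10 [(33,(Int.ofNat 1))] (.node 5 [(23,(Int.ofNat 1))] .nil .nil) (.node 12 [(34,(Int.negSucc 0))] .nil .nil))) (.node 29 [(44,(Int.negSucc 0))] (.node 24 [(42,(Int.negSucc 0))] (.node 14 [(37,(Int.negSucc 0))] .nil .nil) (.node 26 [(43,(Int.ofNat 1))] .nil .nil)) (.node 32 [(46,(Int.negSucc 0))] (.node 31 [(45,(Int.negSucc 0))] .nil .nil) .nil)))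
def ch42 : Tr (List (ℕ × ℤ)) := (.node 13 [(36,(Int.ofNat 1))] (.node 4 [(22,(Int.ofNat 1))] (.node 2 [(17,(Int.negSucc 0))] (.node 0 [(15,(Int.ofNat 1))] .nil .nil) (.node 3 [(19,(Int.negSucc 0))] .nil .nil)) (.node 9 [(33,(Int.ofNat 1))] (.node 6 [(24,(Int.ofNat 1))] .nil .nil) (.node 11 [(34,(Int.negSucc 0))] .nil .nil))) (.node 28 [(44,(Int.ofNat 1))] (.node 23 [(41,(Int.negSucc 0))] (.node 14 [(38,(Int.negSucc 0))] .nil .nil) (.node 25 [(43,(Int.negSucc 0))] .nil .nil)) (.node 32 [(47,(Int.negSucc 0))] (.node 30 [(45,(Int.ofNat 1))] .nil .nil) .nil)))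
def ch43 : Tr (List (ℕ × ℤ)) := (.node 12 [(36,(Int.ofNat 1))] (.node 5 [(25,(Int.ofNat 1))] (.node 1 [(17,(Int.negSucc 0))] (.node 0 [(16,(Int.negSucc 0))] .nil .nil) (.node 3 [(20,(Int.ofNat 1))] .nil .nil)) (.node 8 [(33,(Int.ofNat 1))] (.node 6 [(26,(Int.negSucc 0))] .nil .nil) (.node 11 [(35,(Int.negSucc 0))] .nil .nil))) (.node 27 [(44,(Int.negSucc 0))] (.node 21 [(41,(Int.ofNat 1))] (.node 14 [(39,(Int.negSucc 0))] .nil .nil) (.node 22 [(42,(Int.negSucc 0))] .nil .nil)) (.node 31 [(47,(Int.ofNat 1))] (.node 30 [(46,(Int.ofNat 1))] .nil .nil) .nil)))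
def ch44 : Tr (List (ℕ × ℤ)) := (.node 11 [(37,(Int.negSucc 0))] (.node 6 [(29,(Int.ofNat 1)), (47,(Int.negSucc 0))] (.node 2 [(20,(Int.ofNat 1)), (43,(Int.negSucc 0))] (.node 1 [(19,(Int.ofNat 1)), (42,(Int.ofNat 1))] (.node 0 [(18,(Int.ofNat 1)), (41,(Int.negSucc 0))] .nil .nil) .nil) (.node 5 [(28,(Int.negSucc 0)), (46,(Int.ofNat 1))] (.node 4 [(27,(Int.ofNat 1)), (45,(Int.negSucc 0))] .nil .nil) .nil)) (.node 9 [(35,(Int.negSucc 0))] (.node 8 [(34,(Int.ofNat 1))] (.node 7 [(33,(Int.ofNat 1))] .nil .nil) .nil) (.node 10 [(36,(Int.ofNat 1))] .nil .nil))) (.node 19 [(42,(Int.ofNat 2))] (.node 14 [(40,(Int.negSucc 0))] (.node 13 [(39,(Int.negSucc 0))] (.node 12 [(38,(Int.ofNat 1))] .nil .nil) .nil) (.node 18 [(41,(Int.negSucc 1))] .nil .nil)) (.node 28 [(46,(Int.negSucc 1))]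 (.node 27 [(45,(Int.negSucc 1))] (.node 20 [(43,(Int.negSucc 1))] .nil .nil) .nil) (.node 29 [(47,(Int.negSucc 1))] .nil .nil))))
def ch45 : Tr (List (ℕ × ℤ)) := (.node 10 [(38,(Int.ofNat 1))] (.node 5 [(30,(Int.negSucc 0))] (.node 1 [(22,(Int.ofNat 1))] (.node 0 [(21,(Int.ofNat 1))] .nil .nil) (.node 3 [(27,(Int.ofNat 1))] .nil .nil)) (.node 7 [(34,(Int.ofNat 1))] (.node 6 [(31,(Int.ofNat 1))] .nil .nil) (.node 9 [(37,(Int.negSucc 0))] .nil .nil))) (.node 20 [(44,(Int.negSucc 0))] (.node 16 [(41,(Int.negSucc 0))] (.node 13 [(40,(Int.negSucc 0))] .nil .nil) (.node 17 [(42,(Int.ofNat 1))] .nil .nil)) (.node 26 [(47,(Int.negSucc 0))] (.node 25 [(46,(Int.negSucc 0))] .nil .nil) .nil)))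
def ch46 : Tr (List (ℕ × ℤ)) := (.node 10 [(39,(Int.ofNat 1))] (.node 4 [(30,(Int.negSucc 0))] (.node 2 [(25,(Int.ofNat 1))] (.node 0 [(23,(Int.ofNat 1))] .nil .nil) (.node 3 [(28,(Int.ofNat 1))] .nil .nil)) (.node 7 [(35,(Int.ofNat 1))] (.node 6 [(32,(Int.ofNat 1))] .nil .nil) (.node 8 [(37,(Int.negSucc 0))] .nil .nil))) (.node 19 [(44,(Int.negSucc 0))] (.node 15 [(41,(Int.negSucc 0))] (.node 12 [(40,(Int.negSucc 0))] .nil .nil) (.node 17 [(43,(Int.ofNat 1))] .nil .nil)) (.node 24 [(47,(Int.negSucc 0))] (.node 22 [(45,(Int.negSucc 0))] .nil .nil) .nil)))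
def ch47 : Tr (List (ℕ × ℤ)) := (.node 9 [(39,(Int.ofNat 1))] (.node 4 [(31,(Int.negSucc 0))] (.node 2 [(26,(Int.ofNat 1))] (.node 1 [(24,(Int.ofNat 1))] .nil .nil) (.node 3 [(29,(Int.ofNat 1))] .nil .nil)) (.node 7 [(36,(Int.ofNat 1))] (.node 5 [(32,(Int.ofNat 1))] .nil .nil) (.node 8 [(38,(Int.negSucc 0))] .nil .nil))) (.node 18 [(44,(Int.negSucc 0))] (.node 15 [(42,(Int.negSucc 0))] (.node 11 [(40,(Int.negSucc 0))] .nil .nil) (.node 16 [(43,(Int.ofNat 1))] .nil .nil)) (.node 23 [(46,(Int.negSucc 0))] (.node 21 [(45,(Int.negSucc 0))] .nil .nil) .nil)))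
def chainT : Tr (Tr (List (ℕ × ℤ))) := (.node 24 ch24 (.node 12 ch12 (.node 6 ch6 (.node 3 ch3 (.node 1 ch1 (.node 0 ch0 .nil .nil) (.node 2 ch2 .nil .nil)) (.node 5 ch5 (.node 4 ch4 .nil .nil) .nil)) (.node 9 ch9 (.node 8 ch8 (.node 7 ch7 .nil .nil) .nil) (.node 11 ch11 (.node 10 ch10 .nil .nil) .nil))) (.node 18 ch18 (.node 15 ch15 (.node 14 ch14 (.node 13 ch13 .nil .nil) .nil) (.node 17 ch17 (.node 16 ch16 .nil .nil) .nil)) (.node 21 ch21 (.node 20 ch20 (.node 19 ch19 .nil .nil) .nil) (.node 23 ch23 (.node 22 ch22 .nil .nil) .nil)))) (.node 36 ch36 (.node 30 ch30 (.node 27 ch27 (.node 26 ch26 (.node 25 ch25 .nil .nil) .nil) (.node 29 ch29 (.node 28 ch28 .nil .nil) .nil)) (.node 33 ch33 (.node 32 ch32 (.node 31 ch31 .nil .nil) .nil) (.node 35 ch35 (.node 34 ch34 .nil .nil)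 .nil))) (.node 42 ch42 (.node 39 ch39 (.node 38 ch38 (.node 37 ch37 .nil .nil) .nil) (.node 41 ch41 (.node 40 ch40 .nil .nil) .nil)) (.node 45 ch45 (.node 44 ch44 (.node 43 ch43 .nil .nil) .nil) (.node 47 ch47 (.node 46 ch46 .nil .nil) .nil)))))
def negT : Tr ℕ := (.node 24 23 (.node 12 35 (.node 6 41 (.node 3 44 (.node 1 46 (.node 0 47 .nil .nil) (.node 2 45 .nil .nil)) (.node 5 42 (.node 4 43 .nil .nil) .nil)) (.node 9 38 (.node 8 39 (.node 7 40 .nil .nil) .nil) (.node 11 36 (.node 10 37 .nil .nil) .nil))) (.node 18 29 (.node 15 32 (.node 14 33 (.node 13 34 .nil .nil) .nil) (.node 17 30 (.node 16 31 .nil .nil) .nil)) (.node 21 26 (.node 20 27 (.node 19 28 .nil .nil) .nil) (.node 23 24 (.node 22 25 .nil .nil) .nil)))) (.node 36 11 (.node 30 17 (.node 27 20 (.node 26 21 (.node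 25 22 .nil .nil) .nil) (.node 29 18 (.node 28 19 .nil .nil) .nil)) (.node 33 14 (.node 32 15 (.node 31 16 .nil .nil) .nil) (.node 35 12 (.node 34 13 .nil .nil) .nil))) (.node 42 5 (.node 39 8 (.node 38 9 (.node 37 10 .nil .nil) .nil) (.node 41 6 (.node 40 7 .nil .nil) .nil)) (.node 45 2 (.node 44 3 (.node 43 4 .nil .nil) .nil) (.node 47 0 (.node 46 1 .nil .nil) .nil)))))
def nc0 : Tr Vc := (.node 26 [⟨26,(Int.ofNat 1),0,0⟩] (.node 13 [⟨13,(Int.negSucc 0),0,0⟩] (.node 6 [⟨6,(Int.ofNat 1),0,0⟩] (.node 3 [⟨3,(Int.ofNat 1),0,0⟩] (.node 1 [⟨0,(Int.ofNat 1),0,0⟩, ⟨1,(Int.ofNat 1),0,0⟩] (.node 0 [⟨0,(Int.negSucc 0),0,0⟩] .nil .nil) (.node 2 [⟨2,(Int.ofNat 1),0,0⟩] .nil .nil)) (.node 5 [⟨5,(Int.ofNat 1),0,0⟩] (.node 4 [⟨4,(Int.ofNat 1),0,0⟩] .nil .nil) .nil)) (.node 10 [⟨21,(Int.negSucc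 0),0,0⟩] (.node 8 [⟨19,(Int.negSucc 0),0,0⟩] (.node 7 [⟨11,(Int.negSucc 0),0,0⟩] .nil .nil) (.node 9 [⟨20,(Int.negSucc 0),0,0⟩] .nil .nil)) (.node 12 [⟨12,(Int.negSucc 0),0,0⟩] (.node 11 [⟨7,(Int.ofNat 1),0,0⟩] .nil .nil) .nil))) (.node 20 [⟨9,(Int.negSucc 0),0,0⟩] (.node 17 [⟨24,(Int.ofNat 1),0,0⟩] (.node 15 [⟨22,(Int.ofNat 1),0,0⟩] (.node 14 [⟨14,(Int.negSucc 0),0,0⟩] .nil .nil) (.node 16 [⟨23,(Int.ofNat 1),0,0⟩] .nil .nil)) (.node 19 [⟨8,(Int.negSucc 0),0,0⟩] (.node 18 [⟨37,(Int.negSucc 0),0,0⟩] .nil .nil) .nil)) (.node 23 [⟨16,(Int.negSucc 0),0,0⟩] (.node 22 [⟨15,(Int.negSucc 0),0,0⟩] (.node 21 [⟨10,(Int.negSucc 0),0,0⟩] .nil .nil) .nil) (.node 25 [⟨25,(Int.ofNat 1),0,0⟩] (.node 24 [⟨17,(Int.negSucc 0),0,0⟩] .nil .nil) .nil)))) (.node 39 [⟨32,(Int.ofNat 1),0,0⟩] (.node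 33 [⟨40,(Int.negSucc 0),0,0⟩] (.node 30 [⟨30,(Int.ofNat 1),0,0⟩] (.node 28 [⟨28,(Int.ofNat 1),0,0⟩] (.node 27 [⟨27,(Int.ofNat 1),0,0⟩] .nil .nil) (.node 29 [⟨29,(Int.ofNat 1),0,0⟩] .nil .nil)) (.node 32 [⟨39,(Int.negSucc 0),0,0⟩] (.node 31 [⟨38,(Int.negSucc 0),0,0⟩] .nil .nil) .nil)) (.node 36 [⟨47,(Int.negSucc 0),0,0⟩] (.node 35 [⟨46,(Int.negSucc 0),0,0⟩] (.node 34 [⟨45,(Int.negSucc 0),0,0⟩] .nil .nil) .nil) (.node 38 [⟨31,(Int.ofNat 1),0,0⟩] (.node 37 [⟨18,(Int.negSucc 0),0,0⟩] .nil .nil) .nil))) (.node 46 [⟨35,(Int.negSucc 0),0,0⟩] (.node 43 [⟨43,(Int.negSucc 0),0,0⟩] (.node 41 [⟨41,(Int.negSucc 0),0,0⟩] (.node 40 [⟨33,(Int.ofNat 1),0,0⟩] .nil .nil) (.node 42 [⟨42,(Int.negSucc 0),0,0⟩] .nil .nil)) (.node 45 [⟨34,(Int.negSucc 0),0,0⟩] (.node 44 [⟨48,(Int.ofNat 1),0,0⟩] .nil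 .nil) .nil)) (.node 49 [⟨49,(Int.ofNat 1),0,0⟩] (.node 48 [⟨44,(Int.negSucc 0),0,0⟩] (.node 47 [⟨36,(Int.negSucc 0),0,0⟩] .nil .nil) .nil) (.node 51 [⟨51,(Int.ofNat 1),0,0⟩] (.node 50 [⟨50,(Int.ofNat 1),0,0⟩] .nil .nil) .nil)))))
def nc1 : Tr Vc := (.node 26 [⟨21,(Int.negSucc 0),0,0⟩] (.node 13 [⟨15,(Int.negSucc 0),0,0⟩] (.node 6 [⟨8,(Int.ofNat 1),0,0⟩] (.node 3 [⟨3,(Int.ofNat 1),0,0⟩] (.node 1 [⟨1,(Int.negSucc 0),0,0⟩] (.node 0 [⟨0,(Int.ofNat 1),0,0⟩, ⟨1,(Int.ofNat 1),0,0⟩] .nil .nil) (.node 2 [⟨1,(Int.ofNat 1),0,0⟩, ⟨2,(Int.ofNat 1),0,0⟩] .nil .nil)) (.node 5 [⟨5,(Int.ofNat 1),0,0⟩] (.node 4 [⟨4,(Int.ofNat 1),0,0⟩] .nil .nil) .nil)) (.node 10 [⟨10,(Int.ofNat 1),0,0⟩] (.node 8 [⟨6,(Int.ofNat 1),0,0⟩] (.node 7 [⟨7,(Int.negSucc 0),0,0⟩] .nil .nil) (.node 9 [⟨9,(Int.ofNat 1),0,0⟩]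 .nil .nil)) (.node 12 [⟨11,(Int.ofNat 1),0,0⟩] (.node 11 [⟨12,(Int.negSucc 0),0,0⟩] .nil .nil) .nil))) (.node 20 [⟨25,(Int.negSucc 0),0,0⟩] (.node 17 [⟨18,(Int.negSucc 0),0,0⟩] (.node 15 [⟨13,(Int.ofNat 1),0,0⟩] (.node 14 [⟨16,(Int.negSucc 0),0,0⟩] .nil .nil) (.node 16 [⟨14,(Int.ofNat 1),0,0⟩] .nil .nil)) (.node 19 [⟨19,(Int.ofNat 1),0,0⟩] (.node 18 [⟨17,(Int.ofNat 1),0,0⟩] .nil .nil) .nil)) (.node 23 [⟨23,(Int.negSucc 0),0,0⟩] (.node 22 [⟨22,(Int.negSucc 0),0,0⟩] (.node 21 [⟨26,(Int.negSucc 0),0,0⟩] .nil .nil) .nil) (.node 25 [⟨20,(Int.negSucc 0),0,0⟩] (.node 24 [⟨31,(Int.negSucc 0),0,0⟩] .nil .nil) .nil)))) (.node 39 [⟨41,(Int.ofNat 1),0,0⟩] (.node 33 [⟨33,(Int.negSucc 0),0,0⟩] (.node 30 [⟨35,(Int.negSucc 0),0,0⟩] (.node 28 [⟨28,(Int.ofNat 1),0,0⟩] (.node 27 [⟨27,(Int.ofNat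 1),0,0⟩] .nil .nil) (.node 29 [⟨34,(Int.negSucc 0),0,0⟩] .nil .nil)) (.node 32 [⟨32,(Int.negSucc 0),0,0⟩] (.node 31 [⟨24,(Int.negSucc 0),0,0⟩] .nil .nil) .nil)) (.node 36 [⟨36,(Int.ofNat 1),0,0⟩] (.node 35 [⟨30,(Int.negSucc 0),0,0⟩] (.node 34 [⟨29,(Int.negSucc 0),0,0⟩] .nil .nil) .nil) (.node 38 [⟨37,(Int.negSucc 0),0,0⟩] (.node 37 [⟨38,(Int.ofNat 1),0,0⟩] .nil .nil) .nil))) (.node 46 [⟨46,(Int.ofNat 1),0,0⟩] (.node 43 [⟨44,(Int.ofNat 1),0,0⟩] (.node 41 [⟨39,(Int.negSucc 0),0,0⟩] (.node 40 [⟨42,(Int.ofNat 1),0,0⟩] .nil .nil) (.node 42 [⟨40,(Int.negSucc 0),0,0⟩] .nil .nil)) (.node 45 [⟨45,(Int.ofNat 1),0,0⟩] (.node 44 [⟨43,(Int.negSucc 0),0,0⟩] .nil .nil) .nil)) (.node 49 [⟨47,(Int.ofNat 1),0,0⟩] (.node 48 [⟨48,(Int.negSucc 0),0,0⟩] (.node 47 [⟨49,(Int.ofNat 1),0,0⟩] .nil .nil)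 .nil) (.node 51 [⟨51,(Int.ofNat 1),0,0⟩] (.node 50 [⟨50,(Int.ofNat 1),0,0⟩] .nil .nil) .nil)))))
def nc2 : Tr Vc := (.node 26 [⟨29,(Int.negSucc 0),0,0⟩] (.node 13 [⟨12,(Int.ofNat 1),0,0⟩] (.node 6 [⟨5,(Int.ofNat 1),0,0⟩] (.node 3 [⟨2,(Int.ofNat 1),0,0⟩, ⟨3,(Int.ofNat 1),0,0⟩] (.node 1 [⟨1,(Int.ofNat 1),0,0⟩, ⟨2,(Int.ofNat 2),0,0⟩] (.node 0 [⟨0,(Int.ofNat 1),0,0⟩] .nil .nil) (.node 2 [⟨2,(Int.negSucc 0),0,0⟩] .nil .nil)) (.node 5 [⟨6,(Int.negSucc 0),0,0⟩] (.node 4 [⟨4,(Int.ofNat 1),0,0⟩] .nil .nil) .nil)) (.node 10 [⟨10,(Int.ofNat 1),0,0⟩] (.node 8 [⟨9,(Int.negSucc 0),0,0⟩] (.node 7 [⟨7,(Int.ofNat 1),0,0⟩] .nil .nil) (.node 9 [⟨8,(Int.ofNat 1),0,0⟩] .nil .nil)) (.node 12 [⟨13,(Int.negSucc 0),0,0⟩] (.node 11 [⟨11,(Int.ofNat 1),0,0⟩] .nil .nil) .nil))) (.node 20 [⟨19,(Int.ofNat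 1),0,0⟩] (.node 17 [⟨16,(Int.ofNat 1),0,0⟩] (.node 15 [⟨15,(Int.ofNat 1),0,0⟩] (.node 14 [⟨14,(Int.ofNat 1),0,0⟩] .nil .nil) (.node 16 [⟨17,(Int.negSucc 0),0,0⟩] .nil .nil)) (.node 19 [⟨20,(Int.negSucc 0),0,0⟩] (.node 18 [⟨18,(Int.ofNat 1),0,0⟩] .nil .nil) .nil)) (.node 23 [⟨24,(Int.negSucc 0),0,0⟩] (.node 22 [⟨22,(Int.ofNat 1),0,0⟩] (.node 21 [⟨21,(Int.ofNat 1),0,0⟩] .nil .nil) .nil) (.node 25 [⟨27,(Int.ofNat 1),0,0⟩] (.node 24 [⟨23,(Int.ofNat 1),0,0⟩] .nil .nil) .nil)))) (.node 39 [⟨38,(Int.negSucc 0),0,0⟩] (.node 33 [⟨33,(Int.ofNat 1),0,0⟩] (.node 30 [⟨28,(Int.ofNat 1),0,0⟩] (.node 28 [⟨30,(Int.negSucc 0),0,0⟩] (.node 27 [⟨25,(Int.negSucc 0),0,0⟩] .nil .nil) (.node 29 [⟨26,(Int.negSucc 0),0,0⟩] .nil .nil)) (.node 32 [⟨31,(Int.negSucc 0),0,0⟩] (.node 31 [⟨32,(Int.ofNat 1),0,0⟩]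 .nil .nil) .nil)) (.node 36 [⟨35,(Int.negSucc 0),0,0⟩] (.node 35 [⟨36,(Int.ofNat 1),0,0⟩] (.node 34 [⟨34,(Int.ofNat 1),0,0⟩] .nil .nil) .nil) (.node 38 [⟨39,(Int.ofNat 1),0,0⟩] (.node 37 [⟨37,(Int.ofNat 1),0,0⟩] .nil .nil) .nil))) (.node 46 [⟨47,(Int.ofNat 1),0,0⟩] (.node 43 [⟨42,(Int.negSucc 0),0,0⟩] (.node 41 [⟨41,(Int.ofNat 1),0,0⟩] (.node 40 [⟨40,(Int.ofNat 1),0,0⟩] .nil .nil) (.node 42 [⟨43,(Int.ofNat 1),0,0⟩] .nil .nil)) (.node 45 [⟨45,(Int.ofNat 1),0,0⟩] (.node 44 [⟨44,(Int.ofNat 1),0,0⟩] .nil .nil) .nil)) (.node 49 [⟨50,(Int.ofNat 1),0,0⟩] (.node 48 [⟨48,(Int.ofNat 1),0,0⟩] (.node 47 [⟨46,(Int.negSucc 0),0,0⟩] .nil .nil) .nil) (.node 51 [⟨51,(Int.ofNat 1),0,0⟩] (.node 50 [⟨49,(Int.negSucc 0),0,0⟩] .nil .nil) .nil)))))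
def nc3 : Tr Vc := (.node 26 [⟨25,(Int.ofNat 1),0,0⟩] (.node 13 [⟨14,(Int.negSucc 0),0,0⟩] (.node 6 [⟨6,(Int.ofNat 1),0,0⟩] (.node 3 [⟨3,(Int.negSucc 0),0,0⟩] (.node 1 [⟨1,(Int.ofNat 1),0,0⟩] (.node 0 [⟨0,(Int.ofNat 1),0,0⟩] .nil .nil) (.node 2 [⟨2,(Int.ofNat 1),0,0⟩, ⟨3,(Int.ofNat 1),0,0⟩] .nil .nil)) (.node 5 [⟨4,(Int.ofNat 1),0,0⟩] (.node 4 [⟨5,(Int.negSucc 0),0,0⟩] .nil .nil) .nil)) (.node 10 [⟨9,(Int.ofNat 1),0,0⟩] (.node 8 [⟨8,(Int.ofNat 1),0,0⟩] (.node 7 [⟨7,(Int.ofNat 1),0,0⟩] .nil .nil) (.node 9 [⟨10,(Int.negSucc 0),0,0⟩] .nil .nil)) (.node 12 [⟨12,(Int.ofNat 1),0,0⟩] (.node 11 [⟨11,(Int.ofNat 1),0,0⟩] .nil .nil) .nil))) (.node 20 [⟨21,(Int.negSucc 0),0,0⟩] (.node 17 [⟨17,(Int.ofNat 1),0,0⟩] (.node 15 [⟨16,(Int.negSucc 0),0,0⟩] (.node 14 [⟨13,(Int.ofNat 1),0,0⟩] .nil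 .nil) (.node 16 [⟨15,(Int.ofNat 1),0,0⟩] .nil .nil)) (.node 19 [⟨19,(Int.ofNat 1),0,0⟩] (.node 18 [⟨18,(Int.ofNat 1),0,0⟩] .nil .nil) .nil)) (.node 23 [⟨22,(Int.ofNat 1),0,0⟩] (.node 22 [⟨23,(Int.negSucc 0),0,0⟩] (.node 21 [⟨20,(Int.ofNat 1),0,0⟩] .nil .nil) .nil) (.node 25 [⟨26,(Int.negSucc 0),0,0⟩] (.node 24 [⟨24,(Int.ofNat 1),0,0⟩] .nil .nil) .nil)))) (.node 39 [⟨40,(Int.ofNat 1),0,0⟩] (.node 33 [⟨32,(Int.negSucc 0),0,0⟩] (.node 30 [⟨29,(Int.negSucc 0),0,0⟩] (.node 28 [⟨27,(Int.negSucc 0),0,0⟩] (.node 27 [⟨28,(Int.negSucc 0),0,0⟩] .nil .nil) (.node 29 [⟨30,(Int.ofNat 1),0,0⟩] .nil .nil)) (.node 32 [⟨33,(Int.ofNat 1),0,0⟩] (.node 31 [⟨31,(Int.ofNat 1),0,0⟩] .nil .nil) .nil)) (.node 36 [⟨36,(Int.ofNat 1),0,0⟩] (.node 35 [⟨34,(Int.negSucc 0),0,0⟩] (.node 34 [⟨35,(Int.ofNat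 1),0,0⟩] .nil .nil) .nil) (.node 38 [⟨38,(Int.ofNat 1),0,0⟩] (.node 37 [⟨37,(Int.ofNat 1),0,0⟩] .nil .nil) .nil))) (.node 46 [⟨45,(Int.negSucc 0),0,0⟩] (.node 43 [⟨43,(Int.ofNat 1),0,0⟩] (.node 41 [⟨42,(Int.ofNat 1),0,0⟩] (.node 40 [⟨39,(Int.negSucc 0),0,0⟩] .nil .nil) (.node 42 [⟨41,(Int.negSucc 0),0,0⟩] .nil .nil)) (.node 45 [⟨46,(Int.ofNat 1),0,0⟩] (.node 44 [⟨44,(Int.ofNat 1),0,0⟩] .nil .nil) .nil)) (.node 49 [⟨49,(Int.ofNat 1),0,0⟩] (.node 48 [⟨48,(Int.ofNat 1),0,0⟩] (.node 47 [⟨47,(Int.ofNat 1),0,0⟩] .nil .nil) .nil) (.node 51 [⟨50,(Int.negSucc 0),0,0⟩] (.node 50 [⟨51,(Int.ofNat 1),0,0⟩] .nil .nil) .nil)))))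
def nT : Tr (Tr Vc) := (.node 2 nc2 (.node 1 nc1 (.node 0 nc0 .nil .nil) .nil) (.node 3 nc3 .nil .nil))
def wc0 : Tr (ℕ × ℤ) := (.node 24 (24,(Int.ofNat 1)) (.node 12 (19,(Int.ofNat 1)) (.node 6 (17,(Int.negSucc 0)) (.node 3 (7,(Int.negSucc 0)) (.node 1 (1,(Int.ofNat 1)) (.node 0 (0,(Int.ofNat 1)) .nil .nil) (.node 2 (2,(Int.ofNat 1)) .nil .nil)) (.node 5 (16,(Int.negSucc 0)) (.node 4 (15,(Int.negSucc 0)) .nil .nil) .nil)) (.node 9 (9,(Int.negSucc 0)) (.node 8 (8,(Int.negSucc 0)) (.node 7 (3,(Int.ofNat 1)) .nil .nil) .nil) (.node 11 (18,(Int.ofNat 1)) (.node 10 (10,(Int.negSucc 0)) .nil .nil) .nil))) (.node 18 (11,(Int.negSucc 0)) (.node 15 (4,(Int.negSucc 0)) (.node 14 (33,(Int.negSucc 0)) (.node 13 (20,(Int.ofNat 1)) .nil .nil) .nil) (.node 17 (6,(Int.negSucc 0)) (.node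 16 (5,(Int.negSucc 0)) .nil .nil) .nil)) (.node 21 (21,(Int.ofNat 1)) (.node 20 (13,(Int.negSucc 0)) (.node 19 (12,(Int.negSucc 0)) .nil .nil) .nil) (.node 23 (23,(Int.ofNat 1)) (.node 22 (22,(Int.ofNat 1)) .nil .nil) .nil)))) (.node 36 (29,(Int.ofNat 1)) (.node 30 (41,(Int.negSucc 0)) (.node 27 (34,(Int.negSucc 0)) (.node 26 (26,(Int.ofNat 1)) (.node 25 (25,(Int.ofNat 1)) .nil .nil) .nil) (.node 29 (36,(Int.negSucc 0)) (.node 28 (35,(Int.negSucc 0)) .nil .nil) .nil)) (.node 33 (14,(Int.negSucc 0)) (.node 32 (43,(Int.negSucc 0)) (.node 31 (42,(Int.negSucc 0)) .nil .nil) .nil) (.node 35 (28,(Int.ofNat 1)) (.node 34 (27,(Int.ofNat 1)) .nil .nil) .nil))) (.node 42 (31,(Int.negSucc 0)) (.node 39 (39,(Int.negSucc 0)) (.node 38 (38,(Int.negSucc 0)) (.node 37 (37,(Int.negSucc 0))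 .nil .nil) .nil) (.node 41 (30,(Int.negSucc 0)) (.node 40 (44,(Int.ofNat 1)) .nil .nil) .nil)) (.node 45 (45,(Int.ofNat 1)) (.node 44 (40,(Int.negSucc 0)) (.node 43 (32,(Int.negSucc 0)) .nil .nil) .nil) (.node 47 (47,(Int.ofNat 1)) (.node 46 (46,(Int.ofNat 1)) .nil .nil) .nil)))))
def wc1 : Tr (ℕ × ℤ) := (.node 24 (24,(Int.ofNat 1)) (.node 12 (10,(Int.ofNat 1)) (.node 6 (6,(Int.ofNat 1)) (.node 3 (3,(Int.negSucc 0)) (.node 1 (1,(Int.ofNat 1)) (.node 0 (0,(Int.ofNat 1)) .nil .nil) (.node 2 (4,(Int.ofNat 1)) .nil .nil)) (.node 5 (5,(Int.ofNat 1)) (.node 4 (2,(Int.ofNat 1)) .nil .nil) .nil)) (.node 9 (11,(Int.negSucc 0)) (.node 8 (7,(Int.ofNat 1)) (.node 7 (8,(Int.negSucc 0)) .nil .nil) .nil) (.node 11 (9,(Int.ofNat 1)) (.node 10 (12,(Int.negSucc 0)) .nil .nil) .nil))) (.node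 18 (18,(Int.negSucc 0)) (.node 15 (15,(Int.ofNat 1)) (.node 14 (13,(Int.ofNat 1)) (.node 13 (14,(Int.negSucc 0)) .nil .nil) .nil) (.node 17 (22,(Int.negSucc 0)) (.node 16 (21,(Int.negSucc 0)) .nil .nil) .nil)) (.node 21 (16,(Int.negSucc 0)) (.node 20 (27,(Int.negSucc 0)) (.node 19 (19,(Int.negSucc 0)) .nil .nil) .nil) (.node 23 (23,(Int.ofNat 1)) (.node 22 (17,(Int.negSucc 0)) .nil .nil) .nil)))) (.node 36 (38,(Int.ofNat 1)) (.node 30 (25,(Int.negSucc 0)) (.node 27 (20,(Int.negSucc 0)) (.node 26 (31,(Int.negSucc 0)) (.node 25 (30,(Int.negSucc 0)) .nil .nil) .nil) (.node 29 (29,(Int.negSucc 0)) (.node 28 (28,(Int.negSucc 0)) .nil .nil) .nil)) (.node 33 (34,(Int.ofNat 1)) (.node 32 (32,(Int.ofNat 1)) (.node 31 (26,(Int.negSucc 0)) .nil .nil) .nil) (.node 35 (37,(Int.ofNat 1))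 (.node 34 (33,(Int.negSucc 0)) .nil .nil) .nil))) (.node 42 (42,(Int.ofNat 1)) (.node 39 (40,(Int.ofNat 1)) (.node 38 (36,(Int.negSucc 0)) (.node 37 (35,(Int.negSucc 0)) .nil .nil) .nil) (.node 41 (41,(Int.ofNat 1)) (.node 40 (39,(Int.negSucc 0)) .nil .nil) .nil)) (.node 45 (43,(Int.ofNat 1)) (.node 44 (44,(Int.negSucc 0)) (.node 43 (45,(Int.ofNat 1)) .nil .nil) .nil) (.node 47 (47,(Int.ofNat 1)) (.node 46 (46,(Int.ofNat 1)) .nil .nil) .nil)))))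
def wc2 : Tr (ℕ × ℤ) := (.node 24 (26,(Int.negSucc 0)) (.node 12 (13,(Int.negSucc 0)) (.node 6 (6,(Int.ofNat 1)) (.node 3 (3,(Int.ofNat 1)) (.node 1 (2,(Int.negSucc 0)) (.node 0 (0,(Int.ofNat 1)) .nil .nil) (.node 2 (1,(Int.ofNat 1)) .nil .nil)) (.node 5 (4,(Int.ofNat 1)) (.node 4 (5,(Int.negSucc 0)) .nil .nil) .nil)) (.node 9 (8,(Int.ofNat 1)) (.node 8 (9,(Int.negSucc 0)) (.node 7 (7,(Int.ofNat 1)) .nil .nil) .nil) (.node 11 (11,(Int.ofNat 1)) (.node 10 (10,(Int.ofNat 1)) .nil .nil) .nil))) (.node 18 (18,(Int.ofNat 1)) (.node 15 (16,(Int.negSucc 0)) (.node 14 (14,(Int.ofNat 1)) (.node 13 (12,(Int.ofNat 1)) .nil .nil) .nil) (.node 17 (17,(Int.ofNat 1)) (.node 16 (15,(Int.ofNat 1)) .nil .nil) .nil)) (.node 21 (23,(Int.ofNat 1)) (.node 20 (19,(Int.ofNat 1)) (.node 19 (20,(Int.negSucc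 0)) .nil .nil) .nil) (.node 23 (21,(Int.negSucc 0)) (.node 22 (25,(Int.negSucc 0)) .nil .nil) .nil)))) (.node 36 (36,(Int.ofNat 1)) (.node 30 (30,(Int.ofNat 1)) (.node 27 (28,(Int.ofNat 1)) (.node 26 (24,(Int.ofNat 1)) (.node 25 (22,(Int.negSucc 0)) .nil .nil) .nil) (.node 29 (29,(Int.ofNat 1)) (.node 28 (27,(Int.negSucc 0)) .nil .nil) .nil)) (.node 33 (33,(Int.ofNat 1)) (.node 32 (31,(Int.negSucc 0)) (.node 31 (32,(Int.ofNat 1)) .nil .nil) .nil) (.node 35 (34,(Int.negSucc 0)) (.node 34 (35,(Int.ofNat 1)) .nil .nil) .nil))) (.node 42 (43,(Int.ofNat 1)) (.node 39 (38,(Int.negSucc 0)) (.node 38 (39,(Int.ofNat 1)) (.node 37 (37,(Int.ofNat 1)) .nil .nil) .nil) (.node 41 (41,(Int.ofNat 1)) (.node 40 (40,(Int.ofNat 1)) .nil .nil) .nil)) (.node 45 (46,(Int.ofNat 1)) (.node 44 (44,(Int.ofNat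 1)) (.node 43 (42,(Int.negSucc 0)) .nil .nil) .nil) (.node 47 (47,(Int.ofNat 1)) (.node 46 (45,(Int.negSucc 0)) .nil .nil) .nil)))))
def wc3 : Tr (ℕ × ℤ) := (.node 24 (23,(Int.negSucc 0)) (.node 12 (11,(Int.ofNat 1)) (.node 6 (5,(Int.ofNat 1)) (.node 3 (3,(Int.ofNat 1)) (.node 1 (0,(Int.ofNat 1)) (.node 0 (1,(Int.negSucc 0)) .nil .nil) (.node 2 (2,(Int.ofNat 1)) .nil .nil)) (.node 5 (6,(Int.negSucc 0)) (.node 4 (4,(Int.ofNat 1)) .nil .nil) .nil)) (.node 9 (10,(Int.negSucc 0)) (.node 8 (8,(Int.ofNat 1)) (.node 7 (7,(Int.ofNat 1)) .nil .nil) .nil) (.node 11 (12,(Int.negSucc 0)) (.node 10 (9,(Int.ofNat 1)) .nil .nil) .nil))) (.node 18 (19,(Int.negSucc 0)) (.node 15 (15,(Int.ofNat 1)) (.node 14 (14,(Int.ofNat 1)) (.node 13 (13,(Int.ofNat 1)) .nil .nil) .nil) (.node 17 (16,(Int.ofNat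 1)) (.node 16 (17,(Int.negSucc 0)) .nil .nil) .nil)) (.node 21 (22,(Int.negSucc 0)) (.node 20 (20,(Int.ofNat 1)) (.node 19 (18,(Int.ofNat 1)) .nil .nil) .nil) (.node 23 (24,(Int.negSucc 0)) (.node 22 (21,(Int.ofNat 1)) .nil .nil) .nil)))) (.node 36 (35,(Int.negSucc 0)) (.node 30 (31,(Int.ofNat 1)) (.node 27 (27,(Int.ofNat 1)) (.node 26 (25,(Int.negSucc 0)) (.node 25 (26,(Int.ofNat 1)) .nil .nil) .nil) (.node 29 (28,(Int.negSucc 0)) (.node 28 (29,(Int.ofNat 1)) .nil .nil) .nil)) (.node 33 (33,(Int.ofNat 1)) (.node 32 (32,(Int.ofNat 1)) (.node 31 (30,(Int.negSucc 0)) .nil .nil) .nil) (.node 35 (36,(Int.ofNat 1)) (.node 34 (34,(Int.ofNat 1)) .nil .nil) .nil))) (.node 42 (41,(Int.negSucc 0)) (.node 39 (39,(Int.ofNat 1)) (.node 38 (37,(Int.negSucc 0)) (.node 37 (38,(Int.ofNat 1))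 .nil .nil) .nil) (.node 41 (42,(Int.ofNat 1)) (.node 40 (40,(Int.ofNat 1)) .nil .nil) .nil)) (.node 45 (45,(Int.ofNat 1)) (.node 44 (44,(Int.ofNat 1)) (.node 43 (43,(Int.ofNat 1)) .nil .nil) .nil) (.node 47 (46,(Int.negSucc 0)) (.node 46 (47,(Int.ofNat 1)) .nil .nil) .nil)))))
def wT : Tr (Tr (ℕ × ℤ)) := (.node 2 wc2 (.node 1 wc1 (.node 0 wc0 .nil .nil) .nil) (.node 3 wc3 .nil .nil))
def dT : Tr (ℕ × ℕ) := (.node 24 (2,2) (.node 12 (3,2) (.node 6 (3,0) (.node 3 (8,0) (.node 1 (7,2) (.node 0 (8,3) .nil .nil) (.node 2 (6,1) .nil .nil)) (.node 5 (4,3) (.node 4 (5,2) .nil .nil) .nil)) (.node 9 (5,3) (.node 8 (6,2) (.node 7 (7,1) .nil .nil) .nil) (.node 11 (4,3) (.node 10 (4,1) .nil .nil) .nil))) (.node 18 (5,3) (.node 15 (4,2) (.node 14 (1,0) (.node 13 (2,1) .nil .nil) .nil) (.node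 17 (2,1) (.node 16 (3,3) .nil .nil) .nil)) (.node 21 (2,3) (.node 20 (3,0) (.node 19 (4,2) .nil .nil) .nil) (.node 23 (3,2) (.node 22 (1,2) .nil .nil) .nil)))) (.node 36 (3,3) (.node 30 (1,1) (.node 27 (2,0) (.node 26 (1,3) (.node 25 (0,0) .nil .nil) .nil) (.node 29 (4,3) (.node 28 (3,2) .nil .nil) .nil)) (.node 33 (0,0) (.node 32 (3,2) (.node 31 (2,3) .nil .nil) .nil) (.node 35 (2,2) (.node 34 (1,1) .nil .nil) .nil))) (.node 42 (3,3) (.node 39 (5,2) (.node 38 (4,3) (.node 37 (3,1) .nil .nil) .nil) (.node 41 (2,0) (.node 40 (6,1) .nil .nil) .nil)) (.node 45 (5,1) (.node 44 (7,0) (.node 43 (4,2) .nil .nil) .nil) (.node 47 (7,3) (.node 46 (6,2) .nil .nil) .nil)))))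

end Cfsg.Agent.Lib.Chevalley.Tbl.F4
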