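import Cfsg.Agent.Lib.Chevalley.Tbl.F4
import Cfsg.Agent.Lib.Chevalley.SysOf

set_option autoImplicit false
set_option maxRecDepth 1000000

namespace Cfsg.Agent.Lib.Chevalley.Tbl.F4
open Cfsg.Lie Cfsg.Agent.Lib.Chevalley.Reflect Cfsg.Agent.Lib.Chevalley.Comm Cfsg.Agent.Lib.Chevalley.Basic Cfsg.Agent.Lib.Chevalley.Extra Cfsg.Agent.Lib.Chevalley.SysOf

noncomputable def ca0 : Tr ℤ := (.node 24 (Int.ofNat 0) (.node 12 (Int.negSucc 0) (.node 6 (Int.negSucc 1) (.node 3 (Int.negSucc 0) (.node 1 (Int.ofNat 0) (.node 0 (Int.ofNat 0) .nil .nil) (.node 2 (Int.ofNat 0) .nil .nil)) (.node 5 (Int.negSucc 1) (.node 4 (Int.negSucc 1) .nil .nil) .nil)) (.node 9 (Int.ofNat 0) (.node 8 (Int.ofNat 0) (.node 7 (Int.ofNat 1) .nil .nil) .nil) (.node 11 (Int.negSucc 0) (.node 10 (Int.ofNat 0) .nil .nil) .nil))) (.node 18 (Int.ofNat 1) (.node 15 (Int.ofNat 2) (.node 14 (Int.negSucc 1) (.node 13 (Int.negSucc 0) .nil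 .nil) .nil) (.node 17 (Int.ofNat 2) (.node 16 (Int.ofNat 2) .nil .nil) .nil)) (.node 21 (Int.ofNat 0) (.node 20 (Int.ofNat 1) (.node 19 (Int.ofNat 1) .nil .nil) .nil) (.node 23 (Int.ofNat 0) (.node 22 (Int.ofNat 0) .nil .nil) .nil)))) (.node 36 (Int.ofNat 1) (.node 30 (Int.negSucc 1) (.node 27 (Int.negSucc 0) (.node 26 (Int.ofNat 0) (.node 25 (Int.ofNat 0) .nil .nil) .nil) (.node 29 (Int.negSucc 0) (.node 28 (Int.negSucc 0) .nil .nil) .nil)) (.node 33 (Int.ofNat 2) (.node 32 (Int.negSucc 1) (.node 31 (Int.negSucc 1) .nil .nil) .nil) (.node 35 (Int.ofNat 1) (.node 34 (Int.ofNat 1) .nil .nil) .nil))) (.node 42 (Int.ofNat 2) (.node 39 (Int.ofNat 0) (.node 38 (Int.ofNat 0) (.node 37 (Int.ofNat 0) .nil .nil) .nil) (.node 41 (Int.ofNat 2) (.node 40 (Int.negSucc 0) .nil .nil) .nil)) (.node 45 (Int.ofNat 0) (.node 44 (Int.ofNat 1) (.node 43 (Int.ofNat 2) .nil .nil) .nil) (.node 47 (Int.ofNat 0)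 (.node 46 (Int.ofNat 0) .nil .nil) .nil)))))
noncomputable def ca1 : Tr ℤ := (.node 24 (Int.ofNat 0) (.node 12 (Int.ofNat 1) (.node 6 (Int.ofNat 0) (.node 3 (Int.ofNat 0) (.node 1 (Int.ofNat 0) (.node 0 (Int.ofNat 0) .nil .nil) (.node 2 (Int.negSucc 1) .nil .nil)) (.node 5 (Int.ofNat 0) (.node 4 (Int.ofNat 2) .nil .nil) .nil)) (.node 9 (Int.negSucc 0) (.node 8 (Int.ofNat 1) (.node 7 (Int.negSucc 0) .nil .nil) .nil) (.node 11 (Int.ofNat 1) (.node 10 (Int.negSucc 0) .nil .nil) .nil))) (.node 18 (Int.ofNat 0) (.node 15 (Int.ofNat 0) (.node 14 (Int.ofNat 1) (.node 13 (Int.negSucc 0) .nil .nil) .nil) (.node 17 (Int.negSucc 1) (.node 16 (Int.negSucc 1) .nil .nil) .nil)) (.node 21 (Int.ofNat 2) (.node 20 (Int.negSucc 1) (.node 19 (Int.ofNat 0) .nil .nil) .nil) (.node 23 (Int.ofNat 0) (.node 22 (Int.ofNat 2) .nil .nil) .nil)))) (.node 36 (Int.negSucc 0) (.node 30 (Int.ofNat 2) (.node 27 (Int.ofNat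 2) (.node 26 (Int.negSucc 1) (.node 25 (Int.negSucc 1) .nil .nil) .nil) (.node 29 (Int.ofNat 0) (.node 28 (Int.ofNat 0) .nil .nil) .nil)) (.node 33 (Int.negSucc 0) (.node 32 (Int.ofNat 0) (.node 31 (Int.ofNat 2) .nil .nil) .nil) (.node 35 (Int.negSucc 0) (.node 34 (Int.ofNat 1) .nil .nil) .nil))) (.node 42 (Int.ofNat 0) (.node 39 (Int.negSucc 0) (.node 38 (Int.ofNat 1) (.node 37 (Int.ofNat 1) .nil .nil) .nil) (.node 41 (Int.ofNat 0) (.node 40 (Int.ofNat 1) .nil .nil) .nil)) (.node 45 (Int.ofNat 2) (.node 44 (Int.ofNat 0) (.node 43 (Int.negSucc 1) .nil .nil) .nil) (.node 47 (Int.ofNat 0) (.node 46 (Int.ofNat 0) .nil .nil) .nil)))))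
noncomputable def ca2 : Tr ℤ := (.node 24 (Int.negSucc 0) (.node 12 (Int.negSucc 0) (.node 6 (Int.ofNat 0) (.node 3 (Int.ofNat 0) (.node 1 (Int.negSucc 0) (.node 0 (Int.ofNat 0) .nil .nil) (.node 2 (Int.ofNat 1) .nil .nil)) (.node 5 (Int.ofNat 1) (.node 4 (Int.negSucc 0) .nil .nil) .nil)) (.node 9 (Int.ofNat 1) (.node 8 (Int.negSucc 0) (.node 7 (Int.ofNat 0) .nil .nil) .nil) (.node 11 (Int.ofNat 0) (.node 10 (Int.ofNat 0) .nil .nil) .nil))) (.node 18 (Int.ofNat 0) (.node 15 (Int.negSucc 0) (.node 14 (Int.ofNat 0) (.node 13 (Int.ofNat 1) .nil .nil) .nil) (.node 17 (Int.ofNat 0) (.node 16 (Int.ofNat 1) .nil .nil) .nil)) (.node 21 (Int.negSucc 0) (.node 20 (Int.ofNat 1) (.node 19 (Int.negSucc 0) .nil .nil) .nil) (.node 23 (Int.ofNat 1) (.node 22 (Int.negSucc 1) .nil .nil) .nil)))) (.node 36 (Int.ofNat 0) (.node 30 (Int.ofNat 0) (.node 27 (Int.negSucc 0) (.node 26 (Int.ofNat 1) (.node 25 (Int.ofNat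 2) .nil .nil) .nil) (.node 29 (Int.ofNat 0) (.node 28 (Int.ofNat 1) .nil .nil) .nil)) (.node 33 (Int.ofNat 0) (.node 32 (Int.ofNat 1) (.node 31 (Int.negSucc 0) .nil .nil) .nil) (.node 35 (Int.ofNat 1) (.node 34 (Int.negSucc 0) .nil .nil) .nil))) (.node 42 (Int.negSucc 0) (.node 39 (Int.ofNat 1) (.node 38 (Int.negSucc 0) (.node 37 (Int.ofNat 0) .nil .nil) .nil) (.node 41 (Int.ofNat 0) (.node 40 (Int.ofNat 0) .nil .nil) .nil)) (.node 45 (Int.negSucc 0) (.node 44 (Int.ofNat 0) (.node 43 (Int.ofNat 1) .nil .nil) .nil) (.node 47 (Int.ofNat 0) (.node 46 (Int.ofNat 1) .nil .nil) .nil)))))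
noncomputable def ca3 : Tr ℤ := (.node 24 (Int.ofNat 2) (.node 12 (Int.ofNat 1) (.node 6 (Int.ofNat 1) (.node 3 (Int.ofNat 0) (.node 1 (Int.ofNat 1) (.node 0 (Int.negSucc 0) .nil .nil) (.node 2 (Int.ofNat 0) .nil .nil)) (.node 5 (Int.negSucc 0) (.node 4 (Int.ofNat 0) .nil .nil) .nil)) (.node 9 (Int.negSucc 0) (.node 8 (Int.ofNat 0) (.node 7 (Int.ofNat 0) .nil .nil) .nil) (.node 11 (Int.negSucc 0) (.node 10 (Int.ofNat 1) .nil .nil) .nil))) (.node 18 (Int.negSucc 0) (.node 15 (Int.ofNat 0) (.node 14 (Int.ofNat 0) (.node 13 (Int.ofNat 0) .nil .nil) .nil) (.node 17 (Int.ofNat 1) (.node 16 (Int.negSucc 0) .nil .nil) .nil)) (.node 21 (Int.negSucc 0) (.node 20 (Int.ofNat 0) (.node 19 (Int.ofNat 1) .nil .nil) .nil) (.node 23 (Int.negSucc 1) (.node 22 (Int.ofNat 1) .nil .nil) .nil)))) (.node 36 (Int.ofNat 1) (.node 30 (Int.negSucc 0) (.node 27 (Int.ofNat 0) (.node 26 (Int.ofNat 1) (.node 25 (Int.negSucc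 0) .nil .nil) .nil) (.node 29 (Int.ofNat 1) (.node 28 (Int.negSucc 0) .nil .nil) .nil)) (.node 33 (Int.ofNat 0) (.node 32 (Int.ofNat 0) (.node 31 (Int.ofNat 1) .nil .nil) .nil) (.node 35 (Int.negSucc 0) (.node 34 (Int.ofNat 0) .nil .nil) .nil))) (.node 42 (Int.ofNat 1) (.node 39 (Int.ofNat 0) (.node 38 (Int.ofNat 1) (.node 37 (Int.negSucc 0) .nil .nil) .nil) (.node 41 (Int.negSucc 0) (.node 40 (Int.ofNat 0) .nil .nil) .nil)) (.node 45 (Int.ofNat 0) (.node 44 (Int.ofNat 0) (.node 43 (Int.ofNat 0) .nil .nil) .nil) (.node 47 (Int.ofNat 1) (.node 46 (Int.negSucc 0) .nil .nil) .nil)))))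
noncomputable def caT : Tr (Tr ℤ) := (.node 2 ca2 (.node 1 ca1 (.node 0 ca0 .nil .nil) .nil) (.node 3 ca3 .nil .nil))

theorem posneg_check : posNegCheck chevF4 = true := by decide +kernel

theorem shape_check0 : shapeCheck chevF4 nT wT negT 0 = true := by decide +kernel

theorem h_check0 : hCheckI chevF4 cols caT 0 = true := by decide +kernel

theorem shape_check1 : shapeCheck chevF4 nT wT negT 1 = true := by decide +kernel

theorem h_check1 : hCheckI chevF4 cols caT 1 = true := by decide +kernel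

theorem shape_check2 : shapeCheck chevF4 nT wT negT 2 = true := by decide +kernel

theorem h_check2 : hCheckI chevF4 cols caT 2 = true := by decide +kernel

theorem shape_check3 : shapeCheck chevF4 nT wT negT 3 = true := by decide +kernel

theorem h_check3 : hCheckI chevF4 cols caT 3 = true := by decide +kernel

end Cfsg.Agent.Lib.Chevalley.Tbl.F4
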