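import Cfsg.Agent.Lib.Chevalley.Comm
import Cfsg.Prelude.Def_ChevG2

set_option autoImplicit false
set_option maxRecDepth 1000000

namespace Cfsg.Agent.Lib.Chevalley.Tbl.G2
open Cfsg.Lie Cfsg.Agent.Lib.Chevalley.Reflect Cfsg.Agent.Lib.Chevalley.Comm


def col0 : Tr Cl := (.node 10 [⟨4,(Int.ofNat 1),1⟩] (.node 1 [⟨2,(Int.ofNat 1),1⟩] (.node 0 [⟨2,(Int.ofNat 0),1⟩] .nil .nil) (.node 8 [⟨3,(Int.ofNat 1),1⟩] .nil .nil)) (.node 12 [⟨7,(Int.negSucc 0),1⟩] (.node 11 [⟨5,(Int.negSucc 0),1⟩] .nil .nil) (.node 13 [⟨0,(Int.negSucc 0),1⟩, ⟨1,(Int.negSucc 1),1⟩, ⟨2,(Int.negSucc 0),2⟩] .nil .nil)))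
def col1 : Tr Cl := (.node 9 [⟨4,(Int.ofNat 1),1⟩] (.node 1 [⟨3,(Int.negSucc 0),1⟩] (.node 0 [⟨3,(Int.ofNat 3),1⟩] .nil .nil) (.node 7 [⟨2,(Int.ofNat 1),1⟩] .nil .nil)) (.node 12 [⟨0,(Int.negSucc 0),1⟩, ⟨1,(Int.negSucc 0),1⟩, ⟨3,(Int.negSucc 0),2⟩] (.node 11 [⟨6,(Int.negSucc 0),1⟩] .nil .nil) (.node 13 [⟨8,(Int.negSucc 0),1⟩] .nil .nil)))
def col2 : Tr Cl := (.node 9 [⟨5,(Int.negSucc 1),1⟩, ⟨2,(Int.negSucc 2),2⟩] (.node 5 [⟨2,(Int.ofNat 3),1⟩] (.node 1 [⟨4,(Int.ofNat 0),1⟩] (.node 0 [⟨4,(Int.ofNat 1),1⟩] .nil .nil) .nil) (.node 6 [⟨3,(Int.ofNat 3),1⟩] .nil .nil)) (.node 12 [⟨9,(Int.negSucc 0),1⟩, ⟨5,(Int.ofNat 1),2⟩, ⟨2,(Int.ofNat 1),3⟩] (.node 11 [⟨0,(Int.negSucc 1),1⟩, ⟨1,(Int.negSucc 2),1⟩, ⟨4,(Int.negSucc 0),2⟩] (.node 10 [⟨6,(Int.ofNat 2),1⟩, ⟨3,(Int.ofNat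 3),2⟩] .nil .nil) .nil) (.node 13 [⟨10,(Int.negSucc 0),1⟩, ⟨6,(Int.negSucc 0),2⟩, ⟨3,(Int.negSucc 0),3⟩] .nil .nil)))
def col3 : Tr Cl := (.node 8 [⟨6,(Int.ofNat 1),1⟩, ⟨4,(Int.negSucc 0),2⟩, ⟨2,(Int.ofNat 1),3⟩] (.node 4 [⟨2,(Int.negSucc 2),1⟩] (.node 1 [⟨5,(Int.ofNat 1),1⟩] (.node 0 [⟨5,(Int.negSucc 0),1⟩] .nil .nil) .nil) (.node 6 [⟨4,(Int.negSucc 1),1⟩, ⟨2,(Int.ofNat 3),2⟩] .nil .nil)) (.node 11 [⟨9,(Int.ofNat 2),1⟩, ⟨7,(Int.negSucc 2),2⟩] (.node 10 [⟨0,(Int.negSucc 0),1⟩, ⟨1,(Int.negSucc 2),1⟩, ⟨5,(Int.negSucc 0),2⟩] (.node 9 [⟨7,(Int.negSucc 2),1⟩] .nil .nil) .nil) (.node 13 [⟨11,(Int.ofNat 1),1⟩, ⟨9,(Int.ofNat 1),2⟩, ⟨7,(Int.negSucc 0),3⟩] .nil .nil)))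
def col4 : Tr Cl := (.node 7 [⟨5,(Int.ofNat 1),1⟩, ⟨4,(Int.ofNat 1),2⟩, ⟨3,(Int.negSucc 0),3⟩] (.node 4 [⟨3,(Int.negSucc 2),1⟩] (.node 1 [⟨6,(Int.negSucc 0),1⟩] (.node 0 [⟨6,(Int.ofNat 2),1⟩] .nil .nil) .nil) (.node 5 [⟨4,(Int.ofNat 2),1⟩, ⟨3,(Int.negSucc 2),2⟩] .nil .nil)) (.node 11 [⟨10,(Int.negSucc 1),1⟩, ⟨8,(Int.ofNat 3),2⟩] (.node 10 [⟨8,(Int.negSucc 2),1⟩] (.node 9 [⟨0,(Int.negSucc 0),1⟩, ⟨1,(Int.ofNat 0),1⟩, ⟨6,(Int.negSucc 0),2⟩] .nil .nil) .nil) (.node 12 [⟨11,(Int.ofNat 1),1⟩, ⟨10,(Int.negSucc 0),2⟩, ⟨8,(Int.ofNat 1),3⟩] .nil .nil)))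
def col5 : Tr Cl := (.node 6 [⟨5,(Int.negSucc 0),1⟩] (.node 1 [⟨7,(Int.ofNat 2),1⟩] (.node 0 [⟨7,(Int.negSucc 2),1⟩] .nil .nil) (.node 3 [⟨2,(Int.negSucc 0),1⟩] .nil .nil)) (.node 10 [⟨9,(Int.ofNat 1),1⟩] (.node 8 [⟨0,(Int.ofNat 0),1⟩, ⟨1,(Int.negSucc 0),1⟩, ⟨7,(Int.negSucc 0),2⟩] .nil .nil) (.node 13 [⟨12,(Int.ofNat 1),1⟩] .nil .nil)))
def col6 : Tr Cl := (.node 5 [⟨6,(Int.negSucc 0),1⟩] (.node 1 [⟨8,(Int.negSucc 1),1⟩] (.node 0 [⟨8,(Int.ofNat 3),1⟩] .nil .nil) (.node 2 [⟨3,(Int.negSucc 0),1⟩] .nil .nil)) (.node 9 [⟨10,(Int.ofNat 1),1⟩] (.node 7 [⟨0,(Int.ofNat 0),1⟩, ⟨1,(Int.ofNat 1),1⟩, ⟨8,(Int.negSucc 0),2⟩] .nil .nil) (.node 12 [⟨13,(Int.ofNat 1),1⟩] .nil .nil)))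
def col7 : Tr Cl := (.node 5 [⟨7,(Int.ofNat 3),1⟩] (.node 3 [⟨4,(Int.negSucc 0),1⟩, ⟨5,(Int.negSucc 0),2⟩, ⟨7,(Int.negSucc 0),3⟩] (.node 1 [⟨9,(Int.ofNat 1),1⟩] (.node 0 [⟨9,(Int.negSucc 1),1⟩] .nil .nil) .nil) (.node 4 [⟨5,(Int.ofNat 2),1⟩, ⟨7,(Int.ofNat 3),2⟩] .nil .nil)) (.node 10 [⟨11,(Int.negSucc 1),1⟩, ⟨12,(Int.negSucc 2),2⟩] (.node 8 [⟨10,(Int.negSucc 0),1⟩, ⟨11,(Int.ofNat 1),2⟩, ⟨12,(Int.ofNat 1),3⟩] (.node 6 [⟨0,(Int.ofNat 1),1⟩, ⟨1,(Int.ofNat 0),1⟩, ⟨9,(Int.negSucc 0),2⟩] .nil .nil) .nil) (.node 11 [⟨12,(Int.ofNat 3),1⟩] .nil .nil)))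
def col8 : Tr Cl := (.node 5 [⟨0,(Int.ofNat 1),1⟩, ⟨1,(Int.ofNat 3),1⟩, ⟨10,(Int.negSucc 0),2⟩] (.node 2 [⟨4,(Int.negSucc 0),1⟩, ⟨6,(Int.ofNat 1),2⟩, ⟨8,(Int.ofNat 1),3⟩] (.node 1 [⟨10,(Int.negSucc 0),1⟩] (.node 0 [⟨10,(Int.ofNat 1),1⟩] .nil .nil) .nil) (.node 4 [⟨6,(Int.negSucc 1),1⟩, ⟨8,(Int.negSucc 2),2⟩] .nil .nil)) (.node 9 [⟨11,(Int.ofNat 2),1⟩, ⟨13,(Int.ofNat 3),2⟩] (.node 7 [⟨9,(Int.negSucc 0),1⟩, ⟨11,(Int.negSucc 0),2⟩, ⟨13,(Int.negSucc 0),3⟩] (.node 6 [⟨8,(Int.ofNat 3),1⟩] .nil .nil) .nil) (.node 11 [⟨13,(Int.ofNat 3),1⟩] .nil .nil)))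
def col9 : Tr Cl := (.node 4 [⟨0,(Int.ofNat 2),1⟩, ⟨1,(Int.ofNat 3),1⟩, ⟨11,(Int.negSucc 0),2⟩] (.node 2 [⟨5,(Int.ofNat 1),1⟩, ⟨9,(Int.negSucc 0),2⟩, ⟨12,(Int.ofNat 1),3⟩] (.node 1 [⟨11,(Int.ofNat 0),1⟩] (.node 0 [⟨11,(Int.negSucc 0),1⟩] .nil .nil) .nil) (.node 3 [⟨6,(Int.ofNat 1),1⟩, ⟨10,(Int.ofNat 1),2⟩, ⟨13,(Int.negSucc 0),3⟩] .nil .nil)) (.node 9 [⟨12,(Int.negSucc 2),1⟩] (.node 6 [⟨10,(Int.ofNat 2),1⟩, ⟨13,(Int.negSucc 2),2⟩] (.node 5 [⟨9,(Int.negSucc 1),1⟩, ⟨12,(Int.ofNat 3),2⟩] .nil .nil) .nil) (.node 10 [⟨13,(Int.negSucc 2),1⟩] .nil .nil)))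
def col10 : Tr Cl := (.node 3 [⟨0,(Int.ofNat 1),1⟩, ⟨1,(Int.ofNat 1),1⟩, ⟨12,(Int.negSucc 0),2⟩] (.node 1 [⟨12,(Int.ofNat 1),1⟩] (.node 0 [⟨12,(Int.negSucc 2),1⟩] .nil .nil) (.node 2 [⟨7,(Int.ofNat 1),1⟩] .nil .nil)) (.node 6 [⟨11,(Int.negSucc 0),1⟩] (.node 4 [⟨9,(Int.ofNat 1),1⟩] .nil .nil) (.node 8 [⟨13,(Int.negSucc 0),1⟩] .nil .nil)))
def col11 : Tr Cl := (.node 3 [⟨8,(Int.ofNat 1),1⟩] (.node 1 [⟨13,(Int.negSucc 0),1⟩] (.node 0 [⟨13,(Int.ofNat 0),1⟩] .nil .nil) (.node 2 [⟨0,(Int.ofNat 1),1⟩, ⟨1,(Int.ofNat 2),1⟩, ⟨13,(Int.negSucc 0),2⟩] .nil .nil)) (.node 5 [⟨11,(Int.negSucc 0),1⟩] (.node 4 [⟨10,(Int.ofNat 1),1⟩] .nil .nil) (.node 7 [⟨12,(Int.negSucc 0),1⟩] .nil .nil)))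
def cols : Tr (Tr Cl) := (.node 6 col6 (.node 3 col3 (.node 1 col1 (.node 0 col0 .nil .nil) (.node 2 col2 .nil .nil)) (.node 5 col5 (.node 4 col4 .nil .nil) .nil)) (.node 9 col9 (.node 8 col8 (.node 7 col7 .nil .nil) .nil) (.node 11 col11 (.node 10 col10 .nil .nil) .nil)))
def ch0 : Tr (List (ℕ × ℤ)) := (.node 9 [(3,(Int.negSucc 0))] (.node 8 [(2,(Int.ofNat 1))] (.node 6 [(1,(Int.ofNat 1))] .nil .nil) .nil) (.node 10 [(5,(Int.negSucc 0))] .nil .nil))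
def ch1 : Tr (List (ℕ × ℤ)) := (.node 9 [(4,(Int.negSucc 0))] (.node 7 [(2,(Int.ofNat 1))] (.node 5 [(0,(Int.ofNat 1))] .nil .nil) .nil) (.node 11 [(6,(Int.negSucc 0))] .nil .nil))
def ch2 : Tr (List (ℕ × ℤ)) := (.node 8 [(4,(Int.ofNat 2)), (1,(Int.ofNat 3))] (.node 4 [(1,(Int.ofNat 3))] (.node 3 [(0,(Int.ofNat 3))] .nil .nil) (.node 7 [(3,(Int.negSucc 1)), (0,(Int.negSucc 2))] .nil .nil)) (.node 11 [(8,(Int.negSucc 0)), (4,(Int.negSucc 0)), (1,(Int.negSucc 0))] (.node 10 [(7,(Int.negSucc 0)), (3,(Int.ofNat 1)), (0,(Int.ofNat 1))] .nil .nil) .nil))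
def ch3 : Tr (List (ℕ × ℤ)) := (.node 7 [(5,(Int.negSucc 2))] (.node 4 [(2,(Int.negSucc 1)), (0,(Int.ofNat 3))] (.node 2 [(0,(Int.negSucc 2))] .nil .nil) (.node 6 [(4,(Int.ofNat 1)), (2,(Int.negSucc 0)), (0,(Int.ofNat 1))] .nil .nil)) (.node 11 [(9,(Int.ofNat 1)), (7,(Int.ofNat 1)), (5,(Int.negSucc 0))] (.node 9 [(7,(Int.ofNat 2)), (5,(Int.negSucc 2))] .nil .nil) .nil))
def ch4 : Tr (List (ℕ × ℤ)) := (.node 8 [(6,(Int.negSucc 2))] (.node 3 [(2,(Int.ofNat 2)), (1,(Int.negSucc 2))] (.node 2 [(1,(Int.negSucc 2))] .nil .nil) (.node 5 [(3,(Int.ofNat 1)), (2,(Int.ofNat 1)), (1,(Int.negSucc 0))] .nil .nil)) (.node 10 [(9,(Int.ofNat 1)), (8,(Int.negSucc 0)), (6,(Int.ofNat 1))] (.node 9 [(8,(Int.negSucc 1)), (6,(Int.ofNat 3))] .nil .nil) .nil))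
def ch5 : Tr (List (ℕ × ℤ)) := (.node 8 [(7,(Int.ofNat 1))] (.node 4 [(3,(Int.negSucc 0))] (.node 1 [(0,(Int.negSucc 0))] .nil .nil) .nil) (.node 11 [(10,(Int.ofNat 1))] .nil .nil))
def ch6 : Tr (List (ℕ × ℤ)) := (.node 7 [(8,(Int.ofNat 1))] (.node 3 [(4,(Int.negSucc 0))] (.node 0 [(1,(Int.negSucc 0))] .nil .nil) .nil) (.node 10 [(11,(Int.ofNat 1))] .nil .nil))
def ch7 : Tr (List (ℕ × ℤ)) := (.node 6 [(8,(Int.negSucc 0)), (9,(Int.ofNat 1)), (10,(Int.ofNat 1))] (.node 2 [(3,(Int.ofNat 2)), (5,(Int.ofNat 3))] (.node 1 [(2,(Int.negSucc 0)), (3,(Int.negSucc 0)), (5,(Int.negSucc 0))] .nil .nil) (.node 3 [(5,(Int.ofNat 3))] .nil .nil)) (.node 9 [(10,(Int.ofNat 3))] (.node 8 [(9,(Int.negSucc 1)), (10,(Int.negSucc 2))] .nil .nil) .nil))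
def ch8 : Tr (List (ℕ × ℤ)) := (.node 5 [(7,(Int.negSucc 0)), (9,(Int.negSucc 0)), (11,(Int.negSucc 0))] (.node 2 [(4,(Int.negSucc 1)), (6,(Int.negSucc 2))] (.node 0 [(2,(Int.negSucc 0)), (4,(Int.ofNat 1)), (6,(Int.ofNat 1))] .nil .nil) (.node 4 [(6,(Int.ofNat 3))] .nil .nil)) (.node 9 [(11,(Int.ofNat 3))] (.node 7 [(9,(Int.ofNat 2)), (11,(Int.ofNat 3))] .nil .nil) .nil))
def ch9 : Tr (List (ℕ × ℤ)) := (.node 4 [(8,(Int.ofNat 2)), (11,(Int.negSucc 2))] (.node 1 [(4,(Int.ofNat 1)), (8,(Int.ofNat 1)), (11,(Int.negSucc 0))] (.node 0 [(3,(Int.ofNat 1)), (7,(Int.negSucc 0)), (10,(Int.ofNat 1))] .nil .nil) (.node 3 [(7,(Int.negSucc 1)), (10,(Int.ofNat 3))] .nil .nil)) (.node 8 [(11,(Int.negSucc 2))] (.node 7 [(10,(Int.negSucc 2))] .nil .nil) .nil))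
def ch10 : Tr (List (ℕ × ℤ)) := (.node 4 [(9,(Int.negSucc 0))] (.node 2 [(7,(Int.ofNat 1))] (.node 0 [(5,(Int.ofNat 1))] .nil .nil) .nil) (.node 6 [(11,(Int.negSucc 0))] .nil .nil))
def ch11 : Tr (List (ℕ × ℤ)) := (.node 3 [(9,(Int.negSucc 0))] (.node 2 [(8,(Int.ofNat 1))] (.node 1 [(6,(Int.ofNat 1))] .nil .nil) .nil) (.node 5 [(10,(Int.negSucc 0))] .nil .nil))
def chainT : Tr (Tr (List (ℕ × ℤ))) := (.node 6 ch6 (.node 3 ch3 (.node 1 ch1 (.node 0 ch0 .nil .nil) (.node 2 ch2 .nil .nil)) (.node 5 ch5 (.node 4 ch4 .nil .nil) .nil)) (.node 9 ch9 (.node 8 ch8 (.node 7 ch7 .nil .nil) .nil) (.node 11 ch11 (.node 10 ch10 .nil .nil) .nil)))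
def negT : Tr ℕ := (.node 6 5 (.node 3 8 (.node 1 10 (.node 0 11 .nil .nil) (.node 2 9 .nil .nil)) (.node 5 6 (.node 4 7 .nil .nil) .nil)) (.node 9 2 (.node 8 3 (.node 7 4 .nil .nil) .nil) (.node 11 0 (.node 10 1 .nil .nil) .nil)))
def nc0 : Tr Vc := (.node 7 [⟨3,(Int.ofNat 1),0,0⟩] (.node 3 [⟨7,(Int.negSucc 0),0,0⟩] (.node 1 [⟨0,(Int.ofNat 1),0,0⟩, ⟨1,(Int.ofNat 1),0,0⟩] (.node 0 [⟨0,(Int.negSucc 0),0,0⟩] .nil .nil) (.node 2 [⟨2,(Int.ofNat 1),0,0⟩] .nil .nil)) (.node 5 [⟨4,(Int.ofNat 1),0,0⟩] (.node 4 [⟨5,(Int.negSucc 0),0,0⟩] .nil .nil) (.node 6 [⟨9,(Int.negSucc 0),0,0⟩] .nil .nil))) (.node 11 [⟨10,(Int.negSucc 0),0,0⟩] (.node 9 [⟨6,(Int.negSucc 0),0,0⟩] (.node 8 [⟨12,(Int.ofNat 1),0,0⟩] .nil .nil) (.node 10 [⟨11,(Int.ofNat 1),0,0⟩] .nil .nil)) (.node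 13 [⟨13,(Int.ofNat 1),0,0⟩] (.node 12 [⟨8,(Int.negSucc 0),0,0⟩] .nil .nil) .nil)))
def nc1 : Tr Vc := (.node 7 [⟨8,(Int.negSucc 0),0,0⟩] (.node 3 [⟨2,(Int.ofNat 1),0,0⟩] (.node 1 [⟨1,(Int.negSucc 0),0,0⟩] (.node 0 [⟨0,(Int.ofNat 1),0,0⟩, ⟨1,(Int.ofNat 3),0,0⟩] .nil .nil) (.node 2 [⟨3,(Int.negSucc 0),0,0⟩] .nil .nil)) (.node 5 [⟨6,(Int.negSucc 0),0,0⟩] (.node 4 [⟨4,(Int.ofNat 1),0,0⟩] .nil .nil) (.node 6 [⟨5,(Int.ofNat 1),0,0⟩] .nil .nil))) (.node 11 [⟨11,(Int.ofNat 1),0,0⟩] (.node 9 [⟨10,(Int.ofNat 1),0,0⟩] (.node 8 [⟨7,(Int.negSucc 0),0,0⟩] .nil .nil) (.node 10 [⟨9,(Int.negSucc 0),0,0⟩] .nil .nil)) (.node 13 [⟨12,(Int.negSucc 0),0,0⟩] (.node 12 [⟨13,(Int.ofNat 1),0,0⟩] .nil .nil) .nil)))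
def nT : Tr (Tr Vc) := (.node 1 nc1 (.node 0 nc0 .nil .nil) .nil)
def wc0 : Tr (ℕ × ℤ) := (.node 6 (10,(Int.ofNat 1)) (.node 3 (2,(Int.ofNat 1)) (.node 1 (5,(Int.negSucc 0)) (.node 0 (0,(Int.ofNat 1)) .nil .nil) (.node 2 (3,(Int.negSucc 0)) .nil .nil)) (.node 5 (1,(Int.ofNat 1)) (.node 4 (7,(Int.negSucc 0)) .nil .nil) .nil)) (.node 9 (8,(Int.negSucc 0)) (.node 8 (9,(Int.ofNat 1)) (.node 7 (4,(Int.negSucc 0)) .nil .nil) .nil) (.node 11 (11,(Int.ofNat 1)) (.node 10 (6,(Int.negSucc 0)) .nil .nil) .nil)))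
def wc1 : Tr (ℕ × ℤ) := (.node 6 (5,(Int.negSucc 0)) (.node 3 (4,(Int.negSucc 0)) (.node 1 (0,(Int.ofNat 1)) (.node 0 (1,(Int.negSucc 0)) .nil .nil) (.node 2 (2,(Int.ofNat 1)) .nil .nil)) (.node 5 (6,(Int.negSucc 0)) (.node 4 (3,(Int.ofNat 1)) .nil .nil) .nil)) (.node 9 (9,(Int.ofNat 1)) (.node 8 (7,(Int.negSucc 0)) (.node 7 (8,(Int.ofNat 1)) .nil .nil) .nil) (.node 11 (10,(Int.negSucc 0)) (.node 10 (11,(Int.ofNat 1)) .nil .nil) .nil)))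
def wT : Tr (Tr (ℕ × ℤ)) := (.node 1 wc1 (.node 0 wc0 .nil .nil) .nil)
def dT : Tr (ℕ × ℕ) := (.node 6 (0,0) (.node 3 (2,1) (.node 1 (2,0) (.node 0 (3,1) .nil .nil) (.node 2 (3,0) .nil .nil)) (.node 5 (1,1) (.node 4 (1,0) .nil .nil) .nil)) (.node 9 (2,0) (.node 8 (1,1) (.node 7 (0,0) .nil .nil) .nil) (.node 11 (2,1) (.node 10 (1,0) .nil .nil) .nil)))

end Cfsg.Agent.Lib.Chevalley.Tbl.G2
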